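import Mathlib

/-! Linear maps `g` with `g ^ r` scalar, `r` a prime different from the characteristic: invariant complements, the
possible dimensions of invariant subspaces, and the cyclic normal form when the scalar is not an `r`-th power. -/

set_option autoImplicit false

namespace CfsgLib.LinearElements

open Module

variable {F V : Type*} [Field F] [AddCommGroup V] [Module F V]

/-- `W` is mapped into itself by `g`. -/
def InvBy (g : Module.End F V) (W : Submodule F V) : Prop := ∀ v ∈ W, g v ∈ W

theorem InvBy.inf {g : Module.End F V} {S T : Submodule F V} (hS : InvBy g S) (hT : InvBy g T) :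
    InvBy g (S ⊓ T) := fun v hv => ⟨hS v hv.1, hT v hv.2⟩

theorem InvBy.sup {g : Module.End F V} {S T : Submodule F V} (hS : InvBy g S) (hT : InvBy g T) :
    InvBy g (S ⊔ T) := by
  intro v hv
  obtain ⟨a, ha, b, hb, rfl⟩ := Submodule.mem_sup.mp hv
  rw [map_add]
  exact Submodule.add_mem_sup (hS a ha) (hT b hb)

theorem invBy_top {g : Module.End F V} : InvBy g ⊤ := fun _ _ => trivial

theorem invBy_bot {g : Module.End F V} : InvBy g ⊥ := fun v hv => by simp [(Submodule.mem_bot F).mp hv]

theorem InvBy.map_le {g : Module.End F V} {S : Submodule F V} (hS : InvBy g S) : S.map g ≤ S := by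
  rintro _ ⟨v, hv, rfl⟩; exact hS v hv

theorem invBy_iff_map_le {g : Module.End F V} {S : Submodule F V} : InvBy g S ↔ S.map g ≤ S :=
  ⟨InvBy.map_le, fun h v hv => h ⟨v, hv, rfl⟩⟩

theorem InvBy.pow {g : Module.End F V} {S : Submodule F V} (hS : InvBy g S) :
    ∀ k : ℕ, InvBy (g ^ k) S
  | 0 => fun v hv => by simpa using hv
  | k + 1 => fun v hv => by rw [pow_succ', Module.End.mul_apply]; exact hS _ (hS.pow k v hv)

theorem InvBy.smul_iff {g : Module.End F V} {S : Submodule F V} {c : F} (hc : c ≠ 0) :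
    InvBy (c • g) S ↔ InvBy g S := by
  refine forall₂_congr fun v _ => ?_
  rw [LinearMap.smul_apply, S.smul_mem_iff hc]

/-- Maschke: invariant subspaces have invariant complements inside invariant subspaces. -/
theorem exists_invBy_compl {g : Module.End F V} {r : ℕ} {lam : F} (hr : 0 < r) (hrF : (r : F) ≠ 0) (hlam : lam ≠ 0)
    (hg : g ^ r = lam • 1) {S W : Submodule F V} (hS : InvBy g S) (hW : InvBy g W) (hWS : W ≤ S) :
    ∃ W', InvBy g W' ∧ W' ≤ S ∧ W ⊓ W' = ⊥ ∧ W ⊔ W' = S := by
  obtain ⟨C, hC⟩ := Submodule.exists_isCompl W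
  let π : Module.End F V := W.subtype ∘ₗ W.projectionOnto C hC
  let P : Module.End F V := ((r : F)⁻¹ * lam⁻¹) • ∑ k ∈ Finset.range r, g ^ k * π * g ^ (r - k)
  have hπW : ∀ v, π v ∈ W := fun v => (W.projectionOnto C hC v).2
  have hπid : ∀ w ∈ W, π w = w := fun w hw => by
    show ((W.projectionOnto C hC (⟨w, hw⟩ : W) : W) : V) = w
    rw [Submodule.projectionOnto_apply_left]
  have hPW : ∀ v, P v ∈ W := fun v => by
    simp only [P, LinearMap.smul_apply, LinearMap.sum_apply, Module.End.mul_apply]
    exact W.smul_mem _ (Submodule.sum_mem _ fun k _ => hW.pow k _ (hπW _))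
  have hPid : ∀ w ∈ W, P w = w := fun w hw => by
    simp only [P, LinearMap.smul_apply, LinearMap.sum_apply, Module.End.mul_apply]
    have : ∀ k ∈ Finset.range r, (g ^ k) (π ((g ^ (r - k)) w)) = lam • w := fun k hk => by
      rw [hπid _ (hW.pow _ _ hw), ← Module.End.mul_apply, ← pow_add,
        Nat.add_sub_cancel' (le_of_lt (Finset.mem_range.mp hk)), hg, LinearMap.smul_apply, Module.End.one_apply]
    rw [Finset.sum_congr rfl this, Finset.sum_const, Finset.card_range, ← Nat.cast_smul_eq_nsmul F, smul_smul,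
      smul_smul, show (r : F)⁻¹ * lam⁻¹ * (r : F) * lam = 1 by field_simp, one_smul]
  have hcomm : g * P = P * g := by
    simp only [P, mul_smul_comm, smul_mul_assoc, Finset.mul_sum, Finset.sum_mul]
    congr 1
    have h1 := Finset.sum_range_succ (fun k => g ^ k * π * g ^ (r + 1 - k)) r
    have h2 := Finset.sum_range_succ' (fun k => g ^ k * π * g ^ (r + 1 - k)) r
    have e1 : ∀ k ∈ Finset.range r, g * (g ^ k * π * g ^ (r - k)) = g ^ (k + 1) * π * g ^ (r + 1 - (k + 1)) :=
      fun k _ => by rw [Nat.add_sub_add_right, pow_succ', mul_assoc, mul_assoc, mul_assoc]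
    have e2 : ∀ k ∈ Finset.range r, g ^ k * π * g ^ (r - k) * g = g ^ k * π * g ^ (r + 1 - k) :=
      fun k hk => by rw [mul_assoc _ (g ^ (r - k)) g, ← pow_succ, Nat.succ_sub (le_of_lt (Finset.mem_range.mp hk))]
    rw [Finset.sum_congr rfl e1, Finset.sum_congr rfl e2]
    have e3 : g ^ 0 * π * g ^ (r + 1 - 0) = g ^ r * π * g ^ (r + 1 - r) := by
      rw [pow_zero, one_mul, Nat.sub_zero, Nat.add_sub_cancel_left, pow_one, pow_succ, hg]
      simp [smul_mul_assoc, mul_smul_comm]
    rw [h1] at h2
    rw [e3] at h2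
    exact (add_right_cancel h2).symm
  refine ⟨S ⊓ LinearMap.ker P, hS.inf fun v hv => ?_, inf_le_left, ?_, ?_⟩
  · rw [LinearMap.mem_ker] at hv ⊢
    rw [← Module.End.mul_apply, ← hcomm, Module.End.mul_apply, hv, map_zero]
  · rw [Submodule.eq_bot_iff]
    rintro v ⟨hv1, -, hv3⟩
    rw [← hPid v hv1]
    exact LinearMap.mem_ker.mp hv3
  · refine le_antisymm (sup_le hWS inf_le_left) fun v hv => ?_
    refine Submodule.mem_sup.mpr ⟨P v, hPW v, v - P v, ⟨S.sub_mem hv (hWS (hPW v)), ?_⟩, add_sub_cancel _ _⟩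
    rw [SetLike.mem_coe, LinearMap.mem_ker, map_sub, hPid _ (hPW v), sub_self]

variable [Fintype F]

/-- The fixed points of `g` in `W`. -/
def fixedIn (g : Module.End F V) (W : Submodule F V) : Submodule F V := W ⊓ LinearMap.ker (g - 1)

theorem mem_fixedIn {g : Module.End F V} {W : Submodule F V} {v : V} :
    v ∈ fixedIn g W ↔ v ∈ W ∧ g v = v := by
  simp [fixedIn, LinearMap.mem_ker, sub_eq_zero]

variable [FiniteDimensional F V]

omit [Fintype F] in
theorem finrank_sup_of_disjoint {A B : Submodule F V} (h : A ⊓ B = ⊥) :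
    finrank F ↥(A ⊔ B) = finrank F A + finrank F B := by
  have := Submodule.finrank_sup_add_finrank_inf_eq A B
  rwa [h, finrank_bot, Nat.add_zero] at this

/-- The dimension of an invariant subspace is congruent to that of its fixed space modulo the order of `q`. -/
theorem orderOf_dvd_finrank_sub {g : Module.End F V} {r : ℕ} [Fact r.Prime] (hg : g ^ r = 1)
    (hq : (Fintype.card F : ZMod r) ≠ 0) {W : Submodule F V} (hW : InvBy g W) :
    orderOf (Fintype.card F : ZMod r) ∣ finrank F W - finrank F (fixedIn g W) := by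
  haveI : Finite V := Module.finite_of_finite F
  let f : ℕ → W → W := fun k w => ⟨(g ^ k) w, hW.pow k w w.2⟩
  let e : Equiv.Perm W :=
    { toFun := f 1
      invFun := f (r - 1)
      left_inv := fun w => Subtype.ext (by
        show (g ^ (r - 1)) ((g ^ 1) (w : V)) = w
        rw [← Module.End.mul_apply, ← pow_add, Nat.sub_add_cancel (Fact.out : r.Prime).one_le, hg, Module.End.one_apply])
      right_inv := fun w => Subtype.ext (by
        show (g ^ 1) ((g ^ (r - 1)) (w : V)) = w
        rw [← Module.End.mul_apply, ← pow_add, Nat.add_sub_cancel' (Fact.out : r.Prime).one_le, hg, Module.End.one_apply]) }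
  have hek : ∀ (k : ℕ) (w : W), ((e ^ k) w : V) = (g ^ k) w := by
    intro k w
    induction k with
    | zero => simp
    | succ k ih => rw [pow_succ', pow_succ', Equiv.Perm.mul_apply, Module.End.mul_apply, ← ih]; simp [e, f]
  have he : e ^ r = 1 := Equiv.ext fun w => Subtype.ext (by rw [hek, hg]; rfl)
  have hP : IsPGroup r (Subgroup.zpowers e) :=
    by
      by_cases h : e = 1
      · exact IsPGroup.of_card (n := 0) (by simp [h])
      · exact IsPGroup.of_card (n := 1) (by rw [Nat.card_zpowers, orderOf_eq_prime he h, pow_one])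
  have h := hP.card_modEq_card_fixedPoints W
  have hfix : Nat.card (MulAction.fixedPoints (Subgroup.zpowers e) W) = Nat.card (fixedIn g W) := by
    refine Nat.card_congr
      { toFun := fun w => ⟨(w.1 : V), mem_fixedIn.mpr ⟨w.1.2, ?_⟩⟩
        invFun := fun v => ⟨⟨v.1, (mem_fixedIn.mp v.2).1⟩, ?_⟩
        left_inv := fun w => rfl
        right_inv := fun v => rfl }
    · have := congrArg (Subtype.val) (w.2 ⟨e, Subgroup.mem_zpowers e⟩)
      simpa [e, f, Subgroup.smul_def] using this
    · rintro ⟨u, hu⟩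
      obtain ⟨k, rfl⟩ := mem_powers_iff_mem_zpowers.mpr hu
      refine Subtype.ext ?_
      show (((e ^ k) ⟨v.1, _⟩ : W) : V) = v.1
      rw [hek]
      have h1 := (mem_fixedIn.mp v.2).2
      induction k with
      | zero => simp
      | succ k ih => rw [pow_succ, Module.End.mul_apply]; simp only [h1]; exact ih ⟨k, rfl⟩
  have c1 : Nat.card W = Fintype.card F ^ finrank F W := by
    rw [Module.natCard_eq_pow_finrank (K := F), Nat.card_eq_fintype_card]
  have c2 : Nat.card (fixedIn g W) = Fintype.card F ^ finrank F (fixedIn g W) := by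
    rw [Module.natCard_eq_pow_finrank (K := F), Nat.card_eq_fintype_card]
  rw [hfix, c1, c2] at h
  have hle : finrank F (fixedIn g W) ≤ finrank F W := Submodule.finrank_mono inf_le_left
  rw [← ZMod.natCast_eq_natCast_iff, Nat.cast_pow, Nat.cast_pow] at h
  refine orderOf_dvd_of_pow_eq_one ?_
  refine mul_right_cancel₀ (pow_ne_zero (finrank F (fixedIn g W)) hq) ?_
  rw [← pow_add, Nat.sub_add_cancel hle, h, one_mul]

/-- A non-zero invariant subspace contains a non-zero invariant one of dimension at most the order of `q`. -/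
theorem exists_small_invBy {g : Module.End F V} {r : ℕ} [Fact r.Prime] (hg : g ^ r = 1)
    (hq : (Fintype.card F : ZMod r) ≠ 0) {W : Submodule F V} (hW : InvBy g W) (hW0 : W ≠ ⊥) :
    ∃ U, U ≤ W ∧ InvBy g U ∧ U ≠ ⊥ ∧ finrank F U ≤ orderOf (Fintype.card F : ZMod r) := by
  induction hn : finrank F W using Nat.strong_induction_on generalizing W with
  | _ n ih =>
  by_cases hirr : ∃ U, U ≤ W ∧ InvBy g U ∧ U ≠ ⊥ ∧ U ≠ W
  · obtain ⟨U, hU, hUi, hU0, hUW⟩ := hirr
    obtain ⟨T, hT, hrest⟩ := ih (finrank F U) (hn ▸ Submodule.finrank_lt_finrank_of_lt (lt_of_le_of_ne hU hUW)) hUi hU0 rfl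
    exact ⟨T, hT.trans hU, hrest⟩
  push Not at hirr
  refine ⟨W, le_rfl, hW, hW0, ?_⟩
  set i := orderOf (Fintype.card F : ZMod r) with hi
  have hipos : 0 < i := orderOf_pos_iff.mpr (isOfFinOrder_iff_pow_eq_one.mpr
    ⟨r - 1, by have := (Fact.out : r.Prime).two_le; omega, ZMod.pow_card_sub_one_eq_one hq⟩)
  let gW : Module.End F W := g.restrict hW
  set A := Algebra.adjoin F ({gW} : Set (Module.End F W)) with hA
  letI : CommRing A := Algebra.adjoinCommRingOfComm F (by simp)
  haveI : Nontrivial W := (Submodule.nontrivial_iff_ne_bot).mpr hW0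
  have hgWr : gW ^ r = 1 := by
    refine LinearMap.ext fun w => Subtype.ext ?_
    rw [Module.End.pow_restrict r hW]
    simp [hg]
  have hinj : ∀ a : A, a ≠ 0 → Function.Injective (a : Module.End F W) := by
    intro a ha
    rw [← LinearMap.ker_eq_bot]
    by_contra hker
    set U := (LinearMap.ker (a : Module.End F W)).map W.subtype with hU
    have hUi : InvBy g U := by
      rintro _ ⟨w, hw, rfl⟩
      refine ⟨gW w, ?_, rfl⟩
      rw [SetLike.mem_coe, LinearMap.mem_ker] at hw ⊢
      have hc := congrArg (fun x : A => ((x : A) : Module.End F W) w)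
        (mul_comm a (⟨gW, Algebra.subset_adjoin rfl⟩ : A))
      simp only [Subalgebra.coe_mul, Module.End.mul_apply, hw, map_zero] at hc
      exact hc
    have hUW : U = W := hirr U (Submodule.map_subtype_le _ _) hUi (fun h =>
      hker (Submodule.map_injective_of_injective W.subtype_injective (h.trans (Submodule.map_bot _).symm)))
    apply ha
    refine Subtype.ext (LinearMap.ext fun w => ?_)
    have : (w : V) ∈ U := hUW.symm ▸ w.2
    obtain ⟨w', hw', hww⟩ := this
    rw [← W.subtype_injective hww]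
    exact LinearMap.mem_ker.mp hw'
  haveI : NoZeroDivisors A := ⟨fun {a b} hab => by
    by_contra h
    push Not at h
    refine h.2 (Subtype.ext (LinearMap.ext fun w => hinj a h.1 ?_))
    have hc := congrArg (fun x : A => (x : Module.End F W) w) hab
    simpa [Module.End.mul_apply] using hc⟩
  haveI : Nontrivial A := ⟨⟨0, 1, fun h => zero_ne_one (α := Module.End F W) (congrArg Subtype.val h)⟩⟩
  haveI : IsDomain A := NoZeroDivisors.to_isDomain A
  obtain ⟨p, hp⟩ := CharP.exists F
  obtain ⟨f, hpp, hf⟩ := FiniteField.card F p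
  haveI : Fact p.Prime := ⟨hpp⟩
  haveI : CharP A p := charP_of_injective_algebraMap' F p
  set Q := Fintype.card F ^ i with hQ
  have hQ1 : 1 < Q := Nat.one_lt_pow hipos.ne' Fintype.one_lt_card
  have hgQ : gW ^ Q = gW := by
    conv_rhs => rw [← pow_one gW]
    have h1 : Q % r = 1 % r := (ZMod.natCast_eq_natCast_iff' _ _ _).mp (by
      rw [Nat.cast_pow, hi, pow_orderOf_eq_one, Nat.cast_one])
    rw [← Nat.mod_add_div Q r, ← Nat.mod_add_div 1 r, h1]
    simp [pow_add, pow_mul, hgWr]
  haveI : CharP (Module.End F W) p := charP_of_injective_algebraMap' F p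
  have hcA : ∀ x y : Module.End F W, x ∈ A → y ∈ A → Commute x y := fun x y hx hy => by
    have := congrArg Subtype.val (mul_comm (⟨x, hx⟩ : A) ⟨y, hy⟩)
    simpa [Commute, SemiconjBy] using this
  have hpowE : ∀ a ∈ A, (a : Module.End F W) ^ Q = a := by
    intro a ha
    induction ha using Algebra.adjoin_induction with
    | mem x hx => obtain rfl : x = gW := hx; exact hgQ
    | algebraMap c => rw [← map_pow, hQ, FiniteField.pow_card_pow]
    | add x y hx hy hx' hy' =>
      rw [hQ, hf, ← pow_mul] at hx' hy' ⊢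
      rw [add_pow_char_pow_of_commute _ _ (hcA x y hx hy), hx', hy']
    | mul x y hx hy hx' hy' => rw [(hcA x y hx hy).mul_pow, hx', hy']
  have hpow : ∀ a : A, a ^ Q = a := fun a => Subtype.ext (by rw [Subalgebra.coe_pow]; exact hpowE a a.2)
  haveI : Finite V := Module.finite_of_finite F
  haveI : Finite (Module.End F W) := Finite.of_injective (fun f : Module.End F W => (f : W → W)) DFunLike.coe_injective
  have hcard : Nat.card A ≤ Q := by
    classical
    haveI := Fintype.ofFinite A
    rw [Nat.card_eq_fintype_card]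
    set P : Polynomial A := Polynomial.X ^ Q - Polynomial.X with hPdef
    have hdeg : P.natDegree = Q := by
      rw [hPdef, Polynomial.natDegree_sub_eq_left_of_natDegree_lt
        (by rw [Polynomial.natDegree_X_pow, Polynomial.natDegree_X]; exact hQ1), Polynomial.natDegree_X_pow]
    have hP : P ≠ 0 := Polynomial.ne_zero_of_natDegree_gt (n := 1) (by rw [hdeg]; exact hQ1)
    have hsub : (Finset.univ : Finset A) ⊆ P.roots.toFinset := fun a _ => by
      rw [Multiset.mem_toFinset, Polynomial.mem_roots hP, Polynomial.IsRoot, hPdef, Polynomial.eval_sub,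
        Polynomial.eval_pow, Polynomial.eval_X, hpow a, sub_self]
    calc Fintype.card A = (Finset.univ : Finset A).card := Finset.card_univ.symm
      _ ≤ P.roots.toFinset.card := Finset.card_le_card hsub
      _ ≤ Multiset.card P.roots := Multiset.toFinset_card_le _
      _ ≤ P.natDegree := Polynomial.card_roots' P
      _ = Q := hdeg
  obtain ⟨v, hv⟩ := exists_ne (0 : W)
  let φ : A →ₗ[F] W := (LinearMap.applyₗ v).comp A.val.toLinearMap
  have hsurj : Function.Surjective φ := by
    rw [← LinearMap.range_eq_top]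
    set U := (LinearMap.range φ).map W.subtype with hU
    have hUi : InvBy g U := by
      rintro _ ⟨_, ⟨a, rfl⟩, rfl⟩
      exact ⟨gW (φ a), ⟨⟨gW, Algebra.subset_adjoin rfl⟩ * a, rfl⟩, rfl⟩
    have hU0 : U ≠ ⊥ := by
      rw [Submodule.ne_bot_iff]
      exact ⟨(v : V), ⟨v, ⟨1, rfl⟩, rfl⟩, fun h => hv (Subtype.ext h)⟩
    refine Submodule.map_injective_of_injective W.subtype_injective ?_
    rw [Submodule.map_subtype_top, ← hU]
    exact hirr U (Submodule.map_subtype_le _ _) hUi hU0
  have hWA := Nat.card_le_card_of_surjective φ hsurj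
  rw [Module.natCard_eq_pow_finrank (K := F) (V := W), Nat.card_eq_fintype_card] at hWA
  exact (Nat.pow_le_pow_iff_right Fintype.one_lt_card).mp (hWA.trans hcard)

/-- In a fixed-point-free invariant subspace every admissible multiple of the order of `q` is a dimension. -/
theorem exists_invBy_mul {g : Module.End F V} {r : ℕ} [Fact r.Prime] (hrF : (r : F) ≠ 0) (hg : g ^ r = 1)
    (hq : (Fintype.card F : ZMod r) ≠ 0) {S : Submodule F V} (hS : InvBy g S) (hS0 : fixedIn g S = ⊥) :
    ∀ j : ℕ, j * orderOf (Fintype.card F : ZMod r) ≤ finrank F S →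
      ∃ W, W ≤ S ∧ InvBy g W ∧ finrank F W = j * orderOf (Fintype.card F : ZMod r) := by
  intro j
  induction j with
  | zero => exact fun _ => ⟨⊥, bot_le, invBy_bot, by simp⟩
  | succ j ih =>
    intro hj
    obtain ⟨W, hWS, hW, hWd⟩ := ih (le_trans (Nat.mul_le_mul_right _ (Nat.le_succ j)) hj)
    obtain ⟨W', hW', hW'S, hinf, hsup⟩ :=
      exists_invBy_compl (Fact.out : r.Prime).pos hrF one_ne_zero (by rw [hg, one_smul]) hS hW hWS
    have hd := finrank_sup_of_disjoint hinf
    rw [hsup] at hd
    set i := orderOf (Fintype.card F : ZMod r) with hi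
    have hipos : 0 < i := orderOf_pos_iff.mpr (isOfFinOrder_iff_pow_eq_one.mpr
      ⟨r - 1, by have := (Fact.out : r.Prime).two_le; omega, ZMod.pow_card_sub_one_eq_one hq⟩)
    rw [Nat.succ_mul] at hj ⊢
    have hne : W' ≠ ⊥ := by
      intro h
      rw [h, finrank_bot] at hd
      omega
    obtain ⟨U, hUW', hU, hU0, hUd⟩ := exists_small_invBy hg hq hW' hne
    have hUfix : fixedIn g U = ⊥ := le_bot_iff.mp ((inf_le_inf_right _ (hUW'.trans hW'S)).trans hS0.le)
    have hdvd := orderOf_dvd_finrank_sub hg hq hU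
    rw [hUfix, finrank_bot, Nat.sub_zero] at hdvd
    have hpos : 0 < finrank F U := by
      rw [Nat.pos_iff_ne_zero]; intro h; exact hU0 (Submodule.finrank_eq_zero.mp h)
    have hUi : finrank F U = i := le_antisymm hUd (Nat.le_of_dvd hpos hdvd)
    refine ⟨W ⊔ U, sup_le hWS (hUW'.trans hW'S), hW.sup hU, ?_⟩
    rw [finrank_sup_of_disjoint (le_bot_iff.mp ((inf_le_inf_left _ hUW').trans hinf.le)), hWd, hUi]

/-- Dimensions of invariant subspaces inside an invariant subspace. -/
theorem exists_invBy_finrank {g : Module.End F V} {r : ℕ} [Fact r.Prime] (hrF : (r : F) ≠ 0) (hg : g ^ r = 1)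
    (hq : (Fintype.card F : ZMod r) ≠ 0) {S : Submodule F V} (hS : InvBy g S) (c j : ℕ)
    (hc : c ≤ finrank F (fixedIn g S))
    (hj : j * orderOf (Fintype.card F : ZMod r) + finrank F (fixedIn g S) ≤ finrank F S) :
    ∃ W, W ≤ S ∧ InvBy g W ∧ finrank F W = c + j * orderOf (Fintype.card F : ZMod r) := by
  have hfix : InvBy g (fixedIn g S) := fun v hv => by rw [(mem_fixedIn.mp hv).2]; exact hv
  obtain ⟨M, hM, hMS, hinf, hsup⟩ :=
    exists_invBy_compl (Fact.out : r.Prime).pos hrF one_ne_zero (by rw [hg, one_smul]) hS hfix inf_le_left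
  have hMfix : fixedIn g M = ⊥ := by
    rw [← le_bot_iff, ← hinf]
    exact le_inf (inf_le_inf_right _ hMS) inf_le_left
  have hd := finrank_sup_of_disjoint hinf
  rw [hsup] at hd
  obtain ⟨W, hWM, hW, hWd⟩ := exists_invBy_mul hrF hg hq hM hMfix j (by omega)
  obtain ⟨b, hb⟩ := exists_linearIndependent_of_le_finrank (R := F) (M := fixedIn g S) hc
  set A := (Submodule.span F (Set.range b)).map (fixedIn g S).subtype with hA
  have hAle : A ≤ fixedIn g S := Submodule.map_subtype_le _ _
  have hAinv : InvBy g A := fun v hv => by rw [(mem_fixedIn.mp (hAle hv)).2]; exact hv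
  refine ⟨A ⊔ W, sup_le (hAle.trans inf_le_left) (hWM.trans hMS), hAinv.sup hW, ?_⟩
  rw [finrank_sup_of_disjoint (le_bot_iff.mp ((inf_le_inf hAle hWM).trans hinf.le)), hWd,
    hA, Submodule.finrank_map_subtype_eq, finrank_span_eq_card hb, Fintype.card_fin]

/-- Conversely every invariant dimension has this shape. -/
theorem finrank_invBy_eq {g : Module.End F V} {r : ℕ} [Fact r.Prime] (hg : g ^ r = 1)
    (hq : (Fintype.card F : ZMod r) ≠ 0) {W : Submodule F V} (hW : InvBy g W) :
    ∃ c j, c = finrank F (fixedIn g W) ∧ finrank F W = c + j * orderOf (Fintype.card F : ZMod r) := by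
  obtain ⟨j, hj⟩ := orderOf_dvd_finrank_sub hg hq hW
  refine ⟨_, j, rfl, ?_⟩
  have : finrank F (fixedIn g W) ≤ finrank F W := Submodule.finrank_mono inf_le_left
  rw [mul_comm j, ← hj]
  omega

/-! ### The scalar is not an `r`-th power -/

omit [Fintype F] in
theorem dvd_finrank_of_nonpower {g : Module.End F V} {r : ℕ} [Fact r.Prime] {lam : F}
    (hlam : ∀ μ : F, μ ^ r ≠ lam) (hg : g ^ r = lam • 1) {W : Submodule F V} (hW : InvBy g W) :
    r ∣ finrank F W := by
  by_contra h
  have hcop : Nat.Coprime (finrank F W) r :=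
    (((Fact.out : r.Prime).coprime_iff_not_dvd).mpr h).symm
  let gW : Module.End F W := g.restrict hW
  have hgW : gW ^ r = lam • 1 := by
    refine LinearMap.ext fun w => Subtype.ext ?_
    rw [Module.End.pow_restrict r hW]
    simp [hg]
  have hdet : LinearMap.det gW ^ r = lam ^ finrank F W := by
    rw [← map_pow, hgW, LinearMap.det_smul, map_one, mul_one]
  obtain ⟨m, hm⟩ := Nat.exists_mul_mod_eq_one_of_coprime hcop (Fact.out : r.Prime).one_lt
  set k := finrank F W * m / r with hk
  have hlam0 : lam ≠ 0 := fun h0 => hlam 0 (by rw [h0, zero_pow (Fact.out : r.Prime).ne_zero])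
  refine hlam (LinearMap.det gW ^ m * (lam ^ k)⁻¹) ?_
  have e : finrank F W * m = 1 + r * k := by
    have := Nat.mod_add_div (finrank F W * m) r
    rw [hm.2] at this
    exact this.symm
  rw [mul_pow, ← pow_mul, mul_comm m r, pow_mul, hdet, ← pow_mul, e, inv_pow, ← pow_mul, mul_comm k r, pow_add, pow_one,
    mul_assoc, mul_inv_cancel₀ (pow_ne_zero _ hlam0), mul_one]

omit [Fintype F] in
/-- A basis of cycles `w, g w, …, g ^ (r-1) w` when the scalar is not an `r`-th power. -/
theorem exists_cycleBasis {g : Module.End F V} {r : ℕ} [Fact r.Prime] {lam : F}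
    (hlam : ∀ μ : F, μ ^ r ≠ lam) (hg : g ^ r = lam • 1) :
    ∃ (t : ℕ) (w : Fin t → V) (B : Basis (Fin t × Fin r) F V), ∀ p, B p = (g ^ (p.2 : ℕ)) (w p.1) := by
  have key : ∀ m k : ℕ, ∀ w : Fin k → V,
      LinearIndependent F (fun p : Fin k × Fin r => (g ^ (p.2 : ℕ)) (w p.1)) →
      finrank F V ≤ k * r + m →
      ∃ (t : ℕ) (w : Fin t → V) (B : Basis (Fin t × Fin r) F V), ∀ p, B p = (g ^ (p.2 : ℕ)) (w p.1) := by
    intro m
    induction m with
    | zero =>
      intro k w hli hm
      have hle := hli.fintype_card_le_finrank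
      rw [Fintype.card_prod, Fintype.card_fin, Fintype.card_fin] at hle
      exact ⟨k, w, Basis.mk hli (hli.span_eq_top_of_card_eq_finrank'
        (by rw [Fintype.card_prod, Fintype.card_fin, Fintype.card_fin]; omega)).ge, fun p => by simp⟩
    | succ m ih =>
      intro k w hli hm
      by_cases hfull : finrank F V ≤ k * r
      · exact ih k w hli (by omega)
      set S := Submodule.span F (Set.range fun p : Fin k × Fin r => (g ^ (p.2 : ℕ)) (w p.1)) with hS
      have hrpos : 0 < r := (Fact.out : r.Prime).pos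
      have hcyc : ∀ u : V, InvBy g (Submodule.span F (Set.range fun l : Fin r => (g ^ (l : ℕ)) u)) := by
        intro u x hx
        refine Submodule.span_le.mpr ?_ (by
          have := Submodule.mem_map_of_mem (f := g) hx
          rwa [Submodule.map_span] at this)
        rintro _ ⟨_, ⟨l, rfl⟩, rfl⟩
        show g ((g ^ (l : ℕ)) u) ∈ Submodule.span F _
        rw [← Module.End.mul_apply, ← pow_succ']
        by_cases hl : (l : ℕ) + 1 < r
        · exact Submodule.subset_span ⟨⟨(l : ℕ) + 1, hl⟩, rfl⟩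
        · rw [show (l : ℕ) + 1 = r by omega, hg, LinearMap.smul_apply, Module.End.one_apply]
          exact Submodule.smul_mem _ _ (Submodule.subset_span ⟨⟨0, hrpos⟩, by simp⟩)
      have hSi : InvBy g S := by
        intro x hx
        rw [hS] at hx
        induction hx using Submodule.span_induction with
        | mem y hy =>
          obtain ⟨⟨a, l⟩, rfl⟩ := hy
          refine Submodule.span_mono ?_ (hcyc (w a) _ (Submodule.subset_span ⟨l, rfl⟩))
          rintro _ ⟨l', rfl⟩; exact ⟨(a, l'), rfl⟩
        | zero => simp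
        | add y z _ _ hy hz => rw [map_add]; exact S.add_mem hy hz
        | smul c y _ hy => rw [map_smul]; exact S.smul_mem c hy
      obtain ⟨v, hv⟩ : ∃ v, v ∉ S := by
        by_contra hall
        push Not at hall
        have : finrank F V ≤ k * r := by
          rw [← finrank_top F V, ← (eq_top_iff.mpr fun x _ => hall x : S = ⊤), hS, finrank_span_eq_card hli,
            Fintype.card_prod, Fintype.card_fin, Fintype.card_fin]
        omega
      set Z := Submodule.span F (Set.range fun l : Fin r => (g ^ (l : ℕ)) v) with hZ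
      have hvZ : v ∈ Z := Submodule.subset_span ⟨⟨0, hrpos⟩, by simp⟩
      have hZr : finrank F Z = r := by
        have h1 : finrank F Z ≤ r := (finrank_range_le_card _).trans (by simp)
        have h2 : 0 < finrank F Z := by
          rw [Nat.pos_iff_ne_zero]; intro h
          have hz := Submodule.finrank_eq_zero.mp h
          rw [hz, Submodule.mem_bot] at hvZ
          exact hv (hvZ ▸ S.zero_mem)
        exact le_antisymm h1 (Nat.le_of_dvd h2 (dvd_finrank_of_nonpower hlam hg (hcyc v)))
      have hdisj : S ⊓ Z = ⊥ := by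
        by_contra hne
        have h0 : 0 < finrank F ↥(S ⊓ Z) := by
          rw [Nat.pos_iff_ne_zero]; intro h; exact hne (Submodule.finrank_eq_zero.mp h)
        have h1 := Nat.le_of_dvd h0 (dvd_finrank_of_nonpower hlam hg (hSi.inf (hcyc v)))
        have h2 := Submodule.eq_of_le_of_finrank_le (inf_le_right : S ⊓ Z ≤ Z) (by omega)
        exact hv (h2.ge hvZ).1
      refine ih (k + 1) (Fin.snoc w v) ?_ (by rw [Nat.add_mul, one_mul]; omega)
      rw [linearIndependent_iff_card_eq_finrank_span, Fintype.card_prod, Fintype.card_fin, Fintype.card_fin]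
      have e : Submodule.span F (Set.range fun p : Fin (k + 1) × Fin r =>
          (g ^ (p.2 : ℕ)) ((Fin.snoc w v : Fin (k + 1) → V) p.1)) = S ⊔ Z := by
        rw [hS, hZ, ← Submodule.span_union]
        refine congrArg _ (Set.ext fun x => ⟨?_, ?_⟩)
        · rintro ⟨⟨a, l⟩, rfl⟩
          refine Fin.lastCases ?_ (fun b => ?_) a
          · exact Or.inr ⟨l, by simp⟩
          · exact Or.inl ⟨(b, l), by simp⟩
        · rintro (⟨⟨b, l⟩, rfl⟩ | ⟨l, rfl⟩)
          · exact ⟨(b.castSucc, l), by simp⟩
          · exact ⟨(Fin.last k, l), by simp⟩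
      rw [Set.finrank, e, finrank_sup_of_disjoint hdisj, hZr, hS, finrank_span_eq_card hli]
      simp [Nat.add_mul]
  exact key (finrank F V) 0 Fin.elim0 linearIndependent_empty_type (by omega)

omit [Fintype F] in
/-- All multiples of `r` are dimensions of invariant subspaces. -/
theorem exists_invBy_nonpower {g : Module.End F V} {r : ℕ} [Fact r.Prime] {lam : F}
    (hlam : ∀ μ : F, μ ^ r ≠ lam) (hg : g ^ r = lam • 1) (j : ℕ) (hj : j * r ≤ finrank F V) :
    ∃ U U', InvBy g U ∧ InvBy g U' ∧ U ⊓ U' = ⊥ ∧ U ⊔ U' = ⊤ ∧ finrank F U = j * r := by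
  obtain ⟨t, w, B, hB⟩ := exists_cycleBasis hlam hg
  have hrpos : 0 < r := (Fact.out : r.Prime).pos
  have hn := Module.finrank_eq_card_basis B
  rw [Fintype.card_prod, Fintype.card_fin, Fintype.card_fin] at hn
  have hjt : j ≤ t := by nlinarith
  have hinv : ∀ A : Set (Fin t), InvBy g (Submodule.span F (B '' {p | p.1 ∈ A})) := by
    intro A x hx
    induction hx using Submodule.span_induction with
    | mem y hy =>
      obtain ⟨⟨a, l⟩, ha, rfl⟩ := hy
      rw [hB, ← Module.End.mul_apply, ← pow_succ']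
      by_cases hl : (l : ℕ) + 1 < r
      · exact Submodule.subset_span ⟨(a, ⟨(l : ℕ) + 1, hl⟩), ha, hB _⟩
      · rw [show (l : ℕ) + 1 = r by omega, hg, LinearMap.smul_apply, Module.End.one_apply]
        exact Submodule.smul_mem _ _ (Submodule.subset_span ⟨(a, ⟨0, hrpos⟩), ha, by rw [hB]; simp⟩)
    | zero => simp
    | add y z _ _ hy hz => rw [map_add]; exact Submodule.add_mem _ hy hz
    | smul c y _ hy => rw [map_smul]; exact Submodule.smul_mem _ c hy
  refine ⟨Submodule.span F (B '' {p | p.1 ∈ {a : Fin t | (a : ℕ) < j}}),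
    Submodule.span F (B '' {p | p.1 ∈ {a : Fin t | ¬ (a : ℕ) < j}}), hinv _, hinv _, ?_, ?_, ?_⟩
  · exact (B.linearIndependent.disjoint_span_image (s := {p | p.1 ∈ {a : Fin t | (a : ℕ) < j}})
      (t := {p | p.1 ∈ {a : Fin t | ¬ (a : ℕ) < j}}) (Set.disjoint_left.mpr fun p h h' => h' h)).eq_bot
  · rw [← Submodule.span_union, ← Set.image_union, eq_top_iff, ← B.span_eq]
    refine Submodule.span_mono ?_
    rintro _ ⟨p, rfl⟩
    exact ⟨p, em _, rfl⟩
  · rw [show B '' {p | p.1 ∈ {a : Fin t | (a : ℕ) < j}} =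
        Set.range (fun p : Fin j × Fin r => B (Fin.castLE hjt p.1, p.2)) from Set.ext fun x => by
      constructor
      · rintro ⟨⟨a, l⟩, ha : (a : ℕ) < j, rfl⟩; exact ⟨(⟨a, ha⟩, l), rfl⟩
      · rintro ⟨⟨a, l⟩, rfl⟩; exact ⟨_, a.2, rfl⟩,
      finrank_span_eq_card]
    · simp
    · exact B.linearIndependent.comp _ fun p p' h => by
        obtain ⟨h1, h2⟩ := Prod.ext_iff.mp h
        exact Prod.ext (Fin.castLE_injective hjt h1) h2

end CfsgLib.LinearElements
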