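import Cfsg.Agent.AschbacherUnitary.Basic
import Cfsg.Agent.AschbacherForms.Adjoint
import Cfsg.Agent.Forms.UnitaryOrder
import Cfsg.Agent.LinearElements.RElements
import Cfsg.Agent.Linear.Basic

/-! Pairs of complementary totally singular subspaces for the standard hermitian form: adapted frames, transitivity
of the special unitary group, the ranks forced on stabilising elements, and stable pairs of involutions. -/

set_option autoImplicit false

namespace CfsgLib.UnitaryPairs

open Matrix CfsgLib.AschbacherUnitary CfsgLib.AschbacherForms CfsgLib.Aschbacher Module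

variable {F : Type*} [Field F] [Fintype F] {n h q : ℕ} {σ : F ≃+* F}

/-- A pair of complementary totally singular `h`-spaces. -/
structure IsPair (n h q : ℕ) (D : Fin 2 → Submodule F (Fin n → F)) : Prop where
  dim : n = 2 * h
  finrank_eq : ∀ i, finrank F (D i) = h
  disjoint : D 0 ⊓ D 1 = ⊥
  singular : ∀ i, Cfsg.Geo.IsTotallySingularFor (Cfsg.hermForm n F q) (D i)

theorem isPair_of_decomp {D : Fin 2 → Submodule F (Fin n → F)} (hD : Cfsg.Geo.IsMDecomposition h D)
    (hn : n = 2 * h) (hs : ∀ i, Cfsg.Geo.IsTotallySingularFor (Cfsg.hermForm n F q) (D i)) : IsPair n h q D :=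
  ⟨hn, hD.finrank_eq, disjoint_iff.mp (hD.indep.pairwiseDisjoint (by decide : (0 : Fin 2) ≠ 1)), hs⟩

omit [Fintype F] in
theorem IsPair.swap {D : Fin 2 → Submodule F (Fin n → F)} (hD : IsPair n h q D) : IsPair n h q ![D 1, D 0] :=
  ⟨hD.dim, fun i => by fin_cases i <;> first | exact hD.finrank_eq 1 | exact hD.finrank_eq 0, by
    show D 1 ⊓ D 0 = ⊥
    rw [inf_comm, hD.disjoint], fun i => by fin_cases i <;> first | exact hD.singular 1 | exact hD.singular 0⟩

/-- The Gram matrix of an adapted frame. -/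
def pairGram (F : Type*) [Field F] (h : ℕ) : Matrix (Fin h ⊕ Fin h) (Fin h ⊕ Fin h) F := Matrix.fromBlocks 0 1 1 0

/-- A frame adapted to a pair. -/
structure Frame (n h : ℕ) (σ : F ≃+* F) (D : Fin 2 → Submodule F (Fin n → F)) where
  mat : Matrix (Fin n) (Fin h ⊕ Fin h) F
  inv : Matrix (Fin h ⊕ Fin h) (Fin n) F
  mat_inv : mat * inv = 1
  inv_mat : inv * mat = 1
  gram : matᵀ * mat.map σ = pairGram F h
  span₀ : D 0 = Submodule.span F (Set.range fun i : Fin h => mat.col (.inl i))
  span₁ : D 1 = Submodule.span F (Set.range fun i : Fin h => mat.col (.inr i))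

theorem exists_frame (hc : IsConj q σ) {D : Fin 2 → Submodule F (Fin n → F)} (hD : IsPair n h q D) :
    Nonempty (Frame n h σ D) := by
  classical
  have hf := isReflexive_unitary (hc.unitary (n := n))
  let u : Basis (Fin h) F (D 0) := Module.finBasisOfFinrankEq F (D 0) (hD.finrank_eq 0)
  let L : D 1 →ₗ[F] (Fin h → F) :=
    { toFun := fun w i => Cfsg.hermForm n F q (w : Fin n → F) (u i : Fin n → F)
      map_add' := fun a b => funext fun i => hf.sesq.add_left _ _ _
      map_smul' := fun c a => funext fun i => hf.sesq.smul_left _ _ _ }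
  have hinj : Function.Injective L := by
    rw [← LinearMap.ker_eq_bot, Submodule.eq_bot_iff]
    intro w hw
    have h0 : ∀ x ∈ D 0 ⊔ D 1, Cfsg.hermForm n F q (w : Fin n → F) x = 0 := by
      intro x hx
      obtain ⟨a, ha, b, hb, rfl⟩ := Submodule.mem_sup.mp hx
      rw [hf.sesq.add_right, hD.singular 1 _ w.2 b hb, add_zero]
      have hsum := congrArg Subtype.val (u.sum_repr ⟨a, ha⟩)
      rw [Submodule.coe_sum] at hsum
      simp only [Submodule.coe_smul] at hsum
      rw [← hsum, hf.sesq.sum_right]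
      exact Finset.sum_eq_zero fun i _ => by
        rw [hf.sesq.smul_right, show Cfsg.hermForm n F q (w : Fin n → F) (u i : Fin n → F) = 0 from congrFun hw i,
          mul_zero]
    have htop : D 0 ⊔ D 1 = ⊤ := Submodule.eq_top_of_finrank_eq (by
      rw [CfsgLib.LinearElements.finrank_sup_of_disjoint hD.disjoint, hD.finrank_eq, hD.finrank_eq,
        Module.finrank_fin_fun, hD.dim]
      omega)
    exact Subtype.ext (hf.ext_left fun x => by rw [h0 x (htop ▸ Submodule.mem_top), Submodule.coe_zero, hf.zero_left])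
  let Le : D 1 ≃ₗ[F] (Fin h → F) := LinearEquiv.ofBijective L
    ⟨hinj, (LinearMap.injective_iff_surjective_of_finrank_eq_finrank (by rw [hD.finrank_eq, Module.finrank_fin_fun])).mp hinj⟩
  let w : Fin h → D 1 := fun j => Le.symm (Pi.single j 1)
  have hw : ∀ i j, Cfsg.hermForm n F q (w j : Fin n → F) (u i : Fin n → F) = if i = j then 1 else 0 := by
    intro i j
    have := congrFun (Le.apply_symm_apply (Pi.single j 1)) i
    rw [Pi.single_apply] at this
    exact this
  let M : Matrix (Fin n) (Fin h ⊕ Fin h) F :=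
    Matrix.of fun a s => Sum.elim (fun i => (u i : Fin n → F) a) (fun j => (w j : Fin n → F) a) s
  have hgram : Mᵀ * M.map σ = pairGram F h := by
    ext s t
    have he : (Mᵀ * M.map σ) s t = Cfsg.hermForm n F q (M.col s) (M.col t) := by
      rw [hc.herm_eq]; rfl
    rw [he]
    rcases s with i | i <;> rcases t with j | j <;> simp only [pairGram, Matrix.fromBlocks_apply₁₁,
      Matrix.fromBlocks_apply₁₂, Matrix.fromBlocks_apply₂₁, Matrix.fromBlocks_apply₂₂, Matrix.zero_apply,
      Matrix.one_apply]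
    · exact hD.singular 0 _ (u i).2 _ (u j).2
    · show Cfsg.hermForm n F q (u i : Fin n → F) (w j : Fin n → F) = _
      rw [hf.refl (w j : Fin n → F), hw, one_mul]
      split <;> simp
    · show Cfsg.hermForm n F q (w i : Fin n → F) (u j : Fin n → F) = _
      rw [hw]
      exact if_congr eq_comm rfl rfl
    · exact hD.singular 1 _ (w i).2 _ (w j).2
  have hJ : pairGram F h * pairGram F h = 1 := by simp [pairGram, Matrix.fromBlocks_multiply]
  have hleft : (pairGram F h * Mᵀ).map σ * M = 1 := by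
    have h1 := congrArg (fun A : Matrix _ _ F => A.map σ) (congrArg (pairGram F h * ·) hgram)
    simp only [hJ, ← Matrix.mul_assoc] at h1
    rw [Matrix.map_mul, show (M.map σ).map σ = M from Matrix.ext fun i j => hc.involutive _,
      Matrix.map_one _ (map_zero σ) (map_one σ)] at h1
    exact h1
  have hcard : Fintype.card (Fin h ⊕ Fin h) = Fintype.card (Fin n) := by simp [hD.dim]; omega
  have hli : LinearIndependent F M.col := Matrix.mulVec_injective_iff.mp fun a b hab => by
    have := congrArg ((pairGram F h * Mᵀ).map σ *ᵥ ·) hab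
    simp only [Matrix.mulVec_mulVec, hleft, Matrix.one_mulVec] at this
    exact this
  refine ⟨⟨M, (pairGram F h * Mᵀ).map σ, (Matrix.mul_eq_one_comm_of_equiv (Fintype.equivOfCardEq hcard.symm)).mpr hleft,
    hleft, hgram, ?_, ?_⟩⟩
  · refine (Submodule.eq_of_le_of_finrank_le ?_ ?_).symm
    · rw [Submodule.span_le]; rintro _ ⟨i, rfl⟩; exact (u i).2
    · rw [finrank_span_eq_card (b := fun i => M.col (Sum.inl i)) (hli.comp _ Sum.inl_injective), Fintype.card_fin, hD.finrank_eq]
  · refine (Submodule.eq_of_le_of_finrank_le ?_ ?_).symm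
    · rw [Submodule.span_le]; rintro _ ⟨i, rfl⟩; exact (w i).2
    · rw [finrank_span_eq_card (b := fun i => M.col (Sum.inr i)) (hli.comp _ Sum.inr_injective), Fintype.card_fin, hD.finrank_eq]

/-- Transport of block diagonal elements. -/
theorem exists_blockHom (hc : IsConj q σ) (n : ℕ) {D : Fin 2 → Submodule F (Fin n → F)} (hD : IsPair n h q D) :
    ∃ ψ : GL (Fin h) F →* GL (Fin n) F, Function.Injective ψ ∧
      ∀ A, ψ A ∈ Cfsg.GU n F q ∧
        (∀ i, (D i).map (Matrix.toLin' ((ψ A : GL (Fin n) F) : Matrix (Fin n) (Fin n) F)) = D i) ∧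
        ((ψ A : GL (Fin n) F) : Matrix (Fin n) (Fin n) F).det =
          (A : Matrix (Fin h) (Fin h) F).det * (σ ((A : Matrix (Fin h) (Fin h) F).det))⁻¹ := by
  classical
  obtain ⟨Φ⟩ := exists_frame hc hD
  let B : GL (Fin h) F → Matrix (Fin h ⊕ Fin h) (Fin h ⊕ Fin h) F := fun A =>
    Matrix.fromBlocks (A : Matrix (Fin h) (Fin h) F) 0 0 (((A⁻¹ : GL (Fin h) F) : Matrix (Fin h) (Fin h) F).map σ)ᵀ
  have hB : ∀ A A', B (A * A') = B A * B A' := fun A A' => by
    simp only [B, Matrix.fromBlocks_multiply, Matrix.mul_zero, Matrix.zero_mul, add_zero, zero_add, Units.val_mul,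
      _root_.mul_inv_rev, Matrix.map_mul, Matrix.transpose_mul]
  have hB1 : B 1 = 1 := by simp [B]
  let val : GL (Fin h) F → Matrix (Fin n) (Fin n) F := fun A => Φ.mat * B A * Φ.inv
  have hval : ∀ A A', val (A * A') = val A * val A' := fun A A' => by
    simp only [val, hB, Matrix.mul_assoc]
    rw [← Matrix.mul_assoc Φ.inv Φ.mat, Φ.inv_mat, Matrix.one_mul]
  have hval1 : val 1 = 1 := by simp only [val, hB1, Matrix.mul_one, Φ.mat_inv]
  let ψ : GL (Fin h) F →* GL (Fin n) F := MonoidHom.mk' (fun A => ⟨val A, val A⁻¹, by rw [← hval, mul_inv_cancel, hval1],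
    by rw [← hval, inv_mul_cancel, hval1]⟩) fun A A' => Units.ext (hval A A')
  have hmat : ∀ A, ((ψ A : GL (Fin n) F) : Matrix (Fin n) (Fin n) F) * Φ.mat = Φ.mat * B A := fun A => by
    show val A * Φ.mat = _
    simp only [val, Matrix.mul_assoc, Φ.inv_mat, Matrix.mul_one]
  refine ⟨ψ, fun A A' e => ?_, fun A => ⟨?_, fun i => ?_, ?_⟩⟩
  · have h1 := hmat A
    rw [e, hmat A'] at h1
    have h2 := congrArg (Φ.inv * ·) h1
    simp only [← Matrix.mul_assoc, Φ.inv_mat, Matrix.one_mul, B, Matrix.fromBlocks_inj] at h2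
    exact Units.ext h2.1.symm
  · refine hc.mem_GU_iff.mpr ?_
    have hAi : (A : Matrix (Fin h) (Fin h) F).map σ * ((A⁻¹ : GL (Fin h) F) : Matrix (Fin h) (Fin h) F).map σ = 1 := by
      rw [← Matrix.map_mul, ← Units.val_mul, mul_inv_cancel, Units.val_one, Matrix.map_one _ (map_zero σ) (map_one σ)]
    have hinv : ((A⁻¹ : GL (Fin h) F) : Matrix (Fin h) (Fin h) F) * (A : Matrix (Fin h) (Fin h) F) = 1 := by
      rw [← Units.val_mul, inv_mul_cancel, Units.val_one]
    have hBJ : (B A)ᵀ * pairGram F h * (B A).map σ = pairGram F h := by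
      simp only [B, pairGram, Matrix.fromBlocks_transpose, Matrix.fromBlocks_map, Matrix.transpose_zero,
        Matrix.map_zero _ (map_zero σ), Matrix.fromBlocks_multiply, Matrix.mul_zero, Matrix.zero_mul, add_zero, zero_add,
        Matrix.mul_one, Matrix.transpose_transpose, Matrix.transpose_map, Matrix.fromBlocks_inj, and_true, true_and]
      refine ⟨?_, ?_⟩
      · rw [show (((A⁻¹ : GL (Fin h) F) : Matrix (Fin h) (Fin h) F).map σ).map σ =
          ((A⁻¹ : GL (Fin h) F) : Matrix (Fin h) (Fin h) F) from Matrix.ext fun i j => hc.involutive _,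
          ← Matrix.transpose_mul, hinv, Matrix.transpose_one]
      · rw [← Matrix.map_mul, hinv, Matrix.map_one _ (map_zero σ) (map_one σ)]
    show (val A)ᵀ * (val A).map σ = 1
    simp only [val, Matrix.map_mul, Matrix.transpose_mul, Matrix.mul_assoc]
    rw [← Matrix.mul_assoc Φ.matᵀ, Φ.gram, ← Matrix.mul_assoc (pairGram F h), ← Matrix.mul_assoc (B A)ᵀ,
      ← Matrix.mul_assoc (B A)ᵀ, hBJ, ← Φ.gram, ← Matrix.mul_assoc, ← Matrix.mul_assoc, ← Matrix.transpose_mul,
      Φ.mat_inv, Matrix.transpose_one, Matrix.one_mul, ← Matrix.map_mul, Φ.mat_inv,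
      Matrix.map_one _ (map_zero σ) (map_one σ)]
  · have hinj : Function.Injective (Matrix.toLin' ((ψ A : GL (Fin n) F) : Matrix (Fin n) (Fin n) F)) := by
      intro a b hab
      have := congrArg (((ψ A)⁻¹ : GL (Fin n) F) : Matrix (Fin n) (Fin n) F).mulVec hab
      simpa [Matrix.mulVec_mulVec] using this
    have hcol : ∀ s, Matrix.toLin' ((ψ A : GL (Fin n) F) : Matrix (Fin n) (Fin n) F) (Φ.mat.col s) =
        ∑ t, B A t s • Φ.mat.col t := fun s => by
      funext a
      rw [Matrix.toLin'_apply, show ((((ψ A : GL (Fin n) F) : Matrix (Fin n) (Fin n) F) *ᵥ Φ.mat.col s) a) =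
        (((ψ A : GL (Fin n) F) : Matrix (Fin n) (Fin n) F) * Φ.mat) a s from rfl, hmat, Matrix.mul_apply,
        Finset.sum_apply]
      exact Finset.sum_congr rfl fun t _ => by rw [Pi.smul_apply, smul_eq_mul, mul_comm]; rfl
    have hle : ∀ i, (D i).map (Matrix.toLin' ((ψ A : GL (Fin n) F) : Matrix (Fin n) (Fin n) F)) ≤ D i := by
      intro i
      fin_cases i
      · show (D 0).map _ ≤ D 0
        rw [Φ.span₀, Submodule.map_span, Submodule.span_le]
        rintro _ ⟨_, ⟨j, rfl⟩, rfl⟩
        rw [hcol, Fintype.sum_sum_type]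
        simp only [B, Matrix.fromBlocks_apply₁₁, Matrix.fromBlocks_apply₂₁, Matrix.zero_apply, zero_smul,
          Finset.sum_const_zero, add_zero]
        exact Submodule.sum_mem _ fun t _ => Submodule.smul_mem _ _ (Submodule.subset_span ⟨t, rfl⟩)
      · show (D 1).map _ ≤ D 1
        rw [Φ.span₁, Submodule.map_span, Submodule.span_le]
        rintro _ ⟨_, ⟨j, rfl⟩, rfl⟩
        rw [hcol, Fintype.sum_sum_type]
        simp only [B, Matrix.fromBlocks_apply₁₂, Matrix.fromBlocks_apply₂₂, Matrix.zero_apply, zero_smul,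
          Finset.sum_const_zero, zero_add]
        exact Submodule.sum_mem _ fun t _ => Submodule.smul_mem _ _ (Submodule.subset_span ⟨t, rfl⟩)
    exact Submodule.eq_of_le_of_finrank_eq (hle i) (Submodule.equivMapOfInjective _ hinj _).finrank_eq.symm
  · show (Φ.mat * B A * Φ.inv).det = _
    rw [Matrix.det_conj_of_mul_eq_one Φ.mat_inv Φ.inv_mat]
    simp only [B, Matrix.det_fromBlocks_zero₂₁, Matrix.det_transpose]
    rw [← RingEquiv.coe_toRingHom, ← RingHom.mapMatrix_apply, ← RingHom.map_det, RingEquiv.coe_toRingHom,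
      show ((A⁻¹ : GL (Fin h) F) : Matrix (Fin h) (Fin h) F).det = ((A : Matrix (Fin h) (Fin h) F).det)⁻¹ from
        eq_inv_of_mul_eq_one_left (by rw [← Matrix.det_mul, ← Units.val_mul, inv_mul_cancel, Units.val_one, Matrix.det_one]),
      map_inv₀]

/-- The special unitary group is transitive on pairs. -/
theorem exists_map_pair (hc : IsConj q σ) (hh : 0 < h) {D D' : Fin 2 → Submodule F (Fin n → F)}
    (hD : IsPair n h q D) (hD' : IsPair n h q D') :
    ∃ g ∈ Cfsg.GU n F q ⊓ Cfsg.Geo.specialLinear (Fin n) F,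
      ∀ i, (D i).map (Matrix.toLin' (g : Matrix (Fin n) (Fin n) F)) = D' i := by
  classical
  obtain ⟨Φ⟩ := exists_frame hc hD
  obtain ⟨Φ'⟩ := exists_frame hc hD'
  set G : Matrix (Fin n) (Fin n) F := Φ'.mat * Φ.inv with hG
  have hGu : Gᵀ * G.map σ = 1 := by
    simp only [hG, Matrix.map_mul, Matrix.transpose_mul, Matrix.mul_assoc]
    rw [← Matrix.mul_assoc Φ'.matᵀ, Φ'.gram, ← Φ.gram, ← Matrix.mul_assoc, ← Matrix.mul_assoc, ← Matrix.transpose_mul,
      Φ.mat_inv, Matrix.transpose_one, Matrix.one_mul, ← Matrix.map_mul, Φ.mat_inv,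
      Matrix.map_one _ (map_zero σ) (map_one σ)]
  have hdet : G.det * σ G.det = 1 := by
    have := congrArg Matrix.det hGu
    rw [Matrix.det_mul, Matrix.det_transpose, Matrix.det_one, ← RingEquiv.coe_toRingHom, ← RingHom.mapMatrix_apply,
      ← RingHom.map_det] at this
    exact this
  have hG0 : G.det ≠ 0 := fun e => by rw [e, zero_mul] at hdet; exact zero_ne_one hdet
  obtain ⟨a, ha, hca⟩ := CfsgLib.Forms.exists_div_eq (σ := (σ : F →+* F))
    (fun e => hc.ne_refl (RingEquiv.ext fun x => RingHom.congr_fun e x)) hc.involutive (c := G.det) hdet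
  obtain ⟨ψ, -, hψ⟩ := exists_blockHom hc n hD'
  have hd : (Matrix.diagonal (Function.update (fun _ : Fin h => (1 : F)) ⟨0, hh⟩ a⁻¹)).det = a⁻¹ := by
    rw [Matrix.det_diagonal, Finset.prod_update_of_mem (Finset.mem_univ _)]; simp
  let A : GL (Fin h) F := Matrix.GeneralLinearGroup.mkOfDetNeZero
    (Matrix.diagonal (Function.update (fun _ : Fin h => (1 : F)) ⟨0, hh⟩ a⁻¹)) (by rw [hd]; exact inv_ne_zero ha)
  let g₀ : GL (Fin n) F := Matrix.GeneralLinearGroup.mkOfDetNeZero G hG0
  obtain ⟨hψ1, hψfix, hψd⟩ := hψ A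
  have hmap : ∀ i, (D i).map (Matrix.toLin' G) = D' i := by
    intro i
    have hcol : ∀ s, Matrix.toLin' G (Φ.mat.col s) = Φ'.mat.col s := fun s => by
      funext b
      rw [Matrix.toLin'_apply, show (G *ᵥ Φ.mat.col s) b = (G * Φ.mat) b s from rfl, hG, Matrix.mul_assoc,
        Φ.inv_mat, Matrix.mul_one]
      rfl
    fin_cases i
    · show (D 0).map _ = D' 0
      rw [Φ.span₀, Φ'.span₀, Submodule.map_span, ← Set.range_comp]
      simp only [Function.comp_def, hcol]
    · show (D 1).map _ = D' 1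
      rw [Φ.span₁, Φ'.span₁, Submodule.map_span, ← Set.range_comp]
      simp only [Function.comp_def, hcol]
  refine ⟨ψ A * g₀, ⟨mul_mem hψ1 (hc.mem_GU_iff.mpr hGu), MonoidHom.mem_ker.mpr (Units.ext ?_)⟩, fun i => by
    rw [Units.val_mul, Matrix.toLin'_mul, Submodule.map_comp,
      show (D i).map (Matrix.toLin' (g₀ : Matrix (Fin n) (Fin n) F)) = D' i from hmap i, hψfix]⟩
  show ((ψ A * g₀ : GL (Fin n) F) : Matrix (Fin n) (Fin n) F).det = 1
  rw [Units.val_mul, Matrix.det_mul, hψd]
  show _ * G.det = 1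
  rw [show (A : Matrix (Fin h) (Fin h) F).det = a⁻¹ from hd, map_inv₀, inv_inv]
  rw [RingEquiv.coe_toRingHom] at hca
  field_simp
  linear_combination hca

/-- Conjugation into the stabiliser from a stable pair. -/
theorem exists_conj_of_pair (hc : IsConj q σ) (hh : 0 < h) {D D' : Fin 2 → Submodule F (Fin n → F)}
    (hD : IsPair n h q D) (hD' : IsPair n h q D') {x : GL (Fin n) F} (π : Equiv.Perm (Fin 2))
    (hx : ∀ i, (D' i).map (Matrix.toLin' (x : Matrix (Fin n) (Fin n) F)) = D' (π i)) :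
    ∃ g ∈ Cfsg.GU n F q ⊓ Cfsg.Geo.specialLinear (Fin n) F, g⁻¹ * x * g ∈ Cfsg.Geo.decompositionStabilizer D := by
  obtain ⟨g, hg, hmap⟩ := exists_map_pair hc hh hD hD'
  refine ⟨g, hg, π, fun i => ?_⟩
  rw [Units.val_mul, Units.val_mul, Matrix.toLin'_mul, Matrix.toLin'_mul, Submodule.map_comp, Submodule.map_comp, hmap,
    hx, ← hmap, ← Submodule.map_comp, ← Matrix.toLin'_mul, ← Units.val_mul, inv_mul_cancel, Units.val_one,
    Matrix.toLin'_one, Submodule.map_id]

/-- The ranks forced on an element stabilising a pair. -/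
theorem rank_fixed_or_swapped (hc : IsConj q σ) {D : Fin 2 → Submodule F (Fin n → F)} (hD : IsPair n h q D)
    {y : GL (Fin n) F} (hy : y ∈ Cfsg.GU n F q) (hst : y ∈ Cfsg.Geo.decompositionStabilizer D) :
    (∀ c : F, c * σ c = 1 → Even ((y : Matrix (Fin n) (Fin n) F) - c • 1).rank) ∨
    ((∀ c : F, h ≤ ((y : Matrix (Fin n) (Fin n) F) - c • 1).rank) ∧
      ∀ r : ℕ, Odd r → ∀ z : F, z ≠ 0 → 0 < h → (y : Matrix (Fin n) (Fin n) F) ^ r ≠ z • 1) := by
  classical
  obtain ⟨π, hπ⟩ := hst
  have hf := isReflexive_unitary (hc.unitary (n := n))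
  set g := Matrix.toLin' (y : Matrix (Fin n) (Fin n) F)
  have hginj : ∀ v, g v = 0 → v = 0 := fun v hv => by
    have := congrArg (((y⁻¹ : GL (Fin n) F) : Matrix (Fin n) (Fin n) F) *ᵥ ·) hv
    simpa [g, Matrix.mulVec_mulVec] using this
  have hrk : ∀ c : F, ((y : Matrix (Fin n) (Fin n) F) - c • 1).rank = finrank F (LinearMap.range (g - c • 1)) := by
    intro c
    have e : Matrix.toLin' ((y : Matrix (Fin n) (Fin n) F) - c • 1) = g - c • 1 := by
      rw [map_sub, map_smul, Matrix.toLin'_one]; rfl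
    show finrank F (LinearMap.range (Matrix.toLin' ((y : Matrix (Fin n) (Fin n) F) - c • 1))) = _
    exact congrArg (fun f : Module.End F (Fin n → F) => finrank F (LinearMap.range f)) e
  by_cases hfix : π 0 = 0
  · left
    have h1 : π 1 = 1 := by
      by_contra h
      have : π 1 = 0 := by revert h; generalize π 1 = t; revert t; decide
      exact absurd (π.injective (this.trans hfix.symm)) (by decide)
    have hmem : ∀ i, ∀ v ∈ D i, g v ∈ D i := fun i v hv => by
      have : D (π i) = D i := by fin_cases i <;> [exact congrArg D hfix; exact congrArg D h1]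
      exact this ▸ (hπ i) ▸ Submodule.mem_map_of_mem hv
    intro c hcn
    rw [hrk]
    set T := g - c • 1 with hT
    have hTmem : ∀ i, ∀ v ∈ D i, T v ∈ D i := fun i v hv =>
      (D i).sub_mem (hmem i v hv) ((D i).smul_mem c hv)
    -- the kernel on one member is orthogonal to the range on the other
    have key : ∀ i j, i ≠ j → finrank F ↥(D i ⊓ LinearMap.ker T) + finrank F ↥((D j).map T) ≤ h := by
      intro i j hij
      have hle : D i ⊔ (D j).map T ≤ hf.perp (D i ⊓ LinearMap.ker T) := by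
        refine sup_le (fun a ha => hf.mem_perp.mpr fun b hb => hD.singular i a ha b hb.1) ?_
        rintro _ ⟨w, hw, rfl⟩
        refine hf.mem_perp'.mpr fun u hu => ?_
        have hgu : g u = c • u := sub_eq_zero.mp (LinearMap.mem_ker.mp hu.2)
        have hiso := CfsgLib.MaxSub.mem_GU_iff_forall.1 hy u w
        show Cfsg.hermForm n F q u (g w - c • w) = 0
        rw [hf.sub_right, hf.sesq.smul_right]
        have h2 : c * Cfsg.hermForm n F q u (g w) = Cfsg.hermForm n F q u w := by
          rw [← hf.sesq.smul_left, ← hgu]; exact hiso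
        linear_combination σ c * h2 - Cfsg.hermForm n F q u (g w) * hcn
      have hmono := Submodule.finrank_mono hle
      have hsup : finrank F ↥(D i ⊔ (D j).map T) = h + finrank F ↥((D j).map T) := by
        rw [CfsgLib.LinearElements.finrank_sup_of_disjoint, hD.finrank_eq]
        rw [← le_bot_iff, ← hD.disjoint]
        have hsub : (D j).map T ≤ D j := by rintro _ ⟨w, hw, rfl⟩; exact hTmem j w hw
        fin_cases i <;> fin_cases j <;> simp at hij <;>
          [exact inf_le_inf_left _ hsub; exact (inf_le_inf_left _ hsub).trans_eq (inf_comm _ _)]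
      have hperp := hf.finrank_perp (D i ⊓ LinearMap.ker T)
      rw [Fintype.card_fin] at hperp
      have := hD.dim
      omega
    have hnull : ∀ i, finrank F ↥((D i).map T) + finrank F ↥(D i ⊓ LinearMap.ker T) = h := by
      intro i
      have h2 := LinearMap.finrank_range_add_finrank_ker (T.domRestrict (D i))
      rw [LinearMap.range_domRestrict, LinearMap.ker_domRestrict, hD.finrank_eq] at h2
      rwa [← Submodule.map_comap_subtype (D i) (LinearMap.ker T), Submodule.finrank_map_subtype_eq]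
    have hr : finrank F ↥((D 0).map T) = finrank F ↥((D 1).map T) := by
      have := key 0 1 (by decide); have := key 1 0 (by decide)
      have := hnull 0; have := hnull 1
      omega
    have hrange : LinearMap.range T = (D 0).map T ⊔ (D 1).map T := by
      rw [← Submodule.map_sup, show D 0 ⊔ D 1 = ⊤ from Submodule.eq_top_of_finrank_eq (by
        rw [CfsgLib.LinearElements.finrank_sup_of_disjoint hD.disjoint, hD.finrank_eq, hD.finrank_eq,
          Module.finrank_fin_fun, hD.dim]
        omega), Submodule.map_top]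
    rw [hrange, CfsgLib.LinearElements.finrank_sup_of_disjoint, hr]
    · exact ⟨_, rfl⟩
    · rw [← le_bot_iff, ← hD.disjoint]
      refine inf_le_inf ?_ ?_ <;> rintro _ ⟨w, hw, rfl⟩ <;> exact hTmem _ w hw
  · right
    have h0 : π 0 = 1 := by revert hfix; generalize π 0 = t; revert t; decide
    have h1 : π 1 = 0 := by
      by_contra h
      have : π 1 = 1 := by revert h; generalize π 1 = t; revert t; decide
      exact absurd (π.injective (h0.trans this.symm)) (by decide)
    have hm0 : ∀ v ∈ D 0, g v ∈ D 1 := fun v hv => h0 ▸ (hπ 0) ▸ Submodule.mem_map_of_mem hv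
    have hm1 : ∀ v ∈ D 1, g v ∈ D 0 := fun v hv => h1 ▸ (hπ 1) ▸ Submodule.mem_map_of_mem hv
    refine ⟨fun c => ?_, fun r hr z hz hh hpow => ?_⟩
    · rw [hrk]
      set T := g - c • 1 with hT
      have hinj : Function.Injective (T.domRestrict (D 0)) := by
        rw [← LinearMap.ker_eq_bot, Submodule.eq_bot_iff]
        rintro ⟨v, hv⟩ h
        have hgv : g v = c • v := sub_eq_zero.mp (LinearMap.mem_ker.mp h)
        have hmem : g v ∈ D 0 ⊓ D 1 := ⟨hgv ▸ (D 0).smul_mem c hv, hm0 v hv⟩
        rw [hD.disjoint, Submodule.mem_bot] at hmem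
        exact Subtype.ext (hginj v hmem)
      calc h = finrank F (D 0) := (hD.finrank_eq 0).symm
        _ = finrank F (LinearMap.range (T.domRestrict (D 0))) := (LinearMap.finrank_range_of_inj hinj).symm
        _ ≤ _ := Submodule.finrank_mono (LinearMap.range_comp_le_range _ _)
    · obtain ⟨v, hv, hv0⟩ := Submodule.exists_mem_ne_zero_of_ne_bot (fun e => by
        have := hD.finrank_eq 0; rw [e, finrank_bot] at this; omega : D 0 ≠ ⊥)
      have hall : ∀ m : ℕ, ∀ u ∈ D 0, (g ^ (2 * m + 1)) u ∈ D 1 := by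
        intro m
        induction m with
        | zero => intro u hu; simpa using hm0 u hu
        | succ m ih =>
          intro u hu
          rw [show 2 * (m + 1) + 1 = 2 + (2 * m + 1) by ring, pow_add, sq, Module.End.mul_apply, Module.End.mul_apply]
          exact hm0 _ (hm1 _ (ih u hu))
      obtain ⟨m, rfl⟩ := hr
      have h2 := hall m v hv
      have h3 : g ^ (2 * m + 1) = z • 1 := by
        show Matrix.toLinAlgEquiv' (y : Matrix (Fin n) (Fin n) F) ^ _ = _
        rw [← map_pow, hpow, map_smul, map_one]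
      rw [h3] at h2
      have h4 : z • v ∈ D 0 ⊓ D 1 := ⟨(D 0).smul_mem z hv, h2⟩
      rw [hD.disjoint, Submodule.mem_bot, smul_eq_zero] at h4
      exact h4.elim hz hv0

theorem rank_conj_sub (g x : GL (Fin n) F) (c : F) :
    (((g⁻¹ * x * g : GL (Fin n) F) : Matrix (Fin n) (Fin n) F) - c • 1).rank =
      ((x : Matrix (Fin n) (Fin n) F) - c • 1).rank := by
  have e : ((g⁻¹ * x * g : GL (Fin n) F) : Matrix (Fin n) (Fin n) F) - c • 1 =
      ((g⁻¹ : GL (Fin n) F) : Matrix (Fin n) (Fin n) F) * ((x : Matrix (Fin n) (Fin n) F) - c • 1) *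
        (g : Matrix (Fin n) (Fin n) F) := by
    rw [Matrix.mul_sub, Matrix.sub_mul, Matrix.mul_smul, Matrix.mul_one, Matrix.smul_mul, ← Units.val_mul,
      ← Units.val_mul, ← Units.val_mul, inv_mul_cancel, Units.val_one]
  rw [e, Matrix.rank_mul_eq_left_of_isUnit_det, Matrix.rank_mul_eq_right_of_isUnit_det]
  · exact (Matrix.isUnit_iff_isUnit_det _).mp (g⁻¹).isUnit
  · exact (Matrix.isUnit_iff_isUnit_det _).mp g.isUnit

/-- A pair of opposite combinations of orthonormal vectors. -/
theorem exists_pair_of_orthonormal (hc : IsConj q σ) (h2 : (2 : F) ≠ 0) (hn : n = 2 * h) {e : Fin h → Fin 2 → Fin n → F}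
    (he : ∀ i a j b, Cfsg.hermForm n F q (e i a) (e j b) = if i = j ∧ a = b then 1 else 0) {κ : F} (hκ : κ = 1 ∨ κ = -1)
    {c : Fin h → F} {x : GL (Fin n) F} (hx0 : ∀ i, (x : Matrix (Fin n) (Fin n) F) *ᵥ e i 0 = c i • e i 0)
    (hx1 : ∀ i, (x : Matrix (Fin n) (Fin n) F) *ᵥ e i 1 = (κ * c i) • e i 1) {ε : F} (hε : ε * σ ε = -1) :
    ∃ (D' : Fin 2 → Submodule F (Fin n → F)) (π : Equiv.Perm (Fin 2)), IsPair n h q D' ∧
      ∀ i, (D' i).map (Matrix.toLin' (x : Matrix (Fin n) (Fin n) F)) = D' (π i) := by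
  classical
  have hf := isReflexive_unitary (hc.unitary (n := n))
  have hε0 : ε ≠ 0 := fun e0 => by rw [e0, zero_mul] at hε; exact one_ne_zero (by linear_combination hε)
  let φ : F → (Fin h → F) →ₗ[F] (Fin n → F) := fun t => Fintype.linearCombination F fun i => e i 0 + t • e i 1
  have hφ : ∀ t r, φ t r = ∑ i, r i • (e i 0 + t • e i 1) := fun t r => Fintype.linearCombination_apply ..
  have hd0 : ∀ t r j, Cfsg.hermForm n F q (φ t r) (e j 0) = r j := fun t r j => by
    rw [hφ, hf.sesq.sum_left, Finset.sum_eq_single j]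
    · rw [hf.sesq.smul_left, hf.sesq.add_left, hf.sesq.smul_left, he, he]; simp
    · intro i _ hi; rw [hf.sesq.smul_left, hf.sesq.add_left, hf.sesq.smul_left, he, he]; simp [hi]
    · simp
  have hd1 : ∀ t r j, Cfsg.hermForm n F q (φ t r) (e j 1) = r j * t := fun t r j => by
    rw [hφ, hf.sesq.sum_left, Finset.sum_eq_single j]
    · rw [hf.sesq.smul_left, hf.sesq.add_left, hf.sesq.smul_left, he, he]; simp
    · intro i _ hi; rw [hf.sesq.smul_left, hf.sesq.add_left, hf.sesq.smul_left, he, he]; simp [hi]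
    · simp
  have hinj : ∀ t, Function.Injective (φ t) := fun t a b hab => funext fun j => by
    rw [← hd0 t a j, hab, hd0]
  let t : Fin 2 → F := ![ε, -ε]
  let D' : Fin 2 → Submodule F (Fin n → F) := fun i => LinearMap.range (φ (t i))
  have hfin : ∀ i, finrank F (D' i) = h := fun i => by
    show finrank F (LinearMap.range (φ (t i))) = h
    rw [LinearMap.finrank_range_of_inj (hinj _), Module.finrank_fin_fun]
  have hpair : IsPair n h q D' := by
    refine ⟨hn, hfin, ?_, fun i => ?_⟩
    · rw [Submodule.eq_bot_iff]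
      rintro _ ⟨⟨a, rfl⟩, ⟨b, hb⟩⟩
      have hab : a = b := funext fun j => by rw [← hd0 (t 0) a j, ← hb, hd0]
      subst hab
      have ha : a = 0 := funext fun j => by
        have h5 := congrArg (fun v => Cfsg.hermForm n F q v (e j 1)) hb
        simp only [hd1] at h5
        simp [t] at h5
        have h6 : a j * (2 * ε) = 0 := by linear_combination -h5
        exact (mul_eq_zero.mp h6).resolve_right (mul_ne_zero h2 hε0)
      rw [ha, map_zero]
    · rintro _ ⟨a, rfl⟩ _ ⟨b, rfl⟩
      rw [hφ (t i) b, hf.sesq.sum_right]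
      refine Finset.sum_eq_zero fun j _ => ?_
      rw [hf.sesq.smul_right, hf.sesq.add_right, hf.sesq.smul_right, hd0, hd1]
      have ht : t i * σ (t i) = -1 := by fin_cases i <;> simp [t, hε]
      linear_combination σ (b j) * a j * ht
  have hmap : ∀ s r, (x : Matrix (Fin n) (Fin n) F) *ᵥ φ s r = φ (κ * s) (fun i => c i * r i) := fun s r => by
    rw [hφ, hφ, Matrix.mulVec_sum]
    refine Finset.sum_congr rfl fun i _ => ?_
    rw [Matrix.mulVec_smul, Matrix.mulVec_add, Matrix.mulVec_smul, hx0, hx1]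
    module
  have hinjx : Function.Injective (Matrix.toLin' (x : Matrix (Fin n) (Fin n) F)) := fun a b hab => by
    have := congrArg (((x⁻¹ : GL (Fin n) F) : Matrix (Fin n) (Fin n) F) *ᵥ ·) hab
    simpa [Matrix.mulVec_mulVec] using this
  let π : Equiv.Perm (Fin 2) := if κ = 1 then 1 else Equiv.swap 0 1
  refine ⟨D', π, hpair, fun i => Submodule.eq_of_le_of_finrank_eq ?_ ?_⟩
  · rintro _ ⟨_, ⟨r, rfl⟩, rfl⟩
    refine ⟨fun j => c j * r j, ?_⟩
    rw [Matrix.toLin'_apply, hmap]
    have ht : t (π i) = κ * t i := by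
      have hne : (-1 : F) ≠ 1 := fun e0 => h2 (by linear_combination -e0)
      rcases hκ with rfl | rfl <;> fin_cases i <;> simp [π, t, hne]
    rw [ht]
  · rw [hfin, (Submodule.equivMapOfInjective _ hinjx _).finrank_eq.symm, hfin]

/-- Every involution with an even or middle eigenspace stabilises a pair. -/
theorem exists_stable_pair (hc : IsConj q σ) (h2 : (2 : F) ≠ 0) (hn : n = 2 * h) {x : GL (Fin n) F}
    (hx : x ∈ Cfsg.GU n F q) {μ : F} (hμ : μ ≠ 0)
    (hx2 : (x : Matrix (Fin n) (Fin n) F) ^ 2 = μ ^ 2 • (1 : Matrix (Fin n) (Fin n) F)) {ε : F} (hε : ε * σ ε = -1)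
    (hev : μ * σ μ = 1 → Even ((x : Matrix (Fin n) (Fin n) F) - μ • 1).rank) :
    ∃ (D' : Fin 2 → Submodule F (Fin n → F)) (π : Equiv.Perm (Fin 2)), IsPair n h q D' ∧
      ∀ i, (D' i).map (Matrix.toLin' (x : Matrix (Fin n) (Fin n) F)) = D' (π i) := by
  classical
  have hf := isReflexive_unitary (hc.unitary (n := n))
  have hnorm : μ * σ μ = 1 ∨ μ * σ μ = -1 ∨ n = 0 := by
    rcases Nat.eq_zero_or_pos n with h0 | h0
    · exact Or.inr (Or.inr h0)
    have hpow : x ^ 2 ∈ Cfsg.GU n F q := pow_mem hx 2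
    have hu := hc.mem_GU_iff.mp hpow
    have hm2 : mat (x ^ 2) = μ ^ 2 • (1 : Matrix (Fin n) (Fin n) F) := by
      show ((x ^ 2 : GL (Fin n) F) : Matrix (Fin n) (Fin n) F) = _
      rw [Units.val_pow_eq_pow_val, hx2]
    rw [hm2] at hu
    have := congrFun (congrFun hu ⟨0, h0⟩) ⟨0, h0⟩
    rw [Matrix.mul_apply, Finset.sum_eq_single ⟨0, h0⟩ (fun j _ hj => by simp [Matrix.one_apply, hj]) (by simp)] at this
    simp only [Matrix.transpose_apply, Matrix.smul_apply, Matrix.map_apply, Matrix.one_apply_eq, smul_eq_mul, mul_one,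
      map_pow] at this
    rw [← mul_pow] at this
    rcases sq_eq_one_iff.mp this with h | h
    · exact Or.inl h
    · exact Or.inr (Or.inl h)
  rcases hnorm with hμ1 | hμ1 | hn0
  rotate_left 2
  · subst hn0
    obtain rfl : h = 0 := by omega
    exact ⟨fun _ => ⊥, 1, ⟨by omega, fun i => finrank_bot _ _, by simp, fun i u hu v hv => by simp [Cfsg.hermForm]⟩,
      fun i => by simp⟩
  all_goals
    set g := Matrix.toLin' (x : Matrix (Fin n) (Fin n) F)
    let E : Fin 2 → Submodule F (Fin n → F) := fun i => LinearMap.ker (g - (![μ, -μ] i) • 1)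
    have hmemE : ∀ i v, v ∈ E i ↔ (x : Matrix (Fin n) (Fin n) F) *ᵥ v = (![μ, -μ] i) • v := fun i v => by
      simp only [E, LinearMap.mem_ker, LinearMap.sub_apply, LinearMap.smul_apply, Module.End.one_apply, sub_eq_zero]
      rfl
    have hE0 : E 0 ⊓ E 1 = ⊥ := by
      rw [Submodule.eq_bot_iff]
      rintro v ⟨ha, hb⟩
      have ha' := (hmemE 0 v).mp ha
      have hb' := (hmemE 1 v).mp hb
      simp at ha' hb'
      rw [ha'] at hb'
      have h5 : (2 * μ) • v = 0 := by rw [mul_smul, two_smul]; nth_rw 2 [hb']; exact add_neg_cancel _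
      exact (smul_eq_zero.mp h5).resolve_left (mul_ne_zero h2 hμ)
    have hxx : ∀ v, (x : Matrix (Fin n) (Fin n) F) *ᵥ ((x : Matrix (Fin n) (Fin n) F) *ᵥ v) = μ ^ 2 • v := fun v => by
      rw [Matrix.mulVec_mulVec, ← sq, hx2, Matrix.smul_mulVec, Matrix.one_mulVec]
    have hEtop : E 0 ⊔ E 1 = ⊤ := eq_top_iff.mpr fun v _ => by
      refine Submodule.mem_sup.mpr ⟨(2 * μ)⁻¹ • (μ • v + (x : Matrix (Fin n) (Fin n) F) *ᵥ v), ?_,
        (2 * μ)⁻¹ • (μ • v - (x : Matrix (Fin n) (Fin n) F) *ᵥ v), ?_, ?_⟩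
      · rw [hmemE, Matrix.mulVec_smul, Matrix.mulVec_add, Matrix.mulVec_smul, hxx]
        simp only [Matrix.cons_val_zero]
        module
      · rw [hmemE, Matrix.mulVec_smul, Matrix.mulVec_sub, Matrix.mulVec_smul, hxx]
        simp only [Matrix.cons_val_one, Matrix.cons_val_zero]
        module
      · rw [← smul_add, add_add_sub_cancel, ← add_smul, ← two_mul, smul_smul, inv_mul_cancel₀ (mul_ne_zero h2 hμ),
          one_smul]
    have hiso : ∀ i j, ∀ u ∈ E i, ∀ v ∈ E j,
        (![μ, -μ] i * σ (![μ, -μ] j) - 1) * Cfsg.hermForm n F q u v = 0 := fun i j u hu v hv => by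
      have h5 := CfsgLib.MaxSub.mem_GU_iff_forall.1 hx u v
      rw [show (x : Matrix (Fin n) (Fin n) F) *ᵥ u = _ from (hmemE i u).mp hu,
        show (x : Matrix (Fin n) (Fin n) F) *ᵥ v = _ from (hmemE j v).mp hv, hf.sesq.smul_left, hf.sesq.smul_right] at h5
      linear_combination h5
  · -- norm one: non-degenerate eigenspaces
    have horth : ∀ i j, i ≠ j → ∀ u ∈ E i, ∀ v ∈ E j, Cfsg.hermForm n F q u v = 0 := fun i j hij u hu v hv => by
      refine (mul_eq_zero.mp (hiso i j u hu v hv)).resolve_left fun e0 => h2 ?_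
      fin_cases i <;> fin_cases j <;> simp at hij e0 <;> linear_combination -e0 - hμ1
    have hσ' : (σ : F →+* F) ≠ RingHom.id F := fun e => hc.ne_refl (RingEquiv.ext fun a => RingHom.congr_fun e a)
    have hbasis : ∀ i, ∃ b : Basis (Fin (finrank F (E i))) F (E i), ∀ a b', Cfsg.hermForm n F q (b a : Fin n → F) (b b' : Fin n → F) =
        if a = b' then 1 else 0 := by
      intro i
      let B : (E i) →ₛₗ[(σ : F →+* F)] (E i) →ₗ[F] F := LinearMap.mk₂'ₛₗ (σ : F →+* F) (RingHom.id F)
        (fun u v => Cfsg.hermForm n F q (v : Fin n → F) (u : Fin n → F))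
        (fun u u' v => by simp [hf.sesq.add_right]) (fun a u v => by simp [hf.sesq.smul_right])
        (fun u v v' => by simp [hf.sesq.add_left]) (fun a u v => by simp [hf.sesq.smul_left])
      have hS : B.IsSymm := ⟨fun u v => by
        show σ (Cfsg.hermForm n F q (v : Fin n → F) (u : Fin n → F)) = Cfsg.hermForm n F q (u : Fin n → F) (v : Fin n → F)
        rw [hf.refl (v : Fin n → F) (u : Fin n → F), one_mul]⟩
      obtain ⟨b, hb⟩ := CfsgLib.Forms.exists_orthonormal_basis_hermitian hσ' hc.involutive B hS (fun u hu => by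
        refine Subtype.ext (hf.ext_left fun v => ?_)
        rw [Submodule.coe_zero, hf.zero_left]
        obtain ⟨a, ha, b, hb, rfl⟩ := Submodule.mem_sup.mp (hEtop ▸ Submodule.mem_top (x := v))
        rw [hf.sesq.add_right]
        fin_cases i
        · rw [hf.orth_comm (hu ⟨a, ha⟩), horth 0 1 (by decide) _ u.2 b hb, add_zero]
        · rw [horth 1 0 (by decide) _ u.2 a ha, hf.orth_comm (hu ⟨b, hb⟩), add_zero]) (n := finrank F (E i)) rfl
      exact ⟨b, fun a b' => (hb b' a).trans (if_congr eq_comm rfl rfl)⟩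
    set s0 := finrank F (E 0)
    set s1 := finrank F (E 1)
    obtain ⟨b0, hb0⟩ : ∃ b : Basis (Fin s0) F (E 0), ∀ a b', Cfsg.hermForm n F q (b a : Fin n → F) (b b' : Fin n → F) =
        if a = b' then 1 else 0 := hbasis 0
    obtain ⟨b1, hb1⟩ : ∃ b : Basis (Fin s1) F (E 1), ∀ a b', Cfsg.hermForm n F q (b a : Fin n → F) (b b' : Fin n → F) =
        if a = b' then 1 else 0 := hbasis 1
    have hsum : s0 + s1 = 2 * h := by
      rw [← CfsgLib.LinearElements.finrank_sup_of_disjoint hE0, hEtop, finrank_top, Module.finrank_fin_fun, hn]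
    have hrank : ((x : Matrix (Fin n) (Fin n) F) - μ • 1).rank + s0 = n := by
      have := LinearMap.finrank_range_add_finrank_ker (g - μ • 1)
      rw [Module.finrank_fin_fun] at this
      have e : Matrix.toLin' ((x : Matrix (Fin n) (Fin n) F) - μ • 1) = g - μ • 1 := by
        rw [map_sub, map_smul, Matrix.toLin'_one]; rfl
      show finrank F (LinearMap.range (Matrix.toLin' ((x : Matrix (Fin n) (Fin n) F) - μ • 1))) + _ = n
      exact (congrArg (fun f : Module.End F (Fin n → F) => finrank F (LinearMap.range f) + s0) e).trans this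
    have heven := hev hμ1
    obtain ⟨w, hw⟩ := heven
    obtain ⟨t0, ht0⟩ : ∃ t0, s0 = 2 * t0 := ⟨h - w, by omega⟩
    -- pair up the orthonormal vectors
    let v : Fin s0 ⊕ Fin s1 → Fin n → F := Sum.elim (fun i => (b0 i : Fin n → F)) (fun i => (b1 i : Fin n → F))
    let ev : Fin s0 ⊕ Fin s1 → F := Sum.elim (fun _ => μ) (fun _ => -μ)
    have hv : ∀ s s', Cfsg.hermForm n F q (v s) (v s') = if s = s' then 1 else 0 := by
      rintro (a | a) (b | b)
      · show Cfsg.hermForm n F q (b0 a : Fin n → F) (b0 b : Fin n → F) = _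
        refine (hb0 a b).trans ?_
        by_cases hab : a = b
        · subst hab; simp
        · rw [if_neg hab, if_neg (fun e0 => hab (Sum.inl_injective e0))]
      · rw [if_neg (by simp)]; exact horth 0 1 (by decide) _ (b0 a).2 _ (b1 b).2
      · rw [if_neg (by simp)]; exact horth 1 0 (by decide) _ (b1 a).2 _ (b0 b).2
      · show Cfsg.hermForm n F q (b1 a : Fin n → F) (b1 b : Fin n → F) = _
        refine (hb1 a b).trans ?_
        by_cases hab : a = b
        · subst hab; simp
        · rw [if_neg hab, if_neg (fun e0 => hab (Sum.inr_injective e0))]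
    have hxv : ∀ s, (x : Matrix (Fin n) (Fin n) F) *ᵥ v s = ev s • v s := by
      rintro (a | a)
      · simpa [v, ev] using (hmemE 0 _).mp (b0 a).2
      · simpa [v, ev] using (hmemE 1 _).mp (b1 a).2
    let p : Fin h → Fin 2 → Fin s0 ⊕ Fin s1 := fun i a =>
      if hi : (i : ℕ) < t0 then .inl ⟨2 * (i : ℕ) + (a : ℕ), by have := a.2; omega⟩
      else .inr ⟨2 * ((i : ℕ) - t0) + (a : ℕ), by have := a.2; have := i.2; omega⟩
    have hp : ∀ i a j b, p i a = p j b ↔ (i = j ∧ a = b) := fun i a j b => by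
      constructor
      · intro he
        simp only [p] at he
        split_ifs at he with h1 h3 h3 <;> simp [Fin.ext_iff] at he <;>
          exact ⟨Fin.ext (by have := a.2; have := b.2; omega), Fin.ext (by have := a.2; have := b.2; omega)⟩
      · rintro ⟨rfl, rfl⟩; rfl
    refine exists_pair_of_orthonormal hc h2 hn (e := fun i a => v (p i a))
      (fun i a j b => (hv _ _).trans (if_congr (hp i a j b) rfl rfl)) (Or.inl rfl) (c := fun i => ev (p i 0))
      (fun i => hxv _) (fun i => ?_) hε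
    rw [hxv, one_mul]
    congr 1
    simp only [p, ev]
    split <;> rfl
  · -- norm minus one: totally singular eigenspaces
    have hEs : ∀ i, Cfsg.Geo.IsTotallySingularFor (Cfsg.hermForm n F q) (E i) := fun i u hu v hv => by
      refine (mul_eq_zero.mp (hiso i i u hu v hv)).resolve_left fun e0 => h2 ?_
      fin_cases i <;> simp at e0 <;> linear_combination -e0 + hμ1
    have hle : ∀ i, 2 * finrank F (E i) ≤ n := fun i => by
      have h5 := Submodule.finrank_mono (hf.le_perp_iff.mpr (hEs i))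
      have h6 := hf.finrank_perp (E i)
      rw [Fintype.card_fin] at h6
      omega
    have hsum : finrank F (E 0) + finrank F (E 1) = n := by
      rw [← CfsgLib.LinearElements.finrank_sup_of_disjoint hE0, hEtop, finrank_top, Module.finrank_fin_fun]
    have hinjx : Function.Injective g := fun a b hab => by
      have := congrArg (((x⁻¹ : GL (Fin n) F) : Matrix (Fin n) (Fin n) F) *ᵥ ·) hab
      simpa [g, Matrix.mulVec_mulVec] using this
    have hfin : ∀ i, finrank F (E i) = h := by
      have := hle 0; have := hle 1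
      rw [Fin.forall_fin_two]
      omega
    refine ⟨E, 1, ⟨hn, hfin, hE0, hEs⟩, fun i => Submodule.eq_of_le_of_finrank_eq ?_
      (Submodule.equivMapOfInjective _ hinjx _).finrank_eq.symm⟩
    rintro _ ⟨v, hv, rfl⟩
    show g v ∈ E i
    rw [show g v = _ from (hmemE i v).mp hv]
    exact (E i).smul_mem _ hv

theorem prod_u_split {q : ℕ} (hq : 1 < q) : ∀ h : ℕ, ∏ i ∈ Finset.range (2 * h), CfsgLib.Forms.u q (i + 1) =
    (∏ i ∈ Finset.range h, ((q ^ 2) ^ (i + 1) - 1)) * ∏ i ∈ Finset.range h, (q ^ (2 * i + 1) + 1) := by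
  intro h
  induction h with
  | zero => simp
  | succ m ih =>
    rw [show 2 * (m + 1) = 2 * m + 1 + 1 by ring, Finset.prod_range_succ, Finset.prod_range_succ,
      Finset.prod_range_succ _ m, Finset.prod_range_succ _ m, ih,
      show CfsgLib.Forms.u q (2 * m + 1) = q ^ (2 * m + 1) + 1 by simp [CfsgLib.Forms.u, parity_simps],
      show CfsgLib.Forms.u q (2 * m + 1 + 1) = (q ^ 2) ^ (m + 1) - 1 by
        simp [CfsgLib.Forms.u, parity_simps, ← pow_mul, mul_add]]
    ring

/-- The primes dividing the index of the stabiliser. -/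
theorem prime_dvd_index (hc : IsConj q σ) (hF : Fintype.card F = q ^ 2) (hh : 0 < h)
    {D : Fin 2 → Submodule F (Fin n → F)} (hD : IsPair n h q D) {r : ℕ} (hr : r.Prime) (hrq : ¬ r ∣ q)
    (hr1 : ¬ r ∣ q + 1)
    (hΩ : r ∣ (Cfsg.Geo.decompositionStabilizer D).relIndex (Cfsg.GU n F q ⊓ Cfsg.Geo.specialLinear (Fin n) F)) :
    ∃ j, Odd j ∧ j ≤ n ∧ r ∣ q ^ j + 1 := by
  classical
  obtain ⟨ψ, hinj, hψ⟩ := exists_blockHom hc n hD
  set S := Cfsg.GU n F q ⊓ Cfsg.Geo.specialLinear (Fin n) F
  set K := (Cfsg.Geo.decompositionStabilizer D).subgroupOf S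
  let φ : GL (Fin h) F →* Fˣ := (Matrix.GeneralLinearGroup.det : GL (Fin n) F →* Fˣ).comp ψ
  have hq0 : 1 < q := hc.one_lt
  have hrange : Nat.card φ.range ∣ q + 1 := by
    haveI : NeZero (q + 1) := ⟨by omega⟩
    rw [← IsCyclic.exponent_eq_card]
    refine Monoid.exponent_dvd_of_forall_pow_eq_one fun ⟨a, A, ha⟩ => Subtype.ext (Units.ext ?_)
    subst ha
    show (((φ A) ^ (q + 1) : Fˣ) : F) = 1
    rw [Units.val_pow_eq_pow_val, show ((φ A : Fˣ) : F) = _ from (hψ A).2.2, pow_succ, ← hc.eq_pow,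
      map_mul, map_inv₀, hc.involutive]
    have h0 : (A : Matrix (Fin h) (Fin h) F).det ≠ 0 := ((Matrix.isUnit_iff_isUnit_det _).mp A.isUnit).ne_zero
    have hσ0 : σ (A : Matrix (Fin h) (Fin h) F).det ≠ 0 := fun e => h0 (σ.injective (by rw [e, map_zero]))
    field_simp
  let χ : φ.ker →* K :=
    { toFun := fun A => ⟨⟨ψ A.1, (hψ A.1).1, MonoidHom.mem_ker.mpr A.2⟩,
        Subgroup.mem_subgroupOf.mpr ⟨1, fun i => (hψ A.1).2.1 i⟩⟩
      map_one' := Subtype.ext (Subtype.ext (map_one ψ))
      map_mul' := fun _ _ => Subtype.ext (Subtype.ext (map_mul ψ _ _)) }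
  have hK : Nat.card (GL (Fin h) F) ∣ (q + 1) * Nat.card K := by
    rw [← Subgroup.index_mul_card φ.ker, Subgroup.index_ker]
    exact mul_dvd_mul hrange (Subgroup.card_dvd_of_injective χ fun A B e =>
      Subtype.ext (hinj (congrArg (fun z => z.1.1) e)))
  have hS : (Cfsg.Geo.decompositionStabilizer D).relIndex S * Nat.card K ∣ Nat.card (Cfsg.GU n F q) := by
    rw [show (Cfsg.Geo.decompositionStabilizer D).relIndex S = K.index from rfl, Subgroup.index_mul_card]
    exact Subgroup.card_dvd_of_le inf_le_left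
  obtain ⟨a, ha⟩ := hK
  obtain ⟨b, hb⟩ := hS
  obtain ⟨w, hw⟩ := hΩ
  rw [CfsgLib.Forms.card_GU hF, hw] at hb
  rw [Matrix.card_GL_field, CfsgLib.Linear.prod_pow_sub_pow, hF] at ha
  obtain rfl := hD.dim
  set X := ∑ i ∈ Finset.range (2 * h), i
  set Y := h * (h - 1) / 2
  have hsplit := prod_u_split hq0 h
  rw [hsplit] at hb
  set P := ∏ i ∈ Finset.range h, ((q ^ 2) ^ (i + 1) - 1)
  set R := ∏ i ∈ Finset.range h, (q ^ (2 * i + 1) + 1)
  have hP : 0 < P := Finset.prod_pos fun i _ => by
    have : 1 < (q ^ 2) ^ (i + 1) := Nat.one_lt_pow (Nat.succ_ne_zero i) (Nat.one_lt_pow two_ne_zero hq0)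
    omega
  have key : r * w * b * ((q ^ 2) ^ Y * a) = (q + 1) * q ^ X * R := by
    refine Nat.eq_of_mul_eq_mul_right hP ?_
    calc r * w * b * ((q ^ 2) ^ Y * a) * P = r * w * b * ((q ^ 2) ^ Y * P * a) := by ring
      _ = r * w * b * ((q + 1) * Nat.card K) := by rw [ha]
      _ = (q + 1) * (r * w * Nat.card K * b) := by ring
      _ = (q + 1) * (q ^ X * (P * R)) := by rw [← hb]
      _ = _ := by ring
  have hd : r ∣ (q + 1) * q ^ X * R := ⟨w * b * ((q ^ 2) ^ Y * a), by rw [← key]; ring⟩
  rcases hr.prime.dvd_mul.mp hd with h1 | h1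
  · rcases hr.prime.dvd_mul.mp h1 with h2 | h2
    · exact absurd h2 hr1
    · exact absurd (hr.dvd_of_dvd_pow h2) hrq
  · obtain ⟨i, hi, hid⟩ := hr.prime.exists_mem_finset_dvd h1
    rw [Finset.mem_range] at hi
    exact ⟨2 * i + 1, odd_two_mul_add_one i, by omega, hid⟩

end CfsgLib.UnitaryPairs
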