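import Cfsg.Agent.FormDiscr.Basic
import Cfsg.Agent.Forms.Diagonal

/-! Matrices scaling a non-degenerate twisted form, `xᵀ M σ(x) = τ M`: constraints on the eigenvalues, transport
into a fixed similarity group by determinant one matrices, and congruence of symmetric and hermitian matrices. -/

set_option autoImplicit false

namespace CfsgLib.Twist

open Matrix

variable {F : Type*} [Field F] {ι : Type*} [Fintype ι] [DecidableEq ι] {σ : F →+* F}

/-- `x` scales the twisted form with Gram matrix `G`. -/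
def Scales (σ : F →+* F) (G x : Matrix ι ι F) : Prop := ∃ τ : F, τ ≠ 0 ∧ xᵀ * G * x.map σ = τ • G

theorem congr_mul (G : Matrix ι ι F) (A B : Matrix ι ι F) :
    (A * B)ᵀ * G * (A * B).map σ = Bᵀ * (Aᵀ * G * A.map σ) * B.map σ := by
  rw [Matrix.transpose_mul, Matrix.map_mul]
  simp only [mul_assoc]

theorem det_congr_eq (G : Matrix ι ι F) (A : Matrix ι ι F) :
    (Aᵀ * G * A.map σ).det = A.det * σ A.det * G.det := by
  rw [det_mul, det_mul, det_transpose, RingHom.map_det, RingHom.mapMatrix_apply]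
  ring

theorem det_map_ne_zero {A : Matrix ι ι F} (h : A.det ≠ 0) : (A.map σ).det ≠ 0 := by
  rw [← RingHom.mapMatrix_apply, ← RingHom.map_det]
  exact fun e => h (σ.injective (by rw [e, map_zero]))

/-- A conjugate scaling `G` gives a form scaled by the matrix itself. -/
theorem exists_form_of_conj {G : Matrix ι ι F} (hG : G.det ≠ 0) {x P : GL ι F}
    (h : Scales σ G ((P⁻¹ * x * P : GL ι F) : Matrix ι ι F)) :
    ∃ (M : Matrix ι ι F) (τ : F), M.det ≠ 0 ∧ τ ≠ 0 ∧
      (x : Matrix ι ι F)ᵀ * M * (x : Matrix ι ι F).map σ = τ • M ∧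
      (Gᵀ = G.map σ → (∀ a, σ (σ a) = a) → Mᵀ = M.map σ) := by
  obtain ⟨τ, hτ, hy⟩ := h
  set A : Matrix ι ι F := ((P⁻¹ : GL ι F) : Matrix ι ι F)
  refine ⟨Aᵀ * G * A.map σ, τ, ?_, hτ, ?_, fun hGs hσ => ?_⟩
  · have hA : A.det ≠ 0 := (Matrix.isUnit_iff_isUnit_det A).mp (P⁻¹).isUnit |>.ne_zero
    rw [det_congr_eq]
    exact mul_ne_zero (mul_ne_zero hA fun e => hA (σ.injective (by rw [e, map_zero]))) hG
  · rw [← congr_mul, show A * (x : Matrix ι ι F) = ((P⁻¹ * x * P : GL ι F) : Matrix ι ι F) * A by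
      rw [← Units.val_mul, ← Units.val_mul]; congr 1; simp [mul_assoc],
      congr_mul, hy, Matrix.mul_smul, Matrix.smul_mul]
  · rw [Matrix.transpose_mul, Matrix.transpose_mul, Matrix.transpose_transpose, hGs, Matrix.map_mul, Matrix.map_mul]
    rw [show (A.map σ).map σ = A from Matrix.ext fun i j => hσ _, ← Matrix.transpose_map, mul_assoc]

theorem scaled_pow {M x : Matrix ι ι F} {τ : F} (h : xᵀ * M * x.map σ = τ • M) :
    ∀ k : ℕ, (x ^ k)ᵀ * M * (x ^ k).map σ = τ ^ k • M := by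
  intro k
  induction k with
  | zero => simp [Matrix.map_one σ (map_zero σ) (map_one σ)]
  | succ k ih => rw [pow_succ', congr_mul, h, Matrix.mul_smul, Matrix.smul_mul, ih, smul_smul, pow_succ']

theorem multiplier_pow [Nonempty ι] {M x : Matrix ι ι F} {τ : F} (hM : M.det ≠ 0) (h : xᵀ * M * x.map σ = τ • M)
    {r : ℕ} {z : F} (hr : x ^ r = z • (1 : Matrix ι ι F)) : τ ^ r = z * σ z := by
  have h1 := scaled_pow h r
  have h2 : (z • (1 : Matrix ι ι F)).map σ = σ z • (1 : Matrix ι ι F) := by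
    ext i j; by_cases hij : i = j <;> simp [hij]
  rw [hr, h2, Matrix.transpose_smul, Matrix.transpose_one, Matrix.smul_mul, Matrix.one_mul, Matrix.mul_smul,
    Matrix.mul_one, smul_smul, mul_comm (σ z)] at h1
  have hM0 : M ≠ 0 := fun e => hM (by rw [e, Matrix.det_zero])
  exact ((smul_left_injective F hM0) h1).symm

/-- The characteristic polynomial of a scaling matrix. -/
theorem charpoly_eq_of_scaled {M x y : Matrix ι ι F} {τ : F} (hM : M.det ≠ 0) (hy : y.det ≠ 0)
    (h : xᵀ * M * y = τ • M) : x.charpoly = (τ • y⁻¹).charpoly := by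
  have hMu : IsUnit M.det := isUnit_iff_ne_zero.mpr hM
  have hyu : IsUnit y.det := isUnit_iff_ne_zero.mpr hy
  have e : xᵀ = M * (τ • y⁻¹) * M⁻¹ := by
    have h1 : xᵀ * M * y * y⁻¹ = τ • M * y⁻¹ := by rw [h]
    rw [mul_assoc _ y, Matrix.mul_nonsing_inv _ hyu, mul_one] at h1
    rw [Matrix.mul_smul, ← Matrix.smul_mul τ M, ← h1, mul_assoc, Matrix.mul_nonsing_inv _ hMu, mul_one]
  rw [← Matrix.charpoly_transpose, e]
  exact Matrix.charpoly_units_conj (Matrix.nonsingInvUnit M hMu) _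

/-- The eigenvalues of a diagonal scaling matrix are symmetrical with multiplicity. -/
theorem fiber_card_eq [DecidableEq F] {l : ι → F} (hl : ∀ i, l i ≠ 0) {M : Matrix ι ι F} (hM : M.det ≠ 0) {τ : F}
    (h : (Matrix.diagonal l)ᵀ * M * (Matrix.diagonal l).map σ = τ • M) (a : F) :
    (Finset.univ.filter fun i => l i = a).card = (Finset.univ.filter fun i => τ * (σ (l i))⁻¹ = a).card := by
  have hd : (Matrix.diagonal l).map σ = Matrix.diagonal (fun i => σ (l i)) :=
    Matrix.diagonal_map (map_zero σ)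
  have hdet : (Matrix.diagonal fun i => σ (l i)).det ≠ 0 := by
    rw [Matrix.det_diagonal, Finset.prod_ne_zero_iff]
    exact fun i _ e => hl i (σ.injective (by rw [e, map_zero]))
  rw [hd] at h
  have hinv : (Matrix.diagonal fun i => σ (l i))⁻¹ = Matrix.diagonal fun i => (σ (l i))⁻¹ := by
    refine Matrix.inv_eq_right_inv ?_
    rw [Matrix.diagonal_mul_diagonal, ← Matrix.diagonal_one]
    congr 1
    funext i
    exact mul_inv_cancel₀ fun e => hl i (σ.injective (by rw [e, map_zero]))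
  have e := congrArg Polynomial.roots (charpoly_eq_of_scaled hM hdet h)
  have hroots : ∀ f : ι → F, (∏ i, (Polynomial.X - Polynomial.C (f i))).roots = Finset.univ.val.map f := fun f => by
    rw [Finset.prod_eq_multiset_prod, ← Polynomial.roots_multiset_prod_X_sub_C (Finset.univ.val.map f), Multiset.map_map]
    rfl
  rw [hinv, ← Matrix.diagonal_smul, Matrix.charpoly_diagonal, Matrix.charpoly_diagonal, hroots, hroots] at e
  have e' := congrArg (Multiset.count a) e
  rw [Multiset.count_map, Multiset.count_map] at e'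
  simp only [Pi.smul_apply, smul_eq_mul, eq_comm (a := a)] at e'
  exact e'

/-- Roots of the characteristic polynomial of a scaling matrix in an extension field. -/
theorem root_closed {L : Type*} [Field L] (φ : F →+* L) (σ' : L →+* L) (hσ : ∀ a, σ' (φ a) = φ (σ a))
    {M x : Matrix ι ι F} {τ : F} (hM : M.det ≠ 0) (h : xᵀ * M * x.map σ = τ • M) {lam : L} (hlam0 : lam ≠ 0)
    (hlam : (x.charpoly.map φ).IsRoot lam) : (x.charpoly.map φ).IsRoot (φ τ * (σ' lam)⁻¹) := by
  rw [← Matrix.charpoly_map, Polynomial.IsRoot, Matrix.eval_charpoly] at hlam ⊢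
  obtain ⟨v, hv0, hv⟩ := Matrix.exists_mulVec_eq_zero_iff.mpr hlam
  rw [Matrix.sub_mulVec, sub_eq_zero, Matrix.scalar_apply, ← Matrix.smul_one_eq_diagonal, Matrix.smul_mulVec,
    Matrix.one_mulVec] at hv
  rw [← Matrix.det_transpose]
  refine Matrix.exists_mulVec_eq_zero_iff.mp ⟨M.map φ *ᵥ (σ' ∘ v), ?_, ?_⟩
  · intro e
    have hMφ : (M.map φ).det ≠ 0 := by
      rw [← RingHom.mapMatrix_apply, ← RingHom.map_det]
      exact fun e => hM (φ.injective (by rw [e, map_zero]))
    have h0 : σ' ∘ v = 0 := by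
      by_contra h0
      exact hMφ (Matrix.exists_mulVec_eq_zero_iff.mp ⟨_, h0, e⟩)
    exact hv0 (funext fun i => σ'.injective (by simpa using congrFun h0 i))
  · have hw : (x.map σ).map φ *ᵥ (σ' ∘ v) = σ' lam • (σ' ∘ v) := by
      funext i
      have h1 := congrArg σ' (congrFun hv i)
      simp only [Pi.smul_apply, smul_eq_mul, map_mul, Function.comp_apply] at h1 ⊢
      rw [h1, RingHom.map_mulVec]
      congr 2
      funext a b
      simp [hσ]
    have h2 := congrArg (fun A : Matrix ι ι F => A.map φ *ᵥ (σ' ∘ v)) h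
    simp only [Matrix.map_mul, ← Matrix.mulVec_mulVec, hw, Matrix.mulVec_smul, Matrix.transpose_map] at h2
    rw [show ((τ • M).map φ) = φ τ • M.map φ from Matrix.ext fun i j => by simp, Matrix.smul_mulVec] at h2
    have hs : σ' lam ≠ 0 := fun e => hlam0 (σ'.injective (by rw [e, map_zero]))
    rw [Matrix.transpose_sub, Matrix.sub_mulVec, sub_eq_zero, Matrix.scalar_apply, Matrix.diagonal_transpose,
      ← Matrix.smul_one_eq_diagonal, Matrix.smul_mulVec, Matrix.one_mulVec, mul_comm, ← smul_smul, ← h2, smul_smul,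
      inv_mul_cancel₀ hs, one_smul]

/-- A change of frame. -/
theorem exists_frame {κ : Type*} [Fintype κ] [DecidableEq κ] {n : ℕ} (x : Matrix (Fin n) (Fin n) F)
    (B : Module.Basis κ F (Fin n → F)) (D : Matrix κ κ F)
    (hD : ∀ j, x *ᵥ B j = ∑ i, D i j • B i) :
    ∃ (h : Matrix (Fin n) κ F) (h' : Matrix κ (Fin n) F), h * h' = 1 ∧ h' * h = 1 ∧ x * h = h * D := by
  refine ⟨(Pi.basisFun F (Fin n)).toMatrix B, B.toMatrix (Pi.basisFun F (Fin n)), ?_, ?_, ?_⟩
  · rw [Module.Basis.toMatrix_mul_toMatrix_flip]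
  · rw [Module.Basis.toMatrix_mul_toMatrix_flip]
  · ext i j
    have := congrFun (hD j) i
    simp only [Finset.sum_apply, Pi.smul_apply, smul_eq_mul, Matrix.mulVec, dotProduct] at this
    simp only [Matrix.mul_apply, Module.Basis.toMatrix_apply, Pi.basisFun_repr]
    rw [this]
    exact Finset.sum_congr rfl fun k _ => mul_comm _ _

/-- The Gram determinant in a new frame. -/
theorem det_congr_rect {κ : Type*} [Fintype κ] [DecidableEq κ] (h' : Matrix κ ι F) (h : Matrix ι κ F)
    (hh' : h * h' = 1) (h'h : h' * h = 1) (M : Matrix κ κ F) :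
    ∃ u : F, u ≠ 0 ∧ (h'ᵀ * M * h'.map σ).det = u * σ u * M.det := by
  classical
  obtain ⟨e⟩ : Nonempty (κ ≃ ι) := by
    refine ⟨Fintype.equivOfCardEq ?_⟩
    have := (Matrix.toLin'OfInv h'h hh').finrank_eq
    simpa using this
  set A : Matrix ι ι F := h'.submatrix e.symm id with hA
  have e1 : h'ᵀ * M * h'.map σ = Aᵀ * M.submatrix e.symm e.symm * A.map σ := by
    rw [hA, Matrix.transpose_submatrix, Matrix.submatrix_mul_equiv, ← Matrix.submatrix_map,
      Matrix.submatrix_mul_equiv, Matrix.submatrix_id_id]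
  refine ⟨A.det, fun e0 => ?_, by rw [e1, det_congr_eq, Matrix.det_submatrix_equiv_self]⟩
  have h2 : h.submatrix id e.symm * A = 1 := by
    rw [hA, Matrix.submatrix_mul_equiv, Matrix.submatrix_id_id, hh']
  have := congrArg Matrix.det h2
  rw [Matrix.det_mul, e0, mul_zero, Matrix.det_one] at this
  exact zero_ne_one this

/-- Transport into the scaling group of `G` by a matrix of determinant one. -/
theorem exists_conj_scales {κ : Type*} [Fintype κ] [DecidableEq κ] {G : Matrix ι ι F} (x : GL ι F)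
    (h : Matrix ι κ F) (h' : Matrix κ ι F) (hh' : h * h' = 1) (h'h : h' * h = 1) (D M : Matrix κ κ F)
    (hx : (x : Matrix ι ι F) * h = h * D) {τ : F} (hτ : τ ≠ 0) (hD : Dᵀ * M * D.map σ = τ • M)
    (hM : M.det ≠ 0) {g : Matrix ι ι F} (hg : gᵀ * G * g.map σ = h'ᵀ * M * h'.map σ)
    (hC : ∀ δ : F, δ ≠ 0 → ∃ C : Matrix κ κ F, C * D = D * C ∧ C.det = δ) :
    ∃ P : GL ι F, Matrix.GeneralLinearGroup.det P = 1 ∧
      Scales σ G ((P⁻¹ * x * P : GL ι F) : Matrix ι ι F) := by
  classical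
  obtain ⟨u, hu, hdet⟩ := det_congr_rect (σ := σ) h' h hh' h'h M
  have hg0 : g.det ≠ 0 := fun e => by
    rw [← hg, det_congr_eq, e, zero_mul, zero_mul] at hdet
    exact mul_ne_zero (mul_ne_zero hu fun e => hu (σ.injective (by rw [e, map_zero]))) hM hdet.symm
  let g₀ : GL ι F := Matrix.GeneralLinearGroup.mkOfDetNeZero g hg0
  have hg₀ : (g₀ : Matrix ι ι F) = g := rfl
  obtain ⟨C, hCD, hCdet⟩ := hC g.det hg0
  have hCx : (h * C * h').det = g.det := by rw [Matrix.det_conj_of_mul_eq_one hh' h'h, hCdet]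
  let C₀ : GL ι F := Matrix.GeneralLinearGroup.mkOfDetNeZero (h * C * h') (by rw [hCx]; exact hg0)
  have hxd : (x : Matrix ι ι F) = h * D * h' := by rw [← hx, Matrix.mul_assoc, hh', Matrix.mul_one]
  have hcomm : C₀ * x = x * C₀ := Units.ext (by
    show h * C * h' * (x : Matrix ι ι F) = (x : Matrix ι ι F) * (h * C * h')
    rw [hxd]
    simp only [Matrix.mul_assoc]
    rw [← Matrix.mul_assoc h' h, h'h, Matrix.one_mul, ← Matrix.mul_assoc h' h (C * h'), h'h, Matrix.one_mul,
      ← Matrix.mul_assoc C, hCD, Matrix.mul_assoc])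
  refine ⟨C₀ * g₀⁻¹, ?_, ?_⟩
  · refine Units.ext ?_
    rw [map_mul, map_inv, Units.val_mul, Units.val_inv_eq_inv_val, Units.val_one]
    show (h * C * h').det * g.det⁻¹ = 1
    rw [hCx, mul_inv_cancel₀ hg0]
  · have ey : (C₀ * g₀⁻¹)⁻¹ * x * (C₀ * g₀⁻¹) = g₀ * x * g₀⁻¹ := by
      have : C₀⁻¹ * x * C₀ = x := by rw [mul_assoc, ← hcomm, inv_mul_cancel_left]
      calc (C₀ * g₀⁻¹)⁻¹ * x * (C₀ * g₀⁻¹) = g₀ * (C₀⁻¹ * x * C₀) * g₀⁻¹ := by group
        _ = _ := by rw [this]
    rw [ey]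
    refine ⟨τ, hτ, ?_⟩
    set gi : Matrix ι ι F := ((g₀⁻¹ : GL ι F) : Matrix ι ι F) with hgi
    have hgg : g * gi = 1 := by rw [hgi, ← hg₀, ← Units.val_mul, mul_inv_cancel, Units.val_one]
    have hMx : (x : Matrix ι ι F)ᵀ * (h'ᵀ * M * h'.map σ) * (x : Matrix ι ι F).map σ =
        τ • (h'ᵀ * M * h'.map σ) := by
      have hxh : h' * (x : Matrix ι ι F) = D * h' := by
        rw [hxd, ← Matrix.mul_assoc, ← Matrix.mul_assoc, h'h, Matrix.one_mul]
      calc (x : Matrix ι ι F)ᵀ * (h'ᵀ * M * h'.map σ) * (x : Matrix ι ι F).map σ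
          = (h' * (x : Matrix ι ι F))ᵀ * M * (h' * (x : Matrix ι ι F)).map σ := by
            rw [Matrix.transpose_mul, Matrix.map_mul]; simp only [Matrix.mul_assoc]
        _ = h'ᵀ * (Dᵀ * M * D.map σ) * h'.map σ := by
            rw [hxh, Matrix.transpose_mul, Matrix.map_mul]; simp only [Matrix.mul_assoc]
        _ = _ := by rw [hD, Matrix.mul_smul, Matrix.smul_mul]
    rw [Units.val_mul, Units.val_mul, hg₀, congr_mul, congr_mul, hg, hMx, Matrix.mul_smul, Matrix.smul_mul, ← hg,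
      ← congr_mul, hgg, Matrix.transpose_one, Matrix.map_one σ (map_zero σ) (map_one σ), one_mul, mul_one]

/-- Symmetric matrices over a finite field of odd order with determinants in one square class are congruent. -/
theorem exists_congr_symm [Fintype F] (h2 : (2 : F) ≠ 0) {n : ℕ} {G M : Matrix (Fin n) (Fin n) F} (hG : Gᵀ = G)
    (hM : Mᵀ = M) (hG0 : G.det ≠ 0) (hM0 : M.det ≠ 0) (hsq : IsSquare (G.det * M.det)) :
    ∃ g : Matrix (Fin n) (Fin n) F, gᵀ * G * g.map (RingHom.id F) = M := by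
  classical
  let q : Matrix (Fin n) (Fin n) F → QuadraticForm F (Fin n → F) :=
    fun A => LinearMap.BilinMap.toQuadraticMap (Matrix.toLinearMap₂' F A)
  have hpol : ∀ A : Matrix (Fin n) (Fin n) F, Aᵀ = A →
      (q A).polarBilin = (2 : F) • Matrix.toLinearMap₂' F A := fun A hA => by
    refine LinearMap.ext₂ fun u v => ?_
    show QuadraticMap.polar _ u v = _
    rw [LinearMap.BilinMap.polar_toQuadraticMap]
    have e : Matrix.toLinearMap₂' F A v u = Matrix.toLinearMap₂' F A u v := by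
      rw [Matrix.toLinearMap₂'_apply', Matrix.toLinearMap₂'_apply', dotProduct_mulVec, ← Matrix.mulVec_transpose, hA,
        dotProduct_comm]
    rw [e, LinearMap.smul_apply, LinearMap.smul_apply, smul_eq_mul]
    ring
  have hgram : ∀ A : Matrix (Fin n) (Fin n) F, Aᵀ = A → FormDiscr.gram (q A) = (2 : F) • A := fun A hA => by
    rw [FormDiscr.gram_eq, hpol A hA, map_smul, LinearMap.toMatrix'_toLinearMap₂']
  have hnd : ∀ A : Matrix (Fin n) (Fin n) F, Aᵀ = A → A.det ≠ 0 → (q A).polarBilin.Nondegenerate := fun A hA h0 => by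
    rw [hpol A hA, ← map_smul, Matrix.nondegenerate_toLinearMap₂'_iff, Matrix.nondegenerate_iff_det_ne_zero,
      Matrix.det_smul]
    exact mul_ne_zero (pow_ne_zero _ h2) h0
  obtain ⟨g, hg⟩ := (FormDiscr.equivalent_iff h2 (q M) (q G) (hnd M hM hM0) (hnd G hG hG0)).mpr (by
    rw [hgram M hM, hgram G hG, Matrix.det_smul, Matrix.det_smul]
    obtain ⟨s, hs⟩ := hsq
    exact ⟨(2 : F) ^ Fintype.card (Fin n) * s, by linear_combination ((2 : F) ^ Fintype.card (Fin n)) ^ 2 * hs⟩)
  refine ⟨LinearMap.toMatrix' (g : (Fin n → F) →ₗ[F] (Fin n → F)), ?_⟩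
  have hb : (q G).polarBilin.compl₁₂ (g : (Fin n → F) →ₗ[F] (Fin n → F)) (g : (Fin n → F) →ₗ[F] (Fin n → F)) =
      (q M).polarBilin := by
    refine LinearMap.ext₂ fun u v => ?_
    simp [QuadraticMap.polar, ← map_add, hg]
  rw [hpol G hG, hpol M hM] at hb
  have hb' := congrArg (LinearMap.toMatrix₂' F) hb
  rw [LinearMap.toMatrix₂'_compl₁₂, map_smul, map_smul, LinearMap.toMatrix'_toLinearMap₂',
    LinearMap.toMatrix'_toLinearMap₂', Matrix.mul_smul, Matrix.smul_mul] at hb'
  simpa using smul_right_injective (Matrix (Fin n) (Fin n) F) h2 hb'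

/-- A hermitian matrix is congruent to the identity. -/
theorem exists_congr_one [Finite F] (hne : σ ≠ RingHom.id F) (hσ : ∀ a, σ (σ a) = a) {n : ℕ}
    {G : Matrix (Fin n) (Fin n) F} (hG : Gᵀ = G.map σ) (hG0 : G.det ≠ 0) :
    ∃ P : Matrix (Fin n) (Fin n) F, Pᵀ * G * P.map σ = 1 := by
  classical
  let f : (Fin n → F) → (Fin n → F) → F := fun x y => (σ ∘ x) ⬝ᵥ (Gᵀ *ᵥ y)
  let B : (Fin n → F) →ₛₗ[σ] (Fin n → F) →ₗ[F] F := LinearMap.mk₂'ₛₗ σ (RingHom.id F) f
    (fun x x' y => by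
      have : σ ∘ (x + x') = σ ∘ x + σ ∘ x' := by ext i; simp
      simp [f, this, add_dotProduct])
    (fun c x y => by
      have : σ ∘ (c • x) = σ c • (σ ∘ x) := by ext i; simp
      simp [f, this])
    (fun x y y' => by simp [f, mulVec_add, dotProduct_add])
    (fun c x y => by simp [f, mulVec_smul])
  have hBe : ∀ x y, B x y = (σ ∘ x) ⬝ᵥ (Gᵀ *ᵥ y) := fun x y => rfl
  have hGm : Gᵀ.map σ = G := by
    rw [hG]; exact Matrix.ext fun i j => hσ _
  have hS : B.IsSymm := ⟨fun x y => by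
    rw [hBe, hBe, RingHom.map_dotProduct]
    have h1 : σ ∘ (σ ∘ x) = x := funext fun i => hσ _
    have h2 : σ ∘ (Gᵀ *ᵥ y) = G *ᵥ (σ ∘ y) := by
      conv_rhs => rw [← hGm]
      exact funext fun i => RingHom.map_mulVec σ Gᵀ y i
    rw [h1, h2, dotProduct_mulVec, ← Matrix.mulVec_transpose, dotProduct_comm]⟩
  have hB : ∀ x, (∀ y, B x y = 0) → x = 0 := fun x hx => by
    have h1 : (σ ∘ x) ᵥ* Gᵀ = 0 := by
      funext j
      have := hx (Pi.single j 1)
      rw [hBe, dotProduct_mulVec, dotProduct_single, mul_one] at this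
      exact this
    have h2 : σ ∘ x = 0 := by
      by_contra h
      exact hG0 (by rw [← Matrix.det_transpose]; exact Matrix.exists_vecMul_eq_zero_iff.mp ⟨_, h, h1⟩)
    funext i
    exact σ.injective (by simpa using congrFun h2 i)
  obtain ⟨b, hb⟩ := CfsgLib.Forms.exists_orthonormal_basis_hermitian hne hσ B hS hB
    (n := n) (Module.finrank_fin_fun F)
  let P : Matrix (Fin n) (Fin n) F := Matrix.of fun i j => b j i
  refine ⟨P, Matrix.transpose_injective ?_⟩
  rw [Matrix.transpose_mul, Matrix.transpose_mul, Matrix.transpose_transpose, Matrix.transpose_one]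
  ext i j
  rw [Matrix.one_apply, ← hb i j, hBe]
  simp only [Matrix.mul_apply, Matrix.transpose_apply, Matrix.map_apply, P, Matrix.of_apply, dotProduct,
    Matrix.mulVec, Function.comp_apply]

/-- Hermitian matrices are congruent. -/
theorem exists_congr_herm [Finite F] (hne : σ ≠ RingHom.id F) (hσ : ∀ a, σ (σ a) = a) {n : ℕ}
    {G M : Matrix (Fin n) (Fin n) F} (hG : Gᵀ = G.map σ) (hM : Mᵀ = M.map σ) (hG0 : G.det ≠ 0) (hM0 : M.det ≠ 0) :
    ∃ g : Matrix (Fin n) (Fin n) F, gᵀ * G * g.map σ = M := by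
  obtain ⟨P, hP⟩ := exists_congr_one hne hσ hG hG0
  obtain ⟨R, hR⟩ := exists_congr_one hne hσ hM hM0
  have hR0 : IsUnit R.det := isUnit_iff_ne_zero.mpr fun e => by
    have := congrArg Matrix.det hR
    rw [det_congr_eq, e, zero_mul, zero_mul, Matrix.det_one] at this
    exact zero_ne_one this
  refine ⟨P * R⁻¹, ?_⟩
  rw [congr_mul, hP, ← hR, ← congr_mul, Matrix.mul_nonsing_inv _ hR0, Matrix.transpose_one,
    Matrix.map_one σ (map_zero σ) (map_one σ), one_mul, mul_one]

/-- An eigenbasis when the power is a scalar with a root. -/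
theorem exists_eigen_frame {n : ℕ} {x : Matrix (Fin n) (Fin n) F} {r : ℕ} (hr : 0 < r) (hrF : (r : F) ≠ 0) {ζ μ : F}
    (hζ : IsPrimitiveRoot ζ r) (hμ : μ ≠ 0) (hx : x ^ r = μ ^ r • (1 : Matrix (Fin n) (Fin n) F)) :
    ∃ (h h' : Matrix (Fin n) (Fin n) F) (l : Fin n → F), h * h' = 1 ∧ h' * h = 1 ∧
      x * h = h * Matrix.diagonal l ∧ ∀ i, ∃ j < r, l i = μ * ζ ^ j := by
  classical
  set S : Set (Fin n → F) := {w | ∃ j < r, x *ᵥ w = (μ * ζ ^ j) • w}
  have hspan : ⊤ ≤ Submodule.span F S := by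
    intro v _
    let a : ℕ → F := fun k => (μ ^ k)⁻¹
    let w : ℕ → (Fin n → F) := fun j => ∑ k ∈ Finset.range r, ((ζ⁻¹ ^ j) ^ k * a k) • (x ^ k *ᵥ v)
    have hw : ∀ j < r, w j ∈ S := by
      intro j hj
      refine ⟨j, hj, ?_⟩
      simp only [w, Matrix.mulVec_sum, Matrix.mulVec_smul, Matrix.mulVec_mulVec, ← pow_succ', Finset.smul_sum,
        smul_smul]
      obtain ⟨r', rfl⟩ : ∃ r', r = r' + 1 := ⟨r - 1, by omega⟩
      conv_rhs => rw [Finset.sum_range_succ']
      rw [Finset.sum_range_succ]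
      have hζ0 : ζ ≠ 0 := hζ.ne_zero (by omega)
      have hcj : μ * ζ ^ j * ((ζ⁻¹ ^ j) ^ 0 * a 0) = μ * ζ ^ j := by simp [a]
      congr 1
      · refine Finset.sum_congr rfl fun k _ => ?_
        congr 1
        simp only [a, pow_succ, _root_.mul_inv_rev, inv_pow]
        field_simp
      · rw [hx, Matrix.smul_mulVec, Matrix.one_mulVec, smul_smul, hcj, pow_zero x, Matrix.one_mulVec]
        congr 1
        have hz1 : (ζ⁻¹ ^ j) ^ (r' + 1) = 1 := by rw [← pow_mul, mul_comm, pow_mul, inv_pow, hζ.pow_eq_one, inv_one,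
          one_pow]
        rw [pow_succ] at hz1
        rw [eq_inv_of_mul_eq_one_left hz1, inv_pow, inv_inv]
        simp only [a, pow_succ]
        field_simp
    have hsum : ∑ j ∈ Finset.range r, w j = (r : F) • v := by
      simp only [w]
      rw [Finset.sum_comm, Finset.sum_eq_single 0]
      · simp [a, ← Nat.cast_smul_eq_nsmul F]
      · intro k hk hk0
        rw [← Finset.sum_smul]
        have hne : ζ⁻¹ ^ k ≠ 1 := by
          rw [inv_pow, ne_eq, inv_eq_one]
          exact hζ.pow_ne_one_of_pos_of_lt (by omega) (Finset.mem_range.mp hk)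
        have h0 : ∑ j ∈ Finset.range r, (ζ⁻¹ ^ j) ^ k * a k = 0 := by
          rw [← Finset.sum_mul]
          simp only [← pow_mul, mul_comm _ k]
          simp only [pow_mul]
          rw [geom_sum_eq hne, ← pow_mul, mul_comm k r, pow_mul, inv_pow, hζ.pow_eq_one, inv_one, one_pow, sub_self,
            zero_div, zero_mul]
        rw [h0, zero_smul]
      · intro h; exact absurd (Finset.mem_range.mpr hr) h
    rw [show v = (r : F)⁻¹ • ∑ j ∈ Finset.range r, w j by rw [hsum, smul_smul, inv_mul_cancel₀ hrF, one_smul]]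
    exact Submodule.smul_mem _ _ (Submodule.sum_mem _ fun j hj => Submodule.subset_span (hw j (Finset.mem_range.mp hj)))
  obtain ⟨s, hs, hs', hli⟩ := exists_linearIndependent F S
  let B₀ : Module.Basis s F (Fin n → F) := Module.Basis.mk hli (by rw [Subtype.range_coe, hs']; exact hspan)
  haveI : Fintype s := FiniteDimensional.fintypeBasisIndex B₀
  have hc : Fintype.card s = n := by rw [← Module.finrank_eq_card_basis B₀, Module.finrank_fin_fun]
  let B := B₀.reindex (Fintype.equivFinOfCardEq hc)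
  have hm : ∀ i, ∃ j < r, x *ᵥ B i = (μ * ζ ^ j) • B i := fun i => by
    have := hs ((Fintype.equivFinOfCardEq hc).symm i).2
    simpa [S, B, B₀] using this
  choose j hj hj' using hm
  obtain ⟨h, h', e1, e2, e3⟩ := exists_frame x B (Matrix.diagonal fun i => μ * ζ ^ j i) fun i => by
    rw [hj', Finset.sum_eq_single i (fun k _ hk => by simp [hk]) (by simp), Matrix.diagonal_apply_eq]
  exact ⟨h, h', _, e1, e2, e3, fun i => ⟨j i, hj i, rfl⟩⟩

end CfsgLib.Twist
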