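import Mathlib

/-! Elementary facts on `2 × 2` matrices over a finite field: cyclic vectors, centralisers, and conjugacy in `SL₂` of
non-scalar elements with given trace `t`, `t ^ 2 ≠ 4`. -/

set_option autoImplicit false

namespace CfsgLib.LinearElements

open Matrix

variable {F : Type*} [Field F]

theorem two_sq_eq (X : Matrix (Fin 2) (Fin 2) F) :
    X * X = X.trace • X - X.det • (1 : Matrix (Fin 2) (Fin 2) F) := by
  ext i j
  fin_cases i <;> fin_cases j <;>
    simp [Matrix.mul_apply, Fin.sum_univ_two, Matrix.trace_fin_two, Matrix.det_fin_two] <;> ring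

/-- Non-scalar means not of the form `c • 1`. -/
def NonScalar (X : Matrix (Fin 2) (Fin 2) F) : Prop := ∀ c : F, X ≠ c • (1 : Matrix (Fin 2) (Fin 2) F)

theorem coeff_zero_of_nonScalar {X : Matrix (Fin 2) (Fin 2) F} (hX : NonScalar X) {a b : F}
    (h : a • (1 : Matrix (Fin 2) (Fin 2) F) + b • X = 0) : a = 0 ∧ b = 0 := by
  by_cases hb : b = 0
  · refine ⟨?_, hb⟩
    simpa [hb, Matrix.one_apply] using congrFun (congrFun h 0) 0
  · exfalso
    refine hX (-(a / b)) ?_
    have h' : b • X = -(a • (1 : Matrix (Fin 2) (Fin 2) F)) := eq_neg_of_add_eq_zero_right h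
    calc X = b⁻¹ • (b • X) := by rw [smul_smul, inv_mul_cancel₀ hb, one_smul]
      _ = _ := by rw [h', ← neg_smul, smul_smul]; congr 1; field_simp

theorem trace_det_of_sq_eq {X : Matrix (Fin 2) (Fin 2) F} (hX : NonScalar X) {t d : F}
    (h : X * X = t • X - d • (1 : Matrix (Fin 2) (Fin 2) F)) : X.trace = t ∧ X.det = d := by
  have h2 := two_sq_eq X
  rw [h] at h2
  have := coeff_zero_of_nonScalar hX (a := X.det - d) (b := t - X.trace)
    (by rw [sub_smul, sub_smul]; linear_combination (norm := module) h2)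
  exact ⟨(sub_eq_zero.mp this.2).symm, sub_eq_zero.mp this.1⟩

/-- The matrix with columns `v` and `X v`. -/
def cyclicBasis (X : Matrix (Fin 2) (Fin 2) F) (v : Fin 2 → F) : Matrix (Fin 2) (Fin 2) F :=
  !![v 0, (X *ᵥ v) 0; v 1, (X *ᵥ v) 1]

theorem exists_cyclicBasis {X : Matrix (Fin 2) (Fin 2) F} (hX : NonScalar X) :
    ∃ v, (cyclicBasis X v).det ≠ 0 := by
  by_cases h10 : X 1 0 = 0
  · by_cases h01 : X 0 1 = 0
    · refine ⟨![1, 1], ?_⟩
      have h : X 0 0 ≠ X 1 1 := fun e => hX (X 0 0) (by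
        ext i j; fin_cases i <;> fin_cases j <;> simp [h10, h01, e])
      simp [cyclicBasis, Matrix.det_fin_two, Matrix.mulVec, dotProduct, Fin.sum_univ_two, h10, h01,
        sub_eq_zero, Ne.symm h]
    · refine ⟨![0, 1], ?_⟩
      simpa [cyclicBasis, Matrix.det_fin_two, Matrix.mulVec, dotProduct, Fin.sum_univ_two] using h01
  · refine ⟨![1, 0], ?_⟩
    simpa [cyclicBasis, Matrix.det_fin_two, Matrix.mulVec, dotProduct, Fin.sum_univ_two] using h10

/-- The companion matrix of `T ^ 2 - t T + d`. -/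
def companionTwo (t d : F) : Matrix (Fin 2) (Fin 2) F := !![0, -d; 1, t]

theorem mul_cyclicBasis (X : Matrix (Fin 2) (Fin 2) F) (v : Fin 2 → F) :
    X * cyclicBasis X v = cyclicBasis X v * companionTwo X.trace X.det := by
  ext i j
  fin_cases i <;> fin_cases j <;>
    simp [cyclicBasis, companionTwo, Matrix.mul_apply, Fin.sum_univ_two, Matrix.mulVec, dotProduct,
      Matrix.trace_fin_two, Matrix.det_fin_two] <;> ring

theorem exists_eq_of_commute {X M : Matrix (Fin 2) (Fin 2) F} (hX : NonScalar X) (h : M * X = X * M) :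
    ∃ a b : F, M = a • (1 : Matrix (Fin 2) (Fin 2) F) + b • X := by
  obtain ⟨v, hv⟩ := exists_cyclicBasis hX
  set P := cyclicBasis X v
  set w := P⁻¹ *ᵥ (M *ᵥ v)
  have hPw : P *ᵥ w = M *ᵥ v := by
    rw [Matrix.mulVec_mulVec, Matrix.mul_nonsing_inv _ (isUnit_iff_ne_zero.mpr hv), Matrix.one_mulVec]
  refine ⟨w 0, w 1, ?_⟩
  have h1 : M *ᵥ v = (w 0 • (1 : Matrix (Fin 2) (Fin 2) F) + w 1 • X) *ᵥ v := by
    rw [← hPw]
    ext i; fin_cases i <;> simp [P, cyclicBasis, Matrix.mulVec, dotProduct, Fin.sum_univ_two] <;> ring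
  have hc : (w 0 • (1 : Matrix (Fin 2) (Fin 2) F) + w 1 • X) * X =
      X * (w 0 • (1 : Matrix (Fin 2) (Fin 2) F) + w 1 • X) := by simp [mul_add, add_mul]
  have h2 : M *ᵥ (X *ᵥ v) = (w 0 • (1 : Matrix (Fin 2) (Fin 2) F) + w 1 • X) *ᵥ (X *ᵥ v) := by
    rw [Matrix.mulVec_mulVec, h, ← Matrix.mulVec_mulVec, h1, Matrix.mulVec_mulVec, ← hc, ← Matrix.mulVec_mulVec]
  have hMP : M * P = (w 0 • (1 : Matrix (Fin 2) (Fin 2) F) + w 1 • X) * P := by
    have e : ∀ N : Matrix (Fin 2) (Fin 2) F, N * P = !![(N *ᵥ v) 0, (N *ᵥ (X *ᵥ v)) 0; (N *ᵥ v) 1, (N *ᵥ (X *ᵥ v)) 1] := by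
      intro N; ext i j
      fin_cases i <;> fin_cases j <;>
        simp [P, cyclicBasis, Matrix.mul_apply, Fin.sum_univ_two, Matrix.mulVec, dotProduct]
    rw [e, e, h1, h2]
  exact ((Matrix.isUnit_iff_isUnit_det P).mpr (isUnit_iff_ne_zero.mpr hv)).mul_left_injective hMP

/-- For `t ^ 2 ≠ 4` the binary form `a ^ 2 + t a b + b ^ 2` represents every element. -/
theorem exists_form_eq [Fintype F] (h2 : (2 : F) ≠ 0) {t : F} (ht : t ^ 2 ≠ 4) (c : F) :
    ∃ a b : F, a ^ 2 + t * a * b + b ^ 2 = c := by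
  have h4 : (4 : F) ≠ 0 := by
    have : (4 : F) = 2 * 2 := by norm_num
    rw [this]; exact mul_ne_zero h2 h2
  have hd : (1 - t ^ 2 / 4 : F) ≠ 0 := by
    intro h
    exact ht (by field_simp at h; linear_combination -h)
  have hodd : Fintype.card F % 2 = 1 := by
    refine FiniteField.odd_card_of_char_ne_two fun hc => h2 ?_
    haveI : CharP F 2 := (ringChar.eq_iff).mp hc
    exact_mod_cast CharP.cast_eq_zero F 2
  obtain ⟨u, b, h⟩ := FiniteField.exists_root_sum_quadratic (f := (Polynomial.X ^ 2 : Polynomial F))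
    (g := Polynomial.C (1 - t ^ 2 / 4) * Polynomial.X ^ 2 + Polynomial.C 0 * Polynomial.X + Polynomial.C (-c))
    (Polynomial.degree_X_pow 2) (Polynomial.degree_quadratic hd) hodd
  simp at h
  refine ⟨u - t * b / 2, b, ?_⟩
  have h' : 4 * u ^ 2 + (4 - t ^ 2) * b ^ 2 = 4 * c := by
    field_simp at h; linear_combination h
  refine mul_left_cancel₀ h4 ?_
  field_simp
  linear_combination h'

/-- Non-scalar elements of `SL₂` with the same trace `t`, `t ^ 2 ≠ 4`, are conjugate in `SL₂`. -/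
theorem exists_conj_of_trace [Fintype F] (h2 : (2 : F) ≠ 0) {X Y : Matrix (Fin 2) (Fin 2) F}
    (hX : NonScalar X) (hY : NonScalar Y) (hdX : X.det = 1) (hdY : Y.det = 1) (htr : X.trace = Y.trace)
    (ht : X.trace ^ 2 ≠ 4) : ∃ g : GL (Fin 2) F, Matrix.GeneralLinearGroup.det g = 1 ∧
      X * (g : Matrix (Fin 2) (Fin 2) F) = (g : Matrix (Fin 2) (Fin 2) F) * Y := by
  obtain ⟨v, hv⟩ := exists_cyclicBasis hX
  obtain ⟨w, hw⟩ := exists_cyclicBasis hY
  set P := cyclicBasis X v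
  set Q := cyclicBasis Y w
  set J := companionTwo X.trace 1
  have hXP : X * P = P * J := by rw [mul_cyclicBasis, hdX]
  have hYQ : Y * Q = Q * J := by rw [mul_cyclicBasis, hdY, ← htr]
  obtain ⟨a, b, hab⟩ := exists_form_eq h2 ht (Q.det / P.det)
  set N := a • (1 : Matrix (Fin 2) (Fin 2) F) + b • J with hN
  have hNdet : N.det = Q.det / P.det := by
    rw [← hab, hN]
    simp [J, companionTwo, Matrix.det_fin_two]; ring
  have hQu : IsUnit Q.det := isUnit_iff_ne_zero.mpr hw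
  have hdet : (P * N * Q⁻¹).det = 1 := by
    rw [Matrix.det_mul, Matrix.det_mul, Matrix.det_nonsing_inv, Ring.inverse_eq_inv, hNdet]
    field_simp
  refine ⟨Matrix.GeneralLinearGroup.mkOfDetNeZero (P * N * Q⁻¹) (by rw [hdet]; exact one_ne_zero), ?_, ?_⟩
  · exact Units.ext hdet
  · show X * (P * N * Q⁻¹) = P * N * Q⁻¹ * Y
    have hJN : J * N = N * J := by simp [hN, mul_add, add_mul]
    have hQY : Q⁻¹ * Y = J * Q⁻¹ := by
      calc Q⁻¹ * Y = Q⁻¹ * (Y * Q) * Q⁻¹ := by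
            simp only [Matrix.mul_assoc, Matrix.mul_nonsing_inv _ hQu, Matrix.mul_one]
        _ = J * Q⁻¹ := by rw [hYQ, ← Matrix.mul_assoc, Matrix.nonsing_inv_mul _ hQu, Matrix.one_mul]
    rw [Matrix.mul_assoc (P * N) Q⁻¹ Y, hQY]
    simp only [← Matrix.mul_assoc, hXP]
    rw [Matrix.mul_assoc P J N, hJN, ← Matrix.mul_assoc]

end CfsgLib.LinearElements
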