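import Mathlib

/-! Abelian subgroups of order prime to the characteristic in the general linear group of a finite vector space:
their order is at most `q ^ n - 1`, with equality only for the unit group of a field of endomorphisms. -/

set_option autoImplicit false

namespace CfsgLib.LinearElements

open Module

variable {F : Type*} [Field F] [Fintype F]

section reduced

variable {V : Type*} [AddCommGroup V] [Module F V] (U : Subgroup (Module.End F V)ˣ)

/-- The subalgebra of endomorphisms generated by a group of automorphisms. -/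
def spanAlgebra : Subalgebra F (Module.End F V) :=
  Algebra.adjoin F (Units.val '' (U : Set (Module.End F V)ˣ))

theorem mem_spanAlgebra {u : (Module.End F V)ˣ} (hu : u ∈ U) : (u : Module.End F V) ∈ spanAlgebra U :=
  Algebra.subset_adjoin ⟨u, hu, rfl⟩

variable {U}

theorem spanAlgebra_comm (hU : IsMulCommutative U) {a b : Module.End F V} (ha : a ∈ spanAlgebra U)
    (hb : b ∈ spanAlgebra U) : a * b = b * a := by
  have key : ∀ s ∈ Units.val '' (U : Set (Module.End F V)ˣ), ∀ t ∈ Units.val '' (U : Set (Module.End F V)ˣ),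
      s * t = t * s := by
    rintro _ ⟨s, hs, rfl⟩ _ ⟨t, ht, rfl⟩
    have h := congrArg (fun z : U => ((z : (Module.End F V)ˣ) : Module.End F V)) (hU.is_comm.comm ⟨s, hs⟩ ⟨t, ht⟩)
    simpa using h
  have h1 : ∀ s ∈ Units.val '' (U : Set (Module.End F V)ˣ), a * s = s * a := fun s hs => by
    induction ha using Algebra.adjoin_induction with
    | mem x hx => exact key x hx s hs
    | algebraMap c => exact (Algebra.commute_algebraMap_left c s).eq
    | add x y _ _ hx hy => rw [add_mul, mul_add, hx, hy]
    | mul x y _ _ hx hy => rw [mul_assoc, hy, ← mul_assoc, hx, mul_assoc]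
  induction hb using Algebra.adjoin_induction with
  | mem x hx => exact h1 x hx
  | algebraMap c => exact (Algebra.commute_algebraMap_right c a).eq
  | add x y _ _ hx hy => rw [mul_add, add_mul, hx, hy]
  | mul x y _ _ hx hy => rw [← mul_assoc, hx, mul_assoc, hy, mul_assoc]

/-- Every element of the algebra of an abelian group of order prime to `q` satisfies `a ^ Q = a` for a suitable
`Q ≥ 2`; in particular the algebra is reduced. -/
theorem exists_pow_eq_self [Finite U] (hU : IsMulCommutative U)
    (hcop : Nat.Coprime (Fintype.card F) (Nat.card U)) :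
    ∃ Q, 2 ≤ Q ∧ ∀ a ∈ spanAlgebra U, a ^ Q = a := by
  rcases subsingleton_or_nontrivial (Module.End F V) with h | h
  · exact ⟨2, le_rfl, fun a _ => Subsingleton.elim _ _⟩
  obtain ⟨p, hp⟩ := CharP.exists F
  obtain ⟨n, hpp, hn⟩ := FiniteField.card F p
  haveI : Fact p.Prime := ⟨hpp⟩
  haveI : CharP (Module.End F V) p := charP_of_injective_algebraMap' F p
  set N := Nat.totient (Nat.card U) with hN
  have hN0 : 0 < N := Nat.totient_pos.mpr Nat.card_pos
  refine ⟨Fintype.card F ^ N, ?_, fun a ha => ?_⟩
  · calc 2 ≤ Fintype.card F := Fintype.one_lt_card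
      _ ≤ Fintype.card F ^ N := Nat.le_self_pow hN0.ne' _
  induction ha using Algebra.adjoin_induction with
  | mem x hx =>
    obtain ⟨u, hu, rfl⟩ := hx
    have h1 : (⟨u, hu⟩ : U) ^ (Fintype.card F ^ N) = (⟨u, hu⟩ : U) ^ 1 := by
      refine (pow_eq_pow_iff_modEq).mpr ?_
      exact Nat.ModEq.of_dvd (orderOf_dvd_natCard _) (Nat.ModEq.pow_totient hcop)
    have h2 := congrArg (fun z : U => ((z : (Module.End F V)ˣ) : Module.End F V)) h1
    simpa using h2
  | algebraMap c => rw [← map_pow, FiniteField.pow_card_pow]
  | add x y hx hy hx' hy' =>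
    rw [hn, ← pow_mul] at hx' hy' ⊢
    rw [add_pow_char_pow_of_commute _ _ (spanAlgebra_comm hU hx hy), hx', hy']
  | mul x y hx hy hx' hy' =>
    rw [(show Commute x y from spanAlgebra_comm hU hx hy).mul_pow, hx', hy']

end reduced

/-- The restriction of a group of automorphisms to an invariant subspace. -/
def restrictHom {V : Type*} [AddCommGroup V] [Module F V] (U : Subgroup (Module.End F V)ˣ) (W : Submodule F V)
    (hW : ∀ u ∈ U, ∀ w ∈ W, (u : Module.End F V) w ∈ W) : U →* (Module.End F W)ˣ :=
  MonoidHom.toHomUnits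
    { toFun := fun u => LinearMap.restrict (u.1 : Module.End F V) (hW u.1 u.2)
      map_one' := by ext; simp
      map_mul' := fun a b => by ext; simp }

theorem restrictHom_apply {V : Type*} [AddCommGroup V] [Module F V] (U : Subgroup (Module.End F V)ˣ)
    (W : Submodule F V) (hW : ∀ u ∈ U, ∀ w ∈ W, (u : Module.End F V) w ∈ W) (u : U) (w : W) :
    (((restrictHom U W hW u : (Module.End F W)ˣ) : Module.End F W) w : V) = (u.1 : Module.End F V) w := rfl

theorem pow_sub_one_mul_lt {q a b : ℕ} (hq : 2 ≤ q) (ha : 0 < a) (hb : 0 < b) :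
    (q ^ a - 1) * (q ^ b - 1) < q ^ (a + b) - 1 := by
  have h1 : 2 ≤ q ^ a := le_trans hq (Nat.le_self_pow ha.ne' q)
  have h2 : 2 ≤ q ^ b := le_trans hq (Nat.le_self_pow hb.ne' q)
  rw [pow_add]
  obtain ⟨A, hA⟩ := Nat.exists_eq_add_of_le h1
  obtain ⟨B, hB⟩ := Nat.exists_eq_add_of_le h2
  rw [hA, hB, show 2 + A - 1 = A + 1 by omega, show 2 + B - 1 = B + 1 by omega,
    show (2 + A) * (2 + B) = (A + 1) * (B + 1) + A + B + 3 by ring]
  omega

/-- An abelian group of automorphisms of order prime to `q` of a non-zero space of dimension `n` over a field with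
`q` elements has order at most `q ^ n - 1`, with equality only if it is the whole unit group of a field of
endomorphisms of dimension `n`. -/
theorem abelian_card_le :
    ∀ (n : ℕ) {V : Type _} [AddCommGroup V] [Module F V] [FiniteDimensional F V],
      finrank F V = n → 0 < n → ∀ (U : Subgroup (Module.End F V)ˣ), IsMulCommutative U →
      Nat.Coprime (Fintype.card F) (Nat.card U) →
      Nat.card U ≤ Fintype.card F ^ n - 1 ∧
      (Nat.card U = Fintype.card F ^ n - 1 → finrank F (spanAlgebra U) = n ∧
        ∀ a ∈ spanAlgebra U, a ≠ 0 → ∃ u ∈ U, (u : Module.End F V) = a) := by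
  intro n
  induction n using Nat.strong_induction_on with
  | _ n ih =>
  intro V _ _ _ hV hn U hU hcop
  haveI : Finite V := Module.finite_of_finite F
  haveI : Nontrivial V := Module.nontrivial_of_finrank_pos (R := F) (hV ▸ hn)
  haveI : Finite (Module.End F V) := Finite.of_injective (fun f : Module.End F V => (f : V → V)) DFunLike.coe_injective
  obtain ⟨Q, hQ, hpow⟩ := exists_pow_eq_self hU hcop
  set A := spanAlgebra U with hA
  by_cases hfield : ∀ a ∈ A, a ≠ 0 → IsUnit a
  · obtain ⟨v, hv⟩ := exists_ne (0 : V)
    have hinj : Function.Injective ((LinearMap.applyₗ v).comp A.val.toLinearMap : A →ₗ[F] V) := by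
      rw [← LinearMap.ker_eq_bot, LinearMap.ker_eq_bot']
      intro a ha
      by_contra h
      obtain ⟨u, hu⟩ := hfield a a.2 (fun e => h (Subtype.ext e))
      have hb := ((Module.End.isUnit_iff _).mp (hfield a a.2 (fun e => h (Subtype.ext e)))).1
      exact hv (hb (by simpa using ha))
    have hd : finrank F A ≤ n := hV ▸ LinearMap.finrank_le_finrank_of_injective hinj
    have hAcard : Nat.card A = Fintype.card F ^ finrank F A := by
      rw [Module.natCard_eq_pow_finrank (K := F), Nat.card_eq_fintype_card]
    let ι : U → {a : A // a ≠ 0} := fun u =>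
      ⟨⟨(u.1 : Module.End F V), mem_spanAlgebra U u.2⟩, fun h => u.1.ne_zero (congrArg Subtype.val h)⟩
    have hι : Function.Injective ι := fun a b h => by
      apply Subtype.ext; apply Units.ext
      exact congrArg (fun z : {a : A // a ≠ 0} => (z.1 : Module.End F V)) h
    have hsub : Nat.card {a : A // a ≠ 0} = Nat.card A - 1 := by
      classical
      haveI := Fintype.ofFinite A
      simp [Nat.card_eq_fintype_card, Fintype.card_subtype_compl]
    have hle : Nat.card U ≤ Fintype.card F ^ finrank F A - 1 := by
      rw [← hAcard, ← hsub]; exact Nat.card_le_card_of_injective ι hι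
    have hmono : Fintype.card F ^ finrank F A ≤ Fintype.card F ^ n := Nat.pow_le_pow_right Fintype.card_pos hd
    refine ⟨hle.trans (by omega), fun heq => ?_⟩
    have h1 : 1 ≤ Fintype.card F ^ finrank F A := Nat.one_le_pow _ _ Fintype.card_pos
    have hdn : finrank F A = n :=
      le_antisymm hd ((Nat.pow_le_pow_iff_right (a := Fintype.card F) Fintype.one_lt_card).mp (by omega))
    refine ⟨hdn, fun a ha ha0 => ?_⟩
    have hbij : Function.Bijective ι :=
      (Nat.bijective_iff_injective_and_card ι).mpr ⟨hι, by rw [hsub, hAcard, hdn, heq]⟩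
    obtain ⟨u, hu⟩ := hbij.2 ⟨⟨a, ha⟩, fun h => ha0 (congrArg Subtype.val h)⟩
    exact ⟨u.1, u.2, congrArg (fun z : {a : A // a ≠ 0} => (z.1 : Module.End F V)) hu⟩
  · push Not at hfield
    obtain ⟨a, ha, ha0, hau⟩ := hfield
    set e := a ^ (Q - 1) with he
    have hae : a * e = a := by rw [he, ← pow_succ', Nat.sub_add_cancel (by omega), hpow a ha]
    have hee : e * e = e := by
      have h1 : e = a ^ (Q - 1 - 1) * a := by rw [he, ← pow_succ]; congr 1; omega
      calc e * e = a ^ (Q - 1 - 1) * (a * e) := by rw [← mul_assoc, ← h1]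
        _ = a ^ (Q - 1 - 1) * a := by rw [hae]
        _ = e := h1.symm
    have he0 : e ≠ 0 := fun h => ha0 (by rw [← hae, h, mul_zero])
    have he1 : e ≠ 1 := fun h => hau (IsUnit.of_pow_eq_one h (by omega))
    have hcomm : ∀ u ∈ U, (u : Module.End F V) * e = e * (u : Module.End F V) := fun u hu =>
      spanAlgebra_comm hU (mem_spanAlgebra U hu) (A.pow_mem ha _)
    set W := LinearMap.range e with hWdef
    set W' := LinearMap.ker e with hW'def
    have hW : ∀ u ∈ U, ∀ w ∈ W, (u : Module.End F V) w ∈ W := by
      rintro u hu _ ⟨x, rfl⟩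
      exact ⟨(u : Module.End F V) x, (LinearMap.congr_fun (hcomm u hu) x).symm⟩
    have hW' : ∀ u ∈ U, ∀ w ∈ W', (u : Module.End F V) w ∈ W' := by
      intro u hu w hw
      rw [hW'def, LinearMap.mem_ker] at hw ⊢
      have := LinearMap.congr_fun (hcomm u hu) w
      simp only [Module.End.mul_apply, hw, map_zero] at this
      exact this.symm
    have hrk := LinearMap.finrank_range_add_finrank_ker e
    rw [← hWdef, ← hW'def, hV] at hrk
    have hWpos : 0 < finrank F W := by
      rw [Nat.pos_iff_ne_zero]
      intro h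
      exact he0 (LinearMap.range_eq_bot.mp (Submodule.finrank_eq_zero.mp h))
    have hW'pos : 0 < finrank F W' := by
      rw [Nat.pos_iff_ne_zero]
      intro h
      have hinj : Function.Injective e := LinearMap.ker_eq_bot.mp (Submodule.finrank_eq_zero.mp h)
      exact he1 (LinearMap.ext fun x => hinj (LinearMap.congr_fun hee x))
    haveI : Finite (Module.End F W) := Finite.of_injective (fun f : Module.End F W => (f : W → W)) DFunLike.coe_injective
    haveI : Finite (Module.End F W') := Finite.of_injective (fun f : Module.End F W' => (f : W' → W')) DFunLike.coe_injective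
    set φ := restrictHom U W hW with hφ
    set ψ := restrictHom U W' hW' with hψ
    have hφψ : Function.Injective (φ.prod ψ) := by
      intro u u' h
      have h1 := congrArg Prod.fst h
      have h2 := congrArg Prod.snd h
      apply Subtype.ext; apply Units.ext
      refine LinearMap.ext fun x => ?_
      have e1 := congrArg (fun z : (Module.End F W)ˣ => (((z : Module.End F W) ⟨e x, ⟨x, rfl⟩⟩ : W) : V)) h1
      have hx' : x - e x ∈ W' := by
        rw [hW'def, LinearMap.mem_ker, map_sub, ← Module.End.mul_apply, hee, sub_self]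
      have e2 := congrArg (fun z : (Module.End F W')ˣ => (((z : Module.End F W') ⟨x - e x, hx'⟩ : W') : V)) h2
      simp only [MonoidHom.prod_apply, hφ, hψ, restrictHom_apply] at e1 e2
      have := congrArg₂ (· + ·) e1 e2
      simpa [← map_add] using this
    have hcard := Nat.card_le_card_of_injective
      (fun u : U => ((⟨φ u, ⟨u, rfl⟩⟩ : φ.range), (⟨ψ u, ⟨u, rfl⟩⟩ : ψ.range)))
      (fun u u' h => hφψ (Prod.ext (congrArg (fun z => (z.1 : (Module.End F W)ˣ)) h)
        (congrArg (fun z => (z.2 : (Module.End F W')ˣ)) h)))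
    rw [Nat.card_prod] at hcard
    have hc1 : Nat.Coprime (Fintype.card F) (Nat.card φ.range) :=
      hcop.coprime_dvd_right (Subgroup.card_range_dvd φ)
    have hc2 : Nat.Coprime (Fintype.card F) (Nat.card ψ.range) :=
      hcop.coprime_dvd_right (Subgroup.card_range_dvd ψ)
    haveI := hU
    have b1 := (ih (finrank F W) (by omega) rfl hWpos φ.range
      ⟨⟨by rintro ⟨_, x, rfl⟩ ⟨_, y, rfl⟩; exact Subtype.ext (by simp [← map_mul, mul_comm' x y])⟩⟩ hc1).1
    have b2 := (ih (finrank F W') (by omega) rfl hW'pos ψ.range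
      ⟨⟨by rintro ⟨_, x, rfl⟩ ⟨_, y, rfl⟩; exact Subtype.ext (by simp [← map_mul, mul_comm' x y])⟩⟩ hc2).1
    have hlt : Nat.card U < Fintype.card F ^ n - 1 := by
      refine lt_of_le_of_lt (hcard.trans (Nat.mul_le_mul b1 b2)) ?_
      rw [← hrk]
      exact pow_sub_one_mul_lt Fintype.one_lt_card hWpos hW'pos
    exact ⟨hlt.le, fun h => absurd h hlt.ne⟩

end CfsgLib.LinearElements
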