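import Mathlib

/-! Distributing `b` pairs and `c` singles into `t` parts of size `a`, the parts being permuted by an involution;
bases adapted to a linear map whose square is scalar; the resulting stable decompositions. -/

set_option autoImplicit false

namespace CfsgLib.LinearElements

/-- Indices of `b` pairs and `c` singles. -/
abbrev PairIdx (b c : ℕ) : Type := (Fin b × Fin 2) ⊕ Fin c

/-- A distribution of pairs and singles into `t` parts of size `a`: the partner of a pair element lies in the
image part, and singles lie in fixed parts. -/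
structure Layout (t a b c : ℕ) where
  e : PairIdx b c ≃ Fin t × Fin a
  σ : Equiv.Perm (Fin t)
  invol : ∀ j, σ (σ j) = j
  pair : ∀ i, (e (.inl (i, 1))).1 = σ (e (.inl (i, 0))).1
  single : ∀ j, σ (e (.inr j)).1 = (e (.inr j)).1

/-- Gluing two layouts. -/
def Layout.glue {u t a k l b c : ℕ} (L : Layout u a k l) (M : Layout t a b c) : Layout (u + t) a (k + b) (l + c) where
  e := ((((finSumFinEquiv.symm.prodCongr (Equiv.refl (Fin 2))).trans (Equiv.sumProdDistrib _ _ _)).sumCongr
      finSumFinEquiv.symm).trans (Equiv.sumSumSumComm _ _ _ _)).trans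
    (((L.e.sumCongr M.e).trans (Equiv.sumProdDistrib _ _ _).symm).trans (finSumFinEquiv.prodCongr (Equiv.refl _)))
  σ := finSumFinEquiv.symm.trans ((L.σ.sumCongr M.σ).trans finSumFinEquiv)
  invol j := by
    obtain ⟨j, rfl⟩ := finSumFinEquiv.surjective j
    cases j <;> simp [L.invol, M.invol, -finSumFinEquiv_apply_left, -finSumFinEquiv_apply_right]
  pair i := by
    obtain ⟨i, rfl⟩ := finSumFinEquiv.surjective i
    cases i <;> simp [L.pair, M.pair, -finSumFinEquiv_apply_left, -finSumFinEquiv_apply_right]
  single j := by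
    obtain ⟨j, rfl⟩ := finSumFinEquiv.surjective j
    cases j <;> simp [L.single, M.single, -finSumFinEquiv_apply_left, -finSumFinEquiv_apply_right]

theorem exists_layout_part {a k l : ℕ} (h : 2 * k + l = a) : Nonempty (Layout 1 a k l) := by
  obtain ⟨f⟩ : Nonempty (PairIdx k l ≃ Fin 1 × Fin a) := ⟨Fintype.equivOfCardEq (by simp; omega)⟩
  exact ⟨⟨f, 1, fun _ => rfl, fun _ => Subsingleton.elim _ _, fun _ => Subsingleton.elim _ _⟩⟩

/-- Two parts exchanged by the involution, holding `a` pairs. -/
def Layout.swapped (a : ℕ) : Layout 2 a a 0 where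
  e := (Equiv.sumEmpty _ _).trans (Equiv.prodComm _ _)
  σ := Equiv.swap 0 1
  invol j := Equiv.swap_apply_self _ _ j
  pair i := by simp
  single j := j.elim0

/-- Every admissible numerical datum has a layout. -/
theorem exists_layout : ∀ (t a b c : ℕ), 0 < a → 2 * b + c = t * a → Nonempty (Layout t a b c) := by
  intro t
  induction t using Nat.strong_induction_on with
  | _ t ih =>
  intro a b c ha h
  rcases Nat.eq_zero_or_pos t with rfl | ht
  · obtain ⟨rfl, rfl⟩ : b = 0 ∧ c = 0 := by omega
    exact ⟨⟨Fintype.equivOfCardEq (by simp), 1, fun _ => rfl, fun i => i.elim0, fun j => j.elim0⟩⟩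
  by_cases hswap : Odd a ∧ c = 0
  · obtain ⟨hao, rfl⟩ := hswap
    have ht2 : 2 ≤ t := by
      by_contra h1
      obtain rfl : t = 1 := by omega
      obtain ⟨w, hw⟩ := hao
      omega
    obtain ⟨t', rfl⟩ : ∃ t', t = 2 + t' := ⟨t - 2, by omega⟩
    rw [Nat.add_mul] at h
    obtain ⟨b', rfl⟩ : ∃ b', b = a + b' := ⟨b - a, by omega⟩
    obtain ⟨M⟩ := ih t' (by omega) a b' 0 ha (by omega)
    exact ⟨(Layout.swapped a).glue M⟩
  · obtain ⟨t', rfl⟩ : ∃ t', t = 1 + t' := ⟨t - 1, by omega⟩
    rw [Nat.add_mul, one_mul] at h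
    obtain ⟨k, l, hk, hl, hkl⟩ : ∃ k l, k ≤ b ∧ l ≤ c ∧ 2 * k + l = a := by
      by_cases hb : b ≤ a / 2
      · exact ⟨b, a - 2 * b, le_rfl, by omega, by omega⟩
      · refine ⟨a / 2, a % 2, by omega, ?_, by omega⟩
        by_contra hc
        exact hswap ⟨Nat.odd_iff.mpr (by omega), by omega⟩
    obtain ⟨L⟩ := exists_layout_part hkl
    obtain ⟨b', rfl⟩ : ∃ b', b = k + b' := ⟨b - k, by omega⟩
    obtain ⟨c', rfl⟩ : ∃ c', c = l + c' := ⟨c - l, by omega⟩
    obtain ⟨M⟩ := ih t' (by omega) a b' c' ha (by omega)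
    exact ⟨L.glue M⟩

open Module

variable {F V : Type*} [Field F] [AddCommGroup V] [Module F V]

/-- A basis made of pairs `(w, g w)` and eigenvectors of `g`. -/
structure PairBasis (g : V →ₗ[F] V) where
  b : ℕ
  c : ℕ
  basis : Basis (PairIdx b c) F V
  pair : ∀ i, g (basis (.inl (i, 0))) = basis (.inl (i, 1))
  single : ∀ j, ∃ μ : F, g (basis (.inr j)) = μ • basis (.inr j)

variable [FiniteDimensional F V]

theorem exists_pairBasis_of_eigen (g : V →ₗ[F] V)
    (h : Submodule.span F {v | ∃ μ : F, g v = μ • v} = ⊤) : Nonempty (PairBasis g) := by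
  obtain ⟨s, hs, hspan, hli⟩ := exists_linearIndependent F {v | ∃ μ : F, g v = μ • v}
  rw [h] at hspan
  let B : Basis s F V := Basis.mk hli (by rw [Subtype.range_coe, hspan])
  haveI : Fintype s := FiniteDimensional.fintypeBasisIndex B
  refine ⟨⟨0, Fintype.card s, B.reindex ((Fintype.equivFin s).trans (Equiv.emptySum _ _).symm),
    fun i => i.elim0, fun j => ?_⟩⟩
  obtain ⟨μ, hμ⟩ := hs ((Fintype.equivFin s).symm j).2
  exact ⟨μ, by simpa [B] using hμ⟩

theorem exists_pairBasis_of_sq_zero (g : V →ₗ[F] V) (μ : F)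
    (h : ∀ v, g (g v - μ • v) = μ • (g v - μ • v)) : Nonempty (PairBasis g) := by
  let N : V →ₗ[F] V := g - μ • LinearMap.id
  have hN : ∀ v, N v = g v - μ • v := fun v => rfl
  have hle : LinearMap.range N ≤ LinearMap.ker N := by
    rintro _ ⟨v, rfl⟩
    rw [LinearMap.mem_ker, hN, hN, h, sub_self]
  obtain ⟨W, hW⟩ := Submodule.exists_isCompl (LinearMap.ker N)
  obtain ⟨C', hC'⟩ := Submodule.exists_isCompl ((LinearMap.range N).comap (LinearMap.ker N).subtype)
  let b := finBasis F W
  let c := finBasis F C'
  let v : PairIdx (finrank F W) (finrank F C') → V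
    | .inl (i, s) => if s = 0 then (b i : V) else g (b i)
    | .inr j => ((c j : LinearMap.ker N) : V)
  have hspan : ⊤ ≤ Submodule.span F (Set.range v) := by
    have hWle : W ≤ Submodule.span F (Set.range v) := by
      intro w hw
      have := b.mem_span (⟨w, hw⟩ : W)
      have h2 : w ∈ (Submodule.span F (Set.range b)).map W.subtype := ⟨_, this, rfl⟩
      rw [Submodule.map_span] at h2
      refine Submodule.span_mono ?_ h2
      rintro _ ⟨_, ⟨i, rfl⟩, rfl⟩
      exact ⟨.inl (i, 0), by simp [v]⟩
    have hgW : ∀ w ∈ W, g w ∈ Submodule.span F (Set.range v) := by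
      intro w hw
      have := b.mem_span (⟨w, hw⟩ : W)
      have h2 : g w ∈ (Submodule.span F (Set.range b)).map (g.comp W.subtype) := ⟨_, this, rfl⟩
      rw [Submodule.map_span] at h2
      refine Submodule.span_mono ?_ h2
      rintro _ ⟨_, ⟨i, rfl⟩, rfl⟩
      exact ⟨.inl (i, 1), by simp [v]⟩
    have hC : ∀ z : C', ((z : LinearMap.ker N) : V) ∈ Submodule.span F (Set.range v) := by
      intro z
      have := c.mem_span z
      have h2 : ((z : LinearMap.ker N) : V) ∈
          (Submodule.span F (Set.range c)).map ((LinearMap.ker N).subtype.comp C'.subtype) := ⟨_, this, rfl⟩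
      rw [Submodule.map_span] at h2
      refine Submodule.span_mono ?_ h2
      rintro _ ⟨_, ⟨i, rfl⟩, rfl⟩
      exact ⟨.inr i, rfl⟩
    intro x _
    obtain ⟨k, hk, w, hw, rfl⟩ := Submodule.mem_sup.mp (hW.sup_eq_top.ge (Submodule.mem_top : x ∈ ⊤))
    obtain ⟨r, hr, z, hz, hrz⟩ := Submodule.mem_sup.mp
      (hC'.sup_eq_top.ge (Submodule.mem_top : (⟨k, hk⟩ : LinearMap.ker N) ∈ ⊤))
    obtain ⟨y, hy⟩ := hr
    refine Submodule.add_mem _ ?_ (hWle hw)
    have hk2 : k = (r : V) + (z : V) := (congrArg Subtype.val hrz).symm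
    rw [hk2]
    refine Submodule.add_mem _ ?_ (hC ⟨z, hz⟩)
    obtain ⟨k', hk', w', hw', rfl⟩ := Submodule.mem_sup.mp (hW.sup_eq_top.ge (Submodule.mem_top : y ∈ ⊤))
    rw [map_add, LinearMap.mem_ker.mp hk', zero_add] at hy
    rw [show (r : V) = N w' from hy.symm, hN]
    exact Submodule.sub_mem _ (hgW _ hw') (Submodule.smul_mem _ _ (hWle hw'))
  have hcard : Fintype.card (PairIdx (finrank F W) (finrank F C')) = finrank F V := by
    have h1 := Submodule.finrank_add_eq_of_isCompl hW
    have h2 := Submodule.finrank_add_eq_of_isCompl hC'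
    have h3 := LinearMap.finrank_range_add_finrank_ker N
    rw [(Submodule.comapSubtypeEquivOfLe hle).finrank_eq] at h2
    simp only [Fintype.card_sum, Fintype.card_prod, Fintype.card_fin]
    omega
  refine ⟨⟨_, _, basisOfTopLeSpanOfCardEqFinrank v hspan hcard, fun i => ?_, fun j => ⟨μ, ?_⟩⟩⟩
  · simp [v]
  · have := (c j : LinearMap.ker N).2
    rw [LinearMap.mem_ker, hN, sub_eq_zero] at this
    simpa [v] using this

theorem exists_pairBasis_of_nonsquare (g : V →ₗ[F] V) (lam : F) (hl : ¬ IsSquare lam)
    (h : ∀ v, g (g v) = lam • v) : Nonempty (PairBasis g) := by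
  have key : ∀ m k : ℕ, ∀ w : Fin k → V,
      LinearIndependent F (fun p : Fin k × Fin 2 => if p.2 = 0 then w p.1 else g (w p.1)) →
      finrank F V - 2 * k ≤ m → Nonempty (PairBasis g) := by
    intro m
    induction m with
    | zero =>
      intro k w hli hm
      have hle : 2 * k ≤ finrank F V := by simpa [mul_comm] using hli.fintype_card_le_finrank
      have hli' : LinearIndependent F ((fun p : Fin k × Fin 2 => if p.2 = 0 then w p.1 else g (w p.1)) ∘
          Equiv.sumEmpty (Fin k × Fin 2) (Fin 0)) := hli.comp _ (Equiv.injective _)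
      refine ⟨⟨k, 0, Basis.mk hli' (hli'.span_eq_top_of_card_eq_finrank' (by simp; omega)).ge,
        fun i => ?_, fun j => j.elim0⟩⟩
      simp
    | succ m ih =>
      intro k w hli hm
      by_cases hfull : finrank F V ≤ 2 * k
      · exact ih k w hli (by omega)
      set S := Submodule.span F (Set.range fun p : Fin k × Fin 2 => if p.2 = 0 then w p.1 else g (w p.1)) with hS
      obtain ⟨v, hv⟩ : ∃ v, v ∉ S := by
        by_contra hall
        push Not at hall
        have : finrank F V ≤ 2 * k := by
          rw [← finrank_top F V, ← (eq_top_iff.mpr fun x _ => hall x : S = ⊤), hS,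
            finrank_span_eq_card hli]
          simp [mul_comm]
        omega
      have hgS : ∀ x ∈ S, g x ∈ S := by
        intro x hx
        have : g x ∈ S.map g := ⟨x, hx, rfl⟩
        rw [hS, Submodule.map_span] at this
        refine Submodule.span_le.mpr ?_ this
        rintro _ ⟨_, ⟨⟨i, s⟩, rfl⟩, rfl⟩
        show g (if s = 0 then w i else g (w i)) ∈ S
        split
        · exact Submodule.subset_span ⟨(i, 1), by simp⟩
        · rw [h]
          exact Submodule.smul_mem _ _ (Submodule.subset_span ⟨(i, 0), by simp⟩)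
      have hind : ∀ α β : F, α • v + β • g v ∈ S → α = 0 ∧ β = 0 := by
        intro α β hab
        have h1 := hgS _ hab
        rw [map_add, map_smul, map_smul, h, smul_smul] at h1
        have h2 : (α * α - β * β * lam) • v ∈ S := by
          have := S.sub_mem (S.smul_mem α hab) (S.smul_mem β h1)
          convert this using 1
          module
        by_cases hz : α * α - β * β * lam = 0
        · by_cases hβ : β = 0
          · subst hβ; simp at hz; exact ⟨hz, rfl⟩
          · exact absurd ⟨α / β, by field_simp; linear_combination -hz⟩ hl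
        · exact absurd ((S.smul_mem_iff hz).mp h2) hv
      refine ih (k + 1) (Fin.snoc w v) ?_ (by omega)
      have e : (fun p : Fin (k + 1) × Fin 2 => if p.2 = 0 then (Fin.snoc w v : Fin (k + 1) → V) p.1
          else g ((Fin.snoc w v : Fin (k + 1) → V) p.1)) =
          Sum.elim (fun p : Fin k × Fin 2 => if p.2 = 0 then w p.1 else g (w p.1)) ![v, g v] ∘
          (((finSumFinEquiv (m := k) (n := 1)).symm.prodCongr (Equiv.refl _)).trans
            ((Equiv.sumProdDistrib _ _ _).trans ((Equiv.refl _).sumCongr (Equiv.uniqueProd _ _)))) := by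
        funext ⟨i, s⟩
        refine Fin.lastCases ?_ (fun j => ?_) i
        · fin_cases s <;> simp [finSumFinEquiv_symm_last, Equiv.uniqueProd]
        · simp [show (finSumFinEquiv (m := k) (n := 1)).symm j.castSucc = Sum.inl j from
            finSumFinEquiv_symm_apply_castAdd j]
      rw [e, linearIndependent_equiv]
      refine hli.sum_type ?_ ?_
      · rw [LinearIndependent.pair_iff]
        intro α β hz
        exact hind α β (hz ▸ S.zero_mem)
      · rw [← hS, Submodule.disjoint_def]
        intro x hx hx'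
        rw [Matrix.range_cons, Matrix.range_cons, Matrix.range_empty, Set.union_empty, Set.singleton_union,
          Submodule.mem_span_pair] at hx'
        obtain ⟨α, β, rfl⟩ := hx'
        obtain ⟨rfl, rfl⟩ := hind α β hx
        simp
  exact key (finrank F V) 0 Fin.elim0 (linearIndependent_empty_type) (by omega)

/-- A map whose square is scalar and non-zero has a basis of pairs and eigenvectors. -/
theorem exists_pairBasis (g : V →ₗ[F] V) {lam : F} (hl0 : lam ≠ 0) (h : ∀ v, g (g v) = lam • v) :
    Nonempty (PairBasis g) := by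
  by_cases hl : IsSquare lam
  · obtain ⟨μ, rfl⟩ := hl
    by_cases h2 : (2 : F) = 0
    · refine exists_pairBasis_of_sq_zero g μ fun v => ?_
      have e : ∀ x : V, -x = x := fun x => by
        have h1 : (-1 : F) = 1 := by linear_combination -h2
        rw [← neg_one_smul F x, h1, one_smul]
      rw [map_sub, map_smul, h, smul_sub, smul_smul, ← neg_sub, e]
    · refine exists_pairBasis_of_eigen g (eq_top_iff.mpr fun v _ => ?_)
      have hμ : μ ≠ 0 := fun e => hl0 (by simp [e])
      have hp : v + μ⁻¹ • g v ∈ {v | ∃ ν : F, g v = ν • v} := ⟨μ, by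
        simp only [map_add, map_smul, h, smul_add, smul_smul]
        rw [mul_inv_cancel₀ hμ, one_smul, show μ⁻¹ * (μ * μ) = μ by field_simp, add_comm]⟩
      have hm : v - μ⁻¹ • g v ∈ {v | ∃ ν : F, g v = ν • v} := ⟨-μ, by
        simp only [map_sub, map_smul, h, smul_sub, smul_smul, neg_mul, mul_inv_cancel₀ hμ, neg_smul, one_smul]
        rw [show μ⁻¹ * (μ * μ) = μ by field_simp]
        abel⟩
      have hv : v = (2 : F)⁻¹ • ((v + μ⁻¹ • g v) + (v - μ⁻¹ • g v)) := by
        rw [show (v + μ⁻¹ • g v) + (v - μ⁻¹ • g v) = (2 : F) • v by module, smul_smul, inv_mul_cancel₀ h2, one_smul]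
      rw [hv]
      exact Submodule.smul_mem _ _ (Submodule.add_mem _ (Submodule.subset_span hp) (Submodule.subset_span hm))
  · exact exists_pairBasis_of_nonsquare g lam hl h

/-- The parts of a layout applied to a basis. -/
def layoutPart {t a b c : ℕ} (L : Layout t a b c) (B : Basis (PairIdx b c) F V) (j : Fin t) : Submodule F V :=
  Submodule.span F (Set.range fun l : Fin a => B (L.e.symm (j, l)))

omit [FiniteDimensional F V] in
theorem mem_layoutPart {t a b c : ℕ} (L : Layout t a b c) (B : Basis (PairIdx b c) F V) (i : PairIdx b c) :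
    B i ∈ layoutPart L B (L.e i).1 :=
  Submodule.subset_span ⟨(L.e i).2, by simp⟩

omit [FiniteDimensional F V] in
theorem layoutPart_eq_span_image {t a b c : ℕ} (L : Layout t a b c) (B : Basis (PairIdx b c) F V) (j : Fin t) :
    layoutPart L B j = Submodule.span F (B '' {i | (L.e i).1 = j}) := by
  refine congrArg _ (Set.ext fun x => ⟨?_, ?_⟩)
  · rintro ⟨l, rfl⟩; exact ⟨_, by simp, rfl⟩
  · rintro ⟨i, rfl, rfl⟩; exact ⟨(L.e i).2, by simp⟩

omit [FiniteDimensional F V] in
theorem finrank_layoutPart {t a b c : ℕ} (L : Layout t a b c) (B : Basis (PairIdx b c) F V) (j : Fin t) :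
    finrank F (layoutPart L B j) = a := by
  rw [layoutPart, finrank_span_eq_card, Fintype.card_fin]
  exact B.linearIndependent.comp _ fun l l' h => congrArg Prod.snd (L.e.symm.injective h)

omit [FiniteDimensional F V] in
theorem iSupIndep_layoutPart {t a b c : ℕ} (L : Layout t a b c) (B : Basis (PairIdx b c) F V) :
    iSupIndep (layoutPart L B) := by
  intro j
  rw [layoutPart_eq_span_image]
  refine (B.linearIndependent.disjoint_span_image (s := {i | (L.e i).1 = j}) (t := {i | (L.e i).1 ≠ j})
    (Set.disjoint_left.mpr fun i h h' => h' h)).mono_right ?_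
  refine iSup₂_le fun k hk => ?_
  rw [layoutPart_eq_span_image]
  exact Submodule.span_mono (Set.image_mono fun i (hi : (L.e i).1 = k) => show (L.e i).1 ≠ j by rw [hi]; exact hk)

omit [FiniteDimensional F V] in
theorem iSup_layoutPart {t a b c : ℕ} (L : Layout t a b c) (B : Basis (PairIdx b c) F V) :
    iSup (layoutPart L B) = ⊤ := by
  refine top_le_iff.mp (B.span_eq.symm.le.trans (Submodule.span_le.mpr ?_))
  rintro _ ⟨i, rfl⟩
  exact le_iSup (layoutPart L B) _ (mem_layoutPart L B i)

omit [FiniteDimensional F V] in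
theorem map_layoutPart_le {g : V →ₗ[F] V} {lam : F} (h : ∀ v, g (g v) = lam • v) (P : PairBasis g) {t a : ℕ}
    (L : Layout t a P.b P.c) (j : Fin t) :
    (layoutPart L P.basis j).map g ≤ layoutPart L P.basis (L.σ j) := by
  rw [layoutPart_eq_span_image, Submodule.map_span, Submodule.span_le]
  rintro _ ⟨_, ⟨i, rfl, rfl⟩, rfl⟩
  rcases i with ⟨i, s⟩ | i
  · fin_cases s
    · show g (P.basis (.inl (i, 0))) ∈ layoutPart L P.basis (L.σ (L.e (.inl (i, 0))).1)
      rw [P.pair, ← L.pair]
      exact mem_layoutPart L P.basis _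
    · show g (P.basis (.inl (i, 1))) ∈ layoutPart L P.basis (L.σ (L.e (.inl (i, 1))).1)
      rw [← P.pair, h, L.pair, L.invol]
      exact Submodule.smul_mem _ _ (mem_layoutPart L P.basis _)
  · obtain ⟨μ, hμ⟩ := P.single i
    rw [hμ, L.single]
    exact Submodule.smul_mem _ _ (mem_layoutPart L P.basis _)

/-- A map with non-zero scalar square permutes the parts of some decomposition into `t` parts of dimension `a`. -/
theorem exists_permuted_decomposition (g : V →ₗ[F] V) {lam : F} (hl : lam ≠ 0) (h : ∀ v, g (g v) = lam • v)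
    (a t : ℕ) (ha : 0 < a) (hdim : finrank F V = a * t) :
    ∃ D : Fin t → Submodule F V, (∀ j, finrank F (D j) = a) ∧ iSupIndep D ∧ iSup D = ⊤ ∧
      ∃ σ : Equiv.Perm (Fin t), ∀ j, (D j).map g = D (σ j) := by
  obtain ⟨P⟩ := exists_pairBasis g hl h
  have hcard := Module.finrank_eq_card_basis P.basis
  simp only [Fintype.card_sum, Fintype.card_prod, Fintype.card_fin] at hcard
  obtain ⟨L⟩ := exists_layout t a P.b P.c ha (by rw [mul_comm t a, ← hdim, hcard]; omega)
  refine ⟨layoutPart L P.basis, finrank_layoutPart L P.basis, iSupIndep_layoutPart L P.basis,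
    iSup_layoutPart L P.basis, L.σ, fun j => ?_⟩
  refine Submodule.eq_of_le_of_finrank_eq (map_layoutPart_le h P L j) ?_
  have hinj : Function.Injective g := fun u v huv => by
    have := congrArg g huv
    rw [h, h] at this
    exact smul_right_injective V hl this
  rw [← (Submodule.equivMapOfInjective g hinj _).finrank_eq, finrank_layoutPart, finrank_layoutPart]

end CfsgLib.LinearElements
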