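import Cfsg.Agent.LinearElements.MinusModel
import Cfsg.Agent.StdBasis.Basic
import Cfsg.Agent.Forms.SymplecticPoints
import Cfsg.Agent.Forms4.OrthogonalOrders

/-! Quadratic forms with a given symplectic polar form in characteristic two: the two classes, the forms invariant
under an involution, and the index of an orthogonal group in the symplectic group. -/

set_option autoImplicit false

namespace CfsgLib.LinearElements

open Module QuadraticMap
open CfsgLib.StdForms (plusQ minusQ)

variable {F : Type*} [Field F]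

theorem singular_sum {V κ : Type*} [AddCommGroup V] [Module F V] (Q : QuadraticForm F V) {e : κ → V}
    (hq : ∀ i, Q (e i) = 0) (hp : ∀ i j, polar Q (e i) (e j) = 0) (c : κ → F) (s : Finset κ) :
    Q (∑ i ∈ s, c i • e i) = 0 := by
  classical
  induction s using Finset.induction_on with
  | empty => simp
  | insert i s hi ih =>
    rw [Finset.sum_insert hi, QuadraticMap.map_add (⇑Q), ih, QuadraticMap.map_smul, hq, smul_zero, zero_add, zero_add,
      CfsgLib.StdBasis.polar_sum_right]
    exact Finset.sum_eq_zero fun j _ => by rw [polar_smul_left, polar_smul_right, hp, smul_zero, smul_zero]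

/-- A non-degenerate form of even dimension is the plus form or a minus form (characteristic two). -/
theorem classify_forms [Finite F] [CharP F 2] {ι : Type} [Fintype ι] (Q : QuadraticForm F (ι → F))
    (hQ : (polarBilin Q).Nondegenerate) {d : ℕ} (hd : Fintype.card ι = 2 * (d + 1)) :
    Q.Equivalent (plusQ (d + 1) F) ∨ ∃ a b : F, CfsgLib.OrthTwo.Aniso a b ∧ Q.Equivalent (minusQ d F a b) := by
  classical
  obtain ⟨k, r, e, f, t, hn, h, hr, hr2⟩ :=
    CfsgLib.StdBasis.exists_decomp Q hQ (n := 2 * (d + 1)) (by rw [Module.finrank_fintype_fun_eq_card, hd])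
  let B := basisOfLinearIndependentOfCardEqFinrank' _ h.li (by
    rw [Module.finrank_fintype_fun_eq_card, hd, hn]
    simp only [Fintype.card_sum, Fintype.card_fin]
    omega)
  have hcoe : ∀ i, B i = Sum.elim (Sum.elim e f) t i := fun i => by simp [B]
  have hexp : ∀ g : (Fin k ⊕ Fin k) ⊕ Fin r → F, Q (B.equivFun.symm g) =
      (∑ i, g (.inl (.inl i)) * g (.inl (.inr i))) + Q (∑ l, g (.inr l) • t l) := by
    intro g
    rw [Basis.equivFun_symm_apply, Fintype.sum_sum_type, Fintype.sum_sum_type]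
    simp only [hcoe, Sum.elim_inl, Sum.elim_inr]
    have hte : polar Q (∑ i, g (.inl (.inl i)) • e i + ∑ i, g (.inl (.inr i)) • f i) (∑ l, g (.inr l) • t l) = 0 := by
      rw [polar_add_left, CfsgLib.StdBasis.polar_sum_right, CfsgLib.StdBasis.polar_sum_right]
      simp only [polar_comm (⇑Q) (∑ i, _ • e i), polar_comm (⇑Q) (∑ i, _ • f i), CfsgLib.StdBasis.polar_sum_right,
        polar_smul_left, polar_smul_right, polar_comm (⇑Q) (t _), h.te, h.tf, smul_zero, Finset.sum_const_zero, add_zero]
    have hef : polar Q (∑ i, g (.inl (.inl i)) • e i) (∑ i, g (.inl (.inr i)) • f i) =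
        ∑ i, g (.inl (.inl i)) * g (.inl (.inr i)) := by
      rw [CfsgLib.StdBasis.polar_sum_right]
      refine Finset.sum_congr rfl fun j _ => ?_
      rw [polar_smul_right, polar_comm, CfsgLib.StdBasis.polar_sum_right, Finset.sum_eq_single j
        (fun i _ hij => by rw [polar_smul_right, polar_comm, h.ef, if_neg hij, smul_zero])
        (fun hh => absurd (Finset.mem_univ _) hh), polar_smul_right, polar_comm, h.ef, if_pos rfl, smul_eq_mul,
        smul_eq_mul, mul_one, mul_comm]
    rw [QuadraticMap.map_add (⇑Q), hte, QuadraticMap.map_add (⇑Q), hef, singular_sum Q h.qe h.ee, singular_sum Q h.qf h.ff]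
    ring
  rcases (show r = 0 ∨ r = 2 by omega) with rfl | rfl
  · obtain rfl : k = d + 1 := by omega
    left
    let L : ((Fin (d + 1) ⊕ Fin (d + 1)) ⊕ Fin 0 → F) ≃ₗ[F] (Fin (d + 1) ⊕ Fin (d + 1) → F) :=
      LinearEquiv.funCongrLeft F F (Equiv.sumEmpty _ _).symm
    refine ⟨⟨B.equivFun.trans L, fun v => ?_⟩⟩
    have := hexp (B.equivFun v)
    rw [LinearEquiv.symm_apply_apply, Fintype.sum_empty (f := fun l : Fin 0 => B.equivFun v (.inr l) • t l),
      QuadraticMap.map_zero, add_zero] at this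
    rw [CfsgLib.StdForms.plusQ_apply, this]
    rfl
  · obtain rfl : k = d := by omega
    right
    obtain ⟨ht0, ht01⟩ := hr2 rfl
    have htail : ∀ g : Fin 2 → F, Q (∑ l, g l • t l) = g 0 ^ 2 + 1 * g 0 * g 1 + Q (t 1) * g 1 ^ 2 := fun g => by
      rw [Fin.sum_univ_two, QuadraticMap.map_add (⇑Q), QuadraticMap.map_smul, QuadraticMap.map_smul, polar_smul_left,
        polar_smul_right, show Q (t 0) = 1 from ht0, show polar Q (t 0) (t 1) = 1 from ht01]
      simp only [smul_eq_mul]; ring
    refine ⟨1, Q (t 1), fun z₀ z₁ hz => ?_, ⟨B.equivFun, fun v => ?_⟩⟩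
    · have := h.tail ![z₀, z₁] (by rw [htail]; simpa using hz)
      exact ⟨congrFun this 0, congrFun this 1⟩
    · have := hexp (B.equivFun v)
      rw [LinearEquiv.symm_apply_apply, htail] at this
      rw [CfsgLib.StdForms.minusQ_apply, this]
      rfl

/-- The minus form vanishes on no subspace of half the dimension. -/
theorem not_singular_half [Finite F] [CharP F 2] {ι : Type} [Fintype ι] (Q : QuadraticForm F (ι → F))
    (hQ : (polarBilin Q).Nondegenerate) {d : ℕ} (hd : Fintype.card ι = 2 * (d + 1)) {a b : F}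
    (hab : CfsgLib.OrthTwo.Aniso a b) (he : Q.Equivalent (minusQ d F a b)) {U : Submodule F (ι → F)}
    (hU : ∀ u ∈ U, Q u = 0) (hdim : finrank F U = d + 1) : False := by
  have hle : U ≤ LinearMap.BilinForm.orthogonal (polarBilin Q) U := fun v hv w hw => by
    show polar Q w v = 0
    rw [polar, hU _ (U.add_mem hw hv), hU w hw, hU v hv, sub_zero, sub_zero]
  have h1 := LinearMap.BilinForm.finrank_orthogonal hQ U
  rw [Module.finrank_fintype_fun_eq_card] at h1
  have heq := Submodule.eq_of_le_of_finrank_le hle (by omega)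
  refine CfsgLib.OrthTwo.noLagrangian_congr he.symm (minus_noLagrangian d hab) U hU fun x hx => ?_
  rw [heq]
  intro w hw
  show polar Q w x = 0
  rw [polar_comm]; exact hx w hw

/-- Forms with a Lagrangian are equivalent to the plus form. -/
theorem plus_of_singular_half [Finite F] [CharP F 2] {ι : Type} [Fintype ι] (Q : QuadraticForm F (ι → F))
    (hQ : (polarBilin Q).Nondegenerate) {d : ℕ} (hd : Fintype.card ι = 2 * (d + 1)) {U : Submodule F (ι → F)}
    (hU : ∀ u ∈ U, Q u = 0) (hdim : finrank F U = d + 1) : Q.Equivalent (plusQ (d + 1) F) := by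
  rcases classify_forms Q hQ hd with h | ⟨a, b, hab, h⟩
  · exact h
  · exact absurd (not_singular_half Q hQ hd hab h hU hdim) id

theorem exists_plus_half (d : ℕ) :
    ∃ U : Submodule F (Fin d ⊕ Fin d → F), (∀ u ∈ U, plusQ d F u = 0) ∧ finrank F U = d := by
  let L : (Fin d → F) →ₗ[F] (Fin d ⊕ Fin d → F) :=
    { toFun := fun x => Sum.elim x 0
      map_add' := fun x y => funext fun i => by rcases i with i | i <;> simp
      map_smul' := fun c x => funext fun i => by rcases i with i | i <;> simp }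
  refine ⟨LinearMap.range L, ?_, ?_⟩
  · rintro _ ⟨x, rfl⟩
    simp [CfsgLib.StdForms.plusQ_apply, Cfsg.quadFormPlus, L]
  · rw [LinearMap.finrank_range_of_inj (f := L) (fun x y h => funext fun i => congrFun h (.inl i)),
      Module.finrank_fin_fun]

theorem singular_half_of_equivalent {ι : Type} [Fintype ι] (Q : QuadraticForm F (ι → F)) {d : ℕ}
    (he : Q.Equivalent (plusQ d F)) : ∃ U : Submodule F (ι → F), (∀ u ∈ U, Q u = 0) ∧ finrank F U = d := by
  obtain ⟨e⟩ := he
  obtain ⟨U, hU, hd⟩ := exists_plus_half (F := F) d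
  refine ⟨U.map e.toLinearEquiv.symm.toLinearMap, ?_, by rw [LinearEquiv.finrank_map_eq, hd]⟩
  rintro _ ⟨u, hu, rfl⟩
  rw [← e.map_app]
  exact (congrArg _ (e.toLinearEquiv.apply_symm_apply u)).trans (hU u hu)

/-- The additive map `t ↦ t² + t` has image of index two. -/
theorem exists_artinSchreier_image [Finite F] [CharP F 2] :
    ∃ S : AddSubgroup F, S.index = 2 ∧ ∀ s, s ∈ S ↔ ∃ t : F, t ^ 2 + t = s := by
  classical
  cases nonempty_fintype F
  let φ : F →+ F := AddMonoidHom.mk' (fun t => t ^ 2 + t) fun x y => by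
    linear_combination (x * y) * (CharTwo.two_eq_zero (R := F))
  refine ⟨φ.range, ?_, fun s => Iff.rfl⟩
  have h1 := φ.range.card_mul_index
  have h2 := φ.ker.card_mul_index
  rw [AddSubgroup.index_ker] at h2
  have h3 : Nat.card φ.ker = 2 := by
    rw [Nat.card_eq_two_iff]
    refine ⟨0, ⟨1, show (1 : F) ^ 2 + 1 = 0 by rw [one_pow]; exact CharTwo.add_self_eq_zero 1⟩,
      fun h => zero_ne_one (congrArg Subtype.val h), Set.eq_univ_of_forall fun x => ?_⟩
    have h : (x : F) * (x + 1) = 0 := by
      have : (x : F) ^ 2 + x = 0 := x.2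
      linear_combination this
    rcases mul_eq_zero.1 h with h | h
    · exact Or.inl (Subtype.ext h)
    · refine Or.inr (Subtype.ext ?_)
      show (x : F) = 1
      rw [eq_neg_of_add_eq_zero_left h, CharTwo.neg_eq]
  have h4 : 0 < Nat.card φ.range := Nat.card_pos
  rw [h3] at h2
  nlinarith

variable {m : ℕ}

local notation "V" => (Fin m ⊕ Fin m → F)
local notation "ω" => Cfsg.sympForm m F

/-- `Q` plus the square of the functional `f(·, a)`. -/
noncomputable def shiftForm (Q : QuadraticForm F V) (a : V) : QuadraticForm F V :=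
  Q + QuadraticMap.linMulLin ((CfsgLib.Forms.sympBilin m F).flip a) ((CfsgLib.Forms.sympBilin m F).flip a)

theorem shiftForm_apply (Q : QuadraticForm F V) (a v : V) : shiftForm Q a v = Q v + ω v a * ω v a := by
  simp [shiftForm, CfsgLib.Forms.sympBilin_apply]

theorem shiftForm_polar [CharP F 2] {Q : QuadraticForm F V} (hQ : ∀ u v, polar Q u v = ω u v) (a u v : V) :
    polar (shiftForm Q a) u v = ω u v := by
  have h := hQ u v
  simp only [polar, shiftForm_apply] at h ⊢
  have e : ω (u + v) a = ω u a + ω v a := by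
    simp only [← CfsgLib.Forms.sympBilin_apply, map_add, LinearMap.add_apply]
  rw [e]
  linear_combination h + ω u a * ω v a * (CharTwo.two_eq_zero (R := F))

theorem nondegenerate_of_polar {Q : QuadraticForm F V} (hQ : ∀ u v, polar Q u v = ω u v) :
    (polarBilin Q).Nondegenerate :=
  CfsgLib.StdForms.nondegenerate_of_sep _ fun x hx => CfsgLib.Forms.sympForm_sep x fun v => (hQ x v).symm.trans (hx v)

/-- An equivalence between forms of polar `f` is symplectic. -/
theorem exists_spGL_of_forms {Q Q' : QuadraticForm F V} (hQ : ∀ u v, polar Q u v = ω u v)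
    (hQ' : ∀ u v, polar Q' u v = ω u v) (h : Q'.Equivalent Q) :
    ∃ g ∈ Cfsg.spGL m F, ∀ v, Q' ((g : Matrix (Fin m ⊕ Fin m) (Fin m ⊕ Fin m) F).mulVec v) = Q v := by
  obtain ⟨e⟩ := h.symm
  obtain ⟨A, hA⟩ := CfsgLib.Forms.exists_spGL_of_linearEquiv e.toLinearEquiv fun u v => by
    rw [← hQ', ← hQ, polar, polar, ← map_add]
    exact congr_arg₂ (· - ·) (congr_arg₂ (· - ·) (e.map_app _) (e.map_app _)) (e.map_app _)
  refine ⟨A, A.2, fun v => ?_⟩
  exact (congrArg Q' (hA v)).trans (e.map_app v)

/-- Shifting by a vector with value `t² + t` gives an equivalent form. -/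
theorem shiftForm_equivalent [CharP F 2] {Q : QuadraticForm F V} (hQ : ∀ u v, polar Q u v = ω u v) {a : V} {t : F}
    (ht : t ^ 2 + t = Q a) : (shiftForm Q a).Equivalent Q := by
  obtain ⟨lam, hlam⟩ : ∃ lam : F, lam ^ 2 * Q a + lam = 1 := by
    by_cases h0 : Q a = 0
    · exact ⟨1, by rw [h0, mul_zero, zero_add]⟩
    · refine ⟨t / Q a, ?_⟩
      field_simp
      linear_combination ht
  have hadd : ∀ u v, ω (u + v) a = ω u a + ω v a := fun u v => by
    simp only [← CfsgLib.Forms.sympBilin_apply, map_add, LinearMap.add_apply]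
  have hsm : ∀ (c : F) u, ω (c • u) a = c * ω u a := fun c u => by
    simp only [← CfsgLib.Forms.sympBilin_apply, map_smul, LinearMap.smul_apply, smul_eq_mul]
  have h2 : (2 : F) = 0 := CharTwo.two_eq_zero
  let h : V →ₗ[F] V :=
    { toFun := fun v => v + (lam * ω v a) • a
      map_add' := fun u v => by rw [hadd]; module
      map_smul' := fun c u => by rw [hsm, RingHom.id_apply]; module }
  have hh : ∀ v, h (h v) = v := fun v => by
    show v + (lam * ω v a) • a + (lam * ω (v + (lam * ω v a) • a) a) • a = v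
    rw [hadd, hsm, CfsgLib.Forms.sympForm_self, mul_zero, add_zero, add_assoc, ← add_smul, ← two_mul, h2, zero_mul,
      zero_smul, add_zero]
  refine ⟨⟨LinearEquiv.ofLinearMap h h (LinearMap.ext hh) (LinearMap.ext hh), fun v => ?_⟩⟩
  show Q (v + (lam * ω v a) • a) = shiftForm Q a v
  rw [QuadraticMap.map_add (⇑Q), QuadraticMap.map_smul, polar_smul_right, hQ, shiftForm_apply, smul_eq_mul, smul_eq_mul]
  linear_combination (ω v a * ω v a) * hlam

/-- A symplectic involution preserves a form of a given class, unless that class is minus and half the dimension is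
even. -/
theorem exists_invariant_form [Finite F] [CharP F 2] {d : ℕ} (hm : m = d + 1) {Q : QuadraticForm F V}
    (hQ : ∀ u v, polar Q u v = ω u v) (hcase : Q.Equivalent (plusQ (d + 1) F) ∨ Odd (d + 1))
    {x : V →ₗ[F] V} (hxx : ∀ v, x (x v) = v) (hx : ∀ u v, ω (x u) (x v) = ω u v) :
    ∃ a : V, (shiftForm Q a).Equivalent Q ∧ ∀ v, shiftForm Q a (x v) = shiftForm Q a v := by
  classical
  cases nonempty_fintype F
  let B := CfsgLib.Forms.sympBilin m F
  have hB : ∀ u v, B u v = ω u v := CfsgLib.Forms.sympBilin_apply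
  have h2 : (2 : F) = 0 := CharTwo.two_eq_zero
  have hsym : ∀ u v, ω u v = ω v u := fun u v => by rw [CfsgLib.Forms.sympForm_swap, CharTwo.neg_eq]
  set N : V →ₗ[F] V := x + LinearMap.id with hN
  have hNv : ∀ v, N v = x v + v := fun v => rfl
  have hadj : ∀ u v, ω (N u) v = ω u (N v) := fun u v => by
    have e : ω (x u) v = ω u (x v) := by rw [← hx, hxx]
    simp only [hNv, ← hB, map_add, LinearMap.add_apply] at e ⊢
    linear_combination e
  -- the functional measuring the failure of invariance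
  have hD : ∀ u v, Q (x (u + v)) + Q (u + v) = (Q (x u) + Q u) + (Q (x v) + Q v) := fun u v => by
    rw [map_add, QuadraticMap.map_add (⇑Q), QuadraticMap.map_add (⇑Q), hQ, hQ, hx]
    linear_combination ω u v * h2
  have hsc : ∀ (c : F) u, Q (x (c • u)) + Q (c • u) = c * c * (Q (x u) + Q u) := fun c u => by
    rw [map_smul, QuadraticMap.map_smul, QuadraticMap.map_smul, smul_eq_mul, smul_eq_mul]; ring
  have hinj : Function.Injective (frobenius F 2) := frobenius_inj F 2
  choose s hs using fun v => (Finite.surjective_of_injective hinj) (Q (x v) + Q v)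
  simp only [frobenius_def] at hs
  let L : V →ₗ[F] F :=
    { toFun := s
      map_add' := fun u v => hinj (by
        simp only [frobenius_def]
        rw [hs, hD, ← hs, ← hs]
        linear_combination -(s u * s v) * h2)
      map_smul' := fun c u => hinj (by
        simp only [frobenius_def, RingHom.id_apply, smul_eq_mul]
        rw [hs, hsc, mul_pow, hs]; ring) }
  let e : V := (LinearMap.BilinForm.toDual B CfsgLib.Forms.sympBilin_nondegenerate).symm L
  have he : ∀ v, ω e v = s v := fun v => by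
    rw [← hB]; exact LinearMap.BilinForm.apply_toDual_symm_apply L v
  set K := LinearMap.ker N
  have hmemK : ∀ v, v ∈ K ↔ x v = v := fun v => by
    rw [LinearMap.mem_ker, hNv, add_eq_zero_iff_eq_neg,
      show -v = v by rw [← neg_one_smul F v, CharTwo.neg_eq (1 : F), one_smul]]
  have hRle : LinearMap.range N ≤ LinearMap.BilinForm.orthogonal B K := by
    rintro _ ⟨u, rfl⟩ k hk
    show B k (N u) = 0
    rw [hB, hsym, hadj, LinearMap.mem_ker.mp hk, ← hB, map_zero]
  have hR : LinearMap.range N = LinearMap.BilinForm.orthogonal B K := by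
    refine Submodule.eq_of_le_of_finrank_le hRle ?_
    have := LinearMap.BilinForm.finrank_orthogonal CfsgLib.Forms.sympBilin_nondegenerate (B := B) K
    have := LinearMap.finrank_range_add_finrank_ker N
    have h3 : finrank F (LinearMap.ker N) = finrank F K := rfl
    omega
  obtain ⟨a₀, ha₀⟩ : e ∈ LinearMap.range N := by
    rw [hR]
    intro k hk
    show B k e = 0
    rw [hB, hsym, he]
    refine hinj ?_
    rw [frobenius_def, frobenius_def, hs, (hmemK k).mp hk, CharTwo.add_self_eq_zero]
    simp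
  have hinv : ∀ a, N a = e → ∀ v, shiftForm Q a (x v) = shiftForm Q a v := fun a ha v => by
    have h1 : s v = ω (x v) a + ω v a := by
      rw [← he, hsym, ← ha, ← hadj, hNv, ← hB, map_add, LinearMap.add_apply, hB, hB]
    have h := hs v
    rw [h1] at h
    rw [shiftForm_apply, shiftForm_apply]
    linear_combination -h + (ω (x v) a * ω (x v) a + ω (x v) a * ω v a - Q v) * h2
  obtain ⟨S, hS, hSmem⟩ := exists_artinSchreier_image (F := F)
  by_cases hgood : ∃ a, N a = e ∧ Q a ∈ S
  · obtain ⟨a, ha, haS⟩ := hgood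
    obtain ⟨t, ht⟩ := (hSmem _).mp haS
    exact ⟨a, shiftForm_equivalent hQ ht, hinv a ha⟩
  push Not at hgood
  -- now the fixed space is singular for the shifted form
  obtain ⟨c₀, hc₀⟩ : ∃ c : F, c ∉ S := ⟨_, hgood a₀ ha₀⟩
  have hK : ∀ k ∈ K, shiftForm Q a₀ k = 0 := by
    intro k hk
    by_contra hne
    obtain ⟨w, hw⟩ := (Finite.surjective_of_injective hinj) (c₀ / shiftForm Q a₀ k)
    rw [frobenius_def] at hw
    have hin : ∀ t : F, t * ω k a₀ + t * t * Q k ∈ S := fun t => by
      have h1 := hgood (a₀ + t • k) (by rw [map_add, map_smul, LinearMap.mem_ker.mp hk, smul_zero, add_zero, ha₀])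
      rw [QuadraticMap.map_add (⇑Q), QuadraticMap.map_smul, polar_smul_right, hQ, hsym, smul_eq_mul, smul_eq_mul,
        add_assoc, AddSubgroup.add_mem_iff_of_index_two hS] at h1
      by_contra hn
      refine h1 (iff_of_false (hgood a₀ ha₀) fun h => hn ?_)
      rwa [add_comm]
    refine hc₀ ?_
    have h4 : (w * ω k a₀) ^ 2 + w * ω k a₀ ∈ S := (hSmem _).mpr ⟨_, rfl⟩
    have h5 := S.add_mem (hin w) h4
    rw [show c₀ = w * w * shiftForm Q a₀ k by rw [← _root_.sq, hw, div_mul_cancel₀ _ hne], shiftForm_apply]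
    convert h5 using 1
    linear_combination -(w * ω k a₀) * h2
  have hKle : K ≤ LinearMap.BilinForm.orthogonal B K := fun v hv u hu => by
    show B u v = 0
    rw [hB, ← shiftForm_polar hQ a₀, polar, hK _ (K.add_mem hu hv), hK u hu, hK v hv, sub_zero, sub_zero]
  have hKd : finrank F K = d + 1 := by
    have := LinearMap.BilinForm.finrank_orthogonal CfsgLib.Forms.sympBilin_nondegenerate (B := B) K
    have := Submodule.finrank_mono hKle
    have hRK : LinearMap.range N ≤ K := by
      rintro _ ⟨u, rfl⟩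
      rw [hmemK, hNv, map_add, hxx, add_comm]
    have := Submodule.finrank_mono hRK
    have := LinearMap.finrank_range_add_finrank_ker N
    have h3 : finrank F (LinearMap.ker N) = finrank F K := rfl
    have hV : finrank F V = 2 * (d + 1) := by rw [CfsgLib.Forms.finrank_sympSpace, hm]
    omega
  have hcard : Fintype.card (Fin m ⊕ Fin m) = 2 * (d + 1) := by simp [hm, two_mul]
  have hplus := plus_of_singular_half _ (nondegenerate_of_polar (shiftForm_polar hQ a₀)) hcard hK hKd
  rcases hcase with h | hodd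
  · exact ⟨a₀, hplus.trans h.symm, hinv a₀ ha₀⟩
  · -- `f(N v, v)` vanishes identically, so half the dimension is even
    exfalso
    refine Nat.not_even_iff_odd.mpr hodd (even_of_singular_fixed (shiftForm Q a₀)
      (nondegenerate_of_polar (shiftForm_polar hQ a₀)) (by rw [CfsgLib.Forms.finrank_sympSpace, hm]) (g := x) hxx
      (hinv a₀ ha₀) fun v hv => hK v ((hmemK v).mpr hv))

/-- The similarity group of a form inside `Sp`: its index divides `q ^ d (q ^ d ± 1)`. -/
theorem index_dvd [Fintype F] [CharP F 2] {d : ℕ} (hm : m = d + 1) {Q : QuadraticForm F V}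
    (hQ : ∀ u v, polar Q u v = ω u v) :
    (Q.Equivalent (plusQ (d + 1) F) ∧
      (Cfsg.Geo.quadSimilarityGroup ⇑Q).relIndex (Cfsg.spGL m F) ∣
        Fintype.card F ^ (d + 1) * (Fintype.card F ^ (d + 1) + 1)) ∨
    ((∃ a b, CfsgLib.OrthTwo.Aniso a b ∧ Q.Equivalent (minusQ d F a b)) ∧
      (Cfsg.Geo.quadSimilarityGroup ⇑Q).relIndex (Cfsg.spGL m F) ∣
        Fintype.card F ^ (d + 1) * (Fintype.card F ^ (d + 1) - 1)) := by
  classical
  subst hm
  set q := Fintype.card F with hq
  have hq1 : 1 < q := Fintype.one_lt_card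
  have hcardSp : Nat.card (Cfsg.spGL (d + 1) F) =
      q ^ ((d + 1) ^ 2) * ((∏ i ∈ Finset.range d, (q ^ (2 * (i + 1)) - 1)) * (q ^ (2 * (d + 1)) - 1)) := by
    rw [← Finset.prod_range_succ, ← CfsgLib.Forms.card_symplecticGroup]
    let e : Cfsg.spGL (d + 1) F ≃ Matrix.symplecticGroup (Fin (d + 1)) F :=
      Equiv.ofBijective (fun g => ⟨(g.1 : Matrix _ _ F), CfsgLib.Forms.mem_symplecticGroup_iff_form.mpr fun u v => g.2 u v⟩)
        ⟨fun g h e => Subtype.ext (Units.ext (congrArg Subtype.val e)), fun A => by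
          refine ⟨⟨⟨A.1, (A⁻¹).1, congrArg Subtype.val (mul_inv_cancel A), congrArg Subtype.val (inv_mul_cancel A)⟩,
            CfsgLib.Forms.mem_symplecticGroup_iff_form.mp A.2⟩, rfl⟩⟩
    exact Nat.card_congr e
  have hle : Cfsg.isometryGroup F ⇑Q ≤ Cfsg.Geo.quadSimilarityGroup ⇑Q ⊓ Cfsg.spGL (d + 1) F := fun g hg => by
    have h1 : ∀ v, Q ((g : Matrix (Fin (d + 1) ⊕ Fin (d + 1)) (Fin (d + 1) ⊕ Fin (d + 1)) F).mulVec v) = Q v :=
      fun v => hg v v
    refine ⟨⟨1, fun v => by rw [Units.val_one, one_mul]; exact h1 v⟩, fun u v => ?_⟩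
    show Cfsg.sympForm (d + 1) F _ _ = _
    rw [← hQ, ← hQ, polar, polar]
    simp only [← Matrix.mulVec_add]
    exact congr_arg₂ (· - ·) (congr_arg₂ (· - ·) (h1 _) (h1 _)) (h1 _)
  obtain ⟨t, ht⟩ : Nat.card (Cfsg.isometryGroup F ⇑Q) ∣
      Nat.card ((Cfsg.Geo.quadSimilarityGroup ⇑Q).subgroupOf (Cfsg.spGL (d + 1) F)) := by
    rw [← Subgroup.inf_subgroupOf_right, Nat.card_congr (Subgroup.subgroupOfEquivOfLe inf_le_right).toEquiv]
    exact Subgroup.card_dvd_of_le hle
  have hidx := Subgroup.index_mul_card ((Cfsg.Geo.quadSimilarityGroup ⇑Q).subgroupOf (Cfsg.spGL (d + 1) F))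
  rw [hcardSp, ht, show q ^ (2 * (d + 1)) - 1 = (q ^ (d + 1) + 1) * (q ^ (d + 1) - 1) by
    rw [← Nat.sq_sub_sq, one_pow, ← pow_mul, mul_comm 2]] at hidx
  set I := ((Cfsg.Geo.quadSimilarityGroup ⇑Q).subgroupOf (Cfsg.spGL (d + 1) F)).index
  have hP : 0 < ∏ i ∈ Finset.range d, (q ^ (2 * (i + 1)) - 1) := Finset.prod_pos fun i _ => by
    have : 1 < q ^ (2 * (i + 1)) := Nat.one_lt_pow (by omega) hq1
    omega
  have hqd : 1 < q ^ (d + 1) := Nat.one_lt_pow (by omega) hq1
  have hpow : q ^ ((d + 1) ^ 2) = q ^ (d + 1) * q ^ ((d + 1) * d) := by rw [← pow_add]; ring_nf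
  have hcongr : ∀ {κ : Type} [Fintype κ] [DecidableEq κ] (Q' : QuadraticForm F (κ → F)), Q.Equivalent Q' →
      Nat.card (Cfsg.isometryGroup F ⇑Q) = Nat.card (Cfsg.isometryGroup F ⇑Q') := by
    intro κ _ _ Q' he
    obtain ⟨e⟩ := he
    obtain ⟨φ, hφ⟩ := CfsgLib.FieldEmb.exists_hom_of_equiv ⇑Q ⇑Q' e.toLinearEquiv e.map_app
    obtain ⟨χ, hχ⟩ := CfsgLib.FieldEmb.exists_hom_of_equiv ⇑Q' ⇑Q e.toLinearEquiv.symm fun v => by
      rw [← e.map_app]; exact congrArg _ (e.toLinearEquiv.apply_symm_apply v)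
    exact le_antisymm (Nat.card_le_card_of_injective φ hφ) (Nat.card_le_card_of_injective χ hχ)
  rcases classify_forms Q (nondegenerate_of_polar hQ) (d := d) (by simp [two_mul]) with he | ⟨a, b, hab, he⟩
  · refine Or.inl ⟨he, t * 2, Eq.symm ?_⟩
    show I * (t * 2) = _
    rw [hcongr _ he, CfsgLib.StdForms.coe_plusQ,
      CfsgLib.Forms4.card_isometryGroup_quadFormPlus rfl (d + 1) (by omega), Nat.add_sub_cancel, hpow, ← hq] at hidx
    refine Nat.eq_of_mul_eq_mul_right (Nat.mul_pos (Nat.mul_pos (pow_pos (by omega : 0 < q) ((d + 1) * d))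
      (show 0 < q ^ (d + 1) - 1 by omega)) hP) ?_
    calc _ = I * (2 * q ^ ((d + 1) * d) * (q ^ (d + 1) - 1) * (∏ i ∈ Finset.range d, (q ^ (2 * (i + 1)) - 1)) * t) := by
            ring
      _ = _ := hidx
      _ = _ := by ring
  · refine Or.inr ⟨⟨a, b, hab, he⟩, t * 2, Eq.symm ?_⟩
    show I * (t * 2) = _
    rw [hcongr _ he, CfsgLib.StdForms.coe_minusQ] at hidx
    have hc : Nat.card (Cfsg.isometryGroup F (Cfsg.quadFormMinus d F a b)) =
        2 * Fintype.card F ^ ((d + 1) * d) * (Fintype.card F ^ (d + 1) + 1) *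
          ∏ i ∈ Finset.range d, (Fintype.card F ^ (2 * (i + 1)) - 1) :=
      CfsgLib.Forms4.card_isometryGroup_quadFormMinus (F := F) rfl (d + 1) (by omega) a b hab
    rw [hc, hpow, ← hq] at hidx
    refine Nat.eq_of_mul_eq_mul_right (Nat.mul_pos (Nat.mul_pos (pow_pos (by omega : 0 < q) ((d + 1) * d))
      (show 0 < q ^ (d + 1) + 1 by omega)) hP) ?_
    calc _ = I * (2 * q ^ ((d + 1) * d) * (q ^ (d + 1) + 1) * (∏ i ∈ Finset.range d, (q ^ (2 * (i + 1)) - 1)) * t) := by
            ring
      _ = _ := hidx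
      _ = _ := by ring

end CfsgLib.LinearElements
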