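import Mathlib

/-! The number of subspaces of given dimension: product identity, symmetry, and divisibility by primes. -/

set_option autoImplicit false

namespace CfsgLib.LinearElements

open Module Finset

variable {F : Type*} [Field F] [Fintype F]

/-- The number of `m`-dimensional subspaces. -/
noncomputable def numSub (F V : Type*) [Field F] [AddCommGroup V] [Module F V] (m : ℕ) : ℕ :=
  Nat.card {W : Submodule F V // finrank F W = m}

/-- `(q ^ n - 1) (q ^ (n-1) - 1) ⋯` with `m` factors. -/
def qProd (q n m : ℕ) : ℕ := ∏ j ∈ Finset.range m, (q ^ (n - j) - 1)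

theorem qProd_pos {q : ℕ} (hq : 2 ≤ q) {n m : ℕ} (hm : m ≤ n) : 0 < qProd q n m := by
  refine Finset.prod_pos fun j hj => ?_
  have : 1 < q ^ (n - j) := Nat.one_lt_pow (by have := Finset.mem_range.mp hj; omega) hq
  omega

theorem qProd_split (q n m : ℕ) (hm : m ≤ n) : qProd q n m * qProd q (n - m) (n - m) = qProd q n n := by
  obtain ⟨d, rfl⟩ := Nat.exists_eq_add_of_le hm
  rw [qProd, qProd, qProd, Finset.prod_range_add, Nat.add_sub_cancel_left]
  congr 1
  exact Finset.prod_congr rfl fun j _ => by rw [Nat.add_sub_add_left]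

theorem prod_sub_eq (q n m : ℕ) (hm : m ≤ n) :
    ∏ j : Fin m, (q ^ n - q ^ (j : ℕ)) = (∏ j ∈ Finset.range m, q ^ j) * qProd q n m := by
  rw [qProd, ← Finset.prod_mul_distrib, Finset.prod_range (f := fun j => q ^ j * (q ^ (n - j) - 1))]
  refine Finset.prod_congr rfl fun j _ => ?_
  rw [Nat.mul_sub, mul_one, ← pow_add, Nat.add_sub_cancel' (by omega)]

variable {V : Type*} [AddCommGroup V] [Module F V] [FiniteDimensional F V]

theorem numSub_mul_qProd {m : ℕ} (hm : m ≤ finrank F V) :
    numSub F V m * qProd (Fintype.card F) m m = qProd (Fintype.card F) (finrank F V) m := by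
  classical
  haveI : Finite V := Module.finite_of_finite F
  haveI : Finite (Submodule F V) := Finite.of_injective (fun W => (W : Set V)) SetLike.coe_injective
  haveI := Fintype.ofFinite {W : Submodule F V // finrank F W = m}
  have e : {s : Fin m → V // LinearIndependent F s} ≃
      Σ W : {W : Submodule F V // finrank F W = m}, {s : Fin m → (W : Submodule F V) // LinearIndependent F s} :=
    Equiv.symm <| Equiv.ofBijective
      (fun x => ⟨fun i => ((x.2.1 i : (x.1 : Submodule F V)) : V),
        x.2.2.map' (x.1 : Submodule F V).subtype (Submodule.ker_subtype _)⟩)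
      ⟨fun x y h => by
        have hspan : ∀ x : Σ W : {W : Submodule F V // finrank F W = m},
            {s : Fin m → (W : Submodule F V) // LinearIndependent F s},
            Submodule.span F (Set.range fun i => ((x.2.1 i : (x.1 : Submodule F V)) : V)) = (x.1 : Submodule F V) := by
          intro x
          refine Submodule.eq_of_le_of_finrank_eq (Submodule.span_le.mpr (by rintro _ ⟨i, rfl⟩; exact (x.2.1 i).2)) ?_
          have hl : LinearIndependent F (fun i => ((x.2.1 i : (x.1 : Submodule F V)) : V)) :=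
            x.2.2.map' (x.1 : Submodule F V).subtype (Submodule.ker_subtype _)
          rw [finrank_span_eq_card hl, Fintype.card_fin]
          exact x.1.2.symm
        have hfun := congrArg Subtype.val h
        simp only at hfun
        have h1 : x.1 = y.1 := Subtype.ext (by rw [← hspan x, ← hspan y, hfun])
        obtain ⟨W, s⟩ := x
        obtain ⟨W', s'⟩ := y
        cases h1
        exact Sigma.ext rfl (heq_of_eq (Subtype.ext (funext fun i => Subtype.ext (congrFun hfun i)))),
      fun s => ⟨⟨⟨Submodule.span F (Set.range s.1), by rw [finrank_span_eq_card s.2, Fintype.card_fin]⟩,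
        ⟨fun i => ⟨s.1 i, Submodule.subset_span ⟨i, rfl⟩⟩, linearIndependent_span s.2⟩⟩, rfl⟩⟩
  have h := Nat.card_congr e
  rw [card_linearIndependent hm, Nat.card_sigma] at h
  have h1 : ∀ W : {W : Submodule F V // finrank F W = m},
      Nat.card {s : Fin m → (W : Submodule F V) // LinearIndependent F s} =
        ∏ i : Fin m, (Fintype.card F ^ m - Fintype.card F ^ (i : ℕ)) := fun W => by
    rw [card_linearIndependent (by rw [W.2]), W.2]
  rw [Finset.sum_congr rfl (fun W _ => h1 W), Finset.sum_const, Finset.card_univ, smul_eq_mul,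
    ← Nat.card_eq_fintype_card, prod_sub_eq _ _ _ hm, prod_sub_eq _ _ _ le_rfl] at h
  have hpos : 0 < ∏ j ∈ Finset.range m, Fintype.card F ^ j := Finset.prod_pos fun j _ => pow_pos Fintype.card_pos _
  refine Nat.eq_of_mul_eq_mul_left hpos ?_
  rw [Nat.card_eq_fintype_card (α := F)] at h
  rw [h, numSub, Nat.card_eq_fintype_card]; ring

theorem numSub_symm {m : ℕ} (hm : m ≤ finrank F V) : numSub F V m = numSub F V (finrank F V - m) := by
  set n := finrank F V
  have hq : 2 ≤ Fintype.card F := Fintype.one_lt_card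
  have h1 := numSub_mul_qProd (F := F) (V := V) hm
  have h2 := numSub_mul_qProd (F := F) (V := V) (Nat.sub_le n m)
  have e1 := qProd_split (Fintype.card F) n m hm
  have e2 := qProd_split (Fintype.card F) n (n - m) (Nat.sub_le n m)
  rw [← h1] at e1
  rw [← h2, Nat.sub_sub_self hm] at e2
  refine Nat.eq_of_mul_eq_mul_left (Nat.mul_pos (qProd_pos hq (le_refl m)) (qProd_pos hq (le_refl (n - m)))) ?_
  linarith [e1, e2]

/-- The number of subspaces is prime to the characteristic. -/
theorem not_dvd_numSub {p : ℕ} [Fact p.Prime] [CharP F p] {m : ℕ} (hm : m ≤ finrank F V) :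
    ¬ p ∣ numSub F V m := by
  intro h
  have h1 : p ∣ qProd (Fintype.card F) (finrank F V) m := numSub_mul_qProd hm ▸ Dvd.dvd.mul_right h _
  obtain ⟨j, hj, hdvd⟩ := (Nat.Prime.prime Fact.out).exists_mem_finset_dvd h1
  obtain ⟨f, -, hf⟩ := FiniteField.card F p
  have hpq : p ∣ Fintype.card F ^ (finrank F V - j) := by
    rw [hf]
    exact dvd_pow (dvd_pow_self p f.ne_zero) (by have := Finset.mem_range.mp hj; omega)
  have h2 := Nat.dvd_sub hpq hdvd
  have hpos : 1 ≤ Fintype.card F ^ (finrank F V - j) := Nat.one_le_pow _ _ Fintype.card_pos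
  rw [Nat.sub_sub_self hpos] at h2
  exact Nat.Prime.not_dvd_one Fact.out h2

/-- A prime dividing the number of `m`-spaces has small order. -/
theorem mod_lt_of_dvd_numSub {r : ℕ} [Fact r.Prime] {m : ℕ} (hm : m ≤ finrank F V) (h : r ∣ numSub F V m) :
    0 < orderOf (Fintype.card F : ZMod r) →
      finrank F V % orderOf (Fintype.card F : ZMod r) < m ∧ orderOf (Fintype.card F : ZMod r) ≤ finrank F V := by
  intro hi
  have h1 : r ∣ qProd (Fintype.card F) (finrank F V) m := numSub_mul_qProd hm ▸ Dvd.dvd.mul_right h _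
  obtain ⟨j, hj, hdvd⟩ := (Nat.Prime.prime Fact.out).exists_mem_finset_dvd h1
  rw [Finset.mem_range] at hj
  have hpos : 1 ≤ Fintype.card F ^ (finrank F V - j) := Nat.one_le_pow _ _ Fintype.card_pos
  have h2 : ((Fintype.card F ^ (finrank F V - j) - 1 : ℕ) : ZMod r) = 0 := (ZMod.natCast_eq_zero_iff _ _).mpr hdvd
  rw [Nat.cast_sub hpos, Nat.cast_pow, Nat.cast_one, sub_eq_zero] at h2
  have h3 := orderOf_dvd_of_pow_eq_one h2
  set i := orderOf (Fintype.card F : ZMod r)
  have h4 : j % i = finrank F V % i := (Nat.modEq_iff_dvd' (by omega)).mpr h3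
  exact ⟨lt_of_le_of_lt (h4 ▸ Nat.mod_le j i) hj, (Nat.le_of_dvd (by omega) h3).trans (Nat.sub_le _ _)⟩

end CfsgLib.LinearElements
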