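import Cfsg.Agent.LinearElements.Decompositions
import Cfsg.Agent.LinearElements.SubspaceCount
import Cfsg.Prelude.Def_GeometricClasses

/-! Permuted decompositions into lines, and the number of decompositions. -/

set_option autoImplicit false

namespace CfsgLib.LinearElements

open Module

variable {F V : Type*} [Field F] [Fintype F] [AddCommGroup V] [Module F V] [FiniteDimensional F V]

/-- A fixed-point-free invariant space is generated by `J` vectors. -/
theorem exists_cyclic_family {g : Module.End F V} {r : ℕ} [Fact r.Prime] (hrF : (r : F) ≠ 0) (hg : g ^ r = 1)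
    (hq : (Fintype.card F : ZMod r) ≠ 0) : ∀ (J : ℕ) (M : Submodule F V), InvBy g M → fixedIn g M = ⊥ →
      finrank F M = J * orderOf (Fintype.card F : ZMod r) →
      ∃ w : Fin J → V, (∀ i, w i ∈ M) ∧
        M ≤ Submodule.span F (Set.range fun x : Fin J × Fin r => (g ^ (x.2 : ℕ)) (w x.1)) := by
  intro J
  induction J with
  | zero =>
    intro M _ _ hd
    refine ⟨fun i => i.elim0, fun i => i.elim0, ?_⟩
    rw [show M = ⊥ by simpa using hd]
    exact bot_le
  | succ J ih =>
    intro M hM hM0 hd
    set c := orderOf (Fintype.card F : ZMod r) with hc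
    have hcpos : 0 < c := orderOf_pos_iff.mpr (isOfFinOrder_iff_pow_eq_one.mpr
      ⟨r - 1, by have := (Fact.out : r.Prime).two_le; omega, ZMod.pow_card_sub_one_eq_one hq⟩)
    obtain ⟨U, hUM, hU, hUd⟩ := exists_invBy_mul hrF hg hq hM hM0 1 (by rw [hd, one_mul]; exact Nat.le_mul_of_pos_left c (Nat.succ_pos J))
    rw [one_mul, ← hc] at hUd
    obtain ⟨M', hM', hM'M, hinf, hsup⟩ :=
      exists_invBy_compl (Fact.out : r.Prime).pos hrF one_ne_zero (by rw [hg, one_smul]) hM hU hUM
    have hd' := finrank_sup_of_disjoint hinf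
    rw [hsup, hd, hUd, Nat.succ_mul] at hd'
    obtain ⟨w, hw, hspan⟩ := ih M' hM' (le_bot_iff.mp ((inf_le_inf_right _ hM'M).trans hM0.le)) (by omega)
    obtain ⟨u, hu, hu0⟩ := (Submodule.ne_bot_iff U).mp (fun h => by rw [h, finrank_bot] at hUd; omega)
    set Z := Submodule.span F (Set.range fun l : Fin r => (g ^ (l : ℕ)) u) with hZ
    have hrpos : 0 < r := (Fact.out : r.Prime).pos
    have hZi : InvBy g Z := by
      intro x hx
      induction hx using Submodule.span_induction with
      | mem y hy =>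
        obtain ⟨l, rfl⟩ := hy
        rw [← Module.End.mul_apply, ← pow_succ']
        by_cases hl : (l : ℕ) + 1 < r
        · exact Submodule.subset_span ⟨⟨_, hl⟩, rfl⟩
        · rw [show (l : ℕ) + 1 = r by omega, hg]
          exact Submodule.subset_span ⟨⟨0, hrpos⟩, by simp⟩
      | zero => simp
      | add y z _ _ hy hz => rw [map_add]; exact Submodule.add_mem _ hy hz
      | smul a y _ hy => rw [map_smul]; exact Submodule.smul_mem _ a hy
    have hZU : Z ≤ U := Submodule.span_le.mpr (by rintro _ ⟨l, rfl⟩; exact hU.pow _ u hu)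
    have huZ : u ∈ Z := Submodule.subset_span ⟨⟨0, hrpos⟩, by simp⟩
    have hdvd := orderOf_dvd_finrank_sub hg hq hZi
    have hZ0 : fixedIn g Z = ⊥ := le_bot_iff.mp ((inf_le_inf_right _ (hZU.trans hUM)).trans hM0.le)
    rw [hZ0, finrank_bot, Nat.sub_zero, ← hc] at hdvd
    have hZpos : 0 < finrank F Z := by
      rw [Nat.pos_iff_ne_zero]; intro e
      rw [Submodule.finrank_eq_zero.mp e, Submodule.mem_bot] at huZ
      exact hu0 huZ
    have hZeq : Z = U := Submodule.eq_of_le_of_finrank_le hZU (hUd ▸ Nat.le_of_dvd hZpos hdvd)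
    refine ⟨Fin.snoc w u, fun i => ?_, ?_⟩
    · refine Fin.lastCases ?_ (fun k => ?_) i
      · rw [Fin.snoc_last]; exact hUM hu
      · rw [Fin.snoc_castSucc]; exact hM'M (hw k)
    · rw [← hsup]
      refine sup_le (hZeq.ge.trans (Submodule.span_mono ?_)) (hspan.trans (Submodule.span_mono ?_))
      · rintro _ ⟨l, rfl⟩
        exact ⟨(Fin.last J, l), by simp⟩
      · rintro _ ⟨⟨k, l⟩, rfl⟩
        exact ⟨(k.castSucc, l), by simp⟩

/-- Lines: at most as many non-trivial blocks as fixed vectors, and blocks of dimension `r - 1`. -/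
theorem hasPermDecomp_lines {g : Module.End F V} {r : ℕ} [Fact r.Prime] (hrF : (r : F) ≠ 0) (hg : g ^ r = 1)
    (hq : (Fintype.card F : ZMod r) ≠ 0) (hc : orderOf (Fintype.card F : ZMod r) = r - 1)
    (hn : finrank F V ≤ (finrank F V % (r - 1)) * r) : HasPermDecomp g 1 (finrank F V) := by
  have hr2 := (Fact.out : r.Prime).two_le
  haveI : NeZero r := ⟨by omega⟩
  obtain ⟨M, hM, -, hinf, hsup⟩ := exists_invBy_compl (S := (⊤ : Submodule F V)) (W := fixedIn g ⊤)
    (by omega) hrF one_ne_zero (by rw [hg, one_smul]) invBy_top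
    (fun v hv => by rw [(mem_fixedIn.mp hv).2]; exact hv) le_top
  have hMfix : fixedIn g M = ⊥ := le_bot_iff.mp (hinf ▸ le_inf (inf_le_inf_right _ le_top) inf_le_left)
  have hdvd := orderOf_dvd_finrank_sub hg hq hM
  rw [hMfix, finrank_bot, Nat.sub_zero, hc] at hdvd
  obtain ⟨J, hJ⟩ := hdvd
  have htot := finrank_sup_of_disjoint hinf
  rw [hsup, finrank_top, hJ] at htot
  set e := finrank F (fixedIn g ⊤) with he
  set n := finrank F V with hn'
  have hJe : J ≤ e := by
    have h1 : n % (r - 1) = e % (r - 1) := by rw [htot, Nat.add_mul_mod_self_left]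
    have h2 := Nat.mod_le e (r - 1)
    have h3 := Nat.mul_le_mul_right r (h1 ▸ h2 : n % (r - 1) ≤ e)
    obtain ⟨r', rfl⟩ : ∃ r', r = r' + 1 := ⟨r - 1, by omega⟩
    simp only [Nat.add_sub_cancel] at *
    nlinarith
  obtain ⟨w, hw, hspan⟩ := exists_cyclic_family hrF hg hq J M hM hMfix (by rw [hJ, hc, mul_comm])
  let f := Module.finBasis F (fixedIn g ⊤)
  have hfix : ∀ k, g (f k : V) = f k := fun k => (mem_fixedIn.mp (f k).2).2
  have hfixpow : ∀ (l : ℕ) k, (g ^ l) (f k : V) = f k := fun l k => by
    induction l with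
    | zero => simp
    | succ l ih => rw [pow_succ, Module.End.mul_apply, hfix, ih]
  let b : (Fin J × Fin r) ⊕ Fin (e - J) → V :=
    Sum.elim (fun x => (g ^ (x.2 : ℕ)) ((f ⟨x.1, by omega⟩ : V) + w x.1)) (fun k => (f ⟨J + k, by omega⟩ : V))
  have hgeo : g * ∑ k ∈ Finset.range r, g ^ k = ∑ k ∈ Finset.range r, g ^ k := by
    have h2 := mul_geom_sum g r
    rw [hg, sub_self, sub_mul, one_mul, sub_eq_zero] at h2
    exact h2
  have hwsum : ∀ i, ∑ k ∈ Finset.range r, (g ^ k) (w i) = 0 := by
    intro i
    refine (Submodule.mem_bot F).mp (hMfix ▸ mem_fixedIn.mpr ⟨Submodule.sum_mem _ fun k _ => hM.pow k _ (hw i), ?_⟩)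
    have := congrArg (fun F' : Module.End F V => F' (w i)) hgeo
    simpa [Module.End.mul_apply, LinearMap.sum_apply] using this
  have hf_mem : ∀ k, (f k : V) ∈ Submodule.span F (Set.range b) := by
    intro k
    by_cases hk : (k : ℕ) < J
    · have h1 : ∑ l : Fin r, b (Sum.inl (⟨k, hk⟩, l)) = (r : F) • (f k : V) := by
        simp only [b, Sum.elim_inl, map_add, hfixpow, Finset.sum_add_distrib, Finset.sum_const, Finset.card_univ,
          Fintype.card_fin]
        rw [Fin.sum_univ_eq_sum_range (f := fun l => (g ^ l) (w ⟨k, hk⟩)), hwsum, add_zero, Nat.cast_smul_eq_nsmul]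
        simp only [Fin.eta, Finset.sum_const, Finset.card_univ, Fintype.card_fin]
      have h2 : (r : F)⁻¹ • ∑ l : Fin r, b (Sum.inl (⟨k, hk⟩, l)) ∈ Submodule.span F (Set.range b) :=
        Submodule.smul_mem _ _ (Submodule.sum_mem _ fun l _ => Submodule.subset_span ⟨_, rfl⟩)
      rwa [h1, smul_smul, inv_mul_cancel₀ hrF, one_smul] at h2
    · refine Submodule.subset_span ⟨Sum.inr ⟨(k : ℕ) - J, by omega⟩, ?_⟩
      simp only [b, Sum.elim_inr]
      congr 2
      exact Fin.ext (by simp; omega)
  have hsp : ⊤ ≤ Submodule.span F (Set.range b) := by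
    rw [← hsup]
    refine sup_le (fun v hv => ?_) (hspan.trans (Submodule.span_le.mpr ?_))
    · have : (⟨v, hv⟩ : fixedIn g ⊤) ∈ Submodule.span F (Set.range f) := f.span_eq ▸ trivial
      have h2 := Submodule.mem_map_of_mem (f := (fixedIn g ⊤).subtype) this
      rw [Submodule.map_span] at h2
      refine Submodule.span_le.mpr ?_ h2
      rintro _ ⟨_, ⟨k, rfl⟩, rfl⟩
      exact hf_mem k
    · rintro _ ⟨⟨i, l⟩, rfl⟩
      have : (g ^ (l : ℕ)) (w i) = b (Sum.inl (i, l)) - (f ⟨i, by omega⟩ : V) := by
        simp [b, map_add, hfixpow]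
      show (g ^ (l : ℕ)) (w i) ∈ Submodule.span F (Set.range b)
      rw [this]
      exact Submodule.sub_mem _ (Submodule.subset_span ⟨_, rfl⟩) (hf_mem _)
  have hcard : Fintype.card ((Fin J × Fin r) ⊕ Fin (e - J)) = n := by
    simp only [Fintype.card_sum, Fintype.card_prod, Fintype.card_fin]
    obtain ⟨r', rfl⟩ : ∃ r', r = r' + 1 := ⟨r - 1, by omega⟩
    simp only [Nat.add_sub_cancel] at *
    rw [mul_comm r' J] at htot
    rw [Nat.mul_succ]
    omega
  let B := basisOfTopLeSpanOfCardEqFinrank b hsp (hcard.trans hn')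
  have hB : ∀ i, B i = b i := fun i => by simp [B]
  let ε := Fintype.equivFinOfCardEq hcard
  refine hasPermDecomp_of_basis (pow_injective_of_eq_one (c := (1 : F)) (r := r) (by omega) one_ne_zero (by rw [hg, one_smul]))
    B (a := 1) (t := n) (ε.trans (Equiv.prodUnique (Fin n) (Fin 1)).symm)
    ((ε.symm.trans (((Equiv.refl (Fin J)).prodCongr (Equiv.addRight (1 : Fin r))).sumCongr (Equiv.refl _))).trans ε)
    fun i => Submodule.subset_span ⟨0, ?_⟩
  simp only [hB]
  rcases i with ⟨k, l⟩ | k
  · have hval : ((l + 1 : Fin r) : ℕ) = ((l : ℕ) + 1) % r := by rw [Fin.val_add, Fin.val_one', Nat.add_mod_mod]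
    have : b (Sum.inl (k, l + 1)) = g (b (Sum.inl (k, l))) := by
      simp only [b, Sum.elim_inl]
      rw [← Module.End.mul_apply, ← pow_succ', hval]
      conv_rhs => rw [← Nat.mod_add_div ((l : ℕ) + 1) r, pow_add, pow_mul, hg, one_pow, mul_one]
    simpa using this
  · simpa [b] using (hfix _).symm

variable {n a t : ℕ}

/-- The number of decompositions, times `|GL_a|^t`, is `|GL_n|`; and `t!` divides it. -/
theorem dvd_card_decompositions (hat : n = a * t) (ha : 0 < a) (ht : 2 ≤ t) :
    Nat.card {D : Fin t → Submodule F (Fin n → F) // Cfsg.Geo.IsMDecomposition a D} / t.factorial ∣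
      ∏ i : Fin n, (Fintype.card F ^ n - Fintype.card F ^ (i : ℕ)) := by
  classical
  let 𝒟 := {D : Fin t → Submodule F (Fin n → F) // Cfsg.Geo.IsMDecomposition a D}
  haveI : Finite (Submodule F (Fin n → F)) := Finite.of_injective (fun W => (W : Set (Fin n → F))) SetLike.coe_injective
  haveI : Finite 𝒟 := Subtype.finite
  haveI := Fintype.ofFinite 𝒟
  haveI := Fintype.ofFinite (Submodule F (Fin n → F))
  have hinj : ∀ D : 𝒟, Function.Injective D.1 := by
    intro D j k hjk
    by_contra hne
    have h1 : Disjoint (D.1 j) (D.1 k) := D.2.indep.pairwiseDisjoint hne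
    rw [hjk, disjoint_self] at h1
    have h2 := D.2.finrank_eq k
    rw [h1, finrank_bot] at h2
    omega
  -- orderings
  have hfact : t.factorial ∣ Nat.card 𝒟 := by
    let img : 𝒟 → Finset (Submodule F (Fin n → F)) := fun D => Finset.univ.image D.1
    rw [Nat.card_eq_fintype_card, ← Finset.card_univ,
      Finset.card_eq_sum_card_image img (Finset.univ : Finset 𝒟)]
    refine Finset.dvd_sum fun s hs => ?_
    obtain ⟨D₀, -, rfl⟩ := Finset.mem_image.mp hs
    refine dvd_of_eq ?_
    let act : Equiv.Perm (Fin t) → 𝒟 := fun σ => ⟨fun j => D₀.1 (σ j),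
      ⟨ht, ha, fun j => D₀.2.finrank_eq _, D₀.2.indep.comp σ.injective,
        (σ.surjective.iSup_comp D₀.1).trans D₀.2.iSup_eq_top⟩⟩
    have hact : ∀ D, img D = img D₀ ↔ ∃ σ, act σ = D := by
      intro D
      constructor
      · intro h
        have hex : ∀ j, ∃ k, D₀.1 k = D.1 j := fun j => by
          have : D.1 j ∈ img D₀ := h ▸ Finset.mem_image_of_mem _ (Finset.mem_univ j)
          obtain ⟨k, -, hk⟩ := Finset.mem_image.mp this
          exact ⟨k, hk⟩
        choose k hk using hex
        have hkinj : Function.Injective k := fun i j hij => hinj D (by rw [← hk, ← hk, hij])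
        exact ⟨Equiv.ofBijective k (Finite.injective_iff_bijective.mp hkinj), Subtype.ext (funext hk)⟩
      · rintro ⟨σ, rfl⟩
        ext x
        simp only [img, act, Finset.mem_image, Finset.mem_univ, true_and]
        exact ⟨fun ⟨i, hi⟩ => ⟨σ i, hi⟩, fun ⟨i, hi⟩ => ⟨σ.symm i, by simpa using hi⟩⟩
    have hact_inj : Function.Injective act := fun σ τ h => Equiv.ext fun j =>
      hinj D₀ (congrFun (congrArg Subtype.val h) j)
    rw [show (Finset.univ.filter fun D => img D = img D₀) = Finset.univ.image act by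
      ext D; simp [hact],
      Finset.card_image_of_injective _ hact_inj, Finset.card_univ, Fintype.card_perm, Fintype.card_fin]
  refine (Nat.div_dvd_of_dvd hfact).trans ?_
  -- bases
  have e : {s : Fin t × Fin a → (Fin n → F) // LinearIndependent F s} ≃
      Σ D : 𝒟, ((j : Fin t) → {s : Fin a → (D.1 j : Submodule F _) // LinearIndependent F s}) := by
    refine Equiv.symm <| Equiv.ofBijective (fun x => ⟨fun p => ((x.2 p.1).1 p.2 : Fin n → F), ?_⟩) ⟨?_, ?_⟩
    · rw [linearIndependent_iff_card_eq_finrank_span, Set.finrank]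
      have : Submodule.span F (Set.range fun p : Fin t × Fin a => ((x.2 p.1).1 p.2 : Fin n → F)) = ⊤ := by
        rw [eq_top_iff, ← x.1.2.iSup_eq_top]
        refine iSup_le fun j v hv => ?_
        have hb := (x.2 j).2.span_eq_top_of_card_eq_finrank' (by rw [x.1.2.finrank_eq, Fintype.card_fin])
        have h1 : (⟨v, hv⟩ : x.1.1 j) ∈ Submodule.span F (Set.range (x.2 j).1) := hb ▸ trivial
        have h2 := Submodule.mem_map_of_mem (f := (x.1.1 j).subtype) h1
        rw [Submodule.map_span] at h2
        refine Submodule.span_mono ?_ h2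
        rintro _ ⟨_, ⟨l, rfl⟩, rfl⟩
        exact ⟨(j, l), rfl⟩
      rw [this, finrank_top, Module.finrank_fin_fun, Fintype.card_prod, Fintype.card_fin, Fintype.card_fin, hat,
        mul_comm]
    · rintro ⟨D, s⟩ ⟨D', s'⟩ h
      have hfun := congrArg Subtype.val h
      simp only at hfun
      have hspan : ∀ (D : 𝒟) (s : (j : Fin t) → {s : Fin a → (D.1 j : Submodule F _) // LinearIndependent F s}) j,
          Submodule.span F (Set.range fun l => ((s j).1 l : Fin n → F)) = D.1 j := by
        intro D s j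
        refine Submodule.eq_of_le_of_finrank_eq (Submodule.span_le.mpr (by rintro _ ⟨i, rfl⟩; exact ((s j).1 i).2)) ?_
        have hl : LinearIndependent F (fun l => ((s j).1 l : Fin n → F)) :=
          (s j).2.map' (D.1 j).subtype (Submodule.ker_subtype _)
        rw [finrank_span_eq_card hl, Fintype.card_fin, D.2.finrank_eq]
      have h1 : D = D' := Subtype.ext (funext fun j => by
        rw [← hspan D s j, ← hspan D' s' j]
        congr 1
        exact congrArg Set.range (funext fun l => congrFun hfun (j, l)))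
      cases h1
      exact Sigma.ext rfl (heq_of_eq (funext fun j => Subtype.ext (funext fun l =>
        Subtype.ext (congrFun hfun (j, l)))))
    · intro s
      have hl : ∀ j, LinearIndependent F (fun l => s.1 (j, l)) := fun j =>
        s.2.comp _ fun l l' h => (Prod.ext_iff.mp h).2
      have hspantop := s.2.span_eq_top_of_card_eq_finrank' (by
        rw [Fintype.card_prod, Fintype.card_fin, Fintype.card_fin, Module.finrank_fin_fun, hat, mul_comm])
      refine ⟨⟨⟨fun j => Submodule.span F (Set.range fun l => s.1 (j, l)), ht, ha,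
        fun j => by rw [finrank_span_eq_card (hl j), Fintype.card_fin], fun j => ?_, ?_⟩,
        fun j => ⟨fun l => ⟨s.1 (j, l), Submodule.subset_span ⟨l, rfl⟩⟩, linearIndependent_span (hl j)⟩⟩, rfl⟩
      · refine Disjoint.mono ?_ (iSup₂_le fun k hk => ?_)
          (s.2.disjoint_span_image (s := {p | p.1 = j}) (t := {p | p.1 ≠ j})
            (Set.disjoint_left.mpr fun p hp hp' => hp' hp))
        · refine Submodule.span_mono ?_
          rintro _ ⟨l, rfl⟩
          exact ⟨(j, l), rfl, rfl⟩
        · refine Submodule.span_mono ?_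
          rintro _ ⟨l, rfl⟩
          exact ⟨(k, l), hk, rfl⟩
      · rw [eq_top_iff, ← hspantop, Submodule.span_le]
        rintro _ ⟨⟨j, l⟩, rfl⟩
        exact le_iSup (fun j => Submodule.span F (Set.range fun l => s.1 (j, l))) j (Submodule.subset_span ⟨l, rfl⟩)
  have e2 : {s : Fin t × Fin a → (Fin n → F) // LinearIndependent F s} ≃
      {s : Fin n → (Fin n → F) // LinearIndependent F s} :=
    Equiv.subtypeEquiv (Equiv.arrowCongr (finProdFinEquiv.trans (finCongr (by rw [hat, mul_comm]))) (Equiv.refl _))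
      fun s => (linearIndependent_equiv _).symm
  have h := (Nat.card_congr e).symm.trans (Nat.card_congr e2)
  rw [Nat.card_sigma, card_linearIndependent (by rw [Module.finrank_fin_fun])] at h
  have h1 : ∀ D : 𝒟, Nat.card ((j : Fin t) → {s : Fin a → (D.1 j : Submodule F _) // LinearIndependent F s}) =
      (∏ i : Fin a, (Nat.card F ^ a - Nat.card F ^ (i : ℕ))) ^ t := fun D => by
    rw [Nat.card_pi, Finset.prod_congr rfl (fun j _ => by
      rw [card_linearIndependent (by rw [D.2.finrank_eq]), D.2.finrank_eq, ← Nat.card_eq_fintype_card]),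
      Finset.prod_const, Finset.card_univ, Fintype.card_fin]
  rw [Finset.sum_congr rfl (fun D _ => h1 D), Finset.sum_const, Finset.card_univ, smul_eq_mul,
    ← Nat.card_eq_fintype_card, Module.finrank_fin_fun] at h
  exact ⟨_, h.symm⟩

end CfsgLib.LinearElements
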