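import Mathlib

/-! Jordan types of nilpotent maps on invariant subspaces: the ranks of powers, their additivity on invariant direct
sums, the block multiset, chain bases, and the standard map with prescribed blocks. -/

set_option autoImplicit false

namespace CfsgLib.LinearElements

open Module Finset

variable {F V : Type*} [Field F] [AddCommGroup V] [Module F V]

theorem finrank_iSup_of_indep [FiniteDimensional F V] {ι : Type*} [Fintype ι] (D : ι → Submodule F V)
    (hD : iSupIndep D) : finrank F ↥(⨆ i, D i) = ∑ i, finrank F (D i) := by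
  classical
  suffices ∀ s : Finset ι, finrank F ↥(s.sup D) = ∑ i ∈ s, finrank F (D i) by
    rw [← Finset.sup_univ_eq_iSup]; exact this _
  intro s
  induction s using Finset.induction with
  | empty => simp
  | insert i s hi ih =>
    rw [Finset.sup_insert, Finset.sum_insert hi, ← ih]
    have hdisj : Disjoint (D i) (s.sup D) := by
      refine (hD i).mono_right (Finset.sup_le fun j hj => ?_)
      exact le_iSup₂_of_le j (fun e => hi (e ▸ hj)) le_rfl
    have := Submodule.finrank_sup_add_finrank_inf_eq (D i) (s.sup D)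
    rw [hdisj.eq_bot, finrank_bot] at this
    omega

/-- The rank of `N ^ k` on the subspace `W`. -/
noncomputable def rankOn (N : Module.End F V) (W : Submodule F V) (k : ℕ) : ℕ := finrank F (W.map (N ^ k))

/-- The number of Jordan blocks of size `> k` on `W`. -/
noncomputable def blocksOn (N : Module.End F V) (W : Submodule F V) (k : ℕ) : ℕ :=
  rankOn N W k - rankOn N W (k + 1)

/-- The number of Jordan blocks of size `s` on `W`. -/
noncomputable def blockCount (N : Module.End F V) (W : Submodule F V) (s : ℕ) : ℕ :=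
  blocksOn N W (s - 1) - blocksOn N W s

variable {N : Module.End F V} {W : Submodule F V}

theorem map_pow_succ (k : ℕ) : W.map (N ^ (k + 1)) = (W.map (N ^ k)).map N := by
  rw [pow_succ', ← Submodule.map_comp]; rfl

theorem map_pow_succ_le (hW : W.map N ≤ W) (k : ℕ) : W.map (N ^ (k + 1)) ≤ W.map (N ^ k) := by
  rw [pow_succ]
  exact (Submodule.map_comp N (N ^ k) W).trans_le (Submodule.map_mono hW)

theorem map_pow_zero' : W.map (N ^ 0) = W := by
  ext x
  simp [Submodule.mem_map]

theorem rankOn_zero : rankOn N W 0 = finrank F W := by rw [rankOn, map_pow_zero']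

variable [FiniteDimensional F V]

theorem rankOn_succ_le (hW : W.map N ≤ W) (k : ℕ) : rankOn N W (k + 1) ≤ rankOn N W k :=
  Submodule.finrank_mono (map_pow_succ_le hW k)

theorem blocksOn_eq (k : ℕ) : blocksOn N W k = finrank F ↥(W.map (N ^ k) ⊓ LinearMap.ker N) := by
  have h := LinearMap.finrank_range_add_finrank_ker (N ∘ₗ (W.map (N ^ k)).subtype)
  rw [LinearMap.range_comp, Submodule.range_subtype, ← map_pow_succ, LinearMap.ker_comp] at h
  have e : finrank F ↥((LinearMap.ker N).comap (W.map (N ^ k)).subtype) =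
      finrank F ↥(W.map (N ^ k) ⊓ LinearMap.ker N) := by
    rw [← Submodule.finrank_map_subtype_eq, Submodule.map_comap_subtype]
  rw [e] at h
  simp only [blocksOn, rankOn]
  omega

theorem blocksOn_antitone (hW : W.map N ≤ W) : Antitone (blocksOn N W) := by
  refine antitone_nat_of_succ_le fun k => ?_
  rw [blocksOn_eq, blocksOn_eq]
  exact Submodule.finrank_mono (inf_le_inf_right _ (map_pow_succ_le hW k))

section Sum

variable {ι : Type*} [Fintype ι] {D : ι → Submodule F V}

theorem rankOn_iSup (hD : iSupIndep D) (hinv : ∀ i, (D i).map N ≤ D i) (k : ℕ) :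
    rankOn N (⨆ i, D i) k = ∑ i, rankOn N (D i) k := by
  simp only [rankOn]
  refine (congrArg (fun S : Submodule F V => finrank F S) (Submodule.map_iSup _ _)).trans
    (finrank_iSup_of_indep _ (hD.mono fun i => ?_))
  induction k with
  | zero => rw [map_pow_zero']
  | succ k ih => exact (map_pow_succ_le (hinv i) k).trans ih

theorem blocksOn_iSup (hD : iSupIndep D) (hinv : ∀ i, (D i).map N ≤ D i) (k : ℕ) :
    blocksOn N (⨆ i, D i) k = ∑ i, blocksOn N (D i) k := by
  simp only [blocksOn, rankOn_iSup hD hinv]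
  exact (Finset.sum_tsub_distrib _ fun i _ => rankOn_succ_le (hinv i) k).symm

theorem blockCount_iSup (hD : iSupIndep D) (hinv : ∀ i, (D i).map N ≤ D i) (s : ℕ) :
    blockCount N (⨆ i, D i) s = ∑ i, blockCount N (D i) s := by
  simp only [blockCount, blocksOn_iSup hD hinv]
  exact (Finset.sum_tsub_distrib _ fun i _ => blocksOn_antitone (hinv i) (Nat.sub_le s 1)).symm

end Sum

/-- The multiset of block sizes up to `P`. -/
noncomputable def blockMultiset (N : Module.End F V) (W : Submodule F V) (P : ℕ) : Multiset ℕ :=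
  ∑ s ∈ Finset.Icc 1 P, Multiset.replicate (blockCount N W s) s

omit [FiniteDimensional F V] in
theorem count_blockMultiset (P s : ℕ) :
    (blockMultiset N W P).count s = if s ∈ Finset.Icc 1 P then blockCount N W s else 0 := by
  rw [blockMultiset, Multiset.count_sum']
  simp only [Multiset.count_replicate]
  rw [Finset.sum_ite_eq']

theorem sum_blockMultiset (hW : W.map N ≤ W) {P : ℕ} (hP : W.map (N ^ P) = ⊥) :
    (blockMultiset N W P).sum = finrank F W := by
  have hP0 : blocksOn N W P = 0 := by
    rw [blocksOn_eq, hP, bot_inf_eq, finrank_bot]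
  have h0 : rankOn N W P = 0 := by rw [rankOn, hP, finrank_bot]
  have key : ∀ Q, (∑ s ∈ Finset.Icc 1 Q, Multiset.replicate (blockCount N W s) s).sum + Q * blocksOn N W Q +
      rankOn N W Q = finrank F W := by
    intro Q
    induction Q with
    | zero => simp [rankOn_zero]
    | succ Q ih =>
      rw [Finset.sum_Icc_succ_top (by omega), Multiset.sum_add, Multiset.sum_replicate, smul_eq_mul]
      have h1 : blocksOn N W (Q + 1) ≤ blocksOn N W Q := blocksOn_antitone hW (Nat.le_succ Q)
      have h2 := rankOn_succ_le hW Q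
      have h3 : blockCount N W (Q + 1) + blocksOn N W (Q + 1) = blocksOn N W Q := by
        simp only [blockCount, Nat.add_sub_cancel]; omega
      have h4 : blocksOn N W Q + rankOn N W (Q + 1) = rankOn N W Q := by simp only [blocksOn]; omega
      rw [← h3] at ih h4
      rw [Nat.mul_add] at ih
      rw [Nat.add_mul, one_mul]
      linarith [Nat.mul_comm Q (blockCount N W (Q + 1))]
  have := key P
  rw [hP0, h0] at this
  simpa [blockMultiset] using this

/-- Chains `v i, N (v i), …` of lengths `sz i ≥ 1` forming a basis of `W`. -/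
structure ChainBasis (N : Module.End F V) (W : Submodule F V) where
  L : ℕ
  sz : Fin L → ℕ
  gen : Fin L → V
  sz_pos : ∀ i, 1 ≤ sz i
  kill : ∀ i, (N ^ sz i) (gen i) = 0
  indep : LinearIndependent F fun p : Σ i, Fin (sz i) => (N ^ (p.2 : ℕ)) (gen p.1)
  span_eq : Submodule.span F (Set.range fun p : Σ i, Fin (sz i) => (N ^ (p.2 : ℕ)) (gen p.1)) = W

omit [FiniteDimensional F V] in
theorem ChainBasis.mem (C : ChainBasis N W) (i : Fin C.L) (j : ℕ) : (N ^ j) (C.gen i) ∈ W := by
  by_cases h : j < C.sz i
  · exact C.span_eq.le (Submodule.subset_span ⟨⟨i, ⟨j, h⟩⟩, rfl⟩)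
  · rw [show j = (j - C.sz i) + C.sz i by omega, pow_add, Module.End.mul_apply, C.kill, map_zero]
    exact W.zero_mem

omit [FiniteDimensional F V] in
theorem ChainBasis.map_pow_eq (C : ChainBasis N W) (k : ℕ) :
    W.map (N ^ k) = Submodule.span F
      (Set.range fun p : Σ i, Fin (C.sz i - k) => (N ^ ((p.2 : ℕ) + k)) (C.gen p.1)) := by
  conv_lhs => rw [← C.span_eq]
  rw [Submodule.map_span, ← Set.range_comp]
  refine le_antisymm (Submodule.span_le.mpr ?_) (Submodule.span_mono ?_)
  · rintro _ ⟨⟨i, j⟩, rfl⟩
    simp only [Function.comp_apply, ← Module.End.mul_apply, ← pow_add]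
    by_cases h : (j : ℕ) + k < C.sz i
    · exact Submodule.subset_span ⟨⟨i, ⟨j, by omega⟩⟩, by simp [add_comm]⟩
    · rw [show k + (j : ℕ) = (k + j - C.sz i) + C.sz i by omega, pow_add, Module.End.mul_apply, C.kill, map_zero]
      exact Submodule.zero_mem _
  · rintro _ ⟨⟨i, j⟩, rfl⟩
    refine ⟨⟨i, ⟨j, by omega⟩⟩, ?_⟩
    simp only [Function.comp_apply, ← Module.End.mul_apply, ← pow_add, add_comm k]

omit [FiniteDimensional F V] in
theorem ChainBasis.rankOn_eq (C : ChainBasis N W) (k : ℕ) : rankOn N W k = ∑ i, (C.sz i - k) := by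
  rw [rankOn, C.map_pow_eq, finrank_span_eq_card, Fintype.card_sigma]
  · simp
  · refine C.indep.comp (fun p : Σ i, Fin (C.sz i - k) => (⟨p.1, ⟨p.2 + k, by omega⟩⟩ : Σ i, Fin (C.sz i))) ?_
    rintro ⟨i, j⟩ ⟨i', j'⟩ h
    obtain ⟨rfl, h'⟩ := Sigma.mk.inj_iff.mp h
    simp [Fin.ext_iff] at h'
    simp [Fin.ext_iff, h']

omit [FiniteDimensional F V] in
theorem ChainBasis.blocksOn_eq' (C : ChainBasis N W) (k : ℕ) :
    blocksOn N W k = #{i | k < C.sz i} := by
  rw [blocksOn, C.rankOn_eq, C.rankOn_eq, ← Finset.sum_tsub_distrib _ (fun i _ => by omega), Finset.card_filter]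
  exact Finset.sum_congr rfl fun i _ => by split <;> omega

omit [FiniteDimensional F V] in
theorem ChainBasis.blockCount_eq (C : ChainBasis N W) {s : ℕ} (hs : 1 ≤ s) :
    blockCount N W s = #{i | C.sz i = s} := by
  rw [blockCount, C.blocksOn_eq', C.blocksOn_eq', Finset.card_filter, Finset.card_filter, Finset.card_filter,
    ← Finset.sum_tsub_distrib _ (fun i _ => by split_ifs <;> omega)]
  exact Finset.sum_congr rfl fun i _ => by split_ifs <;> omega

/-- Every invariant subspace on which `N` is nilpotent has a chain basis. -/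
theorem exists_chainBasis (hW : W.map N ≤ W) {P : ℕ} (hP : W.map (N ^ P) = ⊥) : Nonempty (ChainBasis N W) := by
  induction P generalizing W with
  | zero =>
    have : W = ⊥ := by simpa [Module.End.one_eq_id] using hP
    subst this
    exact ⟨⟨0, Fin.elim0, Fin.elim0, fun i => i.elim0, fun i => i.elim0, linearIndependent_empty_type, by simp⟩⟩
  | succ P ih =>
    obtain ⟨C⟩ := ih (W := W.map N) (Submodule.map_mono hW) (by
      rw [pow_succ] at hP
      exact ((Submodule.map_comp N (N ^ P) W).symm.trans hP))
    have hlift : ∀ i, ∃ v ∈ W, N v = C.gen i := fun i => by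
      have := C.mem i 0
      rw [pow_zero, Module.End.one_apply, Submodule.mem_map] at this
      exact this
    choose v hvW hv using hlift
    obtain ⟨K, hK⟩ := Submodule.exists_isCompl
      ((W.map N).comap (W ⊓ LinearMap.ker N).subtype)
    let c := finBasis F K
    set sz : Fin (C.L + finrank F K) → ℕ := Fin.append (fun i => C.sz i + 1) (fun _ => 1) with hsz
    set gen : Fin (C.L + finrank F K) → V := Fin.append v (fun j => ((c j : ↥(W ⊓ LinearMap.ker N)) : V)) with hgen
    have hpow : ∀ i (j : ℕ), (N ^ (j + 1)) (v i) = (N ^ j) (C.gen i) := fun i j => by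
      rw [pow_succ, Module.End.mul_apply, hv]
    set f : (Σ i, Fin (sz i)) → V := fun p => (N ^ (p.2 : ℕ)) (gen p.1) with hf
    have hfl : ∀ i (j : ℕ), j ≤ C.sz i → (N ^ j) (v i) ∈ Set.range f := fun i j hj =>
      ⟨⟨Fin.castAdd _ i, ⟨j, by simp [hsz]; omega⟩⟩, by simp [hf, hgen]⟩
    have hfr : ∀ j, ((c j : ↥(W ⊓ LinearMap.ker N)) : V) ∈ Set.range f := fun j =>
      ⟨⟨Fin.natAdd _ j, ⟨0, by simp [hsz]⟩⟩, by simp [hf, hgen]⟩
    have hle : Set.range f ⊆ W := by
      rintro _ ⟨⟨i, j⟩, rfl⟩
      refine Fin.addCases (fun a => ?_) (fun b => ?_) i j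
      · intro j
        simp only [hf, hgen, Fin.append_left]
        rcases Nat.eq_zero_or_pos (j : ℕ) with h | h
        · rw [h]; simpa using hvW a
        · rw [show (j : ℕ) = (j - 1) + 1 by omega, hpow]
          exact hW (C.mem a _)
      · intro j
        have : (j : ℕ) = 0 := by have := j.2; simp [hsz] at this; omega
        simp only [hf, hgen, Fin.append_right, this, pow_zero, Module.End.one_apply]
        exact (Submodule.mem_inf.mp (c b : ↥(W ⊓ LinearMap.ker N)).2).1
    have hNspan : W.map N ≤ Submodule.span F (Set.range f) := by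
      refine C.span_eq.ge.trans (Submodule.span_le.mpr ?_)
      rintro _ ⟨⟨i, j⟩, rfl⟩
      show (N ^ (j : ℕ)) (C.gen i) ∈ _
      rw [← hpow]
      exact Submodule.subset_span (hfl i _ (by omega))
    have hspan : Submodule.span F (Set.range f) = W := by
      refine le_antisymm (Submodule.span_le.mpr hle) fun x hx => ?_
      have hx' : N x ∈ (Submodule.span F (Set.range f) ⊓ W).map N := by
        have h1 : N x ∈ W.map N := Submodule.mem_map_of_mem hx
        revert h1
        generalize N x = y
        intro h1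
        refine Submodule.span_le.mpr ?_ (C.span_eq.ge h1)
        rintro _ ⟨⟨i, j⟩, rfl⟩
        refine ⟨(N ^ (j : ℕ)) (v i), ⟨Submodule.subset_span (hfl i _ (by omega)), ?_⟩, ?_⟩
        · exact hle (hfl i _ (by omega))
        · rw [← Module.End.mul_apply, ← pow_succ', pow_succ, Module.End.mul_apply, hv]
      obtain ⟨y, ⟨hy, hyW⟩, hyx⟩ := hx'
      have hker : x - y ∈ W ⊓ LinearMap.ker N := ⟨W.sub_mem hx hyW, by simp [hyx]⟩
      obtain ⟨a, ha, b, hb, hab⟩ := Submodule.mem_sup.mp (hK.sup_eq_top.ge
        (Submodule.mem_top : (⟨x - y, hker⟩ : ↥(W ⊓ LinearMap.ker N)) ∈ ⊤))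
      have hab' := congrArg Subtype.val hab
      simp only [Submodule.coe_add] at hab'
      rw [show x = (a : V) + (b : V) + y by rw [hab']; abel]
      refine Submodule.add_mem _ (Submodule.add_mem _ (hNspan ha) ?_) hy
      have h2 : (b : V) ∈ (Submodule.span F (Set.range c)).map ((W ⊓ LinearMap.ker N).subtype.comp K.subtype) :=
        ⟨⟨b, hb⟩, c.mem_span _, rfl⟩
      rw [Submodule.map_span] at h2
      refine Submodule.span_mono ?_ h2
      rintro _ ⟨_, ⟨j, rfl⟩, rfl⟩
      exact hfr j
    have hcard : Fintype.card (Σ i, Fin (sz i)) = finrank F ↥(Submodule.span F (Set.range f)) := by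
      rw [hspan, Fintype.card_sigma, Fin.sum_univ_add]
      simp only [Fintype.card_fin, hsz, Fin.append_left, Fin.append_right, Finset.sum_const, Finset.card_univ,
        smul_eq_mul, mul_one, Finset.sum_add_distrib]
      have h1 := blocksOn_eq (N := N) (W := W) 0
      have h2 := Submodule.finrank_add_eq_of_isCompl hK
      have h3 : finrank F ↥((W.map N).comap (W ⊓ LinearMap.ker N).subtype) =
          finrank F ↥(W.map N ⊓ LinearMap.ker N) := by
        rw [← Submodule.finrank_map_subtype_eq, Submodule.map_comap_subtype, inf_right_comm,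
          inf_eq_right.mpr hW]
      have h4 := blocksOn_eq (N := N) (W := W.map N) 0
      have h5 := C.rankOn_eq 0
      have h6 := C.blocksOn_eq' 0
      rw [map_pow_zero'] at h1 h4
      rw [rankOn_zero] at h5
      simp only [Nat.sub_zero] at h5
      simp only [show ∀ i, 0 < C.sz i from C.sz_pos, Finset.filter_true] at h6
      simp only [Finset.card_univ, Fintype.card_fin] at h6
      have h7 : rankOn N W 0 = finrank F W := rankOn_zero
      have h8 : rankOn N W 1 = finrank F ↥(W.map N) := by rw [rankOn, pow_one]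
      have h9 : finrank F ↥(W.map N) ≤ finrank F W := Submodule.finrank_mono hW
      simp only [blocksOn, Nat.zero_add, h7, h8] at h1
      omega
    refine ⟨⟨_, sz, gen, ?_, ?_, linearIndependent_iff_card_eq_finrank_span.mpr hcard, hspan⟩⟩
    · intro i; refine Fin.addCases (fun a => ?_) (fun b => ?_) i <;> simp [hsz]
    · intro i
      refine Fin.addCases (fun a => ?_) (fun b => ?_) i
      · simp only [hsz, hgen, Fin.append_left]
        rw [hpow, C.kill]
      · simp only [hsz, hgen, Fin.append_right, pow_one]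
        exact LinearMap.mem_ker.mp (Submodule.mem_inf.mp (c b : ↥(W ⊓ LinearMap.ker N)).2).2

/-! ### The standard nilpotent map with prescribed blocks -/

/-- Index set of the standard map. -/
abbrev BlockIdx {L : ℕ} (sz : Fin L → ℕ) : Type := Σ i, Fin (sz i)

/-- The shift `e (i, j) ↦ e (i, j + 1)`. -/
def blockShift {L : ℕ} (sz : Fin L → ℕ) (F : Type*) [Field F] : Module.End F (BlockIdx sz → F) where
  toFun f p := if h : (p.2 : ℕ) = 0 then 0 else f ⟨p.1, ⟨p.2 - 1, by omega⟩⟩
  map_add' f g := by funext p; simp only [Pi.add_apply]; split <;> simp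
  map_smul' c f := by funext p; simp only [Pi.smul_apply, RingHom.id_apply]; split <;> simp

theorem blockShift_single {L : ℕ} (sz : Fin L → ℕ) (i : Fin L) (hi : 0 < sz i) :
    ∀ j : ℕ, (blockShift sz F ^ j) (Pi.single ⟨i, ⟨0, hi⟩⟩ 1) =
      fun p => if p.1 = i ∧ (p.2 : ℕ) = j then 1 else 0 := by
  intro j
  induction j with
  | zero =>
    funext ⟨i', j'⟩
    by_cases h : i' = i
    · subst h; simp [Pi.single_apply, Fin.ext_iff]
    · simp [h]
  | succ j ih =>
    rw [pow_succ', Module.End.mul_apply, ih]
    funext ⟨i', j'⟩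
    simp only [blockShift, LinearMap.coe_mk, AddHom.coe_mk]
    by_cases h : (j' : ℕ) = 0
    · simp [h]
    · rw [dif_neg h]
      by_cases hi' : i' = i
      · simp only [hi', true_and]; congr 1; simp; omega
      · simp [hi']

/-- The standard chain basis. -/
noncomputable def blockShiftChain {L : ℕ} (sz : Fin L → ℕ) (hsz : ∀ i, 1 ≤ sz i) :
    ChainBasis (blockShift sz F) ⊤ where
  L := L
  sz := sz
  gen i := Pi.single ⟨i, ⟨0, hsz i⟩⟩ 1
  sz_pos := hsz
  kill i := by
    rw [blockShift_single]
    funext ⟨i', j'⟩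
    by_cases h : i' = i
    · subst h; have := j'.2; simp; omega
    · simp [h]
  indep := by
    have h := (Pi.basisFun F (BlockIdx sz)).linearIndependent
    suffices he : (fun p : Σ i, Fin (sz i) => (blockShift sz F ^ (p.2 : ℕ)) (Pi.single ⟨p.1, ⟨0, hsz p.1⟩⟩ 1)) =
        ⇑(Pi.basisFun F (BlockIdx sz)) from he.symm ▸ h
    funext ⟨i, j⟩
    rw [blockShift_single, Pi.basisFun_apply]
    funext ⟨i', j'⟩
    by_cases h : i' = i
    · subst h; simp [Pi.single_apply, Fin.ext_iff]
    · simp [h]
  span_eq := by
    rw [← (Pi.basisFun F (BlockIdx sz)).span_eq]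
    congr 1
    refine congrArg _ (funext fun ⟨i, j⟩ => ?_)
    rw [blockShift_single, Pi.basisFun_apply]
    funext ⟨i', j'⟩
    by_cases h : i' = i
    · subst h; simp [Pi.single_apply, Fin.ext_iff]
    · simp [h]

end CfsgLib.LinearElements
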