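import Cfsg.Agent.LinearElements.RClassify
import Cfsg.Agent.LinearElements.JordanType

/-! Decompositions into subspaces of equal dimension permuted by a map of projective prime order. -/

set_option autoImplicit false

namespace CfsgLib.LinearElements

open Module

variable {F V : Type*} [Field F] [AddCommGroup V] [Module F V] [FiniteDimensional F V]

/-- `g` permutes the members of a decomposition into `t` subspaces of dimension `a`. -/
def HasPermDecomp (g : Module.End F V) (a t : ℕ) : Prop :=
  ∃ D : Fin t → Submodule F V, (∀ j, finrank F (D j) = a) ∧ iSupIndep D ∧ iSup D = ⊤ ∧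
    ∃ σ : Equiv.Perm (Fin t), ∀ j, (D j).map g = D (σ j)

/-- A decomposition from a basis whose vectors are permuted blockwise. -/
theorem hasPermDecomp_of_basis {g : Module.End F V} (hg : Function.Injective g) {ι : Type*} [Fintype ι]
    (b : Basis ι F V) {a t : ℕ} (e : ι ≃ Fin t × Fin a) (σ : Equiv.Perm (Fin t))
    (h : ∀ i, g (b i) ∈ Submodule.span F (Set.range fun l : Fin a => b (e.symm (σ (e i).1, l)))) :
    HasPermDecomp g a t := by
  let D : Fin t → Submodule F V := fun j => Submodule.span F (Set.range fun l : Fin a => b (e.symm (j, l)))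
  have hli : ∀ j, LinearIndependent F (fun l : Fin a => b (e.symm (j, l))) := fun j =>
    b.linearIndependent.comp _ fun l l' hl => (Prod.ext_iff.mp (e.symm.injective hl)).2
  have hdim : ∀ j, finrank F (D j) = a := fun j => by
    simp only [D]
    rw [finrank_span_eq_card (hli j), Fintype.card_fin]
  refine ⟨D, hdim, fun j => ?_, ?_, σ, fun j => ?_⟩
  · have hle : ⨆ (k) (_ : k ≠ j), D k ≤ Submodule.span F (b '' {i | (e i).1 ≠ j}) := by
      refine iSup₂_le fun k hk => Submodule.span_mono ?_
      rintro _ ⟨l, rfl⟩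
      exact ⟨_, by simpa using hk, rfl⟩
    refine Disjoint.mono_right hle ?_
    refine Disjoint.mono_left (Submodule.span_mono ?_)
      (b.linearIndependent.disjoint_span_image (s := {i | (e i).1 = j}) (t := {i | (e i).1 ≠ j})
        (Set.disjoint_left.mpr fun i hi hi' => hi' hi))
    rintro _ ⟨l, rfl⟩
    exact ⟨_, by simp, rfl⟩
  · rw [eq_top_iff, ← b.span_eq, Submodule.span_le]
    rintro _ ⟨i, rfl⟩
    exact le_iSup D (e i).1 (Submodule.subset_span ⟨(e i).2, by simp⟩)
  · refine Submodule.eq_of_le_of_finrank_eq ?_ ?_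
    · simp only [D]
      rw [Submodule.map_span_le]
      rintro _ ⟨l, rfl⟩
      have := h (e.symm (j, l))
      rwa [Equiv.apply_symm_apply] at this
    · rw [← (Submodule.equivMapOfInjective g hg _).finrank_eq, hdim, hdim]

/-- If every large enough invariant subspace has an invariant subspace of dimension `a`, so does the space split. -/
theorem hasPermDecomp_of_split {g : Module.End F V} (hg : Function.Injective g) {a t : ℕ} (ha : 0 < a)
    (hn : finrank F V = t * a)
    (hcompl : ∀ S U : Submodule F V, InvBy g S → InvBy g U → U ≤ S →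
      ∃ U', InvBy g U' ∧ U' ≤ S ∧ U ⊓ U' = ⊥ ∧ U ⊔ U' = S)
    (hsplit : ∀ j, j < t → ∀ S : Submodule F V, InvBy g S → finrank F S = (j + 1) * a →
      ∃ U, U ≤ S ∧ InvBy g U ∧ finrank F U = a) : HasPermDecomp g a t := by
  have key : ∀ j, j ≤ t → ∀ S : Submodule F V, InvBy g S → finrank F S = j * a →
      ∃ b : Fin j × Fin a → V, LinearIndependent F b ∧ Submodule.span F (Set.range b) ≤ S ∧
        ∀ x, g (b x) ∈ Submodule.span F (Set.range fun l => b (x.1, l)) := by
    intro j
    induction j with
    | zero =>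
      intro _ S _ _
      exact ⟨fun x => x.1.elim0, linearIndependent_empty_type, by simp [Set.range_eq_empty], fun x => x.1.elim0⟩
    | succ j ih =>
      intro hj S hS hd
      obtain ⟨U, hUS, hU, hUd⟩ := hsplit j (by omega) S hS hd
      obtain ⟨U', hU', hU'S, hinf, hsup⟩ := hcompl S U hS hU hUS
      have hd' := finrank_sup_of_disjoint hinf
      rw [hsup, hd, hUd, Nat.succ_mul] at hd'
      obtain ⟨b, hb, hbs, hbg⟩ := ih (by omega) U' hU' (by omega)
      let c := Module.finBasisOfFinrankEq F U hUd
      let b' : Fin (j + 1) × Fin a → V := fun x => Fin.lastCases (c x.2 : V) (fun k => b (k, x.2)) x.1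
      have hcs : Submodule.span F (Set.range fun l => (c l : V)) = U := by
        rw [show (fun l => (c l : V)) = U.subtype ∘ c from rfl, Set.range_comp, ← Submodule.map_span, c.span_eq,
          Submodule.map_top, Submodule.range_subtype]
      have hrange : Submodule.span F (Set.range b') = U ⊔ Submodule.span F (Set.range b) := by
        rw [← hcs, ← Submodule.span_union]
        refine congrArg _ (Set.ext fun v => ⟨?_, ?_⟩)
        · rintro ⟨⟨k, l⟩, rfl⟩
          refine Fin.lastCases ?_ (fun k => ?_) k
          · exact Or.inl ⟨l, by simp [b']⟩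
          · exact Or.inr ⟨(k, l), by simp [b']⟩
        · rintro (⟨l, rfl⟩ | ⟨⟨k, l⟩, rfl⟩)
          · exact ⟨(Fin.last j, l), by simp [b']⟩
          · exact ⟨(k.castSucc, l), by simp [b']⟩
      refine ⟨b', ?_, ?_, ?_⟩
      · rw [linearIndependent_iff_card_eq_finrank_span, Set.finrank, hrange,
          finrank_sup_of_disjoint (le_bot_iff.mp ((inf_le_inf_left U hbs).trans hinf.le)),
          finrank_span_eq_card hb, hUd, Fintype.card_prod, Fintype.card_prod, Fintype.card_fin, Fintype.card_fin,
          Fintype.card_fin, Nat.succ_mul, add_comm]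
      · rw [hrange]
        exact sup_le hUS (hbs.trans hU'S)
      · rintro ⟨k, l⟩
        refine Fin.lastCases ?_ (fun k => ?_) k
        · have := hU _ (c l).2
          simp only [b', Fin.lastCases_last]
          rwa [hcs]
        · simp only [b', Fin.lastCases_castSucc]
          exact hbg (k, l)
  obtain ⟨b, hb, -, hbg⟩ := key t le_rfl ⊤ invBy_top (by rw [finrank_top, hn])
  refine hasPermDecomp_of_basis hg (Basis.mk hb (hb.span_eq_top_of_card_eq_finrank'
    (by rw [Fintype.card_prod, Fintype.card_fin, Fintype.card_fin, hn])).ge) (Equiv.refl _) 1 fun x => ?_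
  simpa using hbg x

omit [FiniteDimensional F V] in
theorem pow_injective_of_eq_one {g : Module.End F V} {r : ℕ} (hr : 0 < r) {c : F} (hc : c ≠ 0) (hg : g ^ r = c • 1) :
    Function.Injective g := fun u v huv => by
  have h := congrArg (g ^ (r - 1)) huv
  rw [← Module.End.mul_apply, ← Module.End.mul_apply, ← pow_succ, Nat.sub_add_cancel hr, hg] at h
  exact smul_right_injective V hc h

/-- Without invariant subspaces of dimension prime to `r`: blocks are permuted cyclically. -/
theorem hasPermDecomp_of_nonpower {g : Module.End F V} {r : ℕ} [Fact r.Prime] {c : F} (hc0 : c ≠ 0)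
    (hno : ∀ μ : F, μ ^ r ≠ c) (hrF : (r : F) ≠ 0) (hg : g ^ r = c • 1) {a t : ℕ} (ha : 0 < a) (hn : finrank F V = t * a) :
    HasPermDecomp g a t := by
  have hrpos : 0 < r := (Fact.out : r.Prime).pos
  have hinj := pow_injective_of_eq_one hrpos hc0 hg
  obtain ⟨s, w, B, hB⟩ := exists_cycleBasis hno hg
  have hs : t * a = s * r := by rw [← hn, Module.finrank_eq_card_basis B]; simp
  by_cases hra : r ∣ a
  · refine hasPermDecomp_of_split hinj ha hn (fun S U hS hU hUS => ?_) fun j _ S hS hd =>
      exists_invBy_nonpower_in hno hg hS hra (by rw [hd]; exact Nat.le_mul_of_pos_left a (Nat.succ_pos j))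
    exact exists_invBy_compl hrpos hrF hc0 hg hS hU hUS
  · obtain ⟨u, rfl⟩ : r ∣ t := ((Fact.out : r.Prime).dvd_mul.mp ⟨s, by rw [hs, mul_comm]⟩).resolve_right hra
    obtain rfl : s = u * a := by
      refine Nat.eq_of_mul_eq_mul_left hrpos ?_
      rw [mul_comm r s, ← hs, mul_assoc]
    haveI : NeZero r := ⟨hrpos.ne'⟩
    let e : (Fin (u * a) × Fin r) ≃ Fin (r * u) × Fin a :=
      ((finProdFinEquiv.symm.prodCongr (Equiv.refl (Fin r))).trans
        ((Equiv.prodAssoc _ _ _).trans ((Equiv.prodCongr (Equiv.refl _) (Equiv.prodComm _ _)).trans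
          (Equiv.prodAssoc _ _ _).symm))).trans
        (((Equiv.prodComm _ _).trans finProdFinEquiv).prodCongr (Equiv.refl (Fin a)))
    let σ : Equiv.Perm (Fin (r * u)) :=
      (finProdFinEquiv.symm.trans ((Equiv.addRight (1 : Fin r)).prodCongr (Equiv.refl (Fin u)))).trans finProdFinEquiv
    refine hasPermDecomp_of_basis hinj B e σ fun ⟨k, l⟩ => ?_
    have hnext : ∃ β : F, g (B (k, l)) = β • B (k, l + 1) := by
      have hval : ((l + 1 : Fin r) : ℕ) = ((l : ℕ) + 1) % r := by
        rw [Fin.val_add, Fin.val_one', Nat.add_mod_mod]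
      rw [hB, hB]
      simp only
      rw [← Module.End.mul_apply, ← pow_succ']
      by_cases hl : (l : ℕ) + 1 < r
      · exact ⟨1, by rw [hval, Nat.mod_eq_of_lt hl, one_smul]⟩
      · refine ⟨c, ?_⟩
        have hl' : (l : ℕ) + 1 = r := by omega
        rw [hval, hl', Nat.mod_self, pow_zero, hg, LinearMap.smul_apply]
    obtain ⟨β, hβ⟩ := hnext
    rw [hβ]
    refine Submodule.smul_mem _ _ (Submodule.subset_span ⟨(e (k, l)).2, congrArg B ?_⟩)
    rw [Equiv.symm_apply_eq]
    simp [e, σ]

/-! ### Consequences of a permuted decomposition -/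

variable {g : Module.End F V} {r a t : ℕ}

omit [FiniteDimensional F V] in
theorem perm_facts [Fact r.Prime] (hg : g ^ r = 1) {D : Fin t → Submodule F V} (ha : 0 < a)
    (hd : ∀ j, finrank F (D j) = a) (hD : iSupIndep D) {σ : Equiv.Perm (Fin t)} (hσ : ∀ j, (D j).map g = D (σ j)) :
    (∀ (k : ℕ) j, (D j).map (g ^ k) = D ((σ ^ k) j)) ∧
      ∀ j, σ j ≠ j → ∀ k : ℕ, 0 < k → k < r → (σ ^ k) j ≠ j := by
  have hσk : ∀ (k : ℕ) j, (D j).map (g ^ k) = D ((σ ^ k) j) := by
    intro k j
    induction k with
    | zero => rw [pow_zero, pow_zero]; ext v; simp [Submodule.mem_map]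
    | succ k ih => rw [map_pow_succ, ih, hσ, pow_succ', Equiv.Perm.mul_apply]
  refine ⟨hσk, ?_⟩
  have hDinj : Function.Injective D := by
    intro j k hjk
    by_contra hne
    have h1 : Disjoint (D j) (D k) := hD.pairwiseDisjoint hne
    rw [hjk, disjoint_self] at h1
    have h2 := hd k
    rw [h1, finrank_bot] at h2
    omega
  have hσr : σ ^ r = 1 := by
    refine Equiv.ext fun j => hDinj ?_
    rw [← hσk, Equiv.Perm.one_apply, hg]
    ext v; simp [Submodule.mem_map]
  intro j hj k hk hkr hkj
  have hcop : Nat.Coprime k r := ((Fact.out : r.Prime).coprime_iff_not_dvd.mpr (Nat.not_dvd_of_pos_of_lt hk hkr)).symm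
  obtain ⟨m, hm⟩ := Nat.exists_mul_mod_eq_one_of_coprime hcop (Fact.out : r.Prime).one_lt
  have hfp : ∀ e : ℕ, ((σ ^ k) ^ e) j = j := by
    intro e
    induction e with
    | zero => simp
    | succ e ih => rw [pow_succ, Equiv.Perm.mul_apply, hkj, ih]
  refine hj ?_
  have h2 := hfp m
  rw [← pow_mul, ← Nat.mod_add_div (k * m) r, pow_add, pow_mul, hσr, one_pow, mul_one, hm.2, pow_one] at h2
  exact h2

omit [FiniteDimensional F V] in
theorem isCompl_others {D : Fin t → Submodule F V} (hD : iSupIndep D) (htop : iSup D = ⊤) (j : Fin t) :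
    IsCompl (D j) (⨆ (k) (_ : k ≠ j), D k) := by
  refine ⟨hD j, codisjoint_iff.mpr (eq_top_iff.mpr (htop.ge.trans (iSup_le fun k => ?_)))⟩
  by_cases hk : k = j
  · exact hk ▸ le_sup_left
  · exact le_sup_of_le_right (le_iSup₂_of_le k hk le_rfl)

variable [Fact r.Prime] (hg : g ^ r = 1) {D : Fin t → Submodule F V} (ha : 0 < a) (hd : ∀ j, finrank F (D j) = a)
  (hD : iSupIndep D) (htop : iSup D = ⊤) {σ : Equiv.Perm (Fin t)} (hσ : ∀ j, (D j).map g = D (σ j))

include hg ha hd hD htop hσ

/-- The projection on a moved part of the orbit sum of `v` is `v`. -/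
theorem proj_orbitSum (m : Fin t) (hm : σ m ≠ m) {v : V} (hv : v ∈ D m) :
    (((D m).projectionOnto _ (isCompl_others hD htop m)) (∑ k ∈ Finset.range r, (g ^ k) v) : V) = v := by
  obtain ⟨hσk, horb⟩ := perm_facts hg ha hd hD hσ
  obtain ⟨r', hr'⟩ : ∃ r', r = r' + 1 := ⟨r - 1, by have := (Fact.out : r.Prime).pos; omega⟩
  rw [hr', Finset.sum_range_succ', map_add, pow_zero, Module.End.one_apply,
    Submodule.projectionOnto_apply_left _ ⟨v, hv⟩]
  have h0 : (D m).projectionOnto _ (isCompl_others hD htop m) (∑ k ∈ Finset.range r', (g ^ (k + 1)) v) = 0 := by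
    rw [Submodule.projectionOnto_apply_eq_zero_iff]
    refine Submodule.sum_mem _ fun k hk => ?_
    rw [Finset.mem_range] at hk
    refine Submodule.mem_iSup_of_mem ((σ ^ (k + 1)) m) (Submodule.mem_iSup_of_mem (horb m hm _ (by omega) (by omega)) ?_)
    rw [← hσk]
    exact Submodule.mem_map_of_mem hv
  rw [h0, zero_add]

/-- A moved part embeds in the fixed space. -/
theorem le_finrank_fixedIn_of_moved [Fintype F] {j : Fin t} (hj : σ j ≠ j) : a ≤ finrank F (fixedIn g ⊤) := by
  let Φ : D j →ₗ[F] fixedIn g ⊤ := LinearMap.codRestrict _ ((∑ k ∈ Finset.range r, g ^ k) ∘ₗ (D j).subtype) fun v => by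
    refine mem_fixedIn.mpr ⟨trivial, ?_⟩
    have h1 : g * ∑ k ∈ Finset.range r, g ^ k = ∑ k ∈ Finset.range r, g ^ k := by
      have h2 := mul_geom_sum g r
      rw [hg, sub_self, sub_mul, one_mul, sub_eq_zero] at h2
      exact h2
    exact congrArg (fun f : Module.End F V => f v) h1
  rw [← hd j]
  refine LinearMap.finrank_le_finrank_of_injective (f := Φ) fun u v huv => Subtype.ext ?_
  have h := congrArg Subtype.val huv
  simp only [Φ, LinearMap.codRestrict_apply, LinearMap.comp_apply, Submodule.subtype_apply, LinearMap.sum_apply] at h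
  rw [← proj_orbitSum hg ha hd hD htop hσ j hj u.2, ← proj_orbitSum hg ha hd hD htop hσ j hj v.2, h]

/-- The moving space contains `r - 1` copies of a moved part. -/
theorem le_finrank_moving {j : Fin t} (hj : σ j ≠ j) : a * (r - 1) ≤ finrank F (LinearMap.range (g - 1)) := by
  obtain ⟨hσk, horb⟩ := perm_facts hg ha hd hD hσ
  let Ψ : (Fin (r - 1) → D j) →ₗ[F] LinearMap.range (g - 1) :=
    LinearMap.codRestrict _ ((g - 1) ∘ₗ ∑ k : Fin (r - 1), (g ^ (k : ℕ)) ∘ₗ (D j).subtype ∘ₗ LinearMap.proj k)
      fun v => LinearMap.mem_range_self _ _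
  have hinj : Function.Injective Ψ := by
    rw [injective_iff_map_eq_zero]
    intro v hv
    have h := congrArg Subtype.val hv
    simp only [Ψ, LinearMap.codRestrict_apply, LinearMap.comp_apply, LinearMap.sum_apply, LinearMap.sub_apply,
      Module.End.one_apply, Submodule.subtype_apply, LinearMap.proj_apply, Submodule.coe_zero, sub_eq_zero, map_sum] at h
    have hind : ∀ (n : ℕ) (k : Fin (r - 1)), (k : ℕ) = n → v k = 0 := by
      intro n
      induction n using Nat.strong_induction_on with
      | _ n ih =>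
      intro k hk
      let m := (σ ^ (k : ℕ)) j
      have hpos : ∀ i : ℕ, i < r → i ≠ (k : ℕ) → (σ ^ i) j ≠ m := by
        intro i hi hik e
        rcases Nat.lt_or_gt_of_ne hik with hlt | hlt
        · refine horb j hj ((k : ℕ) - i) (by omega) (by omega) ((σ ^ i).injective ?_)
          rw [← Equiv.Perm.mul_apply, ← pow_add, Nat.add_sub_cancel' hlt.le]
          exact e.symm
        · refine horb j hj (i - (k : ℕ)) (by omega) (by omega) ((σ ^ (k : ℕ)).injective ?_)
          rw [← Equiv.Perm.mul_apply, ← pow_add, Nat.add_sub_cancel' hlt.le]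
          exact e
      have hz : ∀ i : ℕ, i < r → i ≠ (k : ℕ) → ∀ u : D j,
          (D m).projectionOnto _ (isCompl_others hD htop m) ((g ^ i) u) = 0 := by
        intro i hi hik u
        rw [Submodule.projectionOnto_apply_eq_zero_iff]
        refine Submodule.mem_iSup_of_mem ((σ ^ i) j) (Submodule.mem_iSup_of_mem (hpos i hi hik) ?_)
        rw [← hσk]
        exact Submodule.mem_map_of_mem u.2
      have h1 := congrArg ((D m).projectionOnto _ (isCompl_others hD htop m)) h
      simp only [map_sum, map_sub, map_zero, Finset.sum_sub_distrib, ← Module.End.mul_apply, ← pow_succ'] at h1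
      have hmem : (g ^ (k : ℕ)) (v k) ∈ D m := by
        simp only [m]
        rw [← hσk]
        exact Submodule.mem_map_of_mem (v k).2
      rw [Finset.sum_eq_zero (s := Finset.univ) (f := fun i : Fin (r - 1) =>
          (D m).projectionOnto _ (isCompl_others hD htop m) ((g ^ ((i : ℕ) + 1)) (v i))) (fun i _ => by
          by_cases hik : (i : ℕ) + 1 = (k : ℕ)
          · rw [ih (i : ℕ) (by omega) i rfl]; simp
          · exact hz _ (by have := i.2; omega) hik _),
        Finset.sum_eq_single k (fun i _ hik => hz _ (by have := i.2; omega) (fun e => hik (Fin.ext e)) _)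
          (fun hk => absurd (Finset.mem_univ k) hk),
        Submodule.projectionOnto_apply_left _ ⟨_, hmem⟩] at h1
      rw [zero_sub, neg_eq_zero] at h1
      have h2 : (g ^ (k : ℕ)) (v k : V) = 0 := congrArg Subtype.val h1
      have h3 := congrArg (g ^ (r - (k : ℕ))) h2
      rw [← Module.End.mul_apply, ← pow_add, Nat.sub_add_cancel (by omega), hg, map_zero] at h3
      exact Subtype.ext h3
    exact funext fun k => hind _ k rfl
  have := LinearMap.finrank_le_finrank_of_injective hinj
  rw [Module.finrank_pi_fintype] at this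
  simpa [hd, mul_comm] using this

/-- Fixed lines: there are at least `t / r` independent fixed vectors. -/
theorem le_mul_finrank_fixedIn [Fintype F] (hfix : ∀ j, σ j = j → ∀ v ∈ D j, g v = v) :
    t ≤ finrank F (fixedIn g ⊤) * r := by
  classical
  obtain ⟨hσk, horb⟩ := perm_facts hg ha hd hD hσ
  have hrpos : 0 < r := (Fact.out : r.Prime).pos
  let orb : Fin t → Finset (Fin t) := fun j => (Finset.range r).image fun k => (σ ^ k) j
  have hself : ∀ j, j ∈ orb j := fun j => Finset.mem_image.mpr ⟨0, Finset.mem_range.mpr hrpos, by simp⟩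
  have hDinj : Function.Injective D := by
    intro j k hjk
    by_contra hne
    have h1 : Disjoint (D j) (D k) := hD.pairwiseDisjoint hne
    rw [hjk, disjoint_self] at h1
    have h2 := hd k
    rw [h1, finrank_bot] at h2
    omega
  have hσr : σ ^ r = 1 := Equiv.ext fun j => hDinj (by
    rw [← hσk, Equiv.Perm.one_apply, hg]
    ext v; simp [Submodule.mem_map])
  have hpow : ∀ k : ℕ, σ ^ k = σ ^ (k % r) := fun k => by
    conv_lhs => rw [← Nat.mod_add_div k r, pow_add, pow_mul, hσr, one_pow, mul_one]
  have horb_eq : ∀ (j : Fin t) (k : ℕ), orb ((σ ^ k) j) = orb j := by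
    intro j k
    ext x
    simp only [orb, Finset.mem_image, Finset.mem_range]
    constructor
    · rintro ⟨i, -, rfl⟩
      exact ⟨(i + k) % r, Nat.mod_lt _ hrpos, by rw [← hpow, pow_add, Equiv.Perm.mul_apply]⟩
    · rintro ⟨i, -, rfl⟩
      refine ⟨(i + (r * k - k)) % r, Nat.mod_lt _ hrpos, ?_⟩
      have : i + (r * k - k) + k = i + r * k := by
        have : k ≤ r * k := Nat.le_mul_of_pos_left k hrpos
        omega
      rw [← hpow, ← Equiv.Perm.mul_apply, ← pow_add, this, pow_add, pow_mul, hσr, one_pow, mul_one]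
  let R := Finset.univ.image orb
  have hrep : ∀ O : R, ∃ j, orb j = O.1 := fun O => by
    obtain ⟨j, -, hj⟩ := Finset.mem_image.mp O.2
    exact ⟨j, hj⟩
  choose rep hrep' using hrep
  have hcount : t ≤ R.card * r := by
    have h1 : (Finset.univ : Finset (Fin t)) ⊆ R.biUnion id := fun j _ =>
      Finset.mem_biUnion.mpr ⟨orb j, Finset.mem_image_of_mem _ (Finset.mem_univ j), hself j⟩
    calc t = (Finset.univ : Finset (Fin t)).card := by simp
      _ ≤ (R.biUnion id).card := Finset.card_le_card h1
      _ ≤ R.card * r := Finset.card_biUnion_le_card_mul _ _ _ fun O hO => by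
        obtain ⟨j, -, rfl⟩ := Finset.mem_image.mp hO
        exact Finset.card_image_le.trans (by simp)
  have hv : ∀ O : R, ∃ v, v ∈ D (rep O) ∧ v ≠ 0 := fun O => by
    refine (Submodule.ne_bot_iff _).mp fun h => ?_
    have := hd (rep O)
    rw [h, finrank_bot] at this
    omega
  choose v hvm hv0 using hv
  let w : R → V := fun O => if σ (rep O) = rep O then v O else ∑ k ∈ Finset.range r, (g ^ k) (v O)
  have hwfix : ∀ O, w O ∈ fixedIn g ⊤ := by
    intro O
    refine mem_fixedIn.mpr ⟨trivial, ?_⟩
    simp only [w]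
    split
    · exact hfix _ ‹_› _ (hvm O)
    · have h2 := mul_geom_sum g r
      rw [hg, sub_self, sub_mul, one_mul, sub_eq_zero] at h2
      have := congrArg (fun f : Module.End F V => f (v O)) h2
      simpa [Module.End.mul_apply, LinearMap.sum_apply] using this
  have hproj : ∀ O O' : R, O' ≠ O →
      (D (rep O)).projectionOnto _ (isCompl_others hD htop (rep O)) (w O') = 0 := by
    intro O O' hne
    rw [Submodule.projectionOnto_apply_eq_zero_iff]
    have hk : ∀ k : ℕ, (σ ^ k) (rep O') ≠ rep O := fun k e =>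
      hne (Subtype.ext (by rw [← hrep' O', ← hrep' O, ← e, horb_eq]))
    simp only [w]
    split
    · refine Submodule.mem_iSup_of_mem (rep O') (Submodule.mem_iSup_of_mem ?_ (hvm O'))
      simpa using hk 0
    · refine Submodule.sum_mem _ fun k _ => Submodule.mem_iSup_of_mem ((σ ^ k) (rep O'))
        (Submodule.mem_iSup_of_mem (hk k) ?_)
      rw [← hσk]
      exact Submodule.mem_map_of_mem (hvm O')
  have hself' : ∀ O : R,
      ((D (rep O)).projectionOnto _ (isCompl_others hD htop (rep O)) (w O) : V) = v O := by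
    intro O
    simp only [w]
    split
    · rw [Submodule.projectionOnto_apply_left _ ⟨_, hvm O⟩]
    · exact proj_orbitSum hg ha hd hD htop hσ _ ‹_› (hvm O)
  have hli : LinearIndependent F (fun O => (⟨w O, hwfix O⟩ : fixedIn g ⊤)) := by
    refine LinearIndependent.of_comp (fixedIn g ⊤).subtype ?_
    rw [Fintype.linearIndependent_iff]
    intro c hc O
    have h1 := congrArg (fun x => (((D (rep O)).projectionOnto _ (isCompl_others hD htop (rep O)) x : D (rep O)) : V)) hc
    simp only [Function.comp_apply, Submodule.subtype_apply, map_sum, map_smul, map_zero, Submodule.coe_zero] at h1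
    rw [Finset.sum_eq_single O (fun O' _ hne => by rw [hproj O O' hne, smul_zero])
      (fun h => absurd (Finset.mem_univ O) h), Submodule.coe_smul, hself' O] at h1
    exact (smul_eq_zero.mp h1).resolve_right (hv0 O)
  have h := hli.fintype_card_le_finrank
  rw [Fintype.card_coe] at h
  exact hcount.trans (Nat.mul_le_mul_right r h)

end CfsgLib.LinearElements
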