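import Cfsg.Agent.LinearElements.FieldStructure

/-! Maps of small projective order which normalise an extension-field structure. -/

set_option autoImplicit false

namespace CfsgLib.LinearElements

open Module

section
variable {F V : Type*} [Field F] [AddCommGroup V] [Module F V] [FiniteDimensional F V]

/-- The determinant of a map which is scalar on two complementary subspaces. -/
theorem det_of_split {g : Module.End F V} {U W : Submodule F V} (hUW : IsCompl U W) {α β : F}
    (hU : ∀ u ∈ U, g u = α • u) (hW : ∀ w ∈ W, g w = β • w) :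
    LinearMap.det g = α ^ finrank F U * β ^ finrank F W := by
  let e := Submodule.prodEquivOfIsCompl U W hUW
  have h : g = e.conj ((α • (1 : Module.End F U)).prodMap (β • (1 : Module.End F W))) := by
    refine LinearMap.ext fun v => ?_
    obtain ⟨x, rfl⟩ := e.surjective v
    rw [LinearEquiv.conj_apply_apply, LinearEquiv.symm_apply_apply]
    simp [e, hU _ x.1.2, hW _ x.2.2]
  rw [h, LinearEquiv.conj_apply, LinearMap.comp_assoc, LinearMap.det_conj, LinearMap.det_prodMap, LinearMap.det_smul,
    LinearMap.det_smul, map_one, map_one, mul_one, mul_one]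

/-- Two dimensions: a non-scalar involution has a cyclic basis. -/
theorem exists_cyclicBasis_two (hn : finrank F V = 2) {h : Module.End F V} (hh : h ^ 2 = 1)
    (hns : ∀ c : F, h ≠ c • 1) : ∃ b : Basis (Fin 2) F V, ∀ l, h (b l) = b (l + 1) := by
  obtain ⟨v, hv⟩ : ∃ v, LinearIndependent F ![v, h v] := by
    by_contra hall
    push Not at hall
    obtain ⟨c, hc⟩ := h.exists_eq_smul_id_of_forall_notLinearIndependent hall
    exact hns c hc
  let b := basisOfLinearIndependentOfCardEqFinrank hv (by rw [hn, Fintype.card_fin])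
  refine ⟨b, fun l => ?_⟩
  fin_cases l
  · simp [b]
  · have h2 := congrArg (fun f : Module.End F V => f v) hh
    simpa [b, sq] using h2

end

section
variable {F V : Type*} [Field F] [Fintype F] [AddCommGroup V] [Module F V] [FiniteDimensional F V]

/-- A map with a cyclic basis normalises a structure of degree `finrank V`. -/
theorem hasStructure_of_cyclicBasis {L : Type*} [Field L] [Algebra F L] [FiniteDimensional F L] {k : ℕ} [NeZero k]
    (hL : finrank F L = k) {g : Module.End F V} (b : Basis (Fin k) F V) (hb : ∀ l, g (b l) = b (l + 1)) :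
    HasStructure L g := by
  haveI : Finite F := Finite.of_fintype F
  haveI : Finite L := Module.finite_of_finite F
  let σ := FiniteField.frobeniusAlgEquivOfAlgebraic F L
  let ε : Fin k ≃ Gal(L/F) := (finCongr hL.symm).trans
    (Equiv.ofBijective _ (FiniteField.bijective_frobeniusAlgEquivOfAlgebraic_pow F L))
  let bL : Basis (Fin k) F L := (IsGalois.normalBasis F L).reindex ε.symm
  have hε : ∀ l : Fin k, ε l = σ ^ (l : ℕ) := fun l => rfl
  have hσk : σ ^ k = 1 := by
    rw [← hL, ← IsGalois.card_aut_eq_finrank F L]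
    exact pow_card_eq_one'
  have hstep : ∀ l : Fin k, σ (bL l) = bL (l + 1) := by
    intro l
    simp only [bL, Basis.reindex_apply, Equiv.symm_symm]
    rw [IsGalois.normalBasis_apply (ε l), IsGalois.normalBasis_apply (ε (l + 1)), hε, hε, ← AlgEquiv.mul_apply,
      ← pow_succ']
    congr 1
    rw [Fin.val_add, Fin.val_one', Nat.add_mod_mod]
    conv_lhs => rw [← Nat.mod_add_div ((l : ℕ) + 1) k, pow_add, pow_mul, hσk, one_pow, mul_one]
  refine hasStructure_of_intertwine σ (bL.equiv b (Equiv.refl _)) fun x => ?_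
  have : g ∘ₗ (bL.equiv b (Equiv.refl _)).toLinearMap = (bL.equiv b (Equiv.refl _)).toLinearMap ∘ₗ σ.toLinearMap :=
    bL.ext fun l => by simp [hb, hstep]
  exact congrArg (fun f : L →ₗ[F] V => f x) this

/-- An `r`-th root in the extension of degree `r`. -/
theorem exists_root_extension {L : Type*} [Field L] [Algebra F L] [FiniteDimensional F L] {r : ℕ} [Fact r.Prime]
    (hL : finrank F L = r) (hi : orderOf (Fintype.card F : ZMod r) = 1) {z : F} (hz : z ≠ 0) :
    ∃ s : L, s ^ r = algebraMap F L z := by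
  classical
  haveI : Finite L := Module.finite_of_finite F
  haveI := Fintype.ofFinite L
  obtain ⟨u, hu⟩ := IsCyclic.exists_monoid_generator (α := Lˣ)
  have huo : orderOf u = Fintype.card F ^ r - 1 := by
    rw [orderOf_eq_card_of_forall_mem_zpowers (fun x => mem_powers_iff_mem_zpowers.mp (hu x)), Nat.card_units,
      Module.natCard_eq_pow_finrank (K := F), Nat.card_eq_fintype_card, hL]
  have hzL : algebraMap F L z ≠ 0 := fun h => hz ((algebraMap F L).injective (h.trans (map_zero _).symm))
  obtain ⟨e, he⟩ := hu (Units.mk0 _ hzL)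
  have hq := orderOf_eq_one_iff.mp hi
  have hgeo : r ∣ ∑ j ∈ Finset.range r, Fintype.card F ^ j := by
    rw [← ZMod.natCast_eq_zero_iff]
    push_cast
    simp [hq]
  obtain ⟨u', hu'⟩ := hgeo
  have hQ : Fintype.card F ^ r - 1 = (r * u') * (Fintype.card F - 1) := by
    rw [← hu', geom_sum_mul_of_one_le Fintype.card_pos]
  have hz1 : u ^ (e * (Fintype.card F - 1)) = 1 := by
    refine Units.ext ?_
    rw [pow_mul, Units.val_pow_eq_pow_val, show u ^ e = Units.mk0 _ hzL from he, Units.val_mk0, ← map_pow,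
      FiniteField.pow_card_sub_one_eq_one z hz, map_one, Units.val_one]
  have hdvd := orderOf_dvd_of_pow_eq_one hz1
  rw [huo, hQ] at hdvd
  have hq1 : 0 < Fintype.card F - 1 := by have := Fintype.one_lt_card (α := F); omega
  obtain ⟨e', he'⟩ := (dvd_mul_right r u').trans (Nat.dvd_of_mul_dvd_mul_right hq1 hdvd)
  refine ⟨((u ^ e' : Lˣ) : L), ?_⟩
  rw [← Units.val_pow_eq_pow_val, ← pow_mul, mul_comm, ← he', show u ^ e = Units.mk0 _ hzL from he, Units.val_mk0]

/-- If the scalar is not an `r`-th power, the map itself spans a structure of degree `r`. -/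
theorem hasStructure_of_nonpower {L : Type*} [Field L] [Algebra F L] [FiniteDimensional F L] {r : ℕ} [Fact r.Prime]
    (hL : finrank F L = r) {g : Module.End F V} {z : F} (hz : z ≠ 0) (hno : ∀ μ : F, μ ^ r ≠ z)
    (hg : g ^ r = z • 1) : HasStructure L g := by
  have hi : orderOf (Fintype.card F : ZMod r) = 1 := by
    by_contra h
    obtain ⟨μ, hμ⟩ := exists_root_of_order_ne_one h z
    exact hno μ hμ
  obtain ⟨s, hs⟩ := exists_root_extension hL hi hz
  let m : Module.End F L := LinearMap.mulLeft F s
  have hmpow : ∀ k : ℕ, ∀ x, (m ^ k) x = s ^ k * x := fun k x => by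
    rw [LinearMap.pow_mulLeft, LinearMap.mulLeft_apply]
  have hm : m ^ r = z • 1 := LinearMap.ext fun x => by
    rw [hmpow, hs, LinearMap.smul_apply, Module.End.one_apply, Algebra.smul_def]
  obtain ⟨t₀, w₀, B₀, hB₀⟩ := exists_cycleBasis hno hm
  obtain rfl : t₀ = 1 := by
    have h := Module.finrank_eq_card_basis B₀
    rw [hL, Fintype.card_prod, Fintype.card_fin, Fintype.card_fin] at h
    exact (Nat.mul_eq_right (Fact.out : r.Prime).ne_zero).mp h.symm
  obtain ⟨t, w, B, hB⟩ := exists_cycleBasis hno hg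
  let BL : Basis (Fin t × Fin r) F (Fin t → L) :=
    (Pi.basis fun _ : Fin t => B₀.reindex (Equiv.uniqueProd (Fin r) (Fin 1))).reindex (Equiv.sigmaEquivProd _ _)
  let e := BL.equiv B (Equiv.refl _)
  have hBL : ∀ a l, BL (a, l) = Pi.single a (s ^ (l : ℕ) * w₀ 0) := fun a l => by
    simp [BL, Pi.basis_apply, hB₀, hmpow]
  have key : g ∘ₗ e.toLinearMap = e.toLinearMap ∘ₗ (Algebra.lsmul F F (Fin t → L) s) := by
    refine BL.ext fun ⟨a, l⟩ => ?_
    rw [LinearMap.comp_apply, LinearMap.comp_apply, Algebra.lsmul_coe]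
    show g (e (BL (a, l))) = e (s • BL (a, l))
    rw [Basis.equiv_apply, Equiv.refl_apply, hB, ← Module.End.mul_apply, ← pow_succ']
    have hsm : s • BL (a, l) = Pi.single a (s ^ ((l : ℕ) + 1) * w₀ 0) := by
      rw [hBL, ← Pi.single_smul', smul_eq_mul, pow_succ', mul_assoc]
    rw [hsm]
    by_cases hl : (l : ℕ) + 1 < r
    · rw [← hBL a ⟨_, hl⟩, Basis.equiv_apply, Equiv.refl_apply, hB]
    · rw [show (l : ℕ) + 1 = r by omega, hs, hg, ← Algebra.smul_def, Pi.single_smul', LinearMap.smul_apply,
        Module.End.one_apply]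
      have h0 := hBL a ⟨0, (Fact.out : r.Prime).pos⟩
      simp only [pow_zero, one_mul] at h0
      rw [← h0, map_smul, Basis.equiv_apply, Equiv.refl_apply, hB]
      simp
  refine ⟨structureOf e, fun a => ⟨a, LinearMap.ext fun v => ?_⟩⟩
  obtain ⟨x, rfl⟩ := e.surjective v
  have hk : ∀ y, g (e y) = e (s • y) := fun y => congrArg (fun f : (Fin t → L) →ₗ[F] V => f y) key
  rw [Module.End.mul_apply, Module.End.mul_apply, structureOf_apply, hk, hk, structureOf_apply, smul_comm]

/-- A non-trivial map of order `r` in dimension `r`, when `q` has order `r - 1`, has a cyclic basis. -/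
theorem exists_cyclicBasis_prime {r : ℕ} [Fact r.Prime] [NeZero r] (hr3 : 3 ≤ r) (hrF : (r : F) ≠ 0) (hV : finrank F V = r)
    (hq : (Fintype.card F : ZMod r) ≠ 0) (hc : orderOf (Fintype.card F : ZMod r) = r - 1)
    {h : Module.End F V} (hh : h ^ r = 1) (hne : h ≠ 1) :
    ∃ b : Basis (Fin r) F V, ∀ l, h (b l) = b (l + 1) := by
  have hr2 := (Fact.out : r.Prime).two_le
  obtain ⟨M, hM, -, hinf, hsup⟩ := exists_invBy_compl (S := (⊤ : Submodule F V)) (W := fixedIn h ⊤)
    (by omega : 0 < r) hrF one_ne_zero (by rw [hh, one_smul]) invBy_top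
    (fun v hv => by rw [(mem_fixedIn.mp hv).2]; exact hv) le_top
  have hMfix : fixedIn h M = ⊥ := le_bot_iff.mp (hinf ▸ le_inf (inf_le_inf_right _ le_top) inf_le_left)
  obtain ⟨J, hJ⟩ : r - 1 ∣ finrank F M := by
    have := orderOf_dvd_finrank_sub hh hq hM
    rwa [hMfix, finrank_bot, Nat.sub_zero, hc] at this
  have htot := finrank_sup_of_disjoint hinf
  rw [hsup, finrank_top, hJ, hV] at htot
  have hJ0 : J ≠ 0 := by
    rintro rfl
    refine hne ?_
    have : fixedIn h ⊤ = ⊤ := Submodule.eq_top_of_finrank_eq (by omega)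
    exact LinearMap.ext fun v => (mem_fixedIn.mp (this.ge (Submodule.mem_top (x := v)))).2
  have hfix2 : 1 ≤ finrank F (fixedIn h ⊤) → J = 1 := by
    intro _
    by_contra hJ1
    have : (r - 1) * 2 ≤ (r - 1) * J := Nat.mul_le_mul_left _ (by omega)
    omega
  have hmod := orderOf_dvd_finrank_sub hh hq (invBy_top (g := h))
  rw [finrank_top, hV, hc] at hmod
  have hfpos : 1 ≤ finrank F (fixedIn h ⊤) := by
    by_contra h0
    have h0' : finrank F (fixedIn h ⊤) = 0 := by omega
    rw [h0', Nat.sub_zero] at hmod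
    rw [h0', Nat.zero_add] at htot
    have h2 : r - 1 ∣ 1 := by
      have := Nat.dvd_sub hmod (dvd_refl (r - 1))
      rwa [show r - (r - 1) = 1 by omega] at this
    have := Nat.le_of_dvd one_pos h2
    omega
  have hJ1 := hfix2 hfpos
  subst hJ1
  obtain ⟨w, hw, hspan⟩ := exists_cyclic_family hrF hh hq 1 M hM hMfix (by rw [hJ, hc, mul_one, one_mul])
  obtain ⟨f, hf, hf0⟩ := (Submodule.ne_bot_iff (fixedIn h ⊤)).mp (fun e => by rw [e, finrank_bot] at hfpos; omega)
  have hfix : h f = f := (mem_fixedIn.mp hf).2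
  have hfixpow : ∀ l : ℕ, (h ^ l) f = f := fun l => by
    induction l with
    | zero => simp
    | succ l ih => rw [pow_succ, Module.End.mul_apply, hfix, ih]
  let b : Fin r → V := fun l => (h ^ (l : ℕ)) (f + w 0)
  have hgeo : h * ∑ k ∈ Finset.range r, h ^ k = ∑ k ∈ Finset.range r, h ^ k := by
    have h2 := mul_geom_sum h r
    rw [hh, sub_self, sub_mul, one_mul, sub_eq_zero] at h2
    exact h2
  have hwsum : ∑ k ∈ Finset.range r, (h ^ k) (w 0) = 0 := by
    refine (Submodule.mem_bot F).mp (hMfix ▸ mem_fixedIn.mpr ⟨Submodule.sum_mem _ fun k _ => hM.pow k _ (hw 0), ?_⟩)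
    have := congrArg (fun F' : Module.End F V => F' (w 0)) hgeo
    simpa [Module.End.mul_apply, LinearMap.sum_apply] using this
  have hfmem : f ∈ Submodule.span F (Set.range b) := by
    have h1 : ∑ l : Fin r, b l = (r : F) • f := by
      simp only [b, map_add, hfixpow, Finset.sum_add_distrib]
      rw [Fin.sum_univ_eq_sum_range (f := fun l => (h ^ l) (w 0)), hwsum, add_zero, Nat.cast_smul_eq_nsmul,
        Finset.sum_const, Finset.card_univ, Fintype.card_fin]
    have h2 : (r : F)⁻¹ • ∑ l : Fin r, b l ∈ Submodule.span F (Set.range b) :=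
      Submodule.smul_mem _ _ (Submodule.sum_mem _ fun l _ => Submodule.subset_span ⟨_, rfl⟩)
    rwa [h1, smul_smul, inv_mul_cancel₀ hrF, one_smul] at h2
  have hsp : ⊤ ≤ Submodule.span F (Set.range b) := by
    rw [← hsup]
    refine sup_le ?_ (hspan.trans (Submodule.span_le.mpr ?_))
    · have hfline : fixedIn h ⊤ = Submodule.span F {f} :=
        (Submodule.eq_of_le_of_finrank_le (Submodule.span_le.mpr (by simpa using hf))
          (by rw [finrank_span_singleton hf0]; omega)).symm
      rw [hfline]
      exact Submodule.span_le.mpr (by simpa using hfmem)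
    · rintro _ ⟨⟨i, l⟩, rfl⟩
      obtain rfl : i = 0 := Subsingleton.elim _ _
      have : (h ^ (l : ℕ)) (w 0) = b l - f := by simp [b, map_add, hfixpow]
      show (h ^ (l : ℕ)) (w 0) ∈ Submodule.span F (Set.range b)
      rw [this]
      exact Submodule.sub_mem _ (Submodule.subset_span ⟨_, rfl⟩) hfmem
  refine ⟨basisOfTopLeSpanOfCardEqFinrank b hsp (by rw [hV, Fintype.card_fin]), fun l => ?_⟩
  simp only [coe_basisOfTopLeSpanOfCardEqFinrank, b]
  rw [← Module.End.mul_apply, ← pow_succ', Fin.val_add, Fin.val_one', Nat.add_mod_mod]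
  conv_lhs => rw [← Nat.mod_add_div ((l : ℕ) + 1) r, pow_add, pow_mul, hh, one_pow, mul_one]

end

end CfsgLib.LinearElements
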