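import Cfsg.Agent.LinearElements.SympModels
import Cfsg.Agent.ExtField.Bridge
import Cfsg.Agent.MaxSub.SymplecticBasic

/-!
Common tools for prime order elements and field extension subgroups of symplectic groups: semilinear maps
of prime order, their fixed spaces, conjugation through frames, test elements.
-/

set_option autoImplicit false

namespace CfsgLib.FieldExtElements

open Module Submodule

section Semilinear

variable {F K V : Type*} [Field F] [Field K] [Algebra F K] [AddCommGroup V] [Module F V] [Module K V]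
  [IsScalarTower F K V] [Finite K] [FiniteDimensional F K] [FiniteDimensional F V]

/-- A map of prime order normalising a field of prime degree is linear or moves half of the space. -/
theorem linear_or_moving [Nontrivial V] {k r : ℕ} (hk : k.Prime) (hK : finrank F K = k) [hr : Fact r.Prime]
    {g : Module.End F V} (hg : g ^ r = 1) (hsemi : ∀ a : K, ∃ b : K, ∀ v, g (a • v) = b • g v) :
    (∀ (a : K) v, g (a • v) = a • g v) ∨
      (k = r ∧ 2 * finrank F (LinearMap.ker (g - 1)) ≤ finrank F V) := by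
  classical
  obtain ⟨v₀, hv₀⟩ := exists_ne (0 : V)
  have hgs : Function.Surjective g := fun v => ⟨(g ^ (r - 1)) v, by
    rw [← Module.End.mul_apply, ← pow_succ', Nat.sub_add_cancel hr.out.one_le, hg, Module.End.one_apply]⟩
  have hgi : Function.Injective g := LinearMap.injective_iff_surjective.mpr hgs
  choose σ hσ using hsemi
  have huniq : ∀ a b : K, (∀ v, g (a • v) = b • g v) → σ a = b := fun a b h => by
    have h1 := (hσ a v₀).symm.trans (h v₀)
    exact smul_left_injective K (fun e => hv₀ (hgi (e.trans (map_zero g).symm))) h1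
  let σh : K →ₐ[F] K :=
    { toFun := σ
      map_one' := huniq 1 1 fun v => by rw [one_smul, one_smul]
      map_mul' := fun a b => huniq _ _ fun v => by rw [mul_smul, hσ, hσ, mul_smul]
      map_zero' := huniq 0 0 fun v => by rw [zero_smul, zero_smul, map_zero]
      map_add' := fun a b => huniq _ _ fun v => by rw [add_smul, map_add, hσ, hσ, add_smul]
      commutes' := fun c => huniq _ _ fun v => by rw [algebraMap_smul, algebraMap_smul, map_smul] }
  let τ : K ≃ₐ[F] K := AlgEquiv.ofBijective σh
    (Finite.injective_iff_bijective.mp σh.toRingHom.injective)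
  have hτ : ∀ a v, g (a • v) = τ a • g v := hσ
  by_cases h1 : τ = 1
  · refine Or.inl fun a v => ?_
    rw [hτ, h1]
    rfl
  refine Or.inr ⟨?_, ?_⟩
  · have hpow : ∀ (j : ℕ) a v, (g ^ j) (a • v) = (τ ^ j) a • (g ^ j) v := by
      intro j
      induction j with
      | zero => intro a v; rfl
      | succ j ih => intro a v; rw [pow_succ', pow_succ', Module.End.mul_apply, Module.End.mul_apply, ih, hτ]; rfl
    have hτr : τ ^ r = 1 := AlgEquiv.ext fun a => by
      have := hpow r a v₀
      rw [hg, Module.End.one_apply, Module.End.one_apply] at this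
      exact (smul_left_injective K hv₀ this).symm
    have : Finite F := Finite.of_injective _ (algebraMap F K).injective
    have hdvd : orderOf τ ∣ Nat.card (K ≃ₐ[F] K) := orderOf_dvd_natCard τ
    rw [orderOf_eq_prime hτr h1, IsGalois.card_aut_eq_finrank, hK] at hdvd
    exact ((Nat.prime_dvd_prime_iff_eq hr.out hk).mp hdvd).symm
  · obtain ⟨a, ha⟩ : ∃ a, τ a ≠ a := by
      by_contra h
      push Not at h
      exact h1 (AlgEquiv.ext h)
    have ha0 : a ≠ 0 := fun e => ha (by rw [e, map_zero])
    let T : V →ₗ[F] V :=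
      { toFun := fun v => a • v
        map_add' := fun u v => smul_add a u v
        map_smul' := fun c v => smul_comm a c v }
    set W := LinearMap.ker (g - 1) with hW
    have hfix : ∀ w, w ∈ W → g w = w := fun w hw => by
      rw [hW, LinearMap.mem_ker, LinearMap.sub_apply, sub_eq_zero] at hw
      exact hw
    have hdis : W ⊓ W.map T = ⊥ := by
      rw [Submodule.eq_bot_iff]
      rintro _ ⟨h, w, hw, rfl⟩
      have e : g (a • w) = a • w := hfix _ h
      rw [hτ, hfix w hw] at e
      have : w = 0 := by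
        by_contra hne
        exact ha (smul_left_injective K hne e)
      show a • w = 0
      rw [this, smul_zero]
    have hTi : Function.Injective T := fun u v e => smul_right_injective V ha0 e
    have hcard := LinearElements.finrank_sup_of_disjoint hdis
    rw [(Submodule.equivMapOfInjective T hTi W).finrank_eq.symm] at hcard
    have := Submodule.finrank_le (W ⊔ W.map T)
    omega

omit [Finite K] in
/-- The range of `g - 1` for a linear `g` is a subspace over the extension. -/
theorem exists_rangeK {g : Module.End F V} (hlin : ∀ (a : K) v, g (a • v) = a • g v) :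
    ∃ W : Submodule K V, (∀ v, v ∈ W ↔ v ∈ LinearMap.range (g - 1)) ∧
      finrank F K * finrank K W = finrank F (LinearMap.range (g - 1)) := by
  let W : Submodule K V :=
    { carrier := LinearMap.range (g - 1)
      add_mem' := fun hu hv => add_mem hu hv
      zero_mem' := zero_mem _
      smul_mem' := by
        rintro a _ ⟨u, rfl⟩
        exact ⟨a • u, by simp [hlin, smul_sub]⟩ }
  refine ⟨W, fun v => Iff.rfl, ?_⟩
  have : FiniteDimensional K V := Module.Finite.of_restrictScalars_finite F K V
  rw [Module.finrank_mul_finrank]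
  exact LinearEquiv.finrank_eq
    { toFun := fun w => ⟨w.1, w.2⟩
      invFun := fun w => ⟨w.1, w.2⟩
      map_add' := fun _ _ => rfl
      map_smul' := fun _ _ => rfl }

end Semilinear

section Isometry

variable {F V : Type*} [Field F] [AddCommGroup V] [Module F V] [FiniteDimensional F V]

omit [FiniteDimensional F V] in
/-- A map of order prime to the characteristic has no fixed vector in the range of `g - 1`. -/
theorem range_inf_ker {r : ℕ} (hrF : (r : F) ≠ 0) {g : Module.End F V} (hg : g ^ r = 1) {v : V}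
    (hv : v ∈ LinearMap.range (g - 1)) (hfix : g v = v) : v = 0 := by
  obtain ⟨u, rfl⟩ := hv
  set w := (g - 1) u with hw
  have hu : g u = u + w := by simp [hw]
  have hj : ∀ j : ℕ, (g ^ j) u = u + (j : F) • w := by
    intro j
    induction j with
    | zero => simp
    | succ j ih =>
      rw [pow_succ', Module.End.mul_apply, ih, map_add, map_smul, hu, hfix, Nat.cast_succ, add_smul, one_smul]
      abel
  have := hj r
  rw [hg, Module.End.one_apply, left_eq_add, smul_eq_zero] at this
  exact this.resolve_left hrF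

/-- The range of `g - 1` is nondegenerate for an isometry of order prime to the characteristic. -/
theorem sepOn_range {r : ℕ} (hrF : (r : F) ≠ 0) {g : Module.End F V} (hg : g ^ r = 1)
    {B : LinearMap.BilinForm F V} (hB : ∀ x, (∀ y, B x y = 0) → x = 0) (hgB : ∀ u v, B (g u) (g v) = B u v) :
    LinearElements.SepOn B (LinearMap.range (g - 1)) := by
  intro v hv hv0
  by_contra hall
  push Not at hall
  have hsum : LinearMap.range (g - 1) ⊔ LinearMap.ker (g - 1) = ⊤ := by
    refine Submodule.eq_top_of_finrank_eq ?_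
    rw [LinearElements.finrank_sup_of_disjoint, LinearMap.finrank_range_add_finrank_ker]
    rw [Submodule.eq_bot_iff]
    rintro w ⟨h1, h2⟩
    have h2' : g w = w := by
      simpa [sub_eq_zero] using h2
    exact range_inf_ker hrF hg h1 h2'
  apply hv0
  apply hB
  intro y
  obtain ⟨a, ha, b, hb, rfl⟩ := Submodule.mem_sup.mp (hsum.ge (Submodule.mem_top (x := y)))
  have hb' : g b = b := by simpa [sub_eq_zero] using hb
  obtain ⟨u, rfl⟩ := hv
  have : B ((g - 1) u) b = 0 := by
    have h1 := hgB u b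
    rw [hb'] at h1
    simp [h1]
  rw [map_add, hall a ha, this, add_zero]

variable {B : LinearMap.BilinForm F V}

/-- A hyperbolic family of the full dimension is a basis. -/
theorem exists_frame_basis {n : ℕ} (hn : finrank F V = 2 * n) (u v : Fin n → V) (δ : Fin n → F)
    (hδ : ∀ j, δ j ≠ 0) (huu : ∀ i j, B (u i) (u j) = 0) (hvv : ∀ i j, B (v i) (v j) = 0)
    (huv : ∀ i j, B (u i) (v j) = if i = j then δ i else 0) (hA : B.IsAlt) :
    ∃ b : Basis (Fin n ⊕ Fin n) F V, ⇑b = Sum.elim u v := by
  have hli : LinearIndependent F (Sum.elim u v) := by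
    rw [Fintype.linearIndependent_iff]
    intro c hc w
    rcases w with j | j
    · have := congrArg (fun z => B z (v j)) hc
      simpa [Fintype.sum_sum_type, hvv, huv, hδ j] using this
    · have := congrArg (fun z => B (u j) z) hc
      simpa [Fintype.sum_sum_type, huu, huv, hδ j] using this
  refine ⟨Basis.mk hli (top_le_iff.mpr ?_), Basis.coe_mk _ _⟩
  apply Submodule.eq_top_of_finrank_eq
  rw [finrank_span_eq_card hli, hn, Fintype.card_sum, Fintype.card_fin, two_mul]

/-- Frames with equal pairings are moved to each other by an isometry. -/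
theorem exists_isometry_frames {n : ℕ} (hn : finrank F V = 2 * n) (u v u' v' : Fin n → V) (δ : Fin n → F)
    (hA : B.IsAlt) (hδ : ∀ j, δ j ≠ 0) (huu : ∀ i j, B (u i) (u j) = 0) (hvv : ∀ i j, B (v i) (v j) = 0)
    (huv : ∀ i j, B (u i) (v j) = if i = j then δ i else 0)
    (huu' : ∀ i j, B (u' i) (u' j) = 0) (hvv' : ∀ i j, B (v' i) (v' j) = 0)
    (huv' : ∀ i j, B (u' i) (v' j) = if i = j then δ i else 0) :
    ∃ L : V ≃ₗ[F] V, (∀ a b, B (L a) (L b) = B a b) ∧ (∀ j, L (u j) = u' j ∧ L (v j) = v' j) ∧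
      ∀ g g' : V →ₗ[F] V, (∀ j, L (g (u j)) = g' (u' j) ∧ L (g (v j)) = g' (v' j)) →
        ∀ a, L (g a) = g' (L a) := by
  obtain ⟨b, hb⟩ := exists_frame_basis hn u v δ hδ huu hvv huv hA
  obtain ⟨b', hb'⟩ := exists_frame_basis hn u' v' δ hδ huu' hvv' huv' hA
  let L := b.equiv b' (Equiv.refl _)
  have hL : ∀ w, L (Sum.elim u v w) = Sum.elim u' v' w := fun w => by
    rw [← hb, ← hb', Basis.equiv_apply, Equiv.refl_apply]
  have hvu : ∀ i j, B (v i) (u j) = -if j = i then δ j else 0 := fun i j => by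
    rw [← LinearMap.IsAlt.neg hA, huv]
  have hvu' : ∀ i j, B (v' i) (u' j) = -if j = i then δ j else 0 := fun i j => by
    rw [← LinearMap.IsAlt.neg hA, huv']
  refine ⟨L, fun a c => ?_, fun j => ⟨hL (Sum.inl j), hL (Sum.inr j)⟩, fun g g' h a => ?_⟩
  · have e : B.compl₁₂ L.toLinearMap L.toLinearMap = B := by
      refine LinearMap.ext_basis b b fun p q => ?_
      rw [LinearMap.compl₁₂_apply, hb, LinearEquiv.coe_coe, hL, hL]
      rcases p with i | i <;> rcases q with j | j <;>
        simp [huu, huu', hvv, hvv', huv, huv', hvu, hvu']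
    exact LinearMap.congr_fun (LinearMap.congr_fun e a) c
  · have e : L.toLinearMap ∘ₗ g = g' ∘ₗ L.toLinearMap := b.ext fun w => by
      rw [LinearMap.comp_apply, LinearMap.comp_apply, LinearEquiv.coe_coe, hb, hL]
      rcases w with j | j
      · exact (h j).1
      · exact (h j).2
    exact LinearMap.congr_fun e a

/-- Isometries with square `-1` are conjugate. -/
theorem exists_conj_quarter [Finite F] (h2 : (2 : F) ≠ 0) {n : ℕ} (hn : finrank F V = 2 * n) (hA : B.IsAlt)
    (hB : ∀ x, (∀ y, B x y = 0) → x = 0) {g g' : V →ₗ[F] V} (hg : ∀ u v, B (g u) (g v) = B u v)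
    (hg' : ∀ u v, B (g' u) (g' v) = B u v) (hgg : ∀ v, g (g v) = -v) (hgg' : ∀ v, g' (g' v) = -v) :
    ∃ L : V ≃ₗ[F] V, (∀ a b, B (L a) (L b) = B a b) ∧ ∀ a, L (g a) = g' (L a) := by
  obtain ⟨u, v, h1, h2', h3, h4⟩ :=
    LinearElements.exists_pair_frame_quarter hA hg h2 hgg hB hn (fun _ => 1) fun _ => one_ne_zero
  obtain ⟨u', v', k1, k2, k3, k4⟩ :=
    LinearElements.exists_pair_frame_quarter hA hg' h2 hgg' hB hn (fun _ => 1) fun _ => one_ne_zero
  obtain ⟨L, hL, hLf, hLc⟩ :=
    exists_isometry_frames hn u v u' v' (fun _ => 1) hA (fun _ => one_ne_zero) h1 h2' h3 k1 k2 k3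
  exact ⟨L, hL, hLc g g' fun j => by
    rw [(h4 j).1, (h4 j).2, (k4 j).1, (k4 j).2, map_neg, (hLf j).1, (hLf j).2]
    exact ⟨rfl, rfl⟩⟩

end Isometry

section Symp

open Matrix Cfsg.Geo

variable {F : Type*} [Field F] {d : ℕ}

local notation "ι" => (Fin d ⊕ Fin d)
local notation "Mat" => Matrix (Fin d ⊕ Fin d) (Fin d ⊕ Fin d) F

theorem sympBilin_sep (x : ι → F) (h : ∀ y, CfsgLib.Forms.sympBilin d F x y = 0) : x = 0 :=
  CfsgLib.Forms.sympBilin_nondegenerate.1 x h

/-- An isometry carrying `g` to the map of `x` gives a conjugate of `x` equal to `g`. -/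
theorem exists_spGL_conj (x y : GL ι F) (L : (ι → F) ≃ₗ[F] (ι → F))
    (hL : ∀ a b, CfsgLib.Forms.sympBilin d F (L a) (L b) = CfsgLib.Forms.sympBilin d F a b)
    (hc : ∀ a, L ((y : Mat) *ᵥ a) = (x : Mat) *ᵥ L a) :
    ∃ g ∈ Cfsg.spGL d F, g⁻¹ * x * g = y := by
  obtain ⟨g, hg⟩ := (CfsgLib.ExtField.glAut : GL ι F ≃* _).surjective L
  have hgv : ∀ a, (g : Mat) *ᵥ a = L a := fun a => by rw [← CfsgLib.ExtField.glAut_apply, hg]
  refine ⟨g, fun u v => ?_, ?_⟩
  · show Cfsg.sympForm d F ((g : Mat) *ᵥ u) ((g : Mat) *ᵥ v) = _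
    rw [hgv, hgv]
    rw [← CfsgLib.Forms.sympBilin_apply, ← CfsgLib.Forms.sympBilin_apply]
    exact hL u v
  · have h : x * g = g * y := Units.ext (Matrix.ext_iff_mulVec.mpr fun a => by
      rw [Units.val_mul, Units.val_mul, ← Matrix.mulVec_mulVec, ← Matrix.mulVec_mulVec, hgv, hgv, hc])
    rw [mul_assoc, h, inv_mul_cancel_left]

/-- A scalar in the symplectic group is a sign. -/
theorem scalar_sq (hd : 0 < d) {x : GL ι F} (hx : x ∈ Cfsg.spGL d F) {z : F} (hz : (x : Mat) = z • 1) :
    z * z = 1 := by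
  let i : Fin d := ⟨0, hd⟩
  have h := hx (Pi.single (.inr i) 1) (Pi.single (.inl i) 1)
  change Cfsg.sympForm d F ((x : Mat) *ᵥ _) ((x : Mat) *ᵥ _) = _ at h
  rw [hz, smul_mulVec, smul_mulVec, one_mulVec, one_mulVec, ← CfsgLib.Forms.sympBilin_apply,
    ← CfsgLib.Forms.sympBilin_apply, map_smul, map_smul, LinearMap.smul_apply, smul_eq_mul, smul_eq_mul,
    ← mul_assoc, CfsgLib.Forms.sympBilin_apply, CfsgLib.Forms.sympForm_single_inl, Pi.single_eq_same, mul_one] at h
  exact h

/-- Conjugates: the rank of `x - 1`. -/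
theorem rank_conj_sub_one (x g : GL ι F) :
    (((g⁻¹ * x * g : GL ι F) : Mat) - 1).rank = ((x : Mat) - 1).rank := by
  have e : ((g⁻¹ * x * g : GL ι F) : Mat) - 1 = ((g⁻¹ : GL ι F) : Mat) * ((x : Mat) - 1) * (g : Mat) := by
    rw [Units.val_mul, Units.val_mul, Matrix.mul_sub, Matrix.sub_mul, mul_one, Units.inv_mul]
  rw [e, Matrix.rank_mul_eq_left_of_isUnit_det _ _ ((Matrix.isUnit_iff_isUnit_det _).mp g.isUnit),
    Matrix.rank_mul_eq_right_of_isUnit_det _ _ ((Matrix.isUnit_iff_isUnit_det _).mp (g⁻¹).isUnit)]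

theorem finrank_range_sub_one (x : GL ι F) :
    finrank F (LinearMap.range (Matrix.toLin' (x : Mat) - 1)) = ((x : Mat) - 1).rank := by
  rw [show (1 : Module.End F (ι → F)) = Matrix.toLin' (1 : Mat) from Matrix.toLin'_one.symm, ← map_sub,
    Matrix.toLin'_apply', Matrix.rank]

theorem toLin_pow_eq_one {r : ℕ} {x : GL ι F} (hx : x ^ r = 1) :
    (Matrix.toLin' (x : Mat) : Module.End F (ι → F)) ^ r = 1 := by
  show Matrix.toLinAlgEquiv' (x : Mat) ^ r = 1
  rw [← map_pow, ← Units.val_pow_eq_pow_val, hx, Units.val_one, map_one]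

variable [Fintype F]

omit [Fintype F] in
theorem cast_ne_zero {p r : ℕ} [Fact p.Prime] [CharP F p] [Fact r.Prime] (hrp : r ≠ p) : (r : F) ≠ 0 :=
  fun e => hrp ((Nat.prime_dvd_prime_iff_eq Fact.out (Fact.out : r.Prime)).mp
    ((CharP.cast_eq_zero_iff F p r).mp e)).symm

omit [Fintype F] in
/-- A transvection. -/
theorem exists_transvection_test {p : ℕ} [Fact p.Prime] [CharP F p] (hd : 0 < d) :
    ∃ x ∈ Cfsg.spGL d F, x ^ p = 1 ∧ ((x : Mat) - 1).rank = 1 := by
  let i : Fin d := ⟨0, hd⟩
  set v : ι → F := Pi.single (Sum.inl i) 1 with hv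
  have hv0 : v ≠ 0 := by simp [hv]
  refine ⟨MaxSub.spTv v 1, MaxSub.spTv_mem v 1, ?_, ?_⟩
  · have hj : ∀ (j : ℕ) u, ((MaxSub.spTv v 1 ^ j : GL ι F) : Mat) *ᵥ u =
        u + ((j : F) * Cfsg.sympForm d F u v) • v := by
      intro j
      induction j with
      | zero => intro u; simp
      | succ j ih =>
        intro u
        rw [pow_succ', Units.val_mul, ← Matrix.mulVec_mulVec, ih, MaxSub.spTv_mulVec, one_mul,
          ← CfsgLib.Forms.sympBilin_apply, ← CfsgLib.Forms.sympBilin_apply, map_add, map_smul,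
          LinearMap.add_apply, LinearMap.smul_apply, CfsgLib.Forms.sympBilin_isAlt v, smul_zero, add_zero,
          Nat.cast_succ, add_mul, one_mul, add_smul, add_assoc]
    exact Units.ext (Matrix.ext_iff_mulVec.mpr fun u => by
      rw [hj, CharP.cast_eq_zero, zero_mul, zero_smul, add_zero, Units.val_one, Matrix.one_mulVec])
  · rw [← finrank_range_sub_one]
    have hr : LinearMap.range (Matrix.toLin' (MaxSub.spTv v (1 : F) : Mat) - 1) = span F {v} := by
      apply le_antisymm
      · rintro _ ⟨u, rfl⟩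
        rw [LinearMap.sub_apply, Matrix.toLin'_apply, MaxSub.spTv_mulVec, Module.End.one_apply,
          add_sub_cancel_left]
        exact Submodule.smul_mem _ _ (Submodule.mem_span_singleton_self v)
      · rw [Submodule.span_singleton_le_iff_mem]
        have hs : Cfsg.sympForm d F (Pi.single (Sum.inr i) 1) v = 1 := by
          rw [hv, CfsgLib.Forms.sympForm_single_inl, Pi.single_eq_same]
        refine ⟨Pi.single (Sum.inr i) 1, ?_⟩
        rw [LinearMap.sub_apply, Matrix.toLin'_apply, MaxSub.spTv_mulVec, Module.End.one_apply,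
          add_sub_cancel_left, hs, one_mul, one_smul]
    rw [hr, finrank_span_singleton hv0]

omit [Fintype F] in
/-- An involution negating one plane. -/
theorem exists_involution_test (h2 : (2 : F) ≠ 0) (hd : 0 < d) :
    ∃ x ∈ Cfsg.spGL d F, x ^ 2 = 1 ∧ ((x : Mat) - 1).rank = 2 := by
  classical
  let i : Fin d := ⟨0, hd⟩
  let s : ι → F := Sum.elim (fun j => if j = i then -1 else 1) (fun j => if j = i then -1 else 1)
  have hs : ∀ w, s w * s w = 1 := fun w => by
    rcases w with j | j <;> simp only [s, Sum.elim_inl, Sum.elim_inr] <;> split_ifs <;> ring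
  have hsw : ∀ w, s w.swap = s w := fun w => by rcases w with j | j <;> rfl
  let x : GL ι F := ⟨Matrix.diagonal s, Matrix.diagonal s,
    by rw [Matrix.diagonal_mul_diagonal]; simp [hs], by rw [Matrix.diagonal_mul_diagonal]; simp [hs]⟩
  refine ⟨x, ?_, ?_, ?_⟩
  · intro u v
    show Cfsg.sympForm d F (Matrix.diagonal s *ᵥ u) (Matrix.diagonal s *ᵥ v) = Cfsg.sympForm d F u v
    simp only [Cfsg.sympForm, Matrix.J, Matrix.fromBlocks_mulVec, dotProduct, Fintype.sum_sum_type,
      Matrix.mulVec_diagonal, Sum.elim_inl, Sum.elim_inr, Matrix.zero_mulVec, Matrix.neg_mulVec,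
      Matrix.one_mulVec, Pi.neg_apply, Function.comp_apply, zero_add, add_zero]
    congr 1 <;> refine Finset.sum_congr rfl fun j _ => ?_
    · have := hs (Sum.inl j)
      rw [show s (Sum.inr j) = s (Sum.inl j) from rfl]
      linear_combination (-(u (Sum.inl j) * v (Sum.inr j))) * this
    · have := hs (Sum.inr j)
      rw [show s (Sum.inl j) = s (Sum.inr j) from rfl]
      linear_combination (u (Sum.inr j) * v (Sum.inl j)) * this
  · exact Units.ext (by
      rw [pow_two, Units.val_mul, Units.val_one]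
      show Matrix.diagonal s * Matrix.diagonal s = 1
      rw [Matrix.diagonal_mul_diagonal]
      simp [hs])
  · show (Matrix.diagonal s - 1).rank = 2
    rw [← Matrix.diagonal_one, Matrix.diagonal_sub, Matrix.rank_diagonal, Fintype.card_subtype]
    have hne : (-1 : F) - 1 ≠ 0 := fun e => h2 (by linear_combination -e)
    have : Finset.univ.filter (fun w => s w - 1 ≠ 0) = {Sum.inl i, Sum.inr i} := by
      ext w
      rcases w with j | j <;> by_cases hj : j = i <;> simp [s, hj, hne]
    exact (congrArg Finset.card this).trans (Finset.card_pair (by simp))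

variable {r : ℕ} [Fact r.Prime]

omit [Fintype F] in
/-- The order of `q²` and the smallest block. -/
theorem two_mul_orderOf_sq {q : ℕ} (hq : (q : ZMod r) ≠ 0) :
    2 * orderOf ((q : ZMod r) ^ 2) =
      if Even (orderOf (q : ZMod r)) then orderOf (q : ZMod r) else 2 * orderOf (q : ZMod r) := by
  have hfin : IsOfFinOrder (q : ZMod r) := isOfFinOrder_iff_pow_eq_one.mpr
    ⟨r - 1, by have := (Fact.out : r.Prime).two_le; omega, ZMod.pow_card_sub_one_eq_one hq⟩
  rw [orderOf_pow' (q : ZMod r) two_ne_zero]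
  split_ifs with h
  · obtain ⟨j, hj⟩ := h
    rw [hj, Nat.gcd_eq_right (Dvd.intro_left j (mul_two j))]
    omega
  · rw [Nat.coprime_iff_gcd_eq_one.mp (Nat.coprime_two_right.mpr (Nat.not_even_iff_odd.mp h)), Nat.div_one]

/-- An element of order `r` moving one block. -/
theorem exists_block_test {p : ℕ} [Fact p.Prime] [CharP F p] (hrp : r ≠ p) (hr2 : r ≠ 2)
    (hdvd : r ∣ Nat.card (Cfsg.spGL d F)) :
    orderOf ((Fintype.card F : ZMod r) ^ 2) ≤ d ∧ ∃ x ∈ Cfsg.spGL d F, x ^ r = 1 ∧
      ((x : Mat) - 1).rank = 2 * orderOf ((Fintype.card F : ZMod r) ^ 2) := by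
  rw [LinearElements.card_spGL_eq] at hdvd
  have hq := LinearElements.cast_card_ne_zero (F := F) (r := r) hrp
  obtain ⟨hle, hex⟩ := LinearElements.exists_symp_model hrp hr2 hdvd rfl
  rw [← two_mul_orderOf_sq hq] at hle hex
  obtain ⟨A, hA, hAd⟩ := hex 1 (by omega)
  refine ⟨by omega, ?_⟩
  obtain ⟨x, hx, hxA⟩ := LinearElements.exists_spGL_of_mem A
  refine ⟨x, hx, Units.ext ?_, ?_⟩
  · rw [Units.val_pow_eq_pow_val, hxA, ← SubmonoidClass.coe_pow, hA, OneMemClass.coe_one, Units.val_one]
  · rw [← finrank_range_sub_one, hxA]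
    have h := LinearMap.finrank_range_add_finrank_ker
      (Matrix.toLin' (A : Mat) - 1 : Module.End F (ι → F))
    rw [LinearElements.fixedIn, top_inf_eq] at hAd
    rw [CfsgLib.Forms.finrank_sympSpace] at h
    omega

omit [Fintype F] in
/-- `2 e ≤ r - 1`. -/
theorem two_mul_orderOf_sq_lt {q : ℕ} (hr2 : r ≠ 2) (hq : (q : ZMod r) ≠ 0) :
    2 * orderOf ((q : ZMod r) ^ 2) < r := by
  have hr := (Fact.out : r.Prime)
  obtain ⟨j, hj⟩ := hr.odd_of_ne_two hr2
  have h1 : orderOf ((q : ZMod r) ^ 2) ∣ j := orderOf_dvd_of_pow_eq_one (by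
    rw [← pow_mul, show 2 * j = r - 1 by omega, ZMod.pow_card_sub_one_eq_one hq])
  have := Nat.le_of_dvd (by have := hr.two_le; omega) h1
  omega

omit [Fintype F] in
/-- A scalar test element is trivial. -/
theorem not_scalar_of_rank (hd : 0 < d) (hr2 : r ≠ 2) {x : GL ι F} (hx : x ∈ Cfsg.spGL d F) (hxr : x ^ r = 1)
    (hrank : ((x : Mat) - 1).rank ≠ 0) (z : F) : (x : Mat) ≠ z • 1 := by
  intro hz
  have h1 := scalar_sq hd hx hz
  have h2 : z ^ r = 1 := by
    have := congrArg Units.val hxr
    rw [Units.val_pow_eq_pow_val, hz, smul_pow, one_pow, Units.val_one] at this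
    have := congrFun (congrFun this (Sum.inl ⟨0, hd⟩)) (Sum.inl ⟨0, hd⟩)
    simpa using this
  obtain ⟨j, hj⟩ := (Fact.out : r.Prime).odd_of_ne_two hr2
  have hz1 : z = 1 := by
    rw [hj, pow_succ, pow_mul, pow_two, h1, one_pow, one_mul] at h2
    exact h2
  exact hrank (by rw [hz, hz1, one_smul, sub_self, Matrix.rank_zero])

omit [Fact r.Prime] in
omit [Fintype F] in
/-- An element of small rank is not scalar. -/
theorem not_scalar_of_rank_lt {x : GL ι F} (h0 : ((x : Mat) - 1).rank ≠ 0) (hlt : ((x : Mat) - 1).rank < 2 * d)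
    (z : F) : (x : Mat) ≠ z • 1 := by
  classical
  intro hz
  by_cases h1 : z = 1
  · exact h0 (by rw [hz, h1, one_smul, sub_self, Matrix.rank_zero])
  · have e : ((x : Mat) - 1).rank = 2 * d := by
      rw [hz, ← Matrix.diagonal_one, ← Matrix.diagonal_smul, Matrix.diagonal_sub, Matrix.rank_diagonal]
      simp [sub_eq_zero, h1, Fintype.card_subtype, two_mul]
    omega

omit [Fintype F] in
/-- The relative index times a divisor of the order of the intersection divides the order. -/
theorem relIndex_mul_dvd {H : Subgroup (GL ι F)} {c : ℕ} (hc : c ∣ Nat.card ↥(H ⊓ Cfsg.spGL d F)) :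
    H.relIndex (Cfsg.spGL d F) * c ∣ Nat.card (Cfsg.spGL d F) := by
  have h := (H.subgroupOf (Cfsg.spGL d F)).card_mul_index
  have e : Nat.card (H.subgroupOf (Cfsg.spGL d F)) = Nat.card ↥(H ⊓ Cfsg.spGL d F) := by
    rw [← Subgroup.inf_subgroupOf_right H (Cfsg.spGL d F)]
    exact Nat.card_congr (Subgroup.subgroupOfEquivOfLe inf_le_right).toEquiv
  rw [← h, e, Subgroup.relIndex, mul_comm]
  exact mul_dvd_mul_right hc _

end Symp

end CfsgLib.FieldExtElements
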