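import Cfsg.Agent.LinearElements.FieldExtSymp
import Cfsg.Agent.ExtField.HermBasic
import Cfsg.Agent.Forms.UnitaryOrder

/-!
Prime order elements of `Sp_{2d}(q)`, `q` odd, and the subgroups of type `GU_d(q)`.
-/

set_option autoImplicit false

namespace CfsgLib.FieldExtElements

open Module Submodule Matrix
open CfsgLib.ExtField (glAut glAut_apply HermTower)

/-- A polynomial of degree at most the order of `q²` whose roots are nontrivial `r`-th roots of one, closed
under the inverse conjugation, forces an odd power of `q` to be `-1` modulo `r`. -/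
theorem odd_pow_of_root_orbit {k : Type*} [Field k] [Fintype k] {p q r : ℕ} [Fact p.Prime] [Fact r.Prime]
    [CharP k p] (hk : Fintype.card k = q ^ 2) (bar : k →+* k) (hbar : ∀ c, bar c = c ^ q)
    (hbb : ∀ c, bar (bar c) = c) (m : Polynomial k) (hmm : m.Monic) (hpos : 0 < m.degree)
    (hdeg : m.natDegree ≤ orderOf ((q : ZMod r) ^ 2)) (hroot : m ∣ Polynomial.X ^ r - 1) (h1 : ¬ m.IsRoot 1)
    (hconj : m ∣ (m.map bar).comp (Polynomial.X ^ (r - 1))) (hqp : ∃ n : ℕ+, Nat.Prime p ∧ q = p ^ (n : ℕ))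
    (hq0 : (q : ZMod r) ≠ 0) : ∃ n, Odd n ∧ (q : ZMod r) ^ n = -1 := by
  classical
  have hr := (Fact.out : r.Prime)
  set e := orderOf ((q : ZMod r) ^ 2) with he
  set L := AlgebraicClosure k
  obtain ⟨ζ, hζ⟩ := IsAlgClosed.exists_aeval_eq_zero L m hpos.ne'
  have hζr : ζ ^ r = 1 := by
    obtain ⟨c, hc⟩ := hroot
    have := congrArg (Polynomial.aeval ζ) hc
    rw [map_mul, hζ, zero_mul, map_sub, map_pow, Polynomial.aeval_X, map_one, sub_eq_zero] at this
    exact this
  have hζ1 : ζ ≠ 1 := by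
    rintro rfl
    rw [← map_one (algebraMap k L), Polynomial.aeval_algebraMap_apply, map_eq_zero] at hζ
    exact h1 hζ
  have hord : orderOf ζ = r := orderOf_eq_prime hζr hζ1
  have hζ0 : ζ ≠ 0 := by
    rintro rfl
    rw [zero_pow hr.ne_zero] at hζr
    exact zero_ne_one hζr
  have hmod : ∀ a b : ℕ, ζ ^ a = ζ ^ b → (a : ZMod r) = b := fun a b h => by
    rw [ZMod.natCast_eq_natCast_iff]
    have h' : a ≡ b [MOD orderOf (Units.mk0 ζ hζ0)] := pow_eq_pow_iff_modEq.mp (Units.ext (by simpa using h))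
    rwa [← orderOf_units, Units.val_mk0, hord] at h'
  have horb : ∀ j, Polynomial.aeval (ζ ^ (q ^ (2 * j))) m = 0 := by
    intro j
    induction j with
    | zero => simpa using hζ
    | succ j ih =>
      rw [show 2 * (j + 1) = 2 * j + 2 by ring, pow_add q (2 * j) 2, pow_mul ζ, ← hk, ← Polynomial.expand_aeval,
        FiniteField.expand_card, map_pow, ih, zero_pow Fintype.card_ne_zero]
  let S := (m.map (algebraMap k L)).roots.toFinset
  have hmem : ∀ x, Polynomial.aeval x m = 0 → x ∈ S := fun x hx => by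
    rw [Multiset.mem_toFinset, Polynomial.mem_roots (Polynomial.map_ne_zero hmm.ne_zero), Polynomial.IsRoot,
      Polynomial.eval_map, ← Polynomial.aeval_def]
    exact hx
  have hinj : Set.InjOn (fun j => ζ ^ (q ^ (2 * j))) (Finset.range e : Set ℕ) := by
    intro a ha b hb hab
    have h := hmod _ _ hab
    rw [Nat.cast_pow, Nat.cast_pow, pow_mul, pow_mul] at h
    exact pow_injOn_Iio_orderOf (by simpa [he] using ha) (by simpa [he] using hb) h
  have hST : (Finset.range e).image (fun j => ζ ^ (q ^ (2 * j))) = S := by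
    refine Finset.eq_of_subset_of_card_le (fun x hx => ?_) ?_
    · obtain ⟨j, -, rfl⟩ := Finset.mem_image.mp hx
      exact hmem _ (horb j)
    · rw [Finset.card_image_of_injOn hinj, Finset.card_range]
      exact ((Multiset.toFinset_card_le _).trans (Polynomial.card_roots' _)).trans
        (Polynomial.natDegree_map_le.trans hdeg)
  have hη : Polynomial.aeval (ζ ^ (r - 1)) (m.map bar) = 0 := by
    obtain ⟨c, hc⟩ := hconj
    have := congrArg (Polynomial.aeval ζ) hc
    rwa [map_mul, hζ, zero_mul, Polynomial.aeval_comp, map_pow, Polynomial.aeval_X] at this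
  have hηq : Polynomial.aeval ((ζ ^ (r - 1)) ^ q) m = 0 := by
    obtain ⟨n, -, hn⟩ := hqp
    haveI : CharP L p := charP_of_injective_algebraMap (algebraMap k L).injective p
    haveI : ExpChar L p := ExpChar.prime Fact.out
    have h2 := congrArg (iterateFrobenius L p n) hη
    rw [Polynomial.aeval_def, Polynomial.eval₂_map, Polynomial.hom_eval₂, map_zero, iterateFrobenius_def,
      ← hn] at h2
    rw [Polynomial.aeval_def, ← h2]
    congr 1
    refine RingHom.ext fun c => ?_
    show algebraMap k L c = iterateFrobenius L p n (algebraMap k L (bar c))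
    rw [iterateFrobenius_def, ← map_pow, ← hn, ← hbar, hbb]
  have := hmem _ hηq
  rw [← hST, Finset.mem_image] at this
  obtain ⟨j, hj, hje⟩ := this
  rw [Finset.mem_range] at hj
  rw [← pow_mul] at hje
  have h := hmod _ _ hje
  rw [Nat.cast_pow, Nat.cast_mul, Nat.cast_sub hr.one_le, ZMod.natCast_self, Nat.cast_one, zero_sub,
    neg_one_mul] at h
  refine ⟨2 * (e - j) + 1, ⟨e - j, rfl⟩, ?_⟩
  have h2 : (q : ZMod r) ^ (2 * (e - j)) * (q : ZMod r) ^ (2 * j) = 1 := by
    rw [← pow_add, show 2 * (e - j) + 2 * j = 2 * e by omega, pow_mul, he, pow_orderOf_eq_one]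
  rw [h] at h2
  rw [pow_succ]
  linear_combination -h2

variable {F : Type*} [Field F] [Fintype F] {d : ℕ}

local notation "ι" => (Fin d ⊕ Fin d)
local notation "Mat" => Matrix (Fin d ⊕ Fin d) (Fin d ⊕ Fin d) F

variable {K : Type*} [Field K] [Algebra F K] [Finite K] [Module K (Fin d ⊕ Fin d → F)]
  [IsScalarTower F K (Fin d ⊕ Fin d → F)]
  (T : HermTower F K (Fin d ⊕ Fin d → F)) (hT : ∀ u v, T.f u v = Cfsg.sympForm d F u v)
  (hK : finrank F K = 2)

omit [Fintype F] [Finite K] in
theorem f_smul_left (k : K) (u v : ι → F) : T.f (k • u) v = T.f u (T.bar k • v) := by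
  apply (algebraMap F K).injective
  rw [T.tr, T.tr, T.h_smul, T.h_smul_right, T.bar_bar]

include hK in
/-- The conjugation is the `q`-th power. -/
theorem bar_eq_pow (k : K) : T.bar k = k ^ Fintype.card F := by
  have : FiniteDimensional F K := Module.Finite.of_finite
  have hcard : Nat.card (K ≃ₐ[F] K) = 2 := by rw [IsGalois.card_aut_eq_finrank, hK]
  obtain ⟨τ, -, hτ⟩ := (Nat.card_eq_two_iff' (1 : K ≃ₐ[F] K)).mp hcard
  have h1 : T.bar ≠ 1 := fun e => by
    have h := T.bar_a
    rw [e, AlgEquiv.one_apply] at h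
    have h' : (2 : K) * T.a = 0 := by linear_combination h
    exact T.a_ne ((mul_eq_zero.mp h').resolve_left T.two_ne)
  have h2 : FiniteField.frobeniusAlgEquivOfAlgebraic F K ≠ 1 := fun e => by
    have := FiniteField.orderOf_frobeniusAlgEquivOfAlgebraic F K
    rw [e, orderOf_one, hK] at this
    omega
  rw [hτ _ h1, ← hτ _ h2]
  rfl

include hK in
omit [Fintype F] in
theorem finrankK_eq : finrank K (ι → F) = d := by
  have h := Module.finrank_mul_finrank F K (ι → F)
  rw [hK, CfsgLib.Forms.finrank_sympSpace] at h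
  omega

/-- The hermitian form. -/
def hermB : (ι → F) →ₛₗ[(T.bar : K →+* K)] (ι → F) →ₗ[K] K where
  toFun x :=
    { toFun := fun y => T.a * T.h y x
      map_add' := fun y y' => by rw [T.h_add, mul_add]
      map_smul' := fun k y => by rw [T.h_smul, RingHom.id_apply, smul_eq_mul]; ring }
  map_add' x x' := LinearMap.ext fun y => by
    show T.a * T.h y (x + x') = T.a * T.h y x + T.a * T.h y x'
    rw [T.h_add_right, mul_add]
  map_smul' k x := LinearMap.ext fun y => by
    show T.a * T.h y (k • x) = T.bar k * (T.a * T.h y x)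
    rw [T.h_smul_right]; ring

omit [Fintype F] [Finite K] in
theorem hermB_apply (x y : ι → F) : hermB T x y = T.a * T.h y x := rfl

omit [Fintype F] [Finite K] in
theorem hermB_symm : (hermB T).IsSymm := ⟨fun x y => by
  show T.bar (T.a * T.h y x) = T.a * T.h x y
  rw [map_mul, T.bar_a, T.h_skew y x, mul_neg, neg_mul]⟩

omit [Fintype F] [Finite K] in
theorem hermB_sep (x : ι → F) (h : ∀ y, hermB T x y = 0) : x = 0 := by
  by_contra hx
  obtain ⟨y, hy⟩ := T.nondeg x hx
  apply hy
  have h1 : T.h y x = 0 := (mul_eq_zero.mp (h y)).resolve_left T.a_ne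
  exact T.f_eq_zero_of_h (by rw [T.h_skew y x, h1, map_zero, neg_zero])

include hK hT in
/-- A linear isometry moving one block forces an odd power of `q` to be `-1` modulo `r`. -/
theorem exists_odd_pow {p : ℕ} [Fact p.Prime] [CharP F p] {r : ℕ} [Fact r.Prime] (hrp : r ≠ p)
    {Y : Module.End F (ι → F)} (hY : Y ^ r = 1)
    (hYi : ∀ u v, Cfsg.sympForm d F (Y u) (Y v) = Cfsg.sympForm d F u v)
    (hlin : ∀ (a : K) v, Y (a • v) = a • Y v)
    (hrank : finrank F (LinearMap.range (Y - 1)) = 2 * orderOf ((Fintype.card F : ZMod r) ^ 2)) :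
    ∃ n, Odd n ∧ (Fintype.card F : ZMod r) ^ n = -1 := by
  classical
  letI := Fintype.ofFinite K
  have hr := (Fact.out : r.Prime)
  have hrF := cast_ne_zero (F := F) (r := r) hrp
  have : FiniteDimensional F K := Module.Finite.of_finite
  have : FiniteDimensional K (ι → F) := Module.Finite.of_finite
  have hYi' : ∀ u v, CfsgLib.Forms.sympBilin d F (Y u) (Y v) = CfsgLib.Forms.sympBilin d F u v := fun u v => by
    simp only [CfsgLib.Forms.sympBilin_apply, hYi]
  set q := Fintype.card F with hq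
  set e := orderOf ((q : ZMod r) ^ 2) with he
  have hq0 : (q : ZMod r) ≠ 0 := LinearElements.cast_card_ne_zero (F := F) hrp
  have hfin : IsOfFinOrder ((q : ZMod r) ^ 2) := isOfFinOrder_iff_pow_eq_one.mpr
    ⟨r - 1, by have := hr.two_le; omega, ZMod.pow_card_sub_one_eq_one (pow_ne_zero 2 hq0)⟩
  have he0 : 0 < e := hfin.orderOf_pos
  obtain ⟨W, hW, hWr⟩ := exists_rangeK hlin
  rw [hK, hrank] at hWr
  have hWe : finrank K W = e := by omega
  have hWY : ∀ w : W, Y w ∈ W := fun w => by
    obtain ⟨u, hu⟩ := (hW w).mp w.2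
    exact (hW _).mpr ⟨Y u, by rw [← hu]; simp⟩
  let G : Module.End K W :=
    { toFun := fun w => ⟨Y w, hWY w⟩
      map_add' := fun u v => Subtype.ext (map_add Y _ _)
      map_smul' := fun a u => Subtype.ext (hlin a _) }
  have hGpow : ∀ (j : ℕ) (w : W), ((G ^ j) w : ι → F) = (Y ^ j) w := by
    intro j
    induction j with
    | zero => intro w; rfl
    | succ j ih => intro w; rw [pow_succ', pow_succ', Module.End.mul_apply, Module.End.mul_apply, ← ih]; rfl
  have hGr : G ^ r = 1 := LinearMap.ext fun w => Subtype.ext (by rw [hGpow, hY]; rfl)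
  have hGfix : ∀ w : W, G w = w → w = 0 := fun w hw =>
    Subtype.ext (range_inf_ker hrF hY ((hW w).mp w.2) (congrArg Subtype.val hw))
  have hsep : ∀ w : W, (∀ u : W, T.f (u : ι → F) w = 0) → w = 0 := fun w hw => by
    by_contra h0
    obtain ⟨u, hu, hwu⟩ := sepOn_range hrF hY (B := CfsgLib.Forms.sympBilin d F) sympBilin_sep hYi' w
      ((hW w).mp w.2) (fun e => h0 (Subtype.ext e))
    apply hwu
    rw [CfsgLib.Forms.sympBilin_apply, ← hT, T.f_swap u w, hw ⟨u, (hW u).mpr hu⟩, neg_zero]
  set G' := G ^ (r - 1) with hG'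
  have hadj1 : ∀ u v : W, T.f (G u : ι → F) v = T.f (u : ι → F) (G' v) := fun u v => by
    have h1 : Y ((Y ^ (r - 1)) v) = (v : ι → F) := by
      rw [← Module.End.mul_apply, ← pow_succ', Nat.sub_add_cancel hr.one_le, hY, Module.End.one_apply]
    rw [hG', hGpow]
    show T.f (Y u) v = _
    conv_lhs => rw [← h1]
    rw [hT, hT, hYi]
  have hadjn : ∀ (n : ℕ) (u v : W), T.f ((G ^ n) u : ι → F) v = T.f (u : ι → F) ((G' ^ n) v) := by
    intro n
    induction n with
    | zero => intro u v; rfl
    | succ n ih =>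
      intro u v
      rw [pow_succ', Module.End.mul_apply, hadj1, ih, pow_succ, Module.End.mul_apply]
  have hadj : ∀ (P : Polynomial K) (u v : W), T.f (Polynomial.aeval G P u : ι → F) v
      = T.f (u : ι → F) (Polynomial.aeval G' (P.map (T.bar : K →+* K)) v) := by
    intro P
    induction P using Polynomial.induction_on' with
    | add P Q hP hQ =>
      intro u v
      simp only [map_add, Polynomial.map_add, LinearMap.add_apply, Submodule.coe_add, hP, hQ]
    | monomial n c =>
      intro u v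
      simp only [Polynomial.map_monomial, Polynomial.aeval_monomial, Module.algebraMap_end_apply,
        Module.End.mul_apply, SetLike.val_smul, f_smul_left]
      rw [← SetLike.val_smul, hadjn, map_smul, SetLike.val_smul]
      rfl
  set m := minpoly K G with hm
  have hint : IsIntegral K G := IsIntegral.of_finite K G
  have hmbar : Polynomial.aeval G' (m.map (T.bar : K →+* K)) = 0 := LinearMap.ext fun v => hsep _ fun u => by
    rw [← hadj, show Polynomial.aeval G m = 0 from minpoly.aeval K G]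
    simp
  haveI : Nontrivial W := Module.nontrivial_of_finrank_pos (R := K) (by omega)
  have hdeg : m.natDegree ≤ e := by
    rw [← hWe, ← LinearMap.charpoly_natDegree G]
    exact Polynomial.natDegree_le_of_dvd (LinearMap.minpoly_dvd_charpoly G) G.charpoly_monic.ne_zero
  haveI : CharP K p := charP_of_injective_algebraMap (algebraMap F K).injective p
  have hKcard : Fintype.card K = q ^ 2 := by rw [Module.card_eq_pow_finrank (K := F), hK]
  refine odd_pow_of_root_orbit (p := p) hKcard (T.bar : K →+* K) (bar_eq_pow T hK) T.bar_bar m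
    (minpoly.monic hint) (minpoly.degree_pos hint) hdeg ?_ (fun h1 => ?_) ?_ (FiniteField.card F p) hq0
  · exact minpoly.dvd K G (by rw [map_sub, map_pow, Polynomial.aeval_X, map_one, hGr, sub_self])
  · obtain ⟨b, hb⟩ := Polynomial.dvd_iff_isRoot.mpr h1
    have hm0 : m ≠ 0 := minpoly.ne_zero hint
    have hb0 : b ≠ 0 := fun e => hm0 (by rw [hb, e, mul_zero])
    have hbG : Polynomial.aeval G b = 0 := LinearMap.ext fun u => hGfix _ (by
      have h2 : (Polynomial.aeval G m) u = 0 := LinearMap.congr_fun (minpoly.aeval K G) u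
      rw [hb, map_mul, map_sub, Polynomial.aeval_X, map_one, map_one, Module.End.mul_apply,
        LinearMap.sub_apply, Module.End.one_apply, sub_eq_zero] at h2
      exact h2)
    have h3 : m.natDegree ≤ b.natDegree := Polynomial.natDegree_le_of_dvd (minpoly.dvd K G hbG) hb0
    have h4 := congrArg Polynomial.natDegree hb
    rw [Polynomial.natDegree_mul (Polynomial.X_sub_C_ne_zero 1) hb0, Polynomial.natDegree_X_sub_C] at h4
    omega
  · exact minpoly.dvd K G (by rw [Polynomial.aeval_comp, map_pow, Polynomial.aeval_X, ← hG', hmbar])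

variable (N : Subgroup (GL (Fin d ⊕ Fin d) F))
  (hN : ∀ y : GL (Fin d ⊕ Fin d) F, y ∈ N ↔ ∀ a : K, ∃ b : K, ∀ v : Fin d ⊕ Fin d → F,
    (y : Matrix (Fin d ⊕ Fin d) (Fin d ⊕ Fin d) F) *ᵥ (a • v) =
      b • ((y : Matrix (Fin d ⊕ Fin d) (Fin d ⊕ Fin d) F) *ᵥ v))

include hT hN in
/-- The isometries of the hermitian form are inside the normaliser. -/
theorem card_iso_dvd_herm : Nat.card (Forms.isoGroup (hermB T)) ∣ Nat.card ↥(N ⊓ Cfsg.spGL d F) := by
  let φ : Forms.isoGroup (hermB T) →* GL ι F :=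
    { toFun := fun g => glAut.symm (g.1.restrictScalars F)
      map_one' := glAut.injective (by rw [MulEquiv.apply_symm_apply, map_one]; rfl)
      map_mul' := fun a b => glAut.injective (by
        rw [map_mul, MulEquiv.apply_symm_apply, MulEquiv.apply_symm_apply, MulEquiv.apply_symm_apply]; rfl) }
  have hφ : ∀ g v, (φ g : Mat) *ᵥ v = g.1 v := fun g v => by
    rw [← glAut_apply]
    show glAut (glAut.symm (g.1.restrictScalars F)) v = _
    rw [MulEquiv.apply_symm_apply]
    rfl
  have hmem : ∀ g, φ g ∈ N ⊓ Cfsg.spGL d F := fun g =>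
    ⟨(hN _).mpr fun a => ⟨a, fun v => by rw [hφ, hφ, map_smul]⟩, fun u v => by
      show Cfsg.sympForm d F ((φ g : Mat) *ᵥ u) ((φ g : Mat) *ᵥ v) = _
      rw [hφ, hφ, ← hT, ← hT]
      apply (algebraMap F K).injective
      rw [T.tr, T.tr, show T.h (g.1 u) (g.1 v) = T.h u v from mul_left_cancel₀ T.a_ne (g.2 v u)]⟩
  refine Subgroup.card_dvd_of_injective (φ.codRestrict _ hmem) fun a b e => ?_
  refine Subtype.ext (LinearEquiv.ext fun v => ?_)
  rw [← hφ, ← hφ, show φ a = φ b from congrArg Subtype.val e]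

include hT hN hK in
/-- If an odd power of `q` is `-1` modulo `r`, the index is prime to `r`. -/
theorem not_dvd_index_herm {p : ℕ} [Fact p.Prime] [CharP F p] {r : ℕ} [Fact r.Prime] (hrp : r ≠ p)
    (hr2 : r ≠ 2) {n : ℕ} (hn : Odd n) (hqn : (Fintype.card F : ZMod r) ^ n = -1) :
    ¬ r ∣ N.relIndex (Cfsg.spGL d F) := by
  intro hr
  classical
  have hrP := (Fact.out : r.Prime)
  letI := Fintype.ofFinite K
  set Q := Fintype.card F with hQ
  have hQ2 : 2 ≤ Q := Fintype.one_lt_card
  have hKcard : Fintype.card K = Q ^ 2 := by rw [Module.card_eq_pow_finrank (K := F), hK]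
  have : FiniteDimensional F K := Module.Finite.of_finite
  have : FiniteDimensional K (ι → F) := Module.Finite.of_finite
  have hcard := Forms.card_isoGroup_herm hKcard (σ := (T.bar : K →+* K)) (fun x => bar_eq_pow T hK x)
    T.bar_bar (hermB T) (hermB_symm T) (hermB_sep T) (finrankK_eq hK)
  have h1 := (mul_dvd_mul_right hr _).trans (relIndex_mul_dvd (card_iso_dvd_herm T hT N hN))
  rw [LinearElements.card_spGL_eq, Forms.card_symplecticGroup, hcard, ← hQ] at h1
  let w : ℕ → ℕ := fun j => if Even j then Q ^ j + 1 else Q ^ j - 1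
  have hsplit : ∏ i ∈ Finset.range d, (Q ^ (2 * (i + 1)) - 1) =
      (∏ i ∈ Finset.range d, Forms.u Q (i + 1)) * ∏ i ∈ Finset.range d, w (i + 1) := by
    rw [← Finset.prod_mul_distrib]
    refine Finset.prod_congr rfl fun i _ => ?_
    have e : Q ^ (2 * (i + 1)) - 1 = (Q ^ (i + 1) + 1) * (Q ^ (i + 1) - 1) := by
      rw [← Nat.sq_sub_sq, one_pow, ← pow_mul, mul_comm 2]
    simp only [Forms.u, w]
    split_ifs <;> rw [e, mul_comm]
  have hle : ∑ i ∈ Finset.range d, i ≤ d ^ 2 := by
    refine (Finset.sum_le_card_nsmul _ _ d fun i hi => (Finset.mem_range.mp hi).le).trans ?_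
    rw [Finset.card_range, smul_eq_mul, pow_two]
  rw [hsplit, ← Nat.add_sub_cancel' hle, pow_add] at h1
  have hPpos : 0 < ∏ i ∈ Finset.range d, Forms.u Q (i + 1) := Finset.prod_pos fun i _ => Forms.u_pos hQ2 i
  have h2 : r ∣ Q ^ (d ^ 2 - ∑ i ∈ Finset.range d, i) * ∏ i ∈ Finset.range d, w (i + 1) := by
    refine Nat.dvd_of_mul_dvd_mul_right
      (Nat.mul_pos (pow_pos (by omega : 0 < Q) (∑ i ∈ Finset.range d, i)) hPpos) (h1.trans ?_)
    exact dvd_of_eq (by ring)
  rcases hrP.prime.dvd_or_dvd h2 with h | h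
  · exact LinearElements.cast_card_ne_zero (F := F) hrp ((ZMod.natCast_eq_zero_iff _ _).mpr (hrP.dvd_of_dvd_pow h))
  obtain ⟨i, -, hri⟩ := (hrP.prime.dvd_finsetProd_iff _).mp h
  set j := i + 1
  set c := (Q : ZMod r) with hc
  have hne : (-1 : ZMod r) ≠ 1 := by
    have : Fact (2 < r) := ⟨by have := hrP.two_le; omega⟩
    exact ZMod.neg_one_ne_one
  have hen : orderOf (c ^ 2) ∣ n := orderOf_dvd_of_pow_eq_one (by rw [← pow_mul, mul_comm, pow_mul, hqn]; ring)
  obtain ⟨e, he⟩ : ∃ e, e = orderOf (c ^ 2) := ⟨_, rfl⟩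
  rw [← he] at hen
  obtain ⟨s, hs⟩ := hen
  have hodd := Nat.odd_mul.mp (hs ▸ hn)
  have hce : c ^ e = -1 := by
    refine (mul_self_eq_one_iff.mp ?_).resolve_left fun h1 => hne ?_
    · rw [← pow_add, ← two_mul, pow_mul, he, pow_orderOf_eq_one]
    · rw [← hqn, hs, pow_mul, h1, one_pow]
  have hw : ((w j : ℕ) : ZMod r) = 0 := (ZMod.natCast_eq_zero_iff _ _).mpr hri
  simp only [w] at hw
  have hj : c ^ j = if Even j then -1 else 1 := by
    split_ifs at hw ⊢ with hje
    · rw [Nat.cast_add, Nat.cast_pow, Nat.cast_one, ← hc] at hw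
      linear_combination hw
    · rw [Nat.cast_sub (Nat.one_le_pow _ _ (by omega)), Nat.cast_pow, Nat.cast_one, ← hc] at hw
      linear_combination hw
  have hj2 : e ∣ j := by
    rw [he]
    refine orderOf_dvd_of_pow_eq_one ?_
    rw [← pow_mul, mul_comm, pow_mul, hj]
    split_ifs <;> ring
  obtain ⟨t, ht⟩ := hj2
  rw [ht, pow_mul, hce] at hj
  rcases Nat.even_or_odd t with htt | htt
  · rw [htt.neg_one_pow, if_pos (htt.mul_left e)] at hj
    exact hne hj.symm
  · rw [htt.neg_one_pow, if_neg (Nat.not_even_iff_odd.mpr (hodd.1.mul htt))] at hj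
    exact hne hj

include hT hN hK in
/-- Every involution modulo scalars has a conjugate normalising the field. -/
theorem exists_conj_two_herm (hd : 0 < d) {x : GL ι F} (hx : x ∈ Cfsg.spGL d F) {z : F}
    (hz : ((x ^ 2 : GL ι F) : Mat) = z • 1) : ∃ g ∈ Cfsg.spGL d F, g⁻¹ * x * g ∈ N := by
  classical
  letI := Fintype.ofFinite K
  have : FiniteDimensional F K := Module.Finite.of_finite
  have : FiniteDimensional K (ι → F) := Module.Finite.of_finite
  set B := CfsgLib.Forms.sympBilin d F with hB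
  have hA : B.IsAlt := CfsgLib.Forms.sympBilin_isAlt
  have hBT : ∀ u v, B u v = T.f u v := fun u v => by rw [hB, CfsgLib.Forms.sympBilin_apply, hT]
  have h2 : (2 : F) ≠ 0 := fun h => T.two_ne (by rw [← map_ofNat (algebraMap F K) 2, h, map_zero])
  have hσne : (T.bar : K →+* K) ≠ RingHom.id K := fun e => by
    have h := T.bar_a
    have h' : T.bar T.a = T.a := congrArg (fun σ : K →+* K => σ T.a) e
    rw [h'] at h
    exact T.a_ne ((mul_eq_zero.mp (show (2 : K) * T.a = 0 by linear_combination h)).resolve_left T.two_ne)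
  obtain ⟨b, hb⟩ := Forms.exists_orthonormal_basis_hermitian hσne T.bar_bar (hermB T) (hermB_symm T)
    (hermB_sep T) (finrankK_eq hK)
  have hsum : ∀ c c' : Fin d → K,
      hermB T (∑ i, c i • b i) (∑ i, c' i • b i) = ∑ i, T.bar (c i) * c' i := fun c c' => by
    simp [hb, mul_comm]
  have hexp : ∀ v, ∃ c : Fin d → K, v = ∑ i, c i • b i := fun v => ⟨b.equivFun v, (b.sum_equivFun v).symm⟩
  have hxi : ∀ u v, B (Matrix.toLin' (x : Mat) u) (Matrix.toLin' (x : Mat) v) = B u v := fun u v => by
    simp only [hB, CfsgLib.Forms.sympBilin_apply, Matrix.toLin'_apply]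
    exact hx u v
  have hxx : ∀ v, Matrix.toLin' (x : Mat) (Matrix.toLin' (x : Mat) v) = z • v := fun v => by
    rw [Matrix.toLin'_apply, Matrix.toLin'_apply, Matrix.mulVec_mulVec, ← Units.val_mul, ← pow_two, hz,
      Matrix.smul_mulVec, Matrix.one_mulVec]
  have main : ∀ (Y : Module.End F (ι → F)), Function.Bijective Y →
      (∀ a : K, ∃ a' : K, ∀ v, Y (a • v) = a' • Y v) →
      (∃ L : (ι → F) ≃ₗ[F] (ι → F), (∀ a c, B (L a) (L c) = B a c) ∧
        ∀ a, L (Y a) = Matrix.toLin' (x : Mat) (L a)) →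
      ∃ g ∈ Cfsg.spGL d F, g⁻¹ * x * g ∈ N := by
    intro Y hYb hYs ⟨L, hL, hLc⟩
    obtain ⟨y, hy⟩ := exists_gl_of_bijective Y hYb
    obtain ⟨g, hg, e⟩ := exists_spGL_conj x y L hL fun a => by rw [hy, hLc, Matrix.toLin'_apply]
    refine ⟨g, hg, e ▸ (hN y).mpr fun a => ?_⟩
    obtain ⟨a', ha'⟩ := hYs a
    exact ⟨a', fun v => by rw [hy, hy, ha']⟩
  have hn : finrank F (ι → F) = 2 * d := CfsgLib.Forms.finrank_sympSpace d
  rcases mul_self_eq_one_iff.mp (scalar_sq hd ((Cfsg.spGL d F).pow_mem hx 2) hz) with rfl | rfl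
  · -- an involution: signs on the orthogonal lines
    have hh : ∀ i j, T.h (b i) (b j) = if i = j then T.a⁻¹ else 0 := fun i j => by
      apply mul_left_cancel₀ T.a_ne
      rw [← hermB_apply, hb]
      by_cases h : i = j
      · subst h; rw [if_pos rfl, if_pos rfl, mul_inv_cancel₀ T.a_ne]
      · rw [if_neg (Ne.symm h), if_neg h, mul_zero]
    obtain ⟨u, v, s, h1, h2', h3, hs0, h4⟩ := LinearElements.exists_pair_frame_involution hA hxi h2
      (fun v => by rw [hxx, one_smul]) (fun w => sympBilin_sep w) hn (fun _ => (-2 : F))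
      fun _ => neg_ne_zero.mpr h2
    have hbb : ∀ i j, B (b i) (b j) = 0 := fun i j => by
      rw [hBT]
      by_cases h : i = j
      · subst h; exact T.f_alt _
      · exact T.f_eq_zero_of_h (by rw [hh, if_neg h])
    have haa : ∀ i j, B (T.a • b i) (T.a • b j) = 0 := fun i j => by
      rw [hBT]
      by_cases h : i = j
      · subst h; exact T.f_alt _
      · exact T.f_eq_zero_of_h (by rw [T.h_smul, T.h_smul_right, hh, if_neg h, mul_zero, mul_zero])
    have hab : ∀ i j, B (b i) (T.a • b j) = if i = j then (-2 : F) else 0 := fun i j => by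
      rw [hBT]
      apply (algebraMap F K).injective
      rw [T.tr, T.h_smul_right, hh, T.bar_a]
      have ha := T.a_ne
      split_ifs
      · rw [map_mul, map_neg, T.bar_a, map_inv₀, T.bar_a, map_neg, map_ofNat]
        field_simp
        ring
      · rw [mul_zero, map_zero, map_zero, add_zero]
    obtain ⟨L, hL, hLf, hLc⟩ := exists_isometry_frames hn (fun i => b i) (fun i => T.a • b i) u v
      (fun _ => (-2 : F)) hA (fun _ => neg_ne_zero.mpr h2) hbb haa hab h1 h2' h3
    let J : (ι → F) →ₗ[K] (ι → F) := b.constr K fun i => algebraMap F K (s i) • b i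
    have hJ : ∀ i, J (b i) = algebraMap F K (s i) • b i := fun i => b.constr_basis _ _ _
    have hJJ : ∀ w, J (J w) = w := fun w => by
      suffices h : J.comp J = LinearMap.id from LinearMap.congr_fun h w
      refine b.ext fun i => ?_
      rw [LinearMap.comp_apply, hJ, map_smul, hJ, smul_smul, ← map_mul]
      have hu : u i ≠ 0 := fun e => by
        have := h3 i i
        rw [e, map_zero, LinearMap.zero_apply, if_pos rfl] at this
        exact neg_ne_zero.mpr h2 this.symm
      have e := hxx (u i)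
      rw [(h4 i).1, map_smul, (h4 i).1, smul_smul] at e
      rw [smul_left_injective F hu e, map_one, one_smul]
      rfl
    refine main (J.restrictScalars F) ⟨fun a c h => by simpa [hJJ] using congrArg J h, fun w => ⟨J w, hJJ w⟩⟩
      (fun a => ⟨a, fun w => map_smul J a w⟩) ⟨L, hL, hLc _ _ fun i => ⟨?_, ?_⟩⟩
    · show L (J (b i)) = _
      rw [hJ, algebraMap_smul, map_smul, (hLf i).1, (h4 i).1]
    · show L (J (T.a • b i)) = _
      rw [map_smul, hJ, smul_comm, algebraMap_smul, map_smul, (hLf i).2, (h4 i).2]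
  · -- square `-1`: a semilinear map
    obtain ⟨c, hc⟩ := T.norm_surj (-1)
    rw [map_neg, map_one] at hc
    let Y : Module.End F (ι → F) :=
      { toFun := fun w => ∑ i, (c * T.bar (b.repr w i)) • b i
        map_add' := fun w w' => by simp [mul_add, add_smul, Finset.sum_add_distrib]
        map_smul' := fun k w => by
          rw [← algebraMap_smul K k w, map_smul, RingHom.id_apply, Finset.smul_sum]
          refine Finset.sum_congr rfl fun i _ => ?_
          rw [Finsupp.smul_apply, smul_eq_mul, map_mul, AlgEquiv.commutes, ← algebraMap_smul K k, smul_smul]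
          ring_nf }
    have hY : ∀ c' : Fin d → K, Y (∑ i, c' i • b i) = ∑ i, (c * T.bar (c' i)) • b i := fun c' => by
      show ∑ i, (c * T.bar (b.repr _ i)) • b i = _
      rw [show ⇑(b.repr (∑ i, c' i • b i)) = c' from b.repr_sum_self c']
    have hYY : ∀ w, Y (Y w) = -w := fun w => by
      obtain ⟨e, rfl⟩ := hexp w
      rw [hY, hY, ← Finset.sum_neg_distrib]
      refine Finset.sum_congr rfl fun i _ => ?_
      rw [map_mul, T.bar_bar, ← mul_assoc, hc, neg_one_mul, neg_smul]
    have hYh : ∀ u v, T.h (Y u) (Y v) = T.bar (T.h u v) := fun u v => by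
      obtain ⟨e, rfl⟩ := hexp u
      obtain ⟨e', rfl⟩ := hexp v
      apply mul_left_cancel₀ T.a_ne
      have h := congrArg T.bar (hsum e' e)
      rw [hermB_apply, map_mul, T.bar_a, map_sum, neg_mul] at h
      rw [hY, hY, ← hermB_apply, hsum, neg_eq_iff_eq_neg.mp h, ← Finset.sum_neg_distrib]
      refine Finset.sum_congr rfl fun i _ => ?_
      simp only [map_mul, T.bar_bar]
      linear_combination (e' i * T.bar (e i)) * hc
    have hYi : ∀ u v, B (Y u) (Y v) = B u v := fun u v => by
      rw [hBT, hBT]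
      apply (algebraMap F K).injective
      rw [T.tr, T.tr, hYh, T.bar_bar, add_comm]
    refine main Y ⟨fun u v h => by simpa [hYY] using congrArg Y h,
      fun v => ⟨-Y v, by rw [map_neg, hYY, neg_neg]⟩⟩ (fun a => ⟨T.bar a, fun w => ?_⟩) ?_
    · obtain ⟨e, rfl⟩ := hexp w
      rw [Finset.smul_sum, hY, Finset.smul_sum]
      simp only [smul_smul]
      rw [hY]
      refine Finset.sum_congr rfl fun i _ => ?_
      rw [map_mul]
      ring_nf
    · exact exists_conj_quarter h2 hn hA (fun w => sympBilin_sep w) hYi hxi hYY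
        (fun v => by rw [hxx, neg_one_smul])

include hT hN hK in
/-- The criterion. -/
theorem fixes_iff_herm {p : ℕ} [Fact p.Prime] [CharP F p] (hd : 2 ≤ d) {r : ℕ} [Fact r.Prime]
    (hΩ : r ∣ N.relIndex (Cfsg.spGL d F)) :
    (∀ x ∈ Cfsg.spGL d F, (∃ z : F, ((x ^ r : GL ι F) : Mat) = z • (1 : Mat)) →
      (∀ z : F, (x : Mat) ≠ z • (1 : Mat)) → ∃ g ∈ Cfsg.spGL d F, g⁻¹ * x * g ∈ N) ↔ r = 2 := by
  have hd0 : 0 < d := by omega
  haveI : Nonempty ι := ⟨Sum.inl ⟨0, hd0⟩⟩
  haveI : FiniteDimensional F K := Module.Finite.of_finite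
  constructor
  · intro hall
    by_contra hr2
    have hone : ∀ x : GL ι F, x ^ r = 1 → ∃ z : F, ((x ^ r : GL ι F) : Mat) = z • (1 : Mat) :=
      fun x h => ⟨1, by rw [h, Units.val_one, one_smul]⟩
    have key : ∀ (x g : GL ι F), x ∈ Cfsg.spGL d F → x ^ r = 1 → g ∈ Cfsg.spGL d F → g⁻¹ * x * g ∈ N →
        ∃ Y : Module.End F (ι → F), Y ^ r = 1 ∧
          (∀ u v, Cfsg.sympForm d F (Y u) (Y v) = Cfsg.sympForm d F u v) ∧
          (∀ (a : K) v, Y (a • v) = a • Y v) ∧
          finrank F (LinearMap.range (Y - 1)) = ((x : Mat) - 1).rank := by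
      intro x g hx hxr hg hgx
      set y := g⁻¹ * x * g with hy
      have hys : y ∈ Cfsg.spGL d F := mul_mem (mul_mem ((Cfsg.spGL d F).inv_mem hg) hx) hg
      have hyr : y ^ r = 1 := by
        rw [hy, show g⁻¹ * x * g = g⁻¹ * x * g⁻¹⁻¹ by rw [inv_inv], conj_pow, hxr, mul_one, mul_inv_cancel]
      refine ⟨Matrix.toLin' (y : Mat), toLin_pow_eq_one hyr, fun u v => hys u v, ?_, ?_⟩
      · rcases linear_or_moving (K := K) Nat.prime_two hK (toLin_pow_eq_one hyr)
          (fun a => ((hN y).mp hgx) a) with h | ⟨h, -⟩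
        · exact h
        · exact absurd h.symm hr2
      · rw [finrank_range_sub_one, rank_conj_sub_one]
    by_cases hrp : r = p
    · subst hrp
      obtain ⟨x, hx, hxr, hrank⟩ := exists_transvection_test (F := F) (p := r) hd0
      obtain ⟨g, hg, hgx⟩ := hall x hx (hone x hxr) (not_scalar_of_rank_lt (by omega) (by omega))
      obtain ⟨Y, -, -, hlin, hYr⟩ := key x g hx hxr hg hgx
      obtain ⟨W, -, hWr⟩ := exists_rangeK hlin
      rw [hK, hYr, hrank] at hWr
      omega
    · have hdvd : r ∣ Nat.card (Cfsg.spGL d F) :=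
        hΩ.trans ((dvd_of_eq (mul_one _).symm).trans (relIndex_mul_dvd (one_dvd _)))
      obtain ⟨hed, x, hx, hxr, hrank⟩ := exists_block_test hrp hr2 hdvd
      have hq := LinearElements.cast_card_ne_zero (F := F) (r := r) hrp
      have he0 : 0 < orderOf ((Fintype.card F : ZMod r) ^ 2) := orderOf_pos_iff.mpr
        (isOfFinOrder_iff_pow_eq_one.mpr
          ⟨r - 1, by have := (Fact.out : r.Prime).two_le; omega, ZMod.pow_card_sub_one_eq_one (pow_ne_zero 2 hq)⟩)
      obtain ⟨g, hg, hgx⟩ := hall x hx (hone x hxr) (not_scalar_of_rank hd0 hr2 hx hxr (by omega))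
      obtain ⟨Y, hY, hYi, hlin, hYr⟩ := key x g hx hxr hg hgx
      obtain ⟨n, hn, hqn⟩ := exists_odd_pow T hT hK hrp hY hYi hlin (hYr.trans hrank)
      exact not_dvd_index_herm T hT hK N hN hrp hr2 hn hqn hΩ
  · rintro rfl x hx ⟨z, hz⟩ -
    exact exists_conj_two_herm T hT hK N hN hd0 hx hz

end CfsgLib.FieldExtElements
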