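import Cfsg.Agent.LinearElements.FieldExtHerm

/-!
A quadratic field of matrices closed under adjoints gives a hermitian form; the criterion for the matrix groups.
-/

set_option autoImplicit false

namespace CfsgLib.FieldExtElements

open Module Matrix Cfsg.Geo
open CfsgLib.ExtField (HermTower mulVecModule isField_subalgebra exists_dual_comp mem_normalizer_of_conj_mem)

variable {F : Type*} [Field F] [Fintype F] {d : ℕ}

/-- The criterion for a quadratic field with conjugation as adjoint. -/
theorem fixes_iff_adjointClosed {p : ℕ} [Fact p.Prime] [CharP F p] (hodd : Odd (Fintype.card F)) (hd : 2 ≤ d)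
    (K : Subalgebra F (Matrix (Fin d ⊕ Fin d) (Fin d ⊕ Fin d) F)) (hK : IsFieldSubalgebra 2 K)
    (hac : IsAdjointClosedFor (Cfsg.sympForm d F) K) (hnsa : ¬ IsSelfAdjointFor (Cfsg.sympForm d F) K)
    {r : ℕ} [Fact r.Prime] (hΩ : r ∣ (subalgebraNormalizer K).relIndex (Cfsg.spGL d F)) :
    (∀ x ∈ Cfsg.spGL d F, (∃ z : F, ((x ^ r : GL (Fin d ⊕ Fin d) F) :
        Matrix (Fin d ⊕ Fin d) (Fin d ⊕ Fin d) F) = z • (1 : Matrix (Fin d ⊕ Fin d) (Fin d ⊕ Fin d) F)) →
      (∀ z : F, (x : Matrix (Fin d ⊕ Fin d) (Fin d ⊕ Fin d) F) ≠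
        z • (1 : Matrix (Fin d ⊕ Fin d) (Fin d ⊕ Fin d) F)) →
      ∃ g ∈ Cfsg.spGL d F, g⁻¹ * x * g ∈ subalgebraNormalizer K) ↔ r = 2 := by
  classical
  haveI : Nonempty (Fin d ⊕ Fin d) := ⟨Sum.inl ⟨0, by omega⟩⟩
  letI : Field K := (isField_subalgebra hK).toField
  letI : Module K (Fin d ⊕ Fin d → F) := mulVecModule K
  have hsmul : ∀ (a : K) (v : Fin d ⊕ Fin d → F),
      a • v = (a : Matrix (Fin d ⊕ Fin d) (Fin d ⊕ Fin d) F) *ᵥ v := fun _ _ => rfl
  haveI : IsScalarTower F K (Fin d ⊕ Fin d → F) := ⟨fun c a v => by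
    rw [hsmul, hsmul]; exact Matrix.smul_mulVec c _ v⟩
  haveI : Finite K := Subtype.finite
  have hfin : Module.finrank F K = 2 := hK.finrank_eq
  set B : (Fin d ⊕ Fin d → F) →ₗ[F] (Fin d ⊕ Fin d → F) →ₗ[F] F := CfsgLib.Forms.sympBilin d F with hBdef
  have hB : ∀ x y, B x y = Cfsg.sympForm d F x y := fun x y => CfsgLib.Forms.sympBilin_apply x y
  have hsep : ∀ a b : K, (∀ x y, B x (a • y) = B x (b • y)) → a = b := by
    intro a b h
    apply Subtype.ext
    apply Matrix.ext_of_mulVec_single
    intro i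
    rw [← hsmul, ← hsmul, ← sub_eq_zero]
    refine sympBilin_sep _ fun y => ?_
    rw [CfsgLib.Forms.sympBilin_apply, Forms.sympForm_swap, ← hB, map_sub, h, sub_self, neg_zero]
  -- the conjugation
  choose σ hσK hσ using fun k : K => hac k.1 k.2
  let bar : K → K := fun k => ⟨σ k, hσK k⟩
  have hbar : ∀ (k : K) (x y : Fin d ⊕ Fin d → F), B (k • x) y = B x (bar k • y) := fun k x y => by
    rw [hB, hB]; exact hσ k x y
  have hswap : ∀ x y, B y x = -B x y := fun x y => by rw [hB, hB]; exact Forms.sympForm_swap x y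
  have hbb : ∀ k, bar (bar k) = k := fun k => hsep _ _ fun x y => by
    rw [← hbar, hswap y (bar k • x), ← hbar, hswap, neg_neg]
  have hbadd : ∀ k l, bar (k + l) = bar k + bar l := fun k l => hsep _ _ fun x y => by
    rw [← hbar, add_smul, map_add, LinearMap.add_apply, hbar, hbar, ← map_add, ← add_smul]
  have hbmul : ∀ k l, bar (k * l) = bar k * bar l := fun k l => hsep _ _ fun x y => by
    rw [← hbar, mul_comm k l, mul_smul, hbar, hbar, ← mul_smul, mul_comm]
  have hbc : ∀ c : F, bar (algebraMap F K c) = algebraMap F K c := fun c => hsep _ _ fun x y => by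
    rw [← hbar, algebraMap_smul, algebraMap_smul, map_smul, LinearMap.smul_apply, map_smul]
  let barE : K ≃ₐ[F] K :=
    { toFun := bar
      invFun := bar
      left_inv := hbb
      right_inv := hbb
      map_mul' := hbmul
      map_add' := hbadd
      commutes' := hbc }
  obtain ⟨k₀, hk₀⟩ : ∃ k : K, bar k ≠ k := by
    by_contra hc
    push Not at hc
    refine hnsa fun k hk u v => ?_
    have := hbar ⟨k, hk⟩ u v
    rw [hc, hB, hB] at this
    exact this
  have hbne : barE ≠ 1 := fun h => hk₀ (AlgEquiv.congr_fun h k₀)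
  have h2F : (2 : F) ≠ 0 := by
    intro h2
    haveI : CharP F 2 := CharTwo.of_one_ne_zero_of_two_eq_zero one_ne_zero h2
    obtain ⟨n, -, hc⟩ := FiniteField.card F 2
    rw [hc, Nat.odd_pow_iff n.ne_zero] at hodd
    exact absurd hodd (by decide)
  haveI : FiniteDimensional F K := Module.Finite.of_finite
  have huniv : (Finset.univ : Finset Gal(K/F)) = {1, barE} := by
    refine (Finset.eq_of_subset_of_card_le (Finset.subset_univ _) ?_).symm
    rw [Finset.card_univ, ← Nat.card_eq_fintype_card, IsGalois.card_aut_eq_finrank, hfin,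
      Finset.card_insert_of_notMem (by simpa using hbne.symm), Finset.card_singleton]
  have htr : ∀ k : K, algebraMap F K (Algebra.trace F K k) = k + bar k := fun k => by
    rw [trace_eq_sum_automorphisms, huniv, Finset.sum_insert (by simpa using hbne.symm), Finset.sum_singleton]
    rfl
  have hnorm : ∀ c : F, ∃ k : K, k * bar k = algebraMap F K c := fun c => by
    obtain ⟨k, hk⟩ := FiniteField.norm_surjective F K c
    refine ⟨k, ?_⟩
    rw [← hk, Algebra.norm_eq_prod_automorphisms, huniv, Finset.prod_insert (by simpa using hbne.symm),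
      Finset.prod_singleton]
    rfl
  have hfix : ∀ k, bar k = k → ∃ c : F, k = algebraMap F K c := by
    intro k hk
    refine ⟨Algebra.trace F K k / 2, ?_⟩
    have h2K : (2 : K) ≠ 0 := by
      rw [← map_ofNat (algebraMap F K) 2]; simpa using h2F
    rw [map_div₀, htr, hk, map_ofNat, ← two_mul, mul_div_cancel_left₀ _ h2K]
  -- the form over the field
  have htr0 : Algebra.trace F K ≠ 0 := by
    obtain ⟨z, hz⟩ := Algebra.trace_surjective F K 1
    exact fun h => zero_ne_one (by rw [← hz, h]; rfl)
  choose ψ hψ using fun y => exists_dual_comp (K := K) htr0 (LinearMap.flip B y)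
  have huniq : ∀ a b : K, (∀ l : K, Algebra.trace F K (l * a) = Algebra.trace F K (l * b)) → a = b := by
    intro a b h
    by_contra hne
    obtain ⟨s, hs'⟩ := Algebra.trace_surjective F K 1
    have := h (s / (a - b))
    rw [← sub_eq_zero, ← map_sub, ← mul_sub, div_mul_cancel₀ _ (sub_ne_zero.mpr hne), hs'] at this
    exact one_ne_zero this
  have hψl : ∀ (x y : Fin d ⊕ Fin d → F) (l : K), Algebra.trace F K (l * ψ y x) = B (l • x) y :=
    fun x y l => by rw [← smul_eq_mul, ← map_smul, hψ, LinearMap.flip_apply]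
  have htrbar : ∀ k : K, Algebra.trace F K (bar k) = Algebra.trace F K k := fun k => by
    apply (algebraMap F K).injective
    rw [htr, htr, hbb, add_comm]
  let T : HermTower F K (Fin d ⊕ Fin d → F) :=
    { f := B
      h := fun x y => ψ y x
      bar := barE
      a := k₀ - bar k₀
      bar_bar := hbb
      a_ne := sub_ne_zero.mpr (Ne.symm hk₀)
      bar_a := by rw [map_sub]; show bar k₀ - bar (bar k₀) = _; rw [hbb, neg_sub]
      two_ne := by rw [← map_ofNat (algebraMap F K) 2]; simpa using h2F
      fixed := hfix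
      norm_surj := hnorm
      h_add := fun x x' y => map_add _ _ _
      h_smul := fun k x y => by rw [map_smul]; rfl
      h_skew := fun x y => huniq _ _ fun l => by
        show Algebra.trace F K (l * ψ x y) = Algebra.trace F K (l * -bar (ψ y x))
        rw [hψl, mul_neg, map_neg, ← htrbar (l * bar (ψ y x)), hbmul, hbb, hψl, hbar,
          hswap (bar l • x) y, hbar]
      tr := fun x y => by
        show algebraMap F K (B x y) = ψ y x + bar (ψ y x)
        rw [← htr, hψ, LinearMap.flip_apply]
      nondeg := fun x hx => by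
        by_contra hc
        push Not at hc
        exact hx (sympBilin_sep x hc) }
  refine fixes_iff_herm T (fun u v => hB u v) hfin (subalgebraNormalizer K)
    (fun y => ⟨fun hy a => ?_, fun hy => ?_⟩) hd hΩ
  · refine ⟨⟨_, (hy a.1).mp a.2⟩, fun v => ?_⟩
    rw [hsmul, hsmul, Matrix.mulVec_mulVec, Matrix.mulVec_mulVec, mul_assoc, Units.inv_mul, mul_one]
  · refine mem_normalizer_of_conj_mem fun k hk => ?_
    obtain ⟨b, hb⟩ := hy ⟨k, hk⟩
    have e : (y : Matrix (Fin d ⊕ Fin d) (Fin d ⊕ Fin d) F) * k = b.1 * y := by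
      refine Matrix.ext_iff_mulVec.mpr fun v => ?_
      rw [← Matrix.mulVec_mulVec, ← Matrix.mulVec_mulVec]
      exact hb v
    rw [e, mul_assoc, Units.mul_inv, mul_one]
    exact b.2

end CfsgLib.FieldExtElements
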