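import Cfsg.Agent.LinearElements.OrthPrimePower
import Cfsg.Agent.OrthPartition.Basic
import Cfsg.Agent.Forms.OrthCharTwo

/-!
Elements of odd prime order `r` of orthogonal groups: models for every number of blocks, and the criterion for fixing a
nondegenerate subspace of given dimension and type.
-/

set_option autoImplicit false

namespace CfsgLib.OrthFix

open Module Submodule CfsgLib.LinearElements CfsgLib.QuadType CfsgLib.OrthAtoms CfsgLib.OrthPrimePower

/-- The arithmetic condition for a fixed subspace of dimension `m` and type `T`, for an element with `j` blocks. -/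
def Good (n c i j m : ℕ) (PV T : Prop) : Prop :=
  ∃ a, a ≤ j ∧ a * c ≤ m ∧ ((m - a * c < n - j * c ∧ (m = a * c → (sgn i a ↔ T))) ∨
    (m - a * c = n - j * c ∧ Even n ∧ (((PV ↔ sgn i j) ↔ sgn i a) ↔ T)))

variable {F V : Type*} [Field F] [AddCommGroup V] [Module F V] {Q : QuadraticForm F V}

local notation "𝔅" => QuadraticMap.polarBilin Q

/-- An isometry of a nondegenerate subspace, extended by the identity on its perp. -/
theorem exists_extend [FiniteDimensional F V] (hQ : Sep Q ⊤) {X : Submodule F V} (hX : Sep Q X) (T : Module.End F X)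
    (hT : ∀ x, Q (T x : V) = Q (x : V)) :
    ∃ g : Module.End F V, (∀ v, Q (g v) = Q v) ∧ (∀ x : X, g (x : V) = T x) ∧
      ∀ z, (∀ x ∈ X, 𝔅 x z = 0) → g z = z := by
  obtain ⟨Z, -, -, horth, hsup, -, hmem⟩ := exists_perp hQ hX le_top
  have hc : IsCompl X Z := IsCompl.of_eq (orth_inf_bot hX horth) hsup
  let g : Module.End F V := LinearMap.ofIsCompl hc (X.subtype ∘ₗ T) Z.subtype
  have hgX : ∀ x : X, g (x : V) = T x := fun x => LinearMap.ofIsCompl_apply_left hc x
  have hgZ : ∀ z ∈ Z, g z = z := fun z hz => LinearMap.ofIsCompl_apply_right hc ⟨z, hz⟩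
  refine ⟨g, fun v => ?_, hgX, fun z hz => hgZ z (hmem z trivial hz)⟩
  obtain ⟨x, hx, z, hz, rfl⟩ := Submodule.mem_sup.mp (hsup.ge (Submodule.mem_top (x := v)))
  rw [map_add, hgX ⟨x, hx⟩, hgZ z hz, QuadType.map_add', QuadType.map_add', hT, horth x hx z hz,
    horth _ (T ⟨x, hx⟩).2 z hz]

variable [Fintype F] [Finite V] [FiniteDimensional F V] {r : ℕ} [Fact r.Prime] (hQ : Sep Q ⊤) (hr2 : r ≠ 2)
  (hrF : (r : F) ≠ 0) (hq : (Fintype.card F : ZMod r) ≠ 0)
  {c : ℕ} (hc : c = if Even (orderOf (Fintype.card F : ZMod r)) then orderOf (Fintype.card F : ZMod r)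
    else 2 * orderOf (Fintype.card F : ZMod r))

include hQ hr2 hrF hq hc

omit hQ hr2 hrF hq [Finite V] [FiniteDimensional F V] in
theorem even_c : Even c := by
  rw [hc]; split_ifs with he
  exacts [he, even_two_mul _]

/-- One block, moved to any subspace of the same dimension and type. -/
theorem exists_block {g₀ : Module.End F V} (hg₀ : ∀ v, Q (g₀ v) = Q v) (hg₀r : g₀ ^ r = 1) (hg₀1 : g₀ ≠ 1)
    {X : Submodule F V} (hX : Sep Q X) (hXd : finrank F X = c)
    (hXt : Plus Q X ↔ Odd (orderOf (Fintype.card F : ZMod r))) :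
    ∃ g : Module.End F V, (∀ v, Q (g v) = Q v) ∧ g ^ r = 1 ∧ InvBy g X ∧ fixedIn g X = ⊥ ∧
      ∀ z, (∀ x ∈ X, 𝔅 x z = 0) → g z = z := by
  obtain ⟨-, M, -, hM, hMs, hM0, -, hsup, -⟩ := exists_split_moved hg₀ hg₀r (Fact.out : r.Prime).pos hrF
    (invBy_top (g := g₀)) hQ
  have hne : M ≠ ⊥ := fun e => by
    rw [e, sup_bot_eq] at hsup
    exact hg₀1 (LinearMap.ext fun v => (mem_fixedIn.mp (hsup.ge (Submodule.mem_top (x := v)))).2)
  obtain ⟨X₀, -, hX₀, hX₀s, hX₀0, hX₀d, hX₀t⟩ := exists_orth_atom hg₀ hg₀r hr2 hrF hq hc hM hMs hM0 hne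
  obtain ⟨h, hh⟩ := even_c hc
  obtain ⟨e, he⟩ := iso_of_type h hX₀s hX (by omega) (by omega) (hX₀t.trans hXt.symm)
  let T₀ : Module.End F X₀ := g₀.restrict hX₀
  obtain ⟨g, hg, hgX, hgZ⟩ := exists_extend hQ hX (e.toLinearMap ∘ₗ T₀ ∘ₗ e.symm.toLinearMap) fun x => by
    show Q (e (T₀ (e.symm x)) : V) = Q (x : V)
    rw [he]
    show Q (g₀ (e.symm x : V)) = _
    rw [hg₀, ← he (e.symm x), LinearEquiv.apply_symm_apply]
  have hstep : ∀ (k : ℕ) (x : X₀), (g ^ k) (e x : V) = e ⟨(g₀ ^ k) x, hX₀.pow k x x.2⟩ := fun k => by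
    induction k with
    | zero => intro x; simp
    | succ k ih =>
      intro x
      rw [pow_succ', Module.End.mul_apply, ih, hgX]
      show (e (T₀ (e.symm (e _))) : V) = _
      rw [LinearEquiv.symm_apply_apply]
      exact congrArg (fun y => (e y : V)) (Subtype.ext (by
        show g₀ ((g₀ ^ k) (x : V)) = (g₀ ^ (k + 1)) (x : V)
        rw [pow_succ', Module.End.mul_apply]))
  have hzk : ∀ (k : ℕ) z, (∀ x ∈ X, 𝔅 x z = 0) → (g ^ k) z = z := fun k z hz => by
    induction k with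
    | zero => simp
    | succ k ih => rw [pow_succ', Module.End.mul_apply, ih, hgZ z hz]
  refine ⟨g, hg, ?_, fun v hv => by rw [hgX ⟨v, hv⟩]; exact Subtype.coe_prop _, ?_, hgZ⟩
  · obtain ⟨Z, -, -, horth, hsupX, -, -⟩ := exists_perp hQ hX le_top
    refine LinearMap.ext fun v => ?_
    obtain ⟨x, hx, z, hz, rfl⟩ := Submodule.mem_sup.mp (hsupX.ge (Submodule.mem_top (x := v)))
    obtain ⟨x₀, hx₀⟩ := e.surjective ⟨x, hx⟩
    have hx' : x = (e x₀ : V) := by rw [hx₀]
    rw [map_add, hzk r z fun x hx => horth x hx z hz, Module.End.one_apply, hx', hstep]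
    congr 3
    exact Subtype.ext (LinearMap.congr_fun hg₀r x₀)
  · rw [Submodule.eq_bot_iff]
    intro v hv
    obtain ⟨hvX, hgv⟩ := mem_fixedIn.mp hv
    obtain ⟨x₀, hx₀⟩ := e.surjective ⟨v, hvX⟩
    have hv' : v = (e x₀ : V) := by rw [hx₀]
    have h1 := hstep 1 x₀
    rw [pow_one, ← hv', hgv, hv'] at h1
    have h2 : x₀ = ⟨(g₀ ^ 1) x₀, hX₀.pow 1 x₀ x₀.2⟩ := e.injective (Subtype.ext h1)
    have h3 : (x₀ : V) = 0 := (Submodule.eq_bot_iff _).mp hX₀0 _
      (mem_fixedIn.mpr ⟨x₀.2, by simpa using (congrArg Subtype.val h2).symm⟩)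
    rw [hv', Subtype.ext h3 (a2 := (0 : X₀)), map_zero, Submodule.coe_zero]

/-- Any number of blocks on a subspace of the right dimension and type. -/
theorem exists_model {g₀ : Module.End F V} (hg₀ : ∀ v, Q (g₀ v) = Q v) (hg₀r : g₀ ^ r = 1) (hg₀1 : g₀ ≠ 1) :
    ∀ (j : ℕ) {Y : Submodule F V}, Sep Q Y → finrank F Y = j * c →
      (Plus Q Y ↔ sgn (orderOf (Fintype.card F : ZMod r)) j) →
      ∃ g : Module.End F V, (∀ v, Q (g v) = Q v) ∧ g ^ r = 1 ∧ InvBy g Y ∧ fixedIn g Y = ⊥ ∧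
        ∀ z, (∀ y ∈ Y, 𝔅 y z = 0) → g z = z := by
  have hc0 := atom_dim_pos hq hc
  obtain ⟨h, hh⟩ := even_c hc
  intro j
  induction j with
  | zero =>
    intro Y _ hd _
    obtain rfl : Y = ⊥ := Submodule.finrank_eq_zero.mp (by omega)
    exact ⟨1, fun _ => rfl, one_pow r, invBy_bot, le_bot_iff.mp inf_le_left, fun _ _ => rfl⟩
  | succ j ih =>
    intro Y hY hd ht
    obtain ⟨X, hXY, hX, hXd, hXt⟩ : ∃ X, X ≤ Y ∧ Sep Q X ∧ finrank F X = c ∧
        (Plus Q X ↔ Odd (orderOf (Fintype.card F : ZMod r))) := by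
      rcases Nat.eq_zero_or_pos j with rfl | hj
      · exact ⟨Y, le_rfl, hY, by omega, ht.trans (sgn_one _)⟩
      · obtain ⟨X, hXY, hX, hXd, hXt⟩ := exists_sub_type h hY (by
          have := Nat.le_mul_of_pos_left c hj
          rw [add_mul, one_mul] at hd; omega) (Odd (orderOf (Fintype.card F : ZMod r))) (fun e => by omega)
        exact ⟨X, hXY, hX, by omega, hXt⟩
    obtain ⟨Y', hY'Y, hY's, horth, hsup, hd', -⟩ := exists_perp hY hX hXY
    rw [add_mul, one_mul] at hd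
    have hY'd : finrank F Y' = j * c := by omega
    have hY't : Plus Q Y' ↔ sgn (orderOf (Fintype.card F : ZMod r)) j := by
      rw [← hsup, plus_sup_iff hX hY's horth (hXd ▸ ⟨h, hh⟩) (hY'd ▸ (even_c hc).mul_left j), hXt, sgn_add, sgn_one]
        at ht
      by_cases h1 : Plus Q Y' <;> by_cases h2 : sgn (orderOf (Fintype.card F : ZMod r)) j <;>
        by_cases h3 : Odd (orderOf (Fintype.card F : ZMod r)) <;> simp_all
    obtain ⟨g₁, hg₁, hg₁r, hg₁X, hg₁0, hg₁Z⟩ := exists_block hQ hr2 hrF hq hc hg₀ hg₀r hg₀1 hX hXd hXt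
    obtain ⟨g₂, hg₂, hg₂r, hg₂Y, hg₂0, hg₂Z⟩ := ih hY's hY'd hY't
    have h12 : ∀ x ∈ X, g₂ x = x := fun x hx => hg₂Z x fun y hy => (polar_swap y x).trans (horth x hx y hy)
    have h21 : ∀ y ∈ Y', g₁ y = y := fun y hy => hg₁Z y fun x hx => horth x hx y hy
    have hgY : ∀ x ∈ X, ∀ y ∈ Y', (g₁ * g₂) (x + y) = g₁ x + g₂ y := fun x hx y hy => by
      rw [Module.End.mul_apply, map_add, h12 x hx, map_add, h21 _ (hg₂Y y hy)]
    refine ⟨g₁ * g₂, fun v => by rw [Module.End.mul_apply, hg₁, hg₂], ?_, ?_, ?_, fun z hz => ?_⟩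
    · obtain ⟨Z, -, -, horthZ, hsupZ, -, -⟩ := exists_perp hQ hY le_top
      have hcomm : Commute g₁ g₂ := LinearMap.ext fun v => by
        obtain ⟨w, hw, z, hz, rfl⟩ := Submodule.mem_sup.mp (hsupZ.ge (Submodule.mem_top (x := v)))
        rw [← hsup] at hw
        obtain ⟨x, hx, y, hy, rfl⟩ := Submodule.mem_sup.mp hw
        have hz1 : g₁ z = z := hg₁Z z fun x hx => horthZ x (hXY hx) z hz
        have hz2 : g₂ z = z := hg₂Z z fun y hy => horthZ y (hY'Y hy) z hz
        simp only [Module.End.mul_apply, map_add, h12 x hx, h21 y hy, h21 _ (hg₂Y y hy), h12 _ (hg₁X x hx), hz1, hz2]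
      rw [hcomm.mul_pow, hg₁r, hg₂r, one_mul]
    · intro v hv
      rw [← hsup] at hv ⊢
      obtain ⟨x, hx, y, hy, rfl⟩ := Submodule.mem_sup.mp hv
      rw [hgY x hx y hy]
      exact Submodule.add_mem_sup (hg₁X x hx) (hg₂Y y hy)
    · rw [Submodule.eq_bot_iff]
      intro v hv
      obtain ⟨hvY, hgv⟩ := mem_fixedIn.mp hv
      rw [← hsup] at hvY
      obtain ⟨x, hx, y, hy, rfl⟩ := Submodule.mem_sup.mp hvY
      rw [hgY x hx y hy] at hgv
      have h0 : g₁ x - x ∈ X ⊓ Y' := ⟨X.sub_mem (hg₁X x hx) hx, by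
        rw [show g₁ x - x = y - g₂ y by linear_combination (norm := module) hgv]
        exact Y'.sub_mem hy (hg₂Y y hy)⟩
      rw [orth_inf_bot hX horth, Submodule.mem_bot, sub_eq_zero] at h0
      have hy0 : g₂ y = y := by rw [h0] at hgv; exact add_left_cancel hgv
      rw [(Submodule.eq_bot_iff _).mp hg₁0 x (mem_fixedIn.mpr ⟨hx, h0⟩),
        (Submodule.eq_bot_iff _).mp hg₂0 y (mem_fixedIn.mpr ⟨hy, hy0⟩), add_zero]
    · rw [Module.End.mul_apply, hg₂Z z fun y hy => hz y (hY'Y hy), hg₁Z z fun x hx => hz x (hXY hx)]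

/-- Which invariant nondegenerate subspaces a single element has. -/
theorem fix_iff {g : Module.End F V} (hg : ∀ v, Q (g v) = Q v) (hgr : g ^ r = 1) {j : ℕ}
    (hj : finrank F V = finrank F (fixedIn g ⊤) + j * c) {h : ℕ} {T : Prop} :
    (∃ W : Submodule F V, (finrank F W = 2 * h ∧ Sep Q W ∧ (Plus Q W ↔ T)) ∧ InvBy g W) ↔
      Good (finrank F V) c (orderOf (Fintype.card F : ZMod r)) j (2 * h) (Plus Q ⊤) T := by
  have hr := (Fact.out : r.Prime)
  have hc0 := atom_dim_pos hq hc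
  have hce := even_c hc
  obtain ⟨hfs, M, -, hM, hMs, hM0, horth, hsup, hd⟩ := exists_split_moved hg hgr hr.pos hrF (invBy_top (g := g)) hQ
  set C := fixedIn g (⊤ : Submodule F V)
  obtain ⟨j', hj', hjt, hsub⟩ := moved_type hg hgr hr2 hrF hq hc _ rfl hM hMs hM0
  rw [finrank_top, hj'] at hd
  obtain rfl : j' = j := by
    refine Nat.eq_of_mul_eq_mul_right hc0 ?_
    omega
  have hC : ∀ v ∈ C, g v = v := fun v hv => (mem_fixedIn.mp hv).2
  have hCtype : Even (finrank F V) → (Plus Q C ↔ (Plus Q ⊤ ↔ sgn (orderOf (Fintype.card F : ZMod r)) j')) := fun hne => by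
    rw [hd, Nat.even_add] at hne
    rw [← hsup, plus_sup_iff hfs hMs horth (hne.mpr (hce.mul_left j')) (hj' ▸ hce.mul_left j'), hjt]
    by_cases h1 : Plus Q C <;> by_cases h2 : sgn (orderOf (Fintype.card F : ZMod r)) j' <;> simp [h1, h2]
  constructor
  · rintro ⟨W, ⟨hWd, hWs, hWt⟩, hW⟩
    obtain ⟨hws, M', -, hM', hM's, hM'0, horth', hsup', hd'⟩ := exists_split_moved hg hgr hr.pos hrF hW hWs
    obtain ⟨a, ha, hat, -⟩ := moved_type hg hgr hr2 hrF hq hc _ rfl hM' hM's hM'0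
    rw [hWd, ha] at hd'
    have hle : fixedIn g W ≤ C := inf_le_inf_right _ le_top
    have hfle := Submodule.finrank_mono hle
    have haj : a ≤ j' := by
      have h1 := Submodule.finrank_sup_add_finrank_inf_eq C M'
      have h2 : C ⊓ M' = ⊥ := by
        rw [← le_bot_iff, ← hM'0]
        exact le_inf inf_le_right (inf_le_left.trans inf_le_right)
      rw [h2, finrank_bot, ha] at h1
      have h3 := Submodule.finrank_le (C ⊔ M')
      exact Nat.le_of_mul_le_mul_right (by omega) hc0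
    have hwe : Even (finrank F (fixedIn g W)) := by
      have h2e := even_two_mul h
      rw [hd', Nat.even_add] at h2e
      exact h2e.mpr (hce.mul_left a)
    refine ⟨a, haj, by omega, ?_⟩
    rcases hfle.lt_or_eq with hlt | heq
    · refine Or.inl ⟨by omega, fun e => ?_⟩
      have h0 : fixedIn g W = ⊥ := Submodule.finrank_eq_zero.mp (by omega)
      rw [h0, bot_sup_eq] at hsup'
      rw [← hat, hsup', hWt]
    · have heC : fixedIn g W = C := Submodule.eq_of_le_of_finrank_eq hle heq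
      have hne : Even (finrank F V) := by rw [hd, ← heq]; exact hwe.add (hce.mul_left j')
      refine Or.inr ⟨by omega, hne, ?_⟩
      rw [← hWt, ← hsup', plus_sup_iff hws hM's horth' hwe (ha ▸ hce.mul_left a), hat, heC, hCtype hne]
  · rintro ⟨a, haj, ham, hgood⟩
    obtain ⟨X, hXM, hX, hXs, hX0, hXd⟩ := hsub a haj
    obtain ⟨a', ha', hXt, -⟩ := moved_type hg hgr hr2 hrF hq hc _ rfl hX hXs hX0
    obtain rfl : a = a' := Nat.eq_of_mul_eq_mul_right hc0 (hXd.symm.trans ha')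
    have hee : Even (2 * h - a * c) := by
      obtain ⟨c', hc'⟩ := hce.mul_left a
      exact ⟨h - c', by omega⟩
    obtain ⟨e', he'⟩ := hee
    obtain ⟨Y, hYC, hYs, hYd, hYt⟩ : ∃ Y, Y ≤ C ∧ Sep Q Y ∧ finrank F Y = 2 * h - a * c ∧
        (Plus Q Y ↔ (sgn (orderOf (Fintype.card F : ZMod r)) a ↔ T)) := by
      rcases hgood with ⟨hlt, he0⟩ | ⟨heq, hne, ht⟩
      · obtain ⟨Y, hYC, hYs, hYd, hYt⟩ := exists_sub_type e' hfs (by omega) (sgn (orderOf (Fintype.card F : ZMod r)) a ↔ T) (fun e => he0 (by omega))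
        exact ⟨Y, hYC, hYs, by omega, hYt⟩
      · refine ⟨C, le_rfl, hfs, by omega, (hCtype hne).trans ?_⟩
        by_cases h1 : Plus Q ⊤ <;> by_cases h2 : sgn (orderOf (Fintype.card F : ZMod r)) j' <;> by_cases h3 : sgn (orderOf (Fintype.card F : ZMod r)) a <;> by_cases h4 : T <;>
          simp_all
    have hYinv : InvBy g Y := fun v hv => by rw [hC v (hYC hv)]; exact hv
    have ho : ∀ y ∈ Y, ∀ x ∈ X, 𝔅 y x = 0 := fun y hy x hx => horth y (hYC hy) x (hXM hx)
    refine ⟨Y ⊔ X, ⟨?_, sep_sup hYs hXs ho, ?_⟩, hYinv.sup hX⟩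
    · rw [finrank_orth_sup hYs ho, hYd, hXd]; omega
    · rw [plus_sup_iff hYs hXs ho (hYd ▸ ⟨e', he'⟩) (hXd ▸ hce.mul_left a), hYt, hXt]
      by_cases h1 : sgn (orderOf (Fintype.card F : ZMod r)) a <;> by_cases h2 : T <;> simp [h1, h2]

/-- A property of elements that depends on the number of blocks only holds for all elements iff it holds for every
possible number of blocks. -/
theorem all_iff_blocks {g₀ : Module.End F V} (hg₀ : ∀ v, Q (g₀ v) = Q v) (hg₀r : g₀ ^ r = 1) (hg₀1 : g₀ ≠ 1)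
    (K : Module.End F V → Prop) (G : ℕ → Prop)
    (hK : ∀ g, (∀ v, Q (g v) = Q v) → g ^ r = 1 → ∀ j, finrank F V = finrank F (fixedIn g ⊤) + j * c → (K g ↔ G j)) :
    (∀ g : Module.End F V, (∀ v, Q (g v) = Q v) → g ^ r = 1 → g ≠ 1 → K g) ↔
    ∀ j, 1 ≤ j → j * c ≤ finrank F V →
      (finrank F V = j * c → (Plus Q ⊤ ↔ sgn (orderOf (Fintype.card F : ZMod r)) j)) → G j := by
  have hr := (Fact.out : r.Prime)
  have hc0 := atom_dim_pos hq hc
  have hce := even_c hc
  constructor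
  · intro hall j hj1 hjn hjt
    have hjc := Nat.le_mul_of_pos_left c hj1
    obtain ⟨h', hh'⟩ := hce.mul_left j
    obtain ⟨Y, hY, hYd, hYt⟩ : ∃ Y, Sep Q Y ∧ finrank F Y = j * c ∧ (Plus Q Y ↔ sgn (orderOf (Fintype.card F : ZMod r)) j) := by
      rcases hjn.lt_or_eq with hlt | heq
      · obtain ⟨Y, -, hY, hYd, hYt⟩ := exists_sub_type h' hQ (by rw [finrank_top]; omega) (sgn (orderOf (Fintype.card F : ZMod r)) j) (fun e => by omega)
        exact ⟨Y, hY, by omega, hYt⟩
      · exact ⟨⊤, hQ, by rw [finrank_top]; exact heq.symm, hjt heq.symm⟩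
    obtain ⟨g, hg, hgr, hgY, hg0, hgZ⟩ := exists_model hQ hr2 hrF hq hc hg₀ hg₀r hg₀1 j hY hYd hYt
    obtain ⟨Z, -, -, horth, hsup, hd, -⟩ := exists_perp hQ hY le_top
    have hfix : fixedIn g ⊤ = Z := by
      refine le_antisymm (fun v hv => ?_) fun z hz => mem_fixedIn.mpr ⟨trivial, hgZ z fun y hy => horth y hy z hz⟩
      obtain ⟨y, hy, z, hz, rfl⟩ := Submodule.mem_sup.mp (hsup.ge (Submodule.mem_top (x := v)))
      have h1 := (mem_fixedIn.mp hv).2
      rw [map_add, hgZ z fun y hy => horth y hy z hz, add_left_inj] at h1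
      rwa [(Submodule.eq_bot_iff _).mp hg0 y (mem_fixedIn.mpr ⟨hy, h1⟩), zero_add]
    refine (hK g hg hgr j ?_).mp (hall g hg hgr fun e => ?_)
    · rw [hfix]; rw [finrank_top] at hd; omega
    · have : Y ≤ fixedIn g Y := fun y hy => mem_fixedIn.mpr ⟨hy, by rw [e]; rfl⟩
      rw [hg0, le_bot_iff] at this
      rw [this, finrank_bot] at hYd
      omega
  · intro hall g hg hgr hg1
    obtain ⟨hfs, M, -, hM, hMs, hM0, -, hsup, hd⟩ := exists_split_moved hg hgr hr.pos hrF (invBy_top (g := g)) hQ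
    obtain ⟨j, hj, hjt, -⟩ := moved_type hg hgr hr2 hrF hq hc _ rfl hM hMs hM0
    rw [finrank_top, hj] at hd
    have hj1 : 1 ≤ j := by
      rcases Nat.eq_zero_or_pos j with rfl | h0
      · exfalso
        rw [Nat.zero_mul] at hj
        rw [Submodule.finrank_eq_zero.mp hj, sup_bot_eq] at hsup
        exact hg1 (LinearMap.ext fun v => (mem_fixedIn.mp (hsup.ge (Submodule.mem_top (x := v)))).2)
      · exact h0
    refine (hK g hg hgr j hd).mpr (hall j hj1 (by omega) fun e => ?_)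
    have h0 : fixedIn g ⊤ = ⊥ := Submodule.finrank_eq_zero.mp (by omega)
    rw [h0, bot_sup_eq] at hsup
    rw [← hsup, hjt]

/-- Every element fixes a subspace of the given dimension and type iff every possible number of blocks is good. -/
theorem all_fix_iff {g₀ : Module.End F V} (hg₀ : ∀ v, Q (g₀ v) = Q v) (hg₀r : g₀ ^ r = 1) (hg₀1 : g₀ ≠ 1)
    {h : ℕ} {T : Prop} :
    (∀ g : Module.End F V, (∀ v, Q (g v) = Q v) → g ^ r = 1 → g ≠ 1 →
      ∃ W : Submodule F V, (finrank F W = 2 * h ∧ Sep Q W ∧ (Plus Q W ↔ T)) ∧ InvBy g W) ↔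
    ∀ j, 1 ≤ j → j * c ≤ finrank F V →
      (finrank F V = j * c → (Plus Q ⊤ ↔ sgn (orderOf (Fintype.card F : ZMod r)) j)) →
      Good (finrank F V) c (orderOf (Fintype.card F : ZMod r)) j (2 * h) (Plus Q ⊤) T :=
  all_iff_blocks hQ hr2 hrF hq hc hg₀ hg₀r hg₀1 _ _ fun _ hg hgr _ hd => fix_iff hQ hr2 hrF hq hc hg hgr hd

end CfsgLib.OrthFix

namespace CfsgLib.OrthFix

open Module Submodule CfsgLib.LinearElements CfsgLib.QuadType Matrix

variable {F : Type*} [Field F]

section LinearGroupForms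

variable {ι : Type} [Fintype ι] [DecidableEq ι] {Q : QuadraticForm F (ι → F)}

/-- Elements of odd order lie in `Ω`. -/
theorem mem_omega_of_odd [Fintype F] (hQ : (QuadraticMap.polarBilin Q).Nondegenerate) (hn : 4 < Fintype.card ι)
    {x : GL ι F} (hx : ∀ v, Q ((x : Matrix ι ι F) *ᵥ v) = Q v) {r : ℕ} (hr : Odd r) (hxr : x ^ r = 1) :
    x ∈ Cfsg.Geo.omegaGL ⇑Q := by
  rcases eq_or_ne (2 : F) 0 with h2 | h2
  swap
  · exact CfsgLib.OrthPartition.omegaGL_of_pow h2 hQ (by omega) hx hr hxr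
  haveI : CharP F 2 := CharTwo.of_one_ne_zero_of_two_eq_zero one_ne_zero h2
  let g : ↥(Cfsg.isometryGroup F ⇑Q) := ⟨x, fun u _ => hx u⟩
  refine ⟨g, ?_, rfl⟩
  obtain ⟨k, rfl⟩ := hr
  have hgr : g ^ (2 * k + 1) = 1 := Subtype.ext (by simpa [g] using hxr)
  have h1 : g ^ 2 ∈ Cfsg.Omega F ⇑Q := by
    rw [← CfsgLib.Forms.index_omega_charTwo hQ (by omega) (Or.inr (by omega))]
    exact Subgroup.pow_index_mem _ g
  rw [show g = (g ^ 2) ^ (k + 1) by rw [← pow_mul, show 2 * (k + 1) = (2 * k + 1) + 1 by ring, pow_succ, hgr, one_mul]]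
  exact pow_mem h1 _

theorem quad_of_mem_omega {x : GL ι F} (hx : x ∈ Cfsg.Geo.omegaGL ⇑Q) (v : ι → F) :
    Q ((x : Matrix ι ι F) *ᵥ v) = Q v := by
  obtain ⟨g, -, rfl⟩ := hx
  exact g.2 v v

/-- The linear-group form of the fixing statement. -/
theorem gl_iff [Fintype F] (hQ : (QuadraticMap.polarBilin Q).Nondegenerate) (hn : 4 < Fintype.card ι) {r : ℕ}
    [Fact r.Prime] (hr2 : r ≠ 2) (Pr : Submodule F (ι → F) → Prop) :
    (∀ x : GL ι F, x ∈ Cfsg.Geo.omegaGL ⇑Q → orderOf x = r →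
      ∃ W, Pr W ∧ W.map (Matrix.toLin' (x : Matrix ι ι F)) ≤ W) ↔
    ∀ g : Module.End F (ι → F), (∀ v, Q (g v) = Q v) → g ^ r = 1 → g ≠ 1 → ∃ W, Pr W ∧ InvBy g W := by
  have hr := (Fact.out : r.Prime)
  constructor
  · intro hall g hg hgr hg1
    have h1 : ∀ k, LinearMap.toMatrix' g ^ k = LinearMap.toMatrix' (g ^ k) := fun k =>
      (map_pow (LinearMap.toMatrixAlgEquiv' (R := F) (n := ι)) g k).symm
    have h2 : LinearMap.toMatrix' g ^ r = 1 := by rw [h1, hgr, LinearMap.toMatrix'_one]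
    let x : GL ι F := ⟨LinearMap.toMatrix' g, LinearMap.toMatrix' g ^ (r - 1),
      by rw [← pow_succ', Nat.sub_add_cancel hr.pos, h2], by rw [← pow_succ, Nat.sub_add_cancel hr.pos, h2]⟩
    have hxv : ∀ v, (x : Matrix ι ι F) *ᵥ v = g v := fun v => LinearMap.toMatrix'_mulVec g v
    have hxr : x ^ r = 1 := Units.ext (by simpa [x] using h2)
    obtain ⟨W, hW, hle⟩ := hall x (mem_omega_of_odd hQ hn (fun v => by rw [hxv, hg]) (hr.odd_of_ne_two hr2) hxr)
      (orderOf_eq_prime hxr fun e => hg1 (LinearMap.toMatrix'.injective (by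
        rw [LinearMap.toMatrix'_one]; exact congrArg Units.val e)))
    refine ⟨W, hW, fun v hv => ?_⟩
    rw [← hxv]
    exact hle ⟨v, hv, Matrix.toLin'_apply _ _⟩
  · intro hall x hx hxr
    obtain ⟨W, hW, hinv⟩ := hall (Matrix.toLin' (x : Matrix ι ι F))
      (fun v => by rw [Matrix.toLin'_apply]; exact quad_of_mem_omega hx v)
      (by
        show Matrix.toLinAlgEquiv' (x : Matrix ι ι F) ^ r = 1
        rw [← map_pow, ← Units.val_pow_eq_pow_val, ← hxr, pow_orderOf_eq_one, Units.val_one, map_one])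
      (fun e => hr.ne_one (by
        rw [← hxr, orderOf_eq_one_iff]
        exact Units.ext (Matrix.toLin'.injective (e.trans Matrix.toLin'_one.symm))))
    exact ⟨W, hW, hinv.map_le⟩

/-- The projective form of the fixing statement. -/
theorem psl_iff [Fintype F] (hQ : (QuadraticMap.polarBilin Q).Nondegenerate) (hn : 4 < Fintype.card ι) {r : ℕ}
    [Fact r.Prime] (hr2 : r ≠ 2) (Pr : Submodule F (ι → F) → Prop) :
    (∀ x : GL ι F, x ∈ Cfsg.Geo.omegaGL ⇑Q →
      (∃ z : F, ((x ^ r : GL ι F) : Matrix ι ι F) = z • (1 : Matrix ι ι F)) →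
      (∀ z : F, (x : Matrix ι ι F) ≠ z • (1 : Matrix ι ι F)) →
      ∃ W, Pr W ∧ W.map (Matrix.toLin' (x : Matrix ι ι F)) ≤ W) ↔
    ∀ g : Module.End F (ι → F), (∀ v, Q (g v) = Q v) → g ^ r = 1 → g ≠ 1 → ∃ W, Pr W ∧ InvBy g W := by
  have hr := (Fact.out : r.Prime)
  have hodd := hr.odd_of_ne_two hr2
  obtain ⟨u, hu⟩ : ∃ u, Q u ≠ 0 := by
    by_contra hall
    push Not at hall
    haveI : Nonempty ι := Fintype.card_pos_iff.1 (by omega)
    exact one_ne_zero (congrFun (hQ.1 (fun _ : ι => (1 : F)) fun y => by simp [QuadraticMap.polar, hall])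
      (Classical.arbitrary ι))
  constructor
  · intro hall
    refine (gl_iff hQ hn hr2 Pr).mp fun x hx hxr => hall x hx ⟨1, by rw [← hxr, pow_orderOf_eq_one, one_smul]; rfl⟩ ?_
    intro z hz
    have hxu : (x : Matrix ι ι F) *ᵥ u = z • u := by rw [hz, Matrix.smul_mulVec, Matrix.one_mulVec]
    have hz2 := quad_of_mem_omega hx u
    rw [hxu, QuadType.smul_quad] at hz2
    have hzz : z * z = 1 := mul_right_cancel₀ hu (by rw [hz2, one_mul])
    have hzr : z ^ r = 1 := by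
      have h1 := congrArg Units.val (hxr ▸ pow_orderOf_eq_one x)
      rw [Units.val_pow_eq_pow_val, hz, smul_pow, one_pow, Units.val_one] at h1
      haveI : Nonempty ι := Fintype.card_pos_iff.1 (by omega)
      have h2 := congrFun (congrFun h1 (Classical.arbitrary ι)) (Classical.arbitrary ι)
      simpa using h2
    obtain ⟨k, rfl⟩ := hodd
    rw [pow_succ, pow_mul, pow_two, hzz, one_pow, one_mul] at hzr
    refine hr.ne_one ?_
    rw [← hxr, orderOf_eq_one_iff]
    exact Units.ext (by rw [hz, hzr, one_smul, Units.val_one])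
  · intro hall x hx ⟨z, hz⟩ hns
    set g : Module.End F (ι → F) := Matrix.toLin' (x : Matrix ι ι F) with hgdef
    have hgv : ∀ v, g v = (x : Matrix ι ι F) *ᵥ v := fun v => Matrix.toLin'_apply _ _
    have hgQ : ∀ v, Q (g v) = Q v := fun v => by rw [hgv]; exact quad_of_mem_omega hx v
    have hgr : g ^ r = z • 1 := by
      show Matrix.toLinAlgEquiv' (x : Matrix ι ι F) ^ r = _
      rw [← map_pow, ← Units.val_pow_eq_pow_val, hz, map_smul, map_one]
    have hgk : ∀ k v, Q ((g ^ k) v) = Q v := fun k => by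
      induction k with
      | zero => exact fun _ => rfl
      | succ k ih => intro v; rw [pow_succ', Module.End.mul_apply, hgQ, ih]
    have hzz : z * z = 1 := by
      have h1 := hgk r u
      rw [hgr, LinearMap.smul_apply, Module.End.one_apply, QuadType.smul_quad] at h1
      exact mul_right_cancel₀ hu (by rw [h1, one_mul])
    have hz0 : z ≠ 0 := fun e => by simp [e] at hzz
    obtain ⟨k, rfl⟩ := hodd
    obtain ⟨W, hW, hinv⟩ := hall (z • g) (fun v => by rw [LinearMap.smul_apply, QuadType.smul_quad, hzz, one_mul, hgQ])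
      (by
        rw [smul_pow, hgr, smul_smul, ← pow_succ, show 2 * k + 1 + 1 = 2 * (k + 1) by ring, pow_mul, pow_two, hzz,
          one_pow, one_smul])
      (fun e => hns z (Matrix.toLin'.injective (show g = Matrix.toLin' (z • 1) by
        rw [map_smul, Matrix.toLin'_one, ← Module.End.one_eq_id, ← e, smul_smul, hzz, one_smul])))
    exact ⟨W, hW, ((InvBy.smul_iff hz0).mp hinv).map_le⟩

end LinearGroupForms

end CfsgLib.OrthFix
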