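import Cfsg.Agent.LinearElements.FieldExtOrthOrder
import Cfsg.Agent.LinearElements.OrthFix

/-!
Prime order elements of `Ω^±_{2d}(q)` and the subgroups of orthogonal type over the quadratic extension.
-/

set_option autoImplicit false

namespace CfsgLib.FieldExtOrth

open Module Submodule QuadraticMap Matrix CfsgLib.LinearElements CfsgLib.QuadType

section Odd

variable {K W : Type*} [Field K] [AddCommGroup W] [Module K W] [FiniteDimensional K W]

/-- An isometry of odd order of an odd dimensional space has a fixed vector. -/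
theorem exists_fixed_of_odd {β : LinearMap.BilinForm K W} (hβ : ∀ u, (∀ v, β u v = 0) → u = 0)
    {G : Module.End K W} (hG : ∀ u v, β (G u) (G v) = β u v) (h2 : (2 : K) ≠ 0) (hodd : Odd (finrank K W))
    {r : ℕ} (hr : Odd r) (hGr : G ^ r = 1) : ∃ v, v ≠ 0 ∧ G v = v := by
  classical
  let b := Module.finBasis K W
  set B := LinearMap.BilinForm.toMatrix b β with hB
  set A := LinearMap.toMatrix b b G with hA
  have hAB : Aᵀ * B * A = B := by
    have e : β.comp G G = β := LinearMap.BilinForm.ext fun u v => hG u v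
    conv_rhs => rw [hB, ← e]
    rw [LinearMap.BilinForm.toMatrix_comp (b := b) (c := b)]
  have hBd : B.det ≠ 0 := by
    refine (LinearMap.BilinForm.nondegenerate_iff_det_ne_zero b).mp ?_
    exact LinearMap.BilinForm.nondegenerate_iff_ker_eq_bot.mpr
      (LinearMap.ker_eq_bot'.mpr fun u hu => hβ u fun v => by rw [hu, LinearMap.zero_apply])
  have hdet : A.det = 1 := by
    have h1 := congrArg Matrix.det hAB
    rw [det_mul, det_mul, det_transpose] at h1
    have hsq : A.det * A.det = 1 := mul_right_cancel₀ hBd (by linear_combination h1)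
    have hpow : A.det ^ r = 1 := by
      rw [hA, LinearMap.det_toMatrix, ← map_pow, hGr, map_one]
    obtain ⟨k, rfl⟩ := hr
    rwa [pow_succ, pow_mul, pow_two, hsq, one_pow, one_mul] at hpow
  have hz : (A - 1).det = 0 := by
    have h1 : (A - 1)ᵀ * B * A = B * (-(A - 1)) := by
      rw [transpose_sub, transpose_one, Matrix.sub_mul, Matrix.sub_mul, one_mul, hAB, neg_sub, Matrix.mul_sub,
        mul_one]
    have h3 := congrArg Matrix.det h1
    rw [det_mul, det_mul, det_transpose, hdet, mul_one, det_mul, det_neg, Fintype.card_fin, hodd.neg_one_pow] at h3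
    have h4 : (2 : K) * ((A - 1).det * B.det) = 0 := by linear_combination h3
    exact (mul_eq_zero.mp ((mul_eq_zero.mp h4).resolve_left h2)).resolve_right hBd
  have e : LinearMap.det (G - 1) = 0 := by
    rw [← LinearMap.det_toMatrix b, map_sub, LinearMap.toMatrix_one, ← hA, hz]
  obtain ⟨v, hv, hv0⟩ := Submodule.exists_mem_ne_zero_of_ne_bot (fun hk => by
    exact (LinearMap.bot_lt_ker_of_det_eq_zero e).ne' hk)
  exact ⟨v, hv0, sub_eq_zero.mp hv⟩

end Odd

variable {F : Type*} [Field F] [Fintype F] {ι : Type} [Fintype ι] [DecidableEq ι] (Q : QuadraticForm F (ι → F))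
  {K : Type*} [Field K] [Algebra F K] [Finite K] [Module K (ι → F)] [IsScalarTower F K (ι → F)]
  (h : (ι → F) →ₗ[K] (ι → F) →ₗ[K] K)
  (htr : ∀ u v, QuadraticMap.polar (⇑Q) u v = Algebra.trace F K (h u v)) (hsymm : ∀ u v, h u v = h v u)
  (hK : finrank F K = 2) (h2 : (2 : F) ≠ 0) (hQ : (QuadraticMap.polarBilin Q).Nondegenerate)
  (N : Subgroup (GL ι F))
  (hN : ∀ y : GL ι F, y ∈ N ↔ ∀ a : K, ∃ b : K, ∀ v : ι → F,
    (y : Matrix ι ι F) *ᵥ (a • v) = b • ((y : Matrix ι ι F) *ᵥ v))
  {d : ℕ} (hd : finrank K (ι → F) = d)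

omit [Fintype F] [Finite K] [DecidableEq ι] [Fintype ι] in
include hK in
/-- A linear map over `K` has even rank over `F`. -/
theorem even_rank [FiniteDimensional K (ι → F)] {g : Module.End F (ι → F)}
    (hlin : ∀ (a : K) v, g (a • v) = a • g v) : 2 ∣ finrank F (LinearMap.range g) := by
  let f : (ι → F) →ₗ[K] (ι → F) := { toFun := g, map_add' := map_add g, map_smul' := hlin }
  have e : finrank F (LinearMap.range g) = finrank F (LinearMap.range f) := LinearEquiv.finrank_eq
    { toFun := fun w => ⟨w.1, w.2⟩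
      invFun := fun w => ⟨w.1, w.2⟩
      map_add' := fun _ _ => rfl
      map_smul' := fun _ _ => rfl }
  rw [e, ← Module.finrank_mul_finrank F K, hK]
  exact dvd_mul_right _ _

omit [Fintype F] [Fintype ι] [DecidableEq ι] [Finite K] [IsScalarTower F K (ι → F)] in
include htr in
/-- An isometry linear over `K` preserves the form over `K`. -/
theorem h_preserved [FiniteDimensional F K] [Algebra.IsSeparable F K] {g : Module.End F (ι → F)}
    (hg : ∀ v, Q (g v) = Q v) (hlin : ∀ (a : K) v, g (a • v) = a • g v) (u v : ι → F) : h (g u) (g v) = h u v := by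
  by_contra hne
  obtain ⟨s, hs⟩ := Algebra.trace_surjective F K 1
  set a := s / (h (g u) (g v) - h u v) with ha
  have e := polar_isometry hg (a • u) v
  rw [hlin, QuadraticMap.polarBilin_apply_apply, QuadraticMap.polarBilin_apply_apply, htr, htr] at e
  simp only [map_smul, LinearMap.smul_apply, smul_eq_mul] at e
  rw [← sub_eq_zero, ← map_sub, ← mul_sub, ha, div_mul_cancel₀ _ (sub_ne_zero.mpr hne), hs] at e
  exact one_ne_zero e

include htr hsymm hK h2 hQ hN hd in
/-- The criterion. -/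
theorem fixes_iff_orth {p : ℕ} [Fact p.Prime] [CharP F p] (hd4 : 4 ≤ d) (hι : Fintype.card ι = 2 * d) {r : ℕ}
    [Fact r.Prime] (hΩ : r ∣ N.relIndex (Cfsg.Geo.omegaGL ⇑Q)) :
    (∀ x ∈ Cfsg.Geo.omegaGL ⇑Q, (∃ z : F, ((x ^ r : GL ι F) : Matrix ι ι F) = z • (1 : Matrix ι ι F)) →
      (∀ z : F, (x : Matrix ι ι F) ≠ z • (1 : Matrix ι ι F)) →
      ∃ g ∈ Cfsg.Geo.omegaGL ⇑Q, g⁻¹ * x * g ∈ N) ↔ r = 2 := by
  classical
  constructor
  swap
  · rintro rfl x hx ⟨z, hz⟩ hns
    exact exists_conj_two Q h htr hsymm hK h2 hQ N hN hd (by omega) hι hx hz hns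
  intro hall
  by_contra hr2
  have hrP := (Fact.out : r.Prime)
  have hodd := hrP.odd_of_ne_two hr2
  have : Nonempty ι := Fintype.card_pos_iff.1 (by omega)
  have : FiniteDimensional F K := Module.Finite.of_finite
  have : FiniteDimensional K (ι → F) := FiniteDimensional.of_finrank_pos (by omega)
  have lin : ∀ {x g : GL ι F}, x ^ r = 1 → g⁻¹ * x * g ∈ N →
      ∀ (a : K) v, Matrix.toLin' ((g⁻¹ * x * g : GL ι F) : Matrix ι ι F) (a • v) =
        a • Matrix.toLin' ((g⁻¹ * x * g : GL ι F) : Matrix ι ι F) v := fun {x g} hxr hgN => by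
    have hyr : (g⁻¹ * x * g) ^ r = 1 := by
      rw [show g⁻¹ * x * g = g⁻¹ * x * g⁻¹⁻¹ by rw [inv_inv], conj_pow, hxr, mul_one, mul_inv_cancel]
    have hgr : (Matrix.toLin' ((g⁻¹ * x * g : GL ι F) : Matrix ι ι F) : Module.End F (ι → F)) ^ r = 1 := by
      show Matrix.toLinAlgEquiv' ((g⁻¹ * x * g : GL ι F) : Matrix ι ι F) ^ r = 1
      rw [← map_pow, ← Units.val_pow_eq_pow_val, hyr, Units.val_one, map_one]
    rcases FieldExtElements.linear_or_moving (k := 2) Nat.prime_two hK hgr (fun a => by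
      obtain ⟨b, hb⟩ := (hN _).mp hgN a
      exact ⟨b, fun v => by rw [Matrix.toLin'_apply, Matrix.toLin'_apply, hb]⟩) with hl | ⟨h', -⟩
    · exact hl
    · exact absurd h'.symm hr2
  have hp2 : p ≠ 2 := fun e => h2 (by subst e; exact_mod_cast CharP.cast_eq_zero F 2)
  by_cases hrp : r = p
  · subst hrp
    obtain ⟨x, hx, hxo, hxns, -, hrank⟩ := OrthPartition.exists_element (p := r) hodd hQ (by omega)
      (μ := 3 ::ₘ Multiset.replicate (2 * d - 3) 1)
      (fun j hj => by
        rw [Multiset.mem_cons] at hj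
        rcases hj with rfl | hj
        · exact ⟨by omega, Nat.succ_le_of_lt (lt_of_le_of_ne hrP.two_le (Ne.symm hr2))⟩
        · rw [Multiset.eq_of_mem_replicate hj]; exact ⟨one_pos, hrP.one_le⟩)
      (fun e he => by
        have h3 : e ≠ 3 := fun h => by subst h; exact absurd he (by decide)
        have h1 : e ≠ 1 := fun h => by subst h; exact absurd he (by decide)
        rw [Multiset.count_cons_of_ne h3, Multiset.count_replicate, if_neg h1.symm]
        exact Even.zero)
      ⟨3, Multiset.mem_cons_self _ _, by decide⟩ ⟨3, Multiset.mem_cons_self _ _, by omega⟩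
      (by rw [Multiset.sum_cons, Multiset.sum_replicate, smul_eq_mul, mul_one, hι]; omega)
    have hxr : x ^ r = 1 := hxo ▸ pow_orderOf_eq_one x
    obtain ⟨g, -, hgN⟩ := hall x hx ⟨1, by rw [hxr, Units.val_one, one_smul]⟩ hxns
    set y := g⁻¹ * x * g with hy
    have e2 : ((y : Matrix ι ι F) - 1) ^ 2 =
        ((g⁻¹ : GL ι F) : Matrix ι ι F) * ((x : Matrix ι ι F) - 1) ^ 2 * (g : Matrix ι ι F) := by
      have e1 : (y : Matrix ι ι F) - 1 =
          ((g⁻¹ : GL ι F) : Matrix ι ι F) * ((x : Matrix ι ι F) - 1) * (g : Matrix ι ι F) := by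
        rw [hy, Units.val_mul, Units.val_mul, Matrix.mul_sub, Matrix.sub_mul, mul_one, Units.inv_mul]
      rw [e1, pow_two, pow_two]
      simp only [Matrix.mul_assoc]
      rw [← Matrix.mul_assoc (g : Matrix ι ι F) _ _, Units.mul_inv, Matrix.one_mul]
    have hrk : (((y : Matrix ι ι F) - 1) ^ 2).rank = 1 := by
      rw [e2, Matrix.rank_mul_eq_left_of_isUnit_det _ _ ((Matrix.isUnit_iff_isUnit_det _).mp g.isUnit),
        Matrix.rank_mul_eq_right_of_isUnit_det _ _ ((Matrix.isUnit_iff_isUnit_det _).mp (g⁻¹).isUnit), hrank,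
        Multiset.map_cons, Multiset.sum_cons, Multiset.map_replicate, Multiset.sum_replicate]
      simp
    have hl : ∀ (a : K) v, Matrix.toLin' (y : Matrix ι ι F) (a • v) = a • Matrix.toLin' (y : Matrix ι ι F) v :=
      lin hxr hgN
    have hev := even_rank hK (g := Matrix.toLin' (((y : Matrix ι ι F) - 1) ^ 2)) fun a v => by
      simp only [pow_two, Matrix.toLin'_mul, map_sub, Matrix.toLin'_one, LinearMap.comp_apply, LinearMap.sub_apply,
        LinearMap.id_apply, hl, ← smul_sub]
    rw [Matrix.toLin'_apply', ← Matrix.rank, hrk] at hev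
    exact absurd (Nat.le_of_dvd one_pos hev) (by omega)
  have hrF : (r : F) ≠ 0 := fun e => hrp ((Nat.prime_dvd_prime_iff_eq Fact.out hrP).mp
    ((CharP.cast_eq_zero_iff F p r).mp e)).symm
  have hq : (Fintype.card F : ZMod r) ≠ 0 := LinearElements.cast_card_ne_zero (F := F) hrp
  set e := orderOf ((Fintype.card F : ZMod r) ^ 2) with he
  rcases Nat.even_or_odd e with heven | heodd
  · exact not_dvd_index Q h htr hsymm hK h2 hQ N hN hd (by omega) hι hq (even_iff_two_dvd.mp heven) hΩ
  have hcard : r ∣ Nat.card (Cfsg.Geo.omegaGL ⇑Q) := by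
    refine hΩ.trans ?_
    rw [← (N.subgroupOf (Cfsg.Geo.omegaGL ⇑Q)).card_mul_index]
    exact dvd_mul_left _ _
  obtain ⟨x₀, hx₀⟩ := exists_prime_orderOf_dvd_card' r hcard
  have hx₀r : (x₀ : GL ι F) ^ r = 1 := by
    rw [← SubmonoidClass.coe_pow, ← hx₀, pow_orderOf_eq_one, OneMemClass.coe_one]
  set g₀ : Module.End F (ι → F) := Matrix.toLin' ((x₀ : GL ι F) : Matrix ι ι F) with hg₀def
  have hg₀ : ∀ v, Q (g₀ v) = Q v := fun v => by
    rw [hg₀def, Matrix.toLin'_apply]; exact OrthFix.quad_of_mem_omega x₀.2 v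
  have hg₀r : g₀ ^ r = 1 := by
    show Matrix.toLinAlgEquiv' ((x₀ : GL ι F) : Matrix ι ι F) ^ r = 1
    rw [← map_pow, ← Units.val_pow_eq_pow_val, hx₀r, Units.val_one, map_one]
  have hg₀1 : g₀ ≠ 1 := fun e1 => hrP.ne_one (by
    rw [← hx₀, orderOf_eq_one_iff]
    exact Subtype.ext (Units.ext (Matrix.toLin'.injective (e1.trans Matrix.toLin'_one.symm))))
  have hsep : Sep Q (⊤ : Submodule F (ι → F)) := fun w _ hw => by
    by_contra hh
    push Not at hh
    exact hw (hQ.1 w fun y => hh y Submodule.mem_top)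
  obtain ⟨-, M, -, hM, hMs, hM0, -, hsup, -⟩ := OrthAtoms.exists_split_moved hg₀ hg₀r hrP.pos hrF
    (invBy_top (g := g₀)) hsep
  have hne : M ≠ ⊥ := fun e1 => by
    rw [e1, sup_bot_eq] at hsup
    exact hg₀1 (LinearMap.ext fun v => (mem_fixedIn.mp (hsup.ge (Submodule.mem_top (x := v)))).2)
  obtain ⟨X, -, hX, hXs, hX0, hXd, hXt⟩ :=
    OrthAtoms.exists_orth_atom hg₀ hg₀r hr2 hrF hq rfl hM hMs hM0 hne
  obtain ⟨g, hg, hgr, -, hgX0, hgZ⟩ := OrthFix.exists_block hsep hr2 hrF hq rfl hg₀ hg₀r hg₀1 hXs hXd hXt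
  have hfin : finrank F (LinearMap.range (g - 1)) = 2 * e := by
    obtain ⟨Z, -, -, horth, hsupX, hdim, -⟩ := exists_perp hsep hXs le_top
    have hker : LinearMap.ker (g - 1) = Z := by
      refine le_antisymm (fun v hv => ?_) fun z hz => by
        rw [LinearMap.mem_ker, LinearMap.sub_apply, hgZ z fun x hx => horth x hx z hz, Module.End.one_apply, sub_self]
      rw [LinearMap.mem_ker, LinearMap.sub_apply, Module.End.one_apply, sub_eq_zero] at hv
      obtain ⟨x, hx, z, hz, rfl⟩ := Submodule.mem_sup.mp (hsupX.ge (Submodule.mem_top (x := v)))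
      rw [map_add, hgZ z fun x hx => horth x hx z hz, add_left_inj] at hv
      rwa [(Submodule.eq_bot_iff _).mp hgX0 x (mem_fixedIn.mpr ⟨hx, hv⟩), zero_add]
    have h1 := LinearMap.finrank_range_add_finrank_ker (g - 1)
    rw [hker] at h1
    rw [finrank_top] at hdim
    rw [he, FieldExtElements.two_mul_orderOf_sq hq]
    omega
  have he0 : 0 < e := orderOf_pos_iff.mpr (isOfFinOrder_iff_pow_eq_one.mpr
    ⟨r - 1, by have := hrP.two_le; omega, ZMod.pow_card_sub_one_eq_one (pow_ne_zero 2 hq)⟩)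
  have hgl : IsUnit g := IsUnit.of_pow_eq_one hgr hrP.ne_zero
  obtain ⟨x, hxg⟩ := (Matrix.GeneralLinearGroup.toLin (n := ι) (R := F)).surjective hgl.unit
  have hxv : Matrix.toLin' (x : Matrix ι ι F) = g := by
    rw [← hgl.unit_spec, ← hxg]; rfl
  have hxr : x ^ r = 1 := Units.ext (Matrix.toLinAlgEquiv'.injective (by
    rw [Units.val_pow_eq_pow_val, map_pow, show Matrix.toLinAlgEquiv' (x : Matrix ι ι F) = g from hxv, hgr,
      Units.val_one, map_one]))
  have hxΩ : x ∈ Cfsg.Geo.omegaGL ⇑Q :=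
    OrthPartition.omegaGL_of_pow h2 hQ (by omega) (fun v => by rw [← Matrix.toLin'_apply, hxv, hg]) hodd hxr
  obtain ⟨g', hg', hgN⟩ := hall x hxΩ ⟨1, by rw [hxr, Units.val_one, one_smul]⟩ fun z hz => by
    have hgz : ∀ v, g v = z • v := fun v => by
      rw [← hxv, hz, Matrix.toLin'_apply, Matrix.smul_mulVec, Matrix.one_mulVec]
    obtain ⟨v, hv⟩ := Forms.exists_value h2 hQ (by omega) (1 : F)
    have hzz : z * z = 1 := by
      have := hg v
      rw [hgz, QuadraticMap.map_smul, hv, smul_eq_mul, mul_one] at this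
      exact this
    have hv0 : v ≠ 0 := fun e1 => by rw [e1, QuadraticMap.map_zero] at hv; exact zero_ne_one hv
    have hzk : ∀ k : ℕ, (g ^ k) v = z ^ k • v := fun k => by
      induction k with
      | zero => simp
      | succ k ih => rw [pow_succ', Module.End.mul_apply, ih, map_smul, hgz, smul_smul, ← pow_succ]
    have hzr : z ^ r = 1 := by
      have := hzk r
      rw [hgr, Module.End.one_apply] at this
      exact smul_left_injective F hv0 (this.symm.trans (one_smul F v).symm)
    obtain ⟨k, hk⟩ := hodd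
    rw [hk, pow_succ, pow_mul, pow_two, hzz, one_pow, one_mul] at hzr
    rw [show g - 1 = 0 from LinearMap.ext fun v => by
      rw [LinearMap.sub_apply, hgz, hzr, one_smul, Module.End.one_apply, sub_self, LinearMap.zero_apply],
      LinearMap.range_zero, finrank_bot] at hfin
    omega
  set y := g'⁻¹ * x * g' with hy
  set gy : Module.End F (ι → F) := Matrix.toLin' (y : Matrix ι ι F) with hgy
  have hyΩ : y ∈ Cfsg.Geo.omegaGL ⇑Q := mul_mem (mul_mem (inv_mem hg') hxΩ) hg'
  have hyQ : ∀ v, Q (gy v) = Q v := fun v => by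
    rw [hgy, Matrix.toLin'_apply]; exact OrthFix.quad_of_mem_omega hyΩ v
  have hl : ∀ (a : K) v, gy (a • v) = a • gy v := lin hxr hgN
  have hyr : gy ^ r = 1 := by
    have : y ^ r = 1 := by
      rw [hy, show g'⁻¹ * x * g' = g'⁻¹ * x * g'⁻¹⁻¹ by rw [inv_inv], conj_pow, hxr, mul_one, mul_inv_cancel]
    show Matrix.toLinAlgEquiv' (y : Matrix ι ι F) ^ r = 1
    rw [← map_pow, ← Units.val_pow_eq_pow_val, this, Units.val_one, map_one]
  obtain ⟨W, hWmem, hWd⟩ := FieldExtElements.exists_rangeK (g := gy) hl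
  have hrange : finrank F (LinearMap.range (gy - 1)) = 2 * e := by
    have e1 : gy - 1 = Matrix.toLin' ((y : Matrix ι ι F) - 1) := by
      rw [map_sub, Matrix.toLin'_one]; rfl
    have e2 : (y : Matrix ι ι F) - 1 =
        ((g'⁻¹ : GL ι F) : Matrix ι ι F) * ((x : Matrix ι ι F) - 1) * (g' : Matrix ι ι F) := by
      rw [hy, Units.val_mul, Units.val_mul, Matrix.mul_sub, Matrix.sub_mul, mul_one, Units.inv_mul]
    rw [e1, Matrix.toLin'_apply', ← Matrix.rank, e2,
      Matrix.rank_mul_eq_left_of_isUnit_det _ _ ((Matrix.isUnit_iff_isUnit_det _).mp g'.isUnit),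
      Matrix.rank_mul_eq_right_of_isUnit_det _ _ ((Matrix.isUnit_iff_isUnit_det _).mp (g'⁻¹).isUnit),
      Matrix.rank, ← Matrix.toLin'_apply', map_sub, hxv, Matrix.toLin'_one]
    exact hfin
  rw [hK, hrange] at hWd
  have hWinv : ∀ w ∈ W, gy w ∈ W := fun w hw => by
    obtain ⟨u, hu⟩ := (hWmem w).mp hw
    exact (hWmem _).mpr ⟨gy u, by rw [← hu]; simp⟩
  let G : Module.End K W :=
    { toFun := fun w => ⟨gy w, hWinv w w.2⟩
      map_add' := fun u v => Subtype.ext (map_add gy (u : ι → F) v)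
      map_smul' := fun a v => Subtype.ext (hl a v) }
  have hG : ∀ (k : ℕ) (w : W), ((G ^ k) w : ι → F) = (gy ^ k) w := fun k => by
    induction k with
    | zero => exact fun _ => rfl
    | succ k ih =>
      intro w
      rw [pow_succ', pow_succ', Module.End.mul_apply, Module.End.mul_apply, ← ih]
      rfl
  let β : LinearMap.BilinForm K W := h.compl₁₂ W.subtype W.subtype
  obtain ⟨w, hw0, hw⟩ := exists_fixed_of_odd (β := β) (G := G) (fun u hu => by
      by_contra hu0
      obtain ⟨v, hv, huv⟩ := FieldExtElements.sepOn_range hrF hyr (B := QuadraticMap.polarBilin Q) hQ.1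
        (fun a b => polar_isometry hyQ a b) (u : ι → F) ((hWmem _).mp u.2) (fun e1 => hu0 (Subtype.ext e1))
      exact huv (by
        rw [QuadraticMap.polarBilin_apply_apply, htr,
          show h (u : ι → F) v = 0 from hu ⟨v, (hWmem v).mpr hv⟩, map_zero]))
    (fun u v => h_preserved Q h htr hyQ hl u v)
    (by rw [← map_ofNat (algebraMap F K) 2]; simpa using h2) (by rw [show finrank K W = e by omega]; exact heodd)
    hodd (LinearMap.ext fun v => Subtype.ext (by rw [hG, hyr]; rfl))
  exact hw0 (Subtype.ext (FieldExtElements.range_inf_ker hrF hyr ((hWmem _).mp w.2) (congrArg Subtype.val hw)))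

end CfsgLib.FieldExtOrth
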