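import Cfsg.Agent.LinearElements.FieldExtOrthFrames
import Cfsg.Agent.LinearElements.FieldExtCommon
import Cfsg.Agent.Forms.OrthIndex
import Cfsg.Agent.Forms.OrthDet
import Cfsg.Agent.FieldEmb.Basic

/-!
Conjugation into `Ω` and a symmetric form over a quadratic extension: lines, orthogonal bases.
-/

set_option autoImplicit false

namespace CfsgLib.FieldExtOrth

open Module Submodule QuadraticMap Matrix CfsgLib.Spinor

section Omega

variable {F : Type*} [Field F] [Fintype F] {ι : Type} [Fintype ι] [DecidableEq ι] {Q : QuadraticForm F (ι → F)}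

local notation "𝔅" => QuadraticMap.polarBilin Q

/-- Correct a conjugating isometry into `Ω` by commuting isometries realising every parity and spinor norm. -/
theorem exists_omega_conj [DecidableEq F] (h2 : (2 : F) ≠ 0) (hQ : (QuadraticMap.polarBilin Q).Nondegenerate)
    (hgen : ∀ g : ↥(Cfsg.isometryGroup F ⇑Q), ∃ vs, IsReflProd Q g vs) {x y : GL ι F}
    (g : ↥(Cfsg.isometryGroup F ⇑Q)) (hg : (g : GL ι F)⁻¹ * x * g = y)
    (hc : ∃ h : ↥(Cfsg.isometryGroup F ⇑Q), (h : GL ι F) * x = x * h ∧
      ((Forms.parityHom hQ hgen).prod (Forms.spinHom hQ hgen)) h =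
      ((Forms.parityHom hQ hgen).prod (Forms.spinHom hQ hgen)) g) :
    ∃ g' ∈ Cfsg.Geo.omegaGL ⇑Q, g'⁻¹ * x * g' = y := by
  obtain ⟨h, hhx, hφ⟩ := hc
  refine ⟨_, ⟨h⁻¹ * g, ?_, rfl⟩, ?_⟩
  · show h⁻¹ * g ∈ Cfsg.Omega F ⇑Q
    rw [Forms.omega_eq_ker hQ hgen h2, MonoidHom.mem_ker, map_mul, map_inv, hφ, inv_mul_cancel]
  · show ((h⁻¹ * g : ↥(Cfsg.isometryGroup F ⇑Q)) : GL ι F)⁻¹ * x * ((h⁻¹ * g : ↥(Cfsg.isometryGroup F ⇑Q)) : GL ι F) = y
    rw [Subgroup.coe_mul, Subgroup.coe_inv, ← hg]
    have e : (h : GL ι F) * x * (h : GL ι F)⁻¹ = x := by rw [hhx, mul_inv_cancel_right]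
    calc ((h : GL ι F)⁻¹ * g)⁻¹ * x * ((h : GL ι F)⁻¹ * g)
        = (g : GL ι F)⁻¹ * ((h : GL ι F) * x * (h : GL ι F)⁻¹) * g := by group
      _ = _ := by rw [e]

omit [Fintype F] in
/-- The isometry of a linear isometry. -/
theorem exists_iso_of_equiv (L : (ι → F) ≃ₗ[F] (ι → F)) (hL : ∀ v, Q (L v) = Q v) :
    ∃ g : ↥(Cfsg.isometryGroup F ⇑Q), ∀ v, mat Q g *ᵥ v = L v := by
  obtain ⟨g, hg⟩ := (CfsgLib.ExtField.glAut : GL ι F ≃* _).surjective L
  have hgv : ∀ v, (g : Matrix ι ι F) *ᵥ v = L v := fun v => by rw [← CfsgLib.ExtField.glAut_apply, hg]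
  exact ⟨⟨g, fun u _ => by show Q _ = Q u; rw [← hL u, ← hgv]; rfl⟩, hgv⟩

omit [Fintype F] in
/-- Conjugating an isometry with square `-1` by a reflection. -/
theorem refl_conj_quarter (h2 : (2 : F) ≠ 0) {g : (ι → F) →ₗ[F] (ι → F)} (hg : ∀ v, Q (g v) = Q v)
    (hgg : ∀ v, g (g v) = -v) {u : ι → F} (hu : Q u ≠ 0) (v : ι → F) :
    refl Q u (g (refl Q u v)) = g v - (Q u)⁻¹ • (𝔅 v u • g u - 𝔅 v (g u) • u) := by
  have h1 : QuadraticMap.polar (⇑Q) u (g u) = 0 := by
    have h := polar_isometry hg u (g u)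
    rw [hgg, map_neg, polar_comm'] at h
    have h' : (2 : F) * 𝔅 u (g u) = 0 := by linear_combination -h
    exact (mul_eq_zero.mp h').resolve_left h2
  have h3 : QuadraticMap.polar (⇑Q) u (g v) = -𝔅 v (g u) := by
    have h := polar_isometry hg v (g u)
    rw [hgg, map_neg] at h
    rw [← h, neg_neg, QuadraticMap.polar_comm]
    rfl
  rw [refl_apply Q u v, map_sub, map_smul, refl_apply, QuadraticMap.polar_sub_right,
    QuadraticMap.polar_smul_right, h1, smul_zero, sub_zero, h3, QuadraticMap.polar_comm (⇑Q) u v,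
    ← QuadraticMap.polarBilin_apply_apply]
  match_scalars <;> field_simp

omit [Fintype F] in
/-- A reflection in an eigenvector commutes with an involution. -/
theorem refl_commute_involution {g : (ι → F) →ₗ[F] (ι → F)} (hg : ∀ v, Q (g v) = Q v) {u : ι → F} {e : F}
    (he : e = 1 ∨ e = -1) (hge : g u = e • u) (v : ι → F) : refl Q u (g v) = g (refl Q u v) := by
  have h := polar_isometry hg u v
  rw [hge, map_smul, LinearMap.smul_apply, smul_eq_mul, QuadraticMap.polarBilin_apply_apply,
    QuadraticMap.polarBilin_apply_apply] at h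
  rw [refl_apply, refl_apply, map_sub, map_smul, hge, smul_smul]
  congr 2
  rcases he with rfl | rfl
  · linear_combination ((Q u)⁻¹) * h
  · linear_combination (-(Q u)⁻¹) * h

omit [Fintype F] in
theorem reflIso_commute {x : GL ι F} {u : ι → F} (hu : Q u ≠ 0)
    (h : ∀ v, refl Q u ((x : Matrix ι ι F) *ᵥ v) = (x : Matrix ι ι F) *ᵥ refl Q u v) :
    ((reflIso Q u hu : GL ι F)) * x = x * (reflIso Q u hu : GL ι F) :=
  Units.ext (Matrix.ext_iff_mulVec.mpr fun v => by
    rw [Units.val_mul, Units.val_mul, reflIso_coe, ← Matrix.mulVec_mulVec, ← Matrix.mulVec_mulVec,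
      Spinor.reflectionMatrix_mulVec, Spinor.reflectionMatrix_mulVec, h])

end Omega

section Norm

variable {F K : Type*} [Field F] [Fintype F] [Field K] [Algebra F K] [Finite K] (hK : finrank F K = 2)
  (h2 : (2 : F) ≠ 0)

/-- The conjugation. -/
noncomputable def conj : K ≃ₐ[F] K := FiniteField.frobeniusAlgEquivOfAlgebraic F K

theorem conj_apply (c : K) : conj (F := F) c = c ^ Fintype.card F := rfl

include hK in
theorem conj_conj (c : K) : conj (F := F) (conj (F := F) c) = c := by
  letI := Fintype.ofFinite K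
  have : FiniteDimensional F K := Module.Finite.of_finite
  rw [conj_apply, conj_apply, ← pow_mul, ← pow_two, ← hK, ← Module.card_eq_pow_finrank, FiniteField.pow_card]

include hK in
theorem univ_eq [DecidableEq (K ≃ₐ[F] K)] : (Finset.univ : Finset (K ≃ₐ[F] K)) = {1, conj} := by
  classical
  have : FiniteDimensional F K := Module.Finite.of_finite
  have hne : (conj : K ≃ₐ[F] K) ≠ 1 := fun e => by
    have h := FiniteField.orderOf_frobeniusAlgEquivOfAlgebraic F K
    unfold conj at e
    rw [e, orderOf_one, hK] at h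
    omega
  refine (Finset.eq_of_subset_of_card_le (Finset.subset_univ _) ?_).symm
  rw [Finset.card_univ, ← Nat.card_eq_fintype_card, IsGalois.card_aut_eq_finrank, hK,
    Finset.card_insert_of_notMem (by simpa using hne.symm), Finset.card_singleton]

include hK in
theorem algebraMap_trace (c : K) : algebraMap F K (Algebra.trace F K c) = c + conj (F := F) c := by
  classical
  have : FiniteDimensional F K := Module.Finite.of_finite
  rw [trace_eq_sum_automorphisms, univ_eq hK]
  rw [Finset.sum_insert (by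
    intro h
    have h' := congrArg Finset.card (univ_eq (F := F) (K := K) hK)
    rw [Finset.mem_singleton] at h
    rw [← h, Finset.insert_eq_of_mem (Finset.mem_singleton_self _), Finset.card_singleton, Finset.card_univ,
      ← Nat.card_eq_fintype_card, IsGalois.card_aut_eq_finrank, hK] at h'
    omega), Finset.sum_singleton]
  rfl

include hK in
theorem algebraMap_norm (c : K) : algebraMap F K (Algebra.norm F c) = c * conj (F := F) c := by
  classical
  have : FiniteDimensional F K := Module.Finite.of_finite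
  rw [Algebra.norm_eq_prod_automorphisms, univ_eq hK]
  rw [Finset.prod_insert (by
    intro h
    have h' := congrArg Finset.card (univ_eq (F := F) (K := K) hK)
    rw [Finset.mem_singleton] at h
    rw [← h, Finset.insert_eq_of_mem (Finset.mem_singleton_self _), Finset.card_singleton, Finset.card_univ,
      ← Nat.card_eq_fintype_card, IsGalois.card_aut_eq_finrank, hK] at h'
    omega), Finset.prod_singleton]
  rfl

include hK h2 in
/-- A nonzero element of trace zero. -/
theorem exists_delta : ∃ (δ : K) (ν : F), δ ≠ 0 ∧ conj (F := F) δ = -δ ∧ δ * δ = algebraMap F K ν ∧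
    ν ≠ 0 ∧ ¬ IsSquare ν := by
  classical
  obtain ⟨c, hc⟩ : ∃ c : K, conj (F := F) c ≠ c := by
    by_contra h
    push Not at h
    have h' := congrArg Finset.card (univ_eq (F := F) (K := K) hK)
    rw [show (conj : K ≃ₐ[F] K) = 1 from AlgEquiv.ext h, Finset.insert_eq_of_mem (Finset.mem_singleton_self _),
      Finset.card_singleton, Finset.card_univ, ← Nat.card_eq_fintype_card] at h'
    have : FiniteDimensional F K := Module.Finite.of_finite
    rw [IsGalois.card_aut_eq_finrank, hK] at h'
    omega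
  set δ := c - conj (F := F) c
  have hδ : conj (F := F) δ = -δ := by rw [map_sub, conj_conj hK, neg_sub]
  have hδ0 : δ ≠ 0 := sub_ne_zero.mpr (Ne.symm hc)
  refine ⟨δ, -Algebra.norm F δ, hδ0, hδ, ?_, ?_, ?_⟩
  · rw [map_neg, algebraMap_norm hK, hδ, mul_neg, neg_neg]
  · intro e
    have := algebraMap_norm (F := F) hK δ
    rw [neg_eq_zero.mp e, map_zero, hδ, mul_neg, eq_comm, neg_eq_zero] at this
    exact mul_ne_zero hδ0 hδ0 this
  · rintro ⟨s, hs⟩
    have h1 : δ * δ = algebraMap F K s * algebraMap F K s := by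
      rw [← map_mul, ← hs, map_neg, algebraMap_norm hK, hδ, mul_neg, neg_neg]
    have h2K : (2 : K) ≠ 0 := by rw [← map_ofNat (algebraMap F K) 2]; simpa using h2
    have hfix : conj (F := F) δ = δ := by
      rcases mul_self_eq_mul_self_iff.mp h1 with e | e
      · rw [e, AlgEquiv.commutes]
      · rw [e, map_neg, AlgEquiv.commutes]
    rw [hδ] at hfix
    exact hδ0 ((mul_eq_zero.mp (show (2 : K) * δ = 0 by linear_combination -hfix)).resolve_left h2K)

include hK h2 in
/-- A non-square has non-square norm and square root of the conjugation ratio of norm `-1`. -/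
theorem nonsquare_facts [DecidableEq F] {α : K} (hα : ¬ IsSquare α) :
    quadraticChar F (Algebra.norm F α) = -1 ∧
      ∃ m : K, m * conj (F := F) m = -1 ∧ m * m * α = conj (F := F) α := by
  letI := Fintype.ofFinite K
  have : FiniteDimensional F K := Module.Finite.of_finite
  have hF : ringChar F ≠ 2 := fun h => h2 (by haveI := ringChar.eq_iff.1 h; exact CharTwo.two_eq_zero)
  have hKc : ringChar K ≠ 2 := by rwa [← Algebra.ringChar_eq F K]
  have hα0 : α ≠ 0 := fun h => hα (h ▸ ⟨0, by simp⟩)
  obtain ⟨k, hk⟩ := FiniteField.odd_card_of_char_ne_two hF |> fun h => (Nat.odd_iff.mpr h)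
  have hcard : Fintype.card K / 2 = (Fintype.card F + 1) * (Fintype.card F / 2) := by
    rw [Module.card_eq_pow_finrank (K := F), hK, hk]
    rw [show (2 * k + 1) / 2 = k by omega, show (2 * k + 1) ^ 2 = 2 * ((2 * k + 1 + 1) * k) + 1 by ring]
    omega
  have hhalf : α ^ (Fintype.card K / 2) = -1 :=
    (FiniteField.pow_dichotomy hKc hα0).resolve_left fun h => hα ((FiniteField.isSquare_iff hKc hα0).mpr h)
  refine ⟨quadraticChar_neg_one_iff_not_isSquare.mpr fun hsq => ?_, α ^ (Fintype.card F / 2), ?_, ?_⟩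
  · have hN0 : Algebra.norm F α ≠ 0 := fun e => hα0 (Algebra.norm_eq_zero_iff.mp e)
    have h1 := congrArg (algebraMap F K) ((FiniteField.isSquare_iff hF hN0).mp hsq)
    rw [map_pow, algebraMap_norm hK, conj_apply, map_one, ← pow_succ', ← pow_mul, ← hcard, hhalf] at h1
    have h2K : (2 : K) ≠ 0 := by rw [← map_ofNat (algebraMap F K) 2]; simpa using h2
    exact h2K (by linear_combination -h1)
  · rw [← hhalf, hcard, conj_apply, ← pow_mul, ← pow_add]
    congr 1
    ring
  · rw [conj_apply, ← pow_add, ← pow_succ]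
    congr 1
    omega

end Norm

end CfsgLib.FieldExtOrth
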