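import Cfsg.Agent.FormDiscr.Basic
import Cfsg.Agent.Forms.Diagonal
import Cfsg.Agent.Spinor.StdForms

/-!
Orthogonal frames adapted to isometries with square `1` or `-1`, in odd characteristic.
-/

set_option autoImplicit false

namespace CfsgLib.FieldExtOrth

open Module Submodule QuadraticMap

variable {F V : Type*} [Field F] [AddCommGroup V] [Module F V] {Q : QuadraticForm F V}

local notation "𝔅" => QuadraticMap.polarBilin Q

theorem polar_comm' (u v : V) : 𝔅 u v = 𝔅 v u := QuadraticMap.polar_comm (⇑Q) u v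

theorem polar_self' (u : V) : 𝔅 u u = 2 * Q u := by
  rw [QuadraticMap.polarBilin_apply_apply, QuadraticMap.polar_self, nsmul_eq_mul, Nat.cast_ofNat]

theorem polar_isometry {g : V →ₗ[F] V} (hg : ∀ v, Q (g v) = Q v) (u v : V) : 𝔅 (g u) (g v) = 𝔅 u v := by
  simp only [QuadraticMap.polarBilin_apply_apply, QuadraticMap.polar, ← map_add, hg]

/-- The vectors of `W` orthogonal to an orthogonal anisotropic family in `W`. -/
theorem exists_perp_family [FiniteDimensional F V] (h2 : (2 : F) ≠ 0) {W : Submodule F V}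
    (hW : ∀ w ∈ W, w ≠ 0 → ∃ y ∈ W, 𝔅 w y ≠ 0) {k : ℕ} (v : Fin k → V) (hv : ∀ i, v i ∈ W)
    (horth : ∀ i j, i ≠ j → 𝔅 (v i) (v j) = 0) (hQ : ∀ i, Q (v i) ≠ 0) :
    ∃ W' : Submodule F V, (∀ y, y ∈ W' ↔ y ∈ W ∧ ∀ i, 𝔅 y (v i) = 0) ∧
      (∀ w ∈ W', w ≠ 0 → ∃ y ∈ W', 𝔅 w y ≠ 0) ∧ finrank F W' + k = finrank F W := by
  classical
  have hd : ∀ i, 𝔅 (v i) (v i) ≠ 0 := fun i => by rw [polar_self']; exact mul_ne_zero h2 (hQ i)
  let f : W →ₗ[F] (Fin k → F) := LinearMap.pi fun i => ((QuadraticMap.polarBilin Q).flip (v i)).comp W.subtype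
  have hf : ∀ (y : W) i, f y i = 𝔅 (y : V) (v i) := fun y i => rfl
  let W' : Submodule F V := (LinearMap.ker f).map W.subtype
  have hmem : ∀ y, y ∈ W' ↔ y ∈ W ∧ ∀ i, 𝔅 y (v i) = 0 := by
    intro y
    simp only [W', Submodule.mem_map, LinearMap.mem_ker]
    constructor
    · rintro ⟨z, hz, rfl⟩
      exact ⟨z.2, fun i => by rw [Submodule.subtype_apply, ← hf, hz, Pi.zero_apply]⟩
    · rintro ⟨h1, h2'⟩
      exact ⟨⟨y, h1⟩, funext fun i => h2' i, rfl⟩
  have hsum : ∀ (c : Fin k → F) i, 𝔅 (∑ j, c j • v j) (v i) = c i * 𝔅 (v i) (v i) := fun c i => by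
    rw [map_sum, LinearMap.sum_apply, Finset.sum_eq_single i (fun j _ hji => by
      rw [map_smul, LinearMap.smul_apply, horth j i hji, smul_zero]) (fun h => absurd (Finset.mem_univ i) h)]
    simp
  refine ⟨W', hmem, fun w hw hw0 => ?_, ?_⟩
  · obtain ⟨hwW, hwv⟩ := (hmem w).mp hw
    obtain ⟨y, hy, hwy⟩ := hW w hwW hw0
    refine ⟨y - ∑ j, (𝔅 y (v j) / 𝔅 (v j) (v j)) • v j,
      (hmem _).mpr ⟨W.sub_mem hy (W.sum_mem fun j _ => W.smul_mem _ (hv j)), fun i => ?_⟩, ?_⟩
    · rw [map_sub, LinearMap.sub_apply, hsum, div_mul_cancel₀ _ (hd i), sub_self]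
    · rw [map_sub, map_sum, Finset.sum_eq_zero fun j _ => by rw [map_smul, hwv, smul_zero], sub_zero]
      exact hwy
  · have hsurj : Function.Surjective f := fun c =>
      ⟨⟨∑ j, (c j / 𝔅 (v j) (v j)) • v j, W.sum_mem fun j _ => W.smul_mem _ (hv j)⟩, funext fun i => by
        rw [hf, hsum, div_mul_cancel₀ _ (hd i)]⟩
    have h1 := LinearMap.finrank_range_add_finrank_ker f
    rw [LinearMap.range_eq_top.mpr hsurj, finrank_top, Module.finrank_fin_fun] at h1
    have h3 : finrank F W' = finrank F (LinearMap.ker f) :=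
      (Submodule.equivMapOfInjective _ W.injective_subtype _).finrank_eq.symm
    omega

/-- A nondegenerate subspace of dimension at least two takes every value. -/
theorem exists_value [Finite F] [FiniteDimensional F V] (h2 : (2 : F) ≠ 0) {W : Submodule F V}
    (hW : ∀ w ∈ W, w ≠ 0 → ∃ y ∈ W, 𝔅 w y ≠ 0) (hd : 2 ≤ finrank F W) (c : F) : ∃ w ∈ W, Q w = c := by
  have haniso : ∀ U : Submodule F V, (∀ w ∈ U, w ≠ 0 → ∃ y ∈ U, 𝔅 w y ≠ 0) → U ≠ ⊥ →
      ∃ u ∈ U, Q u ≠ 0 := by
    intro U hU hU0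
    by_contra h
    push Not at h
    obtain ⟨w, hw, hw0⟩ := (Submodule.ne_bot_iff _).mp hU0
    obtain ⟨y, hy, hwy⟩ := hU w hw hw0
    exact hwy (by
      rw [QuadraticMap.polarBilin_apply_apply, QuadraticMap.polar, h _ hw, h _ hy, h _ (U.add_mem hw hy),
        sub_zero, sub_zero])
  obtain ⟨u, hu, hQu⟩ := haniso W hW fun e => by rw [e, finrank_bot] at hd; omega
  obtain ⟨W', hmem, hW', hdim⟩ := exists_perp_family h2 hW (k := 1) (fun _ => u) (fun _ => hu)
    (fun i j h => absurd (Subsingleton.elim i j) h) fun _ => hQu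
  obtain ⟨v, hv, hQv⟩ := haniso W' hW' fun e => by rw [e, finrank_bot] at hdim; omega
  obtain ⟨hvW, hvu⟩ := (hmem v).mp hv
  obtain ⟨s, t, hst⟩ := CfsgLib.Forms.exists_diag_binary h2 hQu hQv c
  refine ⟨s • u + t • v, W.add_mem (W.smul_mem _ hu) (W.smul_mem _ hvW), ?_⟩
  have e : 𝔅 (s • u) (t • v) = 0 := by
    rw [map_smul (𝔅 (s • u)), map_smul (𝔅), LinearMap.smul_apply, polar_comm', hvu 0, smul_zero, smul_zero]
  rw [QuadraticMap.polarBilin_apply_apply, QuadraticMap.polar] at e
  rw [QuadraticMap.map_smul, QuadraticMap.map_smul, smul_eq_mul, smul_eq_mul] at e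
  linear_combination e + hst

/-- An isometry with square `-1` rotates planes with value one. -/
theorem exists_frame_quarter [Finite F] [FiniteDimensional F V] (h2 : (2 : F) ≠ 0) {g : V →ₗ[F] V}
    (hg : ∀ v, Q (g v) = Q v) (hgg : ∀ v, g (g v) = -v) :
    ∀ (n : ℕ) {W : Submodule F V}, finrank F W = n → (∀ w ∈ W, g w ∈ W) →
      (∀ w ∈ W, w ≠ 0 → ∃ y ∈ W, 𝔅 w y ≠ 0) →
      ∃ (m : ℕ) (w : Fin m → V), n = 2 * m ∧ (∀ i, w i ∈ W) ∧ (∀ i, Q (w i) = 1) ∧
        (∀ i j, i ≠ j → 𝔅 (w i) (w j) = 0) ∧ ∀ i j, 𝔅 (w i) (g (w j)) = 0 := by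
  intro n
  induction n using Nat.strong_induction_on with
  | _ n ih =>
    intro W hn hgW hW
    rcases Nat.eq_zero_or_pos n with rfl | hpos
    · exact ⟨0, fun i => i.elim0, rfl, fun i => i.elim0, fun i => i.elim0, fun i => i.elim0, fun i => i.elim0⟩
    have hskew : ∀ a, 𝔅 a (g a) = 0 := fun a => by
      have h := polar_isometry hg a (g a)
      rw [hgg, map_neg, polar_comm'] at h
      have h' : (2 : F) * 𝔅 a (g a) = 0 := by linear_combination -h
      exact (mul_eq_zero.mp h').resolve_left h2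
    have hd : 2 ≤ finrank F W := by
      by_contra hlt
      obtain ⟨a, ha, ha0⟩ := (Submodule.ne_bot_iff W).mp fun e => by rw [e, finrank_bot] at hn; omega
      obtain ⟨y, hy, hay⟩ := hW a ha ha0
      have h1 : finrank F W = 1 := by omega
      obtain ⟨c, hc⟩ := (finrank_eq_one_iff_of_nonzero' (⟨a, ha⟩ : W) (by simpa using ha0)).mp h1 ⟨y, hy⟩
      obtain ⟨e, he⟩ := (finrank_eq_one_iff_of_nonzero' (⟨a, ha⟩ : W) (by simpa using ha0)).mp h1 ⟨g a, hgW a ha⟩
      have hc' : c • a = y := congrArg Subtype.val hc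
      have he' : e • a = g a := congrArg Subtype.val he
      have he0 : e ≠ 0 := fun e0 => ha0 (by
        have h := hgg a
        rw [← he', e0, zero_smul, map_zero] at h
        exact neg_eq_zero.mp h.symm)
      have h3 := hskew a
      rw [← he', map_smul, smul_eq_mul] at h3
      rw [← hc', map_smul, (mul_eq_zero.mp h3).resolve_left he0, smul_zero] at hay
      exact hay rfl
    obtain ⟨a, ha, hQa⟩ := exists_value h2 hW hd 1
    obtain ⟨W', hmem, hW', hdim⟩ := exists_perp_family h2 hW (k := 2) ![a, g a]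
      (Fin.forall_fin_two.mpr ⟨ha, hgW a ha⟩)
      (fun i j hij => by
        fin_cases i <;> fin_cases j
        · exact absurd rfl hij
        · exact hskew a
        · exact (polar_comm' _ _).trans (hskew a)
        · exact absurd rfl hij)
      (Fin.forall_fin_two.mpr ⟨by rw [Matrix.cons_val_zero, hQa]; exact one_ne_zero,
        by rw [Matrix.cons_val_one, Matrix.cons_val_fin_one, hg, hQa]; exact one_ne_zero⟩)
    have hgW' : ∀ y ∈ W', g y ∈ W' := fun y hy => by
      obtain ⟨h1, h3⟩ := (hmem y).mp hy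
      have e0 : 𝔅 y a = 0 := h3 0
      have e1 : 𝔅 y (g a) = 0 := h3 1
      refine (hmem _).mpr ⟨hgW y h1, Fin.forall_fin_two.mpr ⟨?_, ?_⟩⟩
      · show 𝔅 (g y) a = 0
        rw [← neg_neg a, ← hgg, map_neg, polar_isometry hg, map_neg, e1, neg_zero]
      · show 𝔅 (g y) (g a) = 0
        rw [polar_isometry hg, e0]
    obtain ⟨m, w, hm, hwW, hwQ, hww, hwg⟩ := ih (finrank F W') (by omega) rfl hgW' hW'
    have hperp : ∀ j, 𝔅 (w j) a = 0 ∧ 𝔅 (w j) (g a) = 0 := fun j =>
      ⟨((hmem _).mp (hwW j)).2 0, ((hmem _).mp (hwW j)).2 1⟩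
    refine ⟨m + 1, Fin.cons a w, by omega, Fin.cases ha fun j => ((hmem _).mp (hwW j)).1,
      Fin.cases hQa hwQ, fun i j => ?_, fun i j => ?_⟩
    · induction i using Fin.cases with
      | zero =>
        induction j using Fin.cases with
        | zero => exact fun h => absurd rfl h
        | succ j => exact fun _ => by rw [Fin.cons_zero, Fin.cons_succ, polar_comm']; exact (hperp j).1
      | succ i =>
        induction j using Fin.cases with
        | zero => exact fun _ => by rw [Fin.cons_zero, Fin.cons_succ]; exact (hperp i).1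
        | succ j => exact fun h => by rw [Fin.cons_succ, Fin.cons_succ]; exact hww i j fun e => h (by rw [e])
    · induction i using Fin.cases with
      | zero =>
        induction j using Fin.cases with
        | zero => exact hskew a
        | succ j =>
          rw [Fin.cons_zero, Fin.cons_succ, polar_comm', ← neg_neg a, ← hgg, map_neg, polar_isometry hg,
            map_neg, (hperp j).2, neg_zero]
      | succ i =>
        induction j using Fin.cases with
        | zero => rw [Fin.cons_zero, Fin.cons_succ]; exact (hperp i).2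
        | succ j => rw [Fin.cons_succ, Fin.cons_succ]; exact hwg i j

/-- An isometric involution has an orthogonal eigenbasis. -/
theorem exists_frame_involution [FiniteDimensional F V] (h2 : (2 : F) ≠ 0) {g : V →ₗ[F] V}
    (hg : ∀ v, Q (g v) = Q v) (hgg : ∀ v, g (g v) = v) :
    ∀ (n : ℕ) {W : Submodule F V}, finrank F W = n → (∀ w ∈ W, g w ∈ W) →
      (∀ w ∈ W, w ≠ 0 → ∃ y ∈ W, 𝔅 w y ≠ 0) →
      ∃ (b : Fin n → V) (s : Fin n → F), (∀ i, b i ∈ W) ∧ (∀ i, Q (b i) ≠ 0) ∧
        (∀ i j, i ≠ j → 𝔅 (b i) (b j) = 0) ∧ ∀ i, (s i = 1 ∨ s i = -1) ∧ g (b i) = s i • b i := by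
  intro n
  induction n with
  | zero =>
    intro W _ _ _
    exact ⟨fun i => i.elim0, fun i => i.elim0, fun i => i.elim0, fun i => i.elim0, fun i => i.elim0,
      fun i => i.elim0⟩
  | succ n ih =>
    intro W hn hgW hW
    obtain ⟨a, ha, hQa, e, he, hga⟩ : ∃ a ∈ W, Q a ≠ 0 ∧ ∃ e : F, (e = 1 ∨ e = -1) ∧ g a = e • a := by
      by_contra h
      push Not at h
      have hp : ∀ w ∈ W, Q (w + g w) = 0 := fun w hw => by
        by_contra hq
        exact h _ (W.add_mem hw (hgW w hw)) hq 1 (Or.inl rfl) (by rw [map_add, hgg, one_smul, add_comm])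
      have hm : ∀ w ∈ W, Q (w - g w) = 0 := fun w hw => by
        by_contra hq
        exact h _ (W.sub_mem hw (hgW w hw)) hq (-1) (Or.inr rfl)
          (by rw [map_sub, hgg, neg_one_smul, neg_sub])
      have hzero : ∀ w ∈ W, Q w = 0 := fun w hw => by
        have e1 := hp w hw
        have e2 := hm w hw
        rw [sub_eq_add_neg] at e2
        rw [QuadraticMap.map_add (⇑Q)] at e1 e2
        rw [QuadraticMap.map_neg, QuadraticMap.polar_neg_right, hg] at e2
        rw [hg] at e1
        have : (2 : F) * (2 * Q w) = 0 := by linear_combination e1 + e2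
        exact (mul_eq_zero.mp ((mul_eq_zero.mp this).resolve_left h2)).resolve_left h2
      obtain ⟨w, hw, hw0⟩ := (Submodule.ne_bot_iff W).mp fun e => by rw [e, finrank_bot] at hn; omega
      obtain ⟨y, hy, hwy⟩ := hW w hw hw0
      exact hwy (by
        rw [QuadraticMap.polarBilin_apply_apply, QuadraticMap.polar, hzero _ hw, hzero _ hy,
          hzero _ (W.add_mem hw hy), sub_zero, sub_zero])
    obtain ⟨W', hmem, hW', hdim⟩ := exists_perp_family h2 hW (k := 1) (fun _ => a) (fun _ => ha)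
      (fun i j h => absurd (Subsingleton.elim i j) h) fun _ => hQa
    have hgW' : ∀ y ∈ W', g y ∈ W' := fun y hy => by
      obtain ⟨h1, h3⟩ := (hmem y).mp hy
      refine (hmem _).mpr ⟨hgW y h1, fun _ => ?_⟩
      have h4 := polar_isometry hg y (g a)
      rw [hgg, hga, map_smul, h3 0, smul_zero] at h4
      exact h4
    obtain ⟨b, s, hb, hbQ, hbb, hbs⟩ := ih (by omega) hgW' hW'
    have hperp : ∀ j, 𝔅 (b j) a = 0 := fun j => ((hmem _).mp (hb j)).2 0
    refine ⟨Fin.cons a b, Fin.cons e s, Fin.cases ha fun j => ((hmem _).mp (hb j)).1, Fin.cases hQa hbQ,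
      fun i j => ?_, Fin.cases ⟨he, hga⟩ hbs⟩
    induction i using Fin.cases with
    | zero =>
      induction j using Fin.cases with
      | zero => exact fun h => absurd rfl h
      | succ j => exact fun _ => by rw [Fin.cons_zero, Fin.cons_succ, polar_comm']; exact hperp j
    | succ i =>
      induction j using Fin.cases with
      | zero => exact fun _ => by rw [Fin.cons_zero, Fin.cons_succ]; exact hperp i
      | succ j => exact fun h => by rw [Fin.cons_succ, Fin.cons_succ]; exact hbb i j fun e => h (by rw [e])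

section Families

variable {κ : Type*} [Fintype κ] [DecidableEq κ]

/-- The value at a combination of an orthogonal family. -/
theorem quad_sum {b : κ → V} (hb : ∀ i j, i ≠ j → 𝔅 (b i) (b j) = 0) (x : κ → F) :
    Q (∑ i, x i • b i) = QuadraticMap.weightedSumSquares F (fun i => Q (b i)) x := by
  rw [QuadraticMap.weightedSumSquares_apply]
  have key : ∀ S : Finset κ, Q (∑ i ∈ S, x i • b i) = ∑ i ∈ S, Q (b i) • (x i * x i) := by
    intro S
    induction S using Finset.induction_on with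
    | empty => simp
    | insert a S ha ih =>
      have e : 𝔅 (x a • b a) (∑ i ∈ S, x i • b i) = 0 := by
        rw [map_sum, Finset.sum_eq_zero fun i hi => ?_]
        rw [map_smul, map_smul, LinearMap.smul_apply, hb a i fun e => ha (e ▸ hi), smul_zero, smul_zero]
      rw [Finset.sum_insert ha, Finset.sum_insert ha, QuadraticMap.map_add (⇑Q), ← QuadraticMap.polarBilin_apply_apply,
        e, add_zero, ih, QuadraticMap.map_smul]
      simp only [smul_eq_mul]
      ring
  exact key _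

/-- An orthogonal anisotropic family is independent. -/
theorem linearIndependent_orth (h2 : (2 : F) ≠ 0) {b : κ → V} (hb : ∀ i j, i ≠ j → 𝔅 (b i) (b j) = 0)
    (hQ : ∀ i, Q (b i) ≠ 0) : LinearIndependent F b := by
  rw [Fintype.linearIndependent_iff]
  intro c hc i
  have h : 𝔅 (∑ j, c j • b j) (b i) = 0 := by rw [hc, map_zero, LinearMap.zero_apply]
  rw [map_sum, LinearMap.sum_apply, Finset.sum_eq_single i (fun j _ hji => by
    rw [map_smul, LinearMap.smul_apply, hb j i hji, smul_zero]) (fun h => absurd (Finset.mem_univ i) h)] at h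
  rw [map_smul, LinearMap.smul_apply, polar_self', smul_eq_mul] at h
  exact (mul_eq_zero.mp h).resolve_right (mul_ne_zero h2 (hQ i))

variable [FiniteDimensional F V]

/-- An orthogonal anisotropic family of full size is a basis. -/
theorem exists_basis_orth (h2 : (2 : F) ≠ 0) {b : κ → V} (hb : ∀ i j, i ≠ j → 𝔅 (b i) (b j) = 0)
    (hQ : ∀ i, Q (b i) ≠ 0) (hn : finrank F V = Fintype.card κ) : ∃ B : Basis κ F V, ⇑B = b := by
  have hli := linearIndependent_orth h2 hb hQ
  refine ⟨Basis.mk hli (top_le_iff.mpr ?_), Basis.coe_mk _ _⟩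
  exact Submodule.eq_top_of_finrank_eq (by rw [finrank_span_eq_card hli, hn])

/-- Frames with equal values are moved to each other by an isometry. -/
theorem exists_iso_frames (h2 : (2 : F) ≠ 0) {b b' : κ → V} (hn : finrank F V = Fintype.card κ)
    (hb : ∀ i j, i ≠ j → 𝔅 (b i) (b j) = 0) (hb' : ∀ i j, i ≠ j → 𝔅 (b' i) (b' j) = 0)
    (hQ : ∀ i, Q (b i) ≠ 0) (hval : ∀ i, Q (b' i) = Q (b i)) :
    ∃ L : V ≃ₗ[F] V, (∀ v, Q (L v) = Q v) ∧ (∀ i, L (b i) = b' i) ∧
      ∀ g g' : V →ₗ[F] V, (∀ i, L (g (b i)) = g' (b' i)) → ∀ v, L (g v) = g' (L v) := by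
  obtain ⟨B, hB⟩ := exists_basis_orth h2 hb hQ hn
  obtain ⟨B', hB'⟩ := exists_basis_orth h2 hb' (fun i => by rw [hval]; exact hQ i) hn
  let L := B.equiv B' (Equiv.refl _)
  have hL : ∀ i, L (b i) = b' i := fun i => by rw [← hB, ← hB', Basis.equiv_apply, Equiv.refl_apply]
  refine ⟨L, fun v => ?_, hL, fun g g' h v => ?_⟩
  · obtain ⟨x, rfl⟩ : ∃ x : κ → F, ∑ i, x i • b i = v := ⟨B.equivFun v, by rw [← hB]; exact B.sum_equivFun v⟩
    simp only [map_sum, map_smul, hL]
    rw [quad_sum hb', quad_sum hb]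
    simp only [hval]
  · have e : L.toLinearMap ∘ₗ g = g' ∘ₗ L.toLinearMap := B.ext fun i => by
      rw [LinearMap.comp_apply, LinearMap.comp_apply, LinearEquiv.coe_coe, hB, hL, h]
    exact LinearMap.congr_fun e v

/-- Products of values of two full orthogonal frames differ by a square. -/
theorem isSquare_prod_frames (h2 : (2 : F) ≠ 0) {b b' : κ → V} (hn : finrank F V = Fintype.card κ)
    (hb : ∀ i j, i ≠ j → 𝔅 (b i) (b j) = 0) (hb' : ∀ i j, i ≠ j → 𝔅 (b' i) (b' j) = 0)
    (hQ : ∀ i, Q (b i) ≠ 0) : IsSquare ((∏ i, Q (b i)) * ∏ i, Q (b' i)) := by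
  obtain ⟨B, hB⟩ := exists_basis_orth h2 hb hQ hn
  let g : (κ → F) →ₗ[F] (κ → F) :=
    B.equivFun.toLinearMap ∘ₗ (∑ i, LinearMap.smulRight (LinearMap.proj i) (b' i))
  have hg : ∀ x, QuadraticMap.weightedSumSquares F (fun i => Q (b i)) (g x) =
      QuadraticMap.weightedSumSquares F (fun i => Q (b' i)) x := fun x => by
    rw [← quad_sum hb, ← quad_sum hb']
    congr 1
    rw [← hB]
    show ∑ i, B.equivFun ((∑ j, LinearMap.smulRight (LinearMap.proj j) (b' j)) x) i • B i = _
    rw [B.sum_equivFun]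
    simp
  have h := CfsgLib.FormDiscr.gram_det_comp _ _ g 1 (fun v => by rw [one_mul]; exact hg v)
  rw [CfsgLib.FormDiscr.gram_det_diag, CfsgLib.FormDiscr.gram_det_diag, one_pow, one_mul] at h
  refine ⟨LinearMap.det g * ∏ i, Q (b i), ?_⟩
  have h4 : (2 : F) ^ Fintype.card κ ≠ 0 := pow_ne_zero _ h2
  refine mul_left_cancel₀ h4 ?_
  linear_combination -(∏ i, Q (b i)) * h

end Families

/-- An orthogonal family can be changed to any values with the same product up to a square. -/
theorem exists_values [Fintype F] (h2 : (2 : F) ≠ 0) {n : ℕ} {b : Fin n → V}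
    (hb : ∀ i j, i ≠ j → 𝔅 (b i) (b j) = 0) (hQ : ∀ i, Q (b i) ≠ 0) (c : Fin n → F) (hc : ∀ i, c i ≠ 0)
    (hsq : IsSquare ((∏ i, Q (b i)) * ∏ i, c i)) :
    ∃ b' : Fin n → V, (∀ i, b' i ∈ span F (Set.range b)) ∧ (∀ i j, i ≠ j → 𝔅 (b' i) (b' j) = 0) ∧
      ∀ i, Q (b' i) = c i := by
  classical
  have hnd : ∀ w : Fin n → F, (∀ i, w i ≠ 0) →
      (QuadraticMap.polarBilin (QuadraticMap.weightedSumSquares F w)).Nondegenerate := fun w hw => by
    refine CfsgLib.StdForms.nondegenerate_of_sep _ fun x hx => ?_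
    funext i
    have h := hx (Pi.single i 1)
    have e : QuadraticMap.polar (⇑(QuadraticMap.weightedSumSquares F w)) x (Pi.single i 1) = 2 * w i * x i := by
      simp only [QuadraticMap.polar, QuadraticMap.weightedSumSquares_apply, ← Finset.sum_sub_distrib,
        Pi.add_apply, smul_eq_mul]
      rw [Finset.sum_eq_single i (fun j _ hj => by simp [hj]) (fun h => absurd (Finset.mem_univ i) h)]
      simp
      ring
    rw [e] at h
    exact (mul_eq_zero.mp h).resolve_left (mul_ne_zero h2 (hw i))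
  obtain ⟨g, hg⟩ := (CfsgLib.FormDiscr.equivalent_iff h2 _ _ (hnd c hc) (hnd _ hQ)).mpr (by
    obtain ⟨z, hz⟩ := hsq
    rw [CfsgLib.FormDiscr.gram_det_diag, CfsgLib.FormDiscr.gram_det_diag, Fintype.card_fin]
    exact ⟨2 ^ n * z, by linear_combination (2 : F) ^ (2 * n) * hz⟩)
  let Φ : (Fin n → F) →ₗ[F] V := ∑ i, LinearMap.smulRight (LinearMap.proj i) (b i)
  have hΦ : ∀ x, Φ x = ∑ i, x i • b i := fun x => by simp [Φ]
  have hΦQ : ∀ x, Q (Φ (g x)) = QuadraticMap.weightedSumSquares F c x := fun x => by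
    rw [hΦ, quad_sum hb, hg]
  refine ⟨fun j => Φ (g (Pi.single j 1)), fun j => ?_, fun i j hij => ?_, fun j => ?_⟩
  · show Φ _ ∈ _
    rw [hΦ]
    exact Submodule.sum_mem _ fun i _ => Submodule.smul_mem _ _ (Submodule.subset_span ⟨i, rfl⟩)
  · rw [QuadraticMap.polarBilin_apply_apply, QuadraticMap.polar, ← map_add, ← map_add, hΦQ, hΦQ, hΦQ]
    simp only [QuadraticMap.weightedSumSquares_apply, ← Finset.sum_sub_distrib, Pi.add_apply, smul_eq_mul]
    refine Finset.sum_eq_zero fun k _ => ?_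
    rcases eq_or_ne k i with rfl | hk
    · simp [hij]
    · simp [hk]
  · show Q (Φ _) = _
    rw [hΦQ, QuadraticMap.weightedSumSquares_apply,
      Finset.sum_eq_single j (fun k _ hk => by simp [hk]) (fun h => absurd (Finset.mem_univ j) h)]
    simp

end CfsgLib.FieldExtOrth
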