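import Cfsg.Agent.LinearElements.FieldExtOrthBasic

/-!
Orthogonal bases of a symmetric form over a quadratic extension and the frames they give over the ground field.
-/

set_option autoImplicit false

namespace CfsgLib.FieldExtOrth

open Module Submodule QuadraticMap

variable {F K V : Type*} [Field F] [Fintype F] [Field K] [Algebra F K] [Finite K] [AddCommGroup V] [Module F V]
  [Module K V] [IsScalarTower F K V] (Q : QuadraticForm F V) (h : V →ₗ[K] V →ₗ[K] K)
  (htr : ∀ u v, QuadraticMap.polar (⇑Q) u v = Algebra.trace F K (h u v)) (hsymm : ∀ u v, h u v = h v u)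
  (hK : finrank F K = 2) (h2 : (2 : F) ≠ 0)

include htr hK h2 in
omit [IsScalarTower F K V] in
/-- The plane of a line carries an orthogonal frame whose product of values is `ν` over the norm, up to squares. -/
theorem exists_line_frame [DecidableEq F] {b : V} (hb : h b b ≠ 0) :
    ∃ c c' : K, QuadraticMap.polar (⇑Q) (c • b) (c' • b) = 0 ∧ Q (c • b) ≠ 0 ∧ Q (c' • b) ≠ 0 ∧
      quadraticChar F (Q (c • b) * Q (c' • b)) = -quadraticChar F (Algebra.norm F (h b b)) := by
  have : FiniteDimensional F K := Module.Finite.of_finite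
  have h2K : (2 : K) ≠ 0 := by rw [← map_ofNat (algebraMap F K) 2]; simpa using h2
  obtain ⟨δ, ν, hδ0, hδ, hδν, hν0, hν⟩ := exists_delta (F := F) (K := K) hK h2
  set β := h b b with hβ
  have hval : ∀ k : K, 2 * Q (k • b) = Algebra.trace F K (k * k * β) := fun k => by
    have e := htr (k • b) (k • b)
    rw [QuadraticMap.polar_self, nsmul_eq_mul, Nat.cast_ofNat] at e
    rw [e]
    simp only [map_smul, LinearMap.smul_apply, smul_eq_mul, ← mul_assoc, ← hβ]
  obtain ⟨c, hc⟩ : ∃ c : K, Algebra.trace F K (c * c * β) ≠ 0 := by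
    by_contra hall
    push Not at hall
    have h1 := congrArg (algebraMap F K) (hall 1)
    have h3 := congrArg (algebraMap F K) (hall (1 + δ))
    rw [algebraMap_trace hK, map_zero] at h1 h3
    simp only [map_mul, map_add, map_one, hδ] at h1 h3
    have hνe : δ * δ = algebraMap F K ν := hδν
    have h4 : δ * (β - conj (F := F) β) * 2 = 0 := by linear_combination h3 - (1 + δ * δ) * h1
    have h5 : β - conj (F := F) β = 0 :=
      (mul_eq_zero.mp ((mul_eq_zero.mp h4).resolve_right h2K)).resolve_left hδ0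
    exact hb ((mul_eq_zero.mp (show (2 : K) * β = 0 by linear_combination h1 + h5)).resolve_left h2K)
  have hc0 : c ≠ 0 := fun e => hc (by rw [e, zero_mul, zero_mul, map_zero])
  refine ⟨c, δ / (β * c), ?_, ?_, ?_, ?_⟩
  · rw [htr]
    simp only [map_smul, LinearMap.smul_apply, smul_eq_mul, ← hβ]
    rw [show δ / (β * c) * (c * β) = δ by field_simp]
    apply (algebraMap F K).injective
    rw [algebraMap_trace hK, hδ, add_neg_cancel, map_zero]
  all_goals set t := Algebra.trace F K (c * c * β) with ht
  all_goals set N := Algebra.norm F (c * c * β) with hN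
  all_goals
    have hN0 : N ≠ 0 := fun e => by
      have hz : c * c * β = 0 := Algebra.norm_eq_zero_iff.mp e
      exact mul_ne_zero (mul_ne_zero hc0 hc0) hb hz
    have hQc : 2 * Q (c • b) = t := hval c
    have hQc' : 2 * Q ((δ / (β * c)) • b) = ν * t / N := by
      rw [hval]
      apply (algebraMap F K).injective
      rw [algebraMap_trace hK, map_div₀ (algebraMap F K), map_mul (algebraMap F K), ht, algebraMap_trace hK, hN,
        algebraMap_norm hK, ← hδν]
      simp only [map_mul, map_div₀, hδ]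
      have hcb : conj (F := F) c ≠ 0 := by simpa using hc0
      have hbb : conj (F := F) β ≠ 0 := by simpa using hb
      field_simp
      ring
  · intro e
    exact hc (by rw [← hQc, e, mul_zero])
  · intro e
    rw [e, mul_zero, eq_comm, div_eq_zero_iff] at hQc'
    rcases hQc' with e1 | e1
    · exact mul_ne_zero hν0 hc e1
    · exact hN0 e1
  · have e : Q (c • b) * Q ((δ / (β * c)) • b) = ν * t ^ 2 / (N * 4) := by
      have hprod : 4 * (Q (c • b) * Q ((δ / (β * c)) • b)) = t * (ν * t / N) := by
        rw [← hQc', ← hQc]; ring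
      have h4 : (4 : F) ≠ 0 := by rw [show (4 : F) = 2 * 2 by norm_num]; exact mul_ne_zero h2 h2
      rw [eq_div_iff (mul_ne_zero hN0 h4)]
      calc Q (c • b) * Q ((δ / (β * c)) • b) * (N * 4)
          = 4 * (Q (c • b) * Q ((δ / (β * c)) • b)) * N := by ring
        _ = _ := by rw [hprod]; field_simp
    have hNd : N = Algebra.norm F c ^ 2 * Algebra.norm F β := by rw [hN, map_mul, map_mul, pow_two]
    have hNc : Algebra.norm F c ≠ 0 := fun e => hc0 (Algebra.norm_eq_zero_iff.mp e)
    have hNb : Algebra.norm F β ≠ 0 := fun e => hb (Algebra.norm_eq_zero_iff.mp e)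
    have h4 : (4 : F) ≠ 0 := by rw [show (4 : F) = 2 * 2 by norm_num]; exact mul_ne_zero h2 h2
    set P := Q (c • b) * Q ((δ / (β * c)) • b) with hP
    have key : P * Algebra.norm F β = ν * (t / (Algebra.norm F c * 2)) ^ 2 := by
      rw [e, hNd]; field_simp; ring
    have hmul := congrArg (quadraticChar F) key
    rw [map_mul _ P, map_mul _ ν, quadraticChar_sq_one' (div_ne_zero hc (mul_ne_zero hNc h2)), mul_one,
      quadraticChar_neg_one_iff_not_isSquare.mpr hν] at hmul
    rcases quadraticChar_dichotomy hNb with hh | hh <;> rw [hh] at hmul ⊢ <;> omega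

include htr hK h2 in
/-- The frame over `F` of an orthogonal basis over `K`. -/
theorem exists_frame_of_basis [DecidableEq F] {d : ℕ} (b : Fin d → V) (hbb : ∀ i j, i ≠ j → h (b i) (b j) = 0)
    (hb : ∀ i, h (b i) (b i) ≠ 0) :
    ∃ w : Fin d × Fin 2 → V, (∀ p, ∃ c : K, w p = c • b p.1) ∧ (∀ p, Q (w p) ≠ 0) ∧
      (∀ p p', p ≠ p' → QuadraticMap.polarBilin Q (w p) (w p') = 0) ∧
      ∀ i, quadraticChar F (Q (w (i, 0)) * Q (w (i, 1))) = -quadraticChar F (Algebra.norm F (h (b i) (b i))) := by
  choose c c' h1 h3 h4 h5 using fun i => exists_line_frame Q h htr hK h2 (hb i)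
  refine ⟨fun p => (![c p.1, c' p.1] p.2) • b p.1, fun p => ⟨_, rfl⟩, fun ⟨i, j⟩ => ?_, fun ⟨i, j⟩ ⟨i', j'⟩ hne => ?_,
    fun i => h5 i⟩
  · fin_cases j
    · exact h3 i
    · exact h4 i
  · rcases eq_or_ne i i' with rfl | hi
    · fin_cases j <;> fin_cases j'
      · exact absurd rfl hne
      · exact h1 i
      · exact (QuadraticMap.polar_comm (⇑Q) _ _).trans (h1 i)
      · exact absurd rfl hne
    · rw [QuadraticMap.polarBilin_apply_apply, htr]
      simp only [map_smul, LinearMap.smul_apply, hbb i i' hi, smul_zero, map_zero]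

include htr in
omit [Fintype F] [Finite K] [IsScalarTower F K V] in
theorem h_sep (hQ : (QuadraticMap.polarBilin Q).Nondegenerate) (x : V) (hx : ∀ y, h x y = 0) : x = 0 :=
  hQ.1 x fun y => by rw [QuadraticMap.polarBilin_apply_apply, htr, hx, map_zero]

include htr hsymm hK h2 in
/-- Orthogonal bases over `K` with any norm class on the first `a` vectors. -/
theorem exists_basisK [DecidableEq F] (hQ : (QuadraticMap.polarBilin Q).Nondegenerate) {d a : ℕ}
    (hd : finrank K V = d) (ha : 0 < a) (had : a < d) (ε : ℤ) (hε : ε = 1 ∨ ε = -1) :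
    ∃ b : Basis (Fin d) K V, (∀ i j, i ≠ j → h (b i) (b j) = 0) ∧ (∀ i, h (b i) (b i) ≠ 0) ∧
      ∏ i ∈ Finset.univ.filter (fun i : Fin d => (i : ℕ) < a), quadraticChar F (Algebra.norm F (h (b i) (b i))) = ε := by
  classical
  let _ := Fintype.ofFinite K
  have : FiniteDimensional K V := FiniteDimensional.of_finrank_pos (by omega)
  have h2K : (2 : K) ≠ 0 := by rw [← map_ofNat (algebraMap F K) 2]; simpa using h2
  have hKc : ringChar K ≠ 2 := fun e => h2K (by have := ringChar.eq_iff.1 e; exact CharTwo.two_eq_zero)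
  obtain ⟨α, hα⟩ := FiniteField.exists_nonsquare hKc
  have hα0 : α ≠ 0 := fun e => hα (e ▸ ⟨0, by simp⟩)
  obtain ⟨hαN, -⟩ := nonsquare_facts hK h2 hα
  obtain ⟨n, rfl⟩ : ∃ n, d = n + 1 := ⟨d - 1, by omega⟩
  obtain ⟨b, hb, hb1, hbl⟩ := CfsgLib.Forms.exists_diagonal_basis_symm h2K h ⟨hsymm⟩ (h_sep Q h htr hQ) hα hd
  set S := Finset.univ.filter (fun i : Fin (n + 1) => (i : ℕ) < a) with hS
  have hχ1 : quadraticChar F (Algebra.norm F (1 : K)) = 1 := by rw [map_one, map_one]
  have hbne : ∀ i, h (b i) (b i) ≠ 0 := fun i => by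
    by_cases hi : i = Fin.last n
    · rcases hbl with e | e <;> rw [hi, e]
      · exact one_ne_zero
      · exact hα0
    · rw [hb1 i hi]; exact one_ne_zero
  have hlast : Fin.last n ∉ S := by simp [hS, Fin.val_last]; omega
  have h0mem : (0 : Fin (n + 1)) ∈ S := by simp [hS, ha]
  have h0l : (0 : Fin (n + 1)) ≠ Fin.last n := fun e => hlast (e ▸ h0mem)
  rcases hε with rfl | rfl
  · exact ⟨b, hb, hbne, Finset.prod_eq_one fun i hi => by rw [hb1 i fun e => hlast (e ▸ hi), hχ1]⟩
  suffices key : ∃ b' : Basis (Fin (n + 1)) K V, (∀ i j, i ≠ j → h (b' i) (b' j) = 0) ∧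
      (∀ i, h (b' i) (b' i) ≠ 0) ∧ (h (b' 0) (b' 0) = α) ∧
      ∀ i ∈ S, i ≠ 0 → h (b' i) (b' i) = 1 by
    obtain ⟨b', k1, k2, k3, k4⟩ := key
    refine ⟨b', k1, k2, ?_⟩
    rw [Finset.prod_eq_single_of_mem 0 h0mem (fun i hi hne => by rw [k4 i hi hne, hχ1]), k3, hαN]
  rcases hbl with hl | hl
  · obtain ⟨x, y, hxy⟩ := CfsgLib.Forms.exists_diag_binary h2K (one_ne_zero : (1 : K) ≠ 0) one_ne_zero α
    rw [one_mul, one_mul] at hxy
    let v : Fin (n + 1) → V := fun i =>
      if i = 0 then x • b 0 + y • b (Fin.last n) else if i = Fin.last n then (-y) • b 0 + x • b (Fin.last n) else b i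
    have h00 : h (b 0) (b 0) = 1 := hb1 0 h0l
    have e0 : h (b 0) (b (Fin.last n)) = 0 := hb _ _ h0l
    have e1 : h (b (Fin.last n)) (b 0) = 0 := hb _ _ h0l.symm
    have hl0 : Fin.last n ≠ 0 := h0l.symm
    have v0 : v 0 = x • b 0 + y • b (Fin.last n) := if_pos rfl
    have v1 : v (Fin.last n) = (-y) • b 0 + x • b (Fin.last n) := by simp only [v, if_neg hl0, if_pos]
    have v2 : ∀ i, i ≠ 0 → i ≠ Fin.last n → v i = b i := fun i p q => by simp only [v, if_neg p, if_neg q]
    have o1 : ∀ j, j ≠ 0 → j ≠ Fin.last n → ∀ k k' : K, h (k • b 0 + k' • b (Fin.last n)) (b j) = 0 := by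
      intro j p q k k'
      simp only [map_add, map_smul, LinearMap.add_apply, LinearMap.smul_apply, smul_eq_mul, hb 0 j p.symm,
        hb (Fin.last n) j q.symm, mul_zero, add_zero]
    have o2 : ∀ j, j ≠ 0 → j ≠ Fin.last n → ∀ k k' : K, h (b j) (k • b 0 + k' • b (Fin.last n)) = 0 := fun j p q k k' =>
      (hsymm _ _).trans (o1 j p q k k')
    have o3 : h (v 0) (v (Fin.last n)) = 0 := by
      rw [v0, v1]
      simp only [map_add, map_smul, LinearMap.add_apply, LinearMap.smul_apply, smul_eq_mul, h00, hl, e0, e1]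
      ring
    have hv : ∀ i j, i ≠ j → h (v i) (v j) = 0 := by
      intro i j hij
      by_cases pi : i = 0
      · subst pi
        by_cases qj : j = Fin.last n
        · rw [qj]; exact o3
        · rw [v0, v2 j hij.symm qj]; exact o1 j hij.symm qj _ _
      by_cases qi : i = Fin.last n
      · subst qi
        by_cases pj : j = 0
        · rw [pj]; exact (hsymm _ _).trans o3
        · rw [v1, v2 j pj hij.symm]; exact o1 j pj hij.symm _ _
      rw [v2 i pi qi]
      by_cases pj : j = 0
      · rw [pj, v0]; exact o2 i pi qi _ _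
      by_cases qj : j = Fin.last n
      · rw [qj, v1]; exact o2 i pi qi _ _
      rw [v2 j pj qj]; exact hb i j hij
    have hvv : ∀ i, h (v i) (v i) = if i = 0 ∨ i = Fin.last n then α else 1 := by
      intro i
      split_ifs with hi
      · rcases hi with rfl | rfl
        · rw [v0]
          simp only [map_add, map_smul, LinearMap.add_apply, LinearMap.smul_apply, smul_eq_mul, h00, hl, e0, e1]
          linear_combination hxy
        · rw [v1]
          simp only [map_add, map_smul, LinearMap.add_apply, LinearMap.smul_apply, smul_eq_mul, h00, hl, e0, e1]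
          linear_combination hxy
      · push Not at hi
        rw [v2 i hi.1 hi.2]
        exact hb1 i hi.2
    have hne : ∀ i, h (v i) (v i) ≠ 0 := fun i => by
      rw [hvv]; split_ifs
      · exact hα0
      · exact one_ne_zero
    have hli : LinearIndependent K v := by
      rw [Fintype.linearIndependent_iff]
      intro c hc i
      have e : h (∑ j, c j • v j) (v i) = 0 := by rw [hc, map_zero, LinearMap.zero_apply]
      rw [map_sum, LinearMap.sum_apply, Finset.sum_eq_single i (fun j _ hji => by
        rw [map_smul, LinearMap.smul_apply, hv j i hji, smul_zero]) (fun h => absurd (Finset.mem_univ i) h),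
        map_smul, LinearMap.smul_apply, smul_eq_mul] at e
      exact (mul_eq_zero.mp e).resolve_right (hne i)
    refine ⟨basisOfLinearIndependentOfCardEqFinrank hli (by rw [Fintype.card_fin, hd]), ?_, ?_, ?_, ?_⟩ <;>
      simp only [coe_basisOfLinearIndependentOfCardEqFinrank]
    · exact hv
    · exact hne
    · rw [hvv, if_pos (Or.inl rfl)]
    · intro i hi h0
      rw [hvv, if_neg]
      rintro (e | e)
      · exact h0 e
      · exact hlast (e ▸ hi)
  · refine ⟨b.reindex (Equiv.swap 0 (Fin.last n)), fun i j hij => ?_, fun i => ?_, ?_, fun i hi h0 => ?_⟩ <;>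
      simp only [Basis.reindex_apply, Equiv.symm_swap]
    · exact hb _ _ fun e => hij ((Equiv.swap 0 (Fin.last n)).injective e)
    · exact hbne _
    · rw [Equiv.swap_apply_left, hl]
    · have hil : i ≠ Fin.last n := fun e => hlast (e ▸ hi)
      rw [Equiv.swap_apply_of_ne_of_ne h0 hil, hb1 i hil]

end CfsgLib.FieldExtOrth
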