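import Cfsg.Agent.LinearElements.FieldExtOrth
import Cfsg.Agent.ExtField.Bridge

/-!
A self-adjoint quadratic field of matrices gives a symmetric form over the field; the criterion for the matrix groups.
-/

set_option autoImplicit false

namespace CfsgLib.FieldExtOrth

open Module Matrix Cfsg.Geo
open CfsgLib.ExtField (mulVecModule isField_subalgebra exists_dual_comp mem_normalizer_of_conj_mem)

variable {F : Type*} [Field F] [Fintype F] {ι : Type} [Fintype ι] [DecidableEq ι]

/-- The criterion for a self-adjoint field. -/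
theorem fixes_iff_selfAdjoint {p : ℕ} [Fact p.Prime] [CharP F p] (h2 : (2 : F) ≠ 0) {Q : QuadraticForm F (ι → F)}
    (hQ : (QuadraticMap.polarBilin Q).Nondegenerate) {d : ℕ} (hd : 4 ≤ d) (hι : Fintype.card ι = 2 * d)
    (K : Subalgebra F (Matrix ι ι F)) (hK : IsFieldSubalgebra 2 K)
    (hsa : IsSelfAdjointFor (QuadraticMap.polar ⇑Q) K) {r : ℕ} [Fact r.Prime]
    (hΩ : r ∣ (subalgebraNormalizer K).relIndex (omegaGL ⇑Q)) :
    (∀ x ∈ omegaGL ⇑Q, (∃ z : F, ((x ^ r : GL ι F) : Matrix ι ι F) = z • (1 : Matrix ι ι F)) →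
      (∀ z : F, (x : Matrix ι ι F) ≠ z • (1 : Matrix ι ι F)) →
      ∃ g ∈ omegaGL ⇑Q, g⁻¹ * x * g ∈ subalgebraNormalizer K) ↔ r = 2 := by
  classical
  have : Nonempty ι := Fintype.card_pos_iff.1 (by omega)
  let _ : Field K := (isField_subalgebra hK).toField
  let _ : Module K (ι → F) := mulVecModule K
  have hsmul : ∀ (a : K) (v : ι → F), a • v = (a : Matrix ι ι F) *ᵥ v := fun _ _ => rfl
  have : IsScalarTower F K (ι → F) := ⟨fun c a v => by rw [hsmul, hsmul]; exact Matrix.smul_mulVec c _ v⟩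
  have : Finite K := Subtype.finite
  have htr0 : Algebra.trace F K ≠ 0 := by
    obtain ⟨z, hz⟩ := Algebra.trace_surjective F K 1
    exact fun h => zero_ne_one (by rw [← hz, h]; rfl)
  choose ψ hψ using fun x => exists_dual_comp (K := K) htr0 (QuadraticMap.polarBilin Q x)
  have huniq : ∀ a b : K, (∀ l : K, Algebra.trace F K (l * a) = Algebra.trace F K (l * b)) → a = b := by
    intro a b h
    by_contra hne
    obtain ⟨s, hs'⟩ := Algebra.trace_surjective F K 1
    have := h (s / (a - b))
    rw [← sub_eq_zero, ← map_sub, ← mul_sub, div_mul_cancel₀ _ (sub_ne_zero.mpr hne), hs'] at this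
    exact one_ne_zero this
  have hψl : ∀ (x y : ι → F) (l : K), Algebra.trace F K (l * ψ x y) = QuadraticMap.polar (⇑Q) x (l • y) :=
    fun x y l => by rw [← smul_eq_mul, ← map_smul, hψ, QuadraticMap.polarBilin_apply_apply]
  have hkl : ∀ (l : K) (x y : ι → F),
      QuadraticMap.polar (⇑Q) (l • x) y = QuadraticMap.polar (⇑Q) x (l • y) := fun l x y => by
    rw [hsmul, hsmul]; exact hsa _ l.2 x y
  let h : (ι → F) →ₗ[K] (ι → F) →ₗ[K] K :=
    { toFun := ψ
      map_add' := fun a b => LinearMap.ext fun y => huniq _ _ fun l => by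
        rw [hψl, QuadraticMap.polar_add_left, LinearMap.add_apply, mul_add, map_add, hψl, hψl]
      map_smul' := fun k a => LinearMap.ext fun y => huniq _ _ fun l => by
        rw [hψl, hkl, RingHom.id_apply, LinearMap.smul_apply, smul_eq_mul, ← mul_assoc, hψl,
          smul_smul, mul_comm] }
  have hsymm : ∀ u v, h u v = h v u := fun u v => huniq _ _ fun l => by
    show Algebra.trace F K (l * ψ u v) = Algebra.trace F K (l * ψ v u)
    rw [hψl, hψl, ← hkl, QuadraticMap.polar_comm]
  have hd' : finrank K (ι → F) = d := by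
    have := Module.finrank_mul_finrank F K (ι → F)
    rw [hK.finrank_eq, Module.finrank_pi, hι] at this
    omega
  refine fixes_iff_orth Q h (fun u v => (hψ u v).symm) hsymm hK.finrank_eq h2 hQ (subalgebraNormalizer K)
    (fun y => ⟨fun hy a => ?_, fun hy => ?_⟩) hd' hd hι hΩ
  · refine ⟨⟨_, (hy a.1).mp a.2⟩, fun v => ?_⟩
    rw [hsmul, hsmul, Matrix.mulVec_mulVec, Matrix.mulVec_mulVec, mul_assoc, Units.inv_mul, mul_one]
  · refine mem_normalizer_of_conj_mem fun k hk => ?_
    obtain ⟨b, hb⟩ := hy ⟨k, hk⟩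
    have e : (y : Matrix ι ι F) * k = b.1 * y := by
      refine Matrix.ext_iff_mulVec.mpr fun v => ?_
      rw [← Matrix.mulVec_mulVec, ← Matrix.mulVec_mulVec]
      exact hb v
    rw [e, mul_assoc, Units.mul_inv, mul_one]
    exact b.2

end CfsgLib.FieldExtOrth
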