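import Cfsg.Agent.LinearElements.FieldExtOrthTargets
import Cfsg.Agent.SylowTwoAb.OrthVal
import Cfsg.Agent.LinearElements.RElements

/-!
The index of the normaliser of a self-adjoint quadratic extension in `Ω` and the primes with `orderOf (q²)` even.
-/

set_option autoImplicit false

namespace CfsgLib.FieldExtOrth

open Module Submodule QuadraticMap Matrix CfsgLib.Spinor CfsgLib.StdForms

section Nat

/-- The quotient of the two orders has no factor `r`. -/
theorem not_dvd_ratio {r q a b B C n : ℕ} [Fact r.Prime] (hq2 : 2 ≤ q) (hrq : (q : ZMod r) ≠ 0) (hab : a ≤ b)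
    (hB : 0 < B) (hC : ¬ r ∣ C) (he : 2 ∣ orderOf ((q : ZMod r) ^ 2)) :
    ¬ r * (2 * q ^ a * B * ∏ t ∈ Finset.range (n / 2), ((q ^ 2) ^ (2 * (t + 1)) - 1)) ∣
      2 * q ^ b * (B * C) * ∏ i ∈ Finset.range n, (q ^ (2 * (i + 1)) - 1) := by
  intro h1
  have hrP := (Fact.out : r.Prime)
  set f : ℕ → ℕ := fun i => q ^ (2 * (i + 1)) - 1 with hf
  have hsplit : ∏ i ∈ Finset.range n, f i = (∏ t ∈ Finset.range (n / 2), ((q ^ 2) ^ (2 * (t + 1)) - 1)) *
      ∏ i ∈ (Finset.range n).filter (fun i => ¬ 2 ∣ i + 1), f i := by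
    rw [← Finset.prod_filter_mul_prod_filter_not (Finset.range n) (fun i => 2 ∣ i + 1)]
    congr 1
    symm
    refine Finset.prod_bij (fun t _ => 2 * t + 1) (fun t ht => ?_) (fun a _ b _ h => by omega) (fun i hi => ?_)
      (fun t _ => ?_)
    · rw [Finset.mem_range] at ht
      simp only [Finset.mem_filter, Finset.mem_range]
      omega
    · simp only [Finset.mem_filter, Finset.mem_range] at hi
      exact ⟨i / 2, Finset.mem_range.mpr (by omega), by omega⟩
    · simp only [hf]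
      rw [← pow_mul, show 2 * (2 * (t + 1)) = 2 * (2 * t + 1 + 1) by omega]
  rw [hsplit, ← Nat.add_sub_cancel' hab, pow_add] at h1
  set P := ∏ t ∈ Finset.range (n / 2), ((q ^ 2) ^ (2 * (t + 1)) - 1) with hP
  have hPpos : 0 < P := Finset.prod_pos fun t _ =>
    Nat.sub_pos_of_lt (Nat.one_lt_pow (by omega) (Nat.one_lt_pow two_ne_zero hq2))
  have h2 : r ∣ q ^ (b - a) * C * ∏ i ∈ (Finset.range n).filter (fun i => ¬ 2 ∣ i + 1), f i := by
    refine Nat.dvd_of_mul_dvd_mul_right (k := 2 * q ^ a * B * P)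
      (Nat.mul_pos (Nat.mul_pos (Nat.mul_pos two_pos (pow_pos (by omega) a)) hB) hPpos) (h1.trans ?_)
    exact dvd_of_eq (by ring)
  rcases hrP.prime.dvd_or_dvd h2 with h | h
  · rcases hrP.prime.dvd_or_dvd h with h | h
    · exact hrq ((ZMod.natCast_eq_zero_iff _ _).mpr (hrP.dvd_of_dvd_pow h))
    · exact hC h
  · obtain ⟨i, hi, hri⟩ := (hrP.prime.dvd_finsetProd_iff _).mp h
    rw [Finset.mem_filter] at hi
    refine hi.2 (he.trans (orderOf_dvd_of_pow_eq_one ?_))
    rw [← pow_mul]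
    have := (ZMod.natCast_eq_zero_iff _ r).mpr hri
    rw [hf, Nat.cast_sub (Nat.one_le_pow _ _ (by omega)), Nat.cast_pow, Nat.cast_one, sub_eq_zero] at this
    exact this

/-- A prime dividing `q^d ± 1` gives `orderOf (q²) ∣ d`. -/
theorem order_dvd {r q d A : ℕ} [Fact r.Prime] (hq2 : 2 ≤ q) (hA : A = q ^ d - 1 ∨ A = q ^ d + 1) (h : r ∣ A) :
    orderOf ((q : ZMod r) ^ 2) ∣ d := by
  refine orderOf_dvd_of_pow_eq_one ?_
  rw [← pow_mul, mul_comm, pow_mul]
  have e := (ZMod.natCast_eq_zero_iff A r).mpr h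
  rcases hA with rfl | rfl
  · rw [Nat.cast_sub (Nat.one_le_pow _ _ (by omega)), Nat.cast_pow, Nat.cast_one, sub_eq_zero] at e
    rw [e, one_pow]
  · rw [Nat.cast_add, Nat.cast_pow, Nat.cast_one, add_eq_zero_iff_eq_neg] at e
    rw [e, neg_one_sq]

end Nat

section Diag

variable {F : Type*} [Field F] [Fintype F]

/-- A form with an orthogonal frame is isometric to a standard form with the same class of discriminant. -/
theorem card_eq_of_frame {ι κ μ : Type} [Fintype ι] [DecidableEq ι] [Fintype κ] [DecidableEq κ] [Fintype μ]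
    [DecidableEq μ] (h2 : (2 : F) ≠ 0) {Q : QuadraticForm F (ι → F)} {R : QuadraticForm F (κ → F)}
    (hQ : (QuadraticMap.polarBilin Q).Nondegenerate) (hR : (QuadraticMap.polarBilin R).Nondegenerate)
    (hι : Fintype.card ι = Fintype.card κ) (hμ : Fintype.card μ = Fintype.card ι) (w : μ → ι → F)
    (hw : ∀ i j, i ≠ j → QuadraticMap.polarBilin Q (w i) (w j) = 0) (hw0 : ∀ i, Q (w i) ≠ 0)
    {X : F} (hX0 : X ≠ 0) (hX : IsSquare ((∏ i, Q (w i)) * X)) (hR' : IsSquare ((FormDiscr.gram R).det * (2 ^ Fintype.card κ * X))) :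
    Nat.card ↥(Cfsg.isometryGroup F ⇑Q) = Nat.card ↥(Cfsg.isometryGroup F ⇑R) := by
  classical
  let e := (Fintype.equivOfCardEq hμ : μ ≃ ι)
  let g : (ι → F) →ₗ[F] (ι → F) := ∑ i, LinearMap.smulRight (LinearMap.proj i) (w (e.symm i))
  have hg : ∀ v, Q (g v) = QuadraticMap.weightedSumSquares F (fun i => Q (w (e.symm i))) v := fun v => by
    rw [← quad_sum (fun i j h => hw _ _ (e.symm.injective.ne h))]
    simp [g]
  have hd := SylowTwoAb.isSquare_disc Q h2 g (fun i => Q (w (e.symm i))) (fun i => hw0 _) hg (X := X) (by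
    rw [Equiv.prod_comp e.symm fun i => Q (w i)]
    exact hX)
  obtain ⟨s, hs⟩ := hd
  obtain ⟨t, ht⟩ := hR'
  rw [hι] at hs
  have hc : (2 : F) ^ Fintype.card κ * X ≠ 0 := mul_ne_zero (pow_ne_zero _ h2) hX0
  obtain ⟨L, hL⟩ := SylowTwoAb.exists_equiv_of_disc h2 hQ hR hι ⟨s * t / ((2 : F) ^ Fintype.card κ * X), by
    field_simp
    linear_combination (FormDiscr.gram R).det * ((2 : F) ^ Fintype.card κ * X) * hs + s * s * ht⟩
  exact SylowTwoAb.card_isometry_eq L hL

omit [Fintype F] in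
/-- The value at a coordinate vector. -/
theorem weighted_single {κ : Type} [Fintype κ] [DecidableEq κ] (w : κ → F) (i : κ) :
    QuadraticMap.weightedSumSquares F w (Pi.single i 1) = w i := by
  rw [QuadraticMap.weightedSumSquares_apply, Finset.sum_eq_single i (fun j _ hj => by simp [hj])
    (fun hi => absurd (Finset.mem_univ i) hi)]
  simp

omit [Fintype F] in
/-- Coordinate vectors are orthogonal. -/
theorem polar_weighted_single {κ : Type} [Fintype κ] [DecidableEq κ] (w : κ → F) {i j : κ} (hij : i ≠ j) :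
    QuadraticMap.polarBilin (QuadraticMap.weightedSumSquares F w) (Pi.single i 1) (Pi.single j 1) = 0 := by
  rw [QuadraticMap.polarBilin_apply_apply, QuadraticMap.polar]
  simp only [QuadraticMap.weightedSumSquares_apply, ← Finset.sum_sub_distrib, Pi.add_apply, smul_eq_mul]
  refine Finset.sum_eq_zero fun k _ => ?_
  rcases eq_or_ne k i with rfl | hk
  · simp [hij]
  · simp [hk]

end Diag

section Index

variable {F : Type*} [Field F] [Fintype F] {ι : Type} [Fintype ι] [DecidableEq ι] (Q : QuadraticForm F (ι → F))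
  {K : Type*} [Field K] [Algebra F K] [Finite K] [Module K (ι → F)] [IsScalarTower F K (ι → F)]
  (h : (ι → F) →ₗ[K] (ι → F) →ₗ[K] K)
  (htr : ∀ u v, QuadraticMap.polar (⇑Q) u v = Algebra.trace F K (h u v)) (hsymm : ∀ u v, h u v = h v u)
  (hK : finrank F K = 2) (h2 : (2 : F) ≠ 0) (hQ : (QuadraticMap.polarBilin Q).Nondegenerate)
  (N : Subgroup (GL ι F))
  (hN : ∀ y : GL ι F, y ∈ N ↔ ∀ a : K, ∃ b : K, ∀ v : ι → F,
    (y : Matrix ι ι F) *ᵥ (a • v) = b • ((y : Matrix ι ι F) *ᵥ v))
  {d : ℕ} (hd : finrank K (ι → F) = d)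

include htr h2 hN in
omit [Fintype F] [Finite K] in
/-- The isometry group of a diagonalised form over `K` is inside the normaliser. -/
theorem diag_dvd (b : Basis (Fin d) K (ι → F)) (hb : ∀ i j, i ≠ j → h (b i) (b j) = 0) (w : Fin d → K) (c : K)
    (hw : ∀ i, h (b i) (b i) = c * w i) :
    Nat.card ↥(Cfsg.isometryGroup K ⇑(QuadraticMap.weightedSumSquares K w)) ∣
      Nat.card ↥(N ⊓ Cfsg.isometryGroup F ⇑Q) := by
  classical
  set G := Cfsg.isometryGroup K ⇑(QuadraticMap.weightedSumSquares K w)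
  let mK : G →* ((ι → F) ≃ₗ[F] (ι → F)) :=
    { toFun := fun g => ((b.equivFun.trans (CfsgLib.ExtField.glAut (g : GL (Fin d) K))).trans
        b.equivFun.symm).restrictScalars F
      map_one' := LinearEquiv.ext fun v => by simp
      map_mul' := fun a a' => LinearEquiv.ext fun v => by
        show b.equivFun.symm (CfsgLib.ExtField.glAut ((a * a' : G) : GL (Fin d) K) (b.equivFun v)) =
          b.equivFun.symm (CfsgLib.ExtField.glAut (a : GL (Fin d) K) (b.equivFun (b.equivFun.symm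
            (CfsgLib.ExtField.glAut (a' : GL (Fin d) K) (b.equivFun v)))))
        rw [LinearEquiv.apply_symm_apply, Subgroup.coe_mul, map_mul]
        rfl }
  let φ : G →* GL ι F := (CfsgLib.ExtField.glAut : GL ι F ≃* _).symm.toMonoidHom.comp mK
  have hφ : ∀ g v, (φ g : Matrix ι ι F) *ᵥ v =
      b.equivFun.symm (((g : GL (Fin d) K) : Matrix (Fin d) (Fin d) K) *ᵥ b.equivFun v) := fun g v => by
    rw [← CfsgLib.ExtField.glAut_apply]
    show CfsgLib.ExtField.glAut (CfsgLib.ExtField.glAut.symm (mK g)) v = _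
    rw [MulEquiv.apply_symm_apply]
    show b.equivFun.symm (CfsgLib.ExtField.glAut (g : GL (Fin d) K) (b.equivFun v)) = _
    rw [CfsgLib.ExtField.glAut_apply]
  have hh : ∀ x : Fin d → K, h (b.equivFun.symm x) (b.equivFun.symm x) =
      c * QuadraticMap.weightedSumSquares K w x := fun x => by
    rw [Basis.equivFun_symm_apply, h_sum h b hb, QuadraticMap.weightedSumSquares_apply, Finset.mul_sum]
    exact Finset.sum_congr rfl fun i _ => by rw [hw, smul_eq_mul]; ring
  have hmem : ∀ g, φ g ∈ N ⊓ Cfsg.isometryGroup F ⇑Q := fun g =>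
    ⟨(hN _).mpr fun a => ⟨a, fun v => by rw [hφ, hφ, map_smul, Matrix.mulVec_smul, map_smul]⟩, fun v _ => by
      show Q ((φ g : Matrix ι ι F) *ᵥ v) = Q v
      have e : h ((φ g : Matrix ι ι F) *ᵥ v) ((φ g : Matrix ι ι F) *ᵥ v) = h v v := by
        rw [hφ, hh, quad_mulVec _ g, ← hh, LinearEquiv.symm_apply_apply]
      have e1 := htr ((φ g : Matrix ι ι F) *ᵥ v) ((φ g : Matrix ι ι F) *ᵥ v)
      rw [e, ← htr, QuadraticMap.polar_self, QuadraticMap.polar_self] at e1
      simp only [nsmul_eq_mul, Nat.cast_ofNat] at e1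
      exact mul_left_cancel₀ h2 e1⟩
  refine Subgroup.card_dvd_of_injective (φ.codRestrict _ hmem) fun a a' e => ?_
  refine Subtype.ext (Units.ext (Matrix.ext_iff_mulVec.mpr fun x => ?_))
  obtain ⟨v, rfl⟩ := b.equivFun.surjective x
  apply b.equivFun.symm.injective
  rw [← hφ, ← hφ, show φ a = φ a' from congrArg Subtype.val e]

include h2 hQ in
/-- The index in `Ω` times the normaliser of the field in the orthogonal group divides the orthogonal group. -/
theorem relIndex_mul_dvd' (hn : 2 ≤ Fintype.card ι) :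
    N.relIndex (Cfsg.Geo.omegaGL ⇑Q) * Nat.card ↥(N ⊓ Cfsg.isometryGroup F ⇑Q) ∣
      Nat.card ↥(Cfsg.isometryGroup F ⇑Q) := by
  set O := Cfsg.isometryGroup F ⇑Q
  set W := Cfsg.Omega F ⇑Q with hW
  have e1 : N.relIndex (Cfsg.Geo.omegaGL ⇑Q) = (N.subgroupOf O).relIndex W :=
    (Subgroup.relIndex_comap N O.subtype W).symm
  have e2 : Nat.card ↥(N ⊓ O) = Nat.card (N.subgroupOf O) := by
    rw [← Subgroup.inf_subgroupOf_right N O]
    exact (Nat.card_congr (Subgroup.subgroupOfEquivOfLe inf_le_right).toEquiv).symm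
  set N' := N.subgroupOf O
  have hmul : ∀ A B : Subgroup O, A.relIndex B * Nat.card ↥(A ⊓ B) = Nat.card B := fun A B => by
    rw [← (A.subgroupOf B).index_mul_card, Subgroup.relIndex]
    congr 1
    rw [← Subgroup.inf_subgroupOf_right A B]
    exact (Nat.card_congr (Subgroup.subgroupOfEquivOfLe inf_le_right).toEquiv).symm
  have : W.Normal := by rw [hW, Cfsg.Omega]; infer_instance
  have h4 : W.relIndex N' ∣ 4 := Forms.index_omega_odd h2 hQ hn ▸ Subgroup.relIndex_dvd_index_of_normal W N'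
  rw [e1, e2, ← hmul W N', ← W.card_mul_index, Forms.index_omega_odd h2 hQ hn, ← hmul N' W, inf_comm W N',
    mul_left_comm, mul_comm]
  exact mul_dvd_mul_left _ h4

include htr hsymm hK h2 hQ hN hd in
/-- A prime with `orderOf (q²)` even does not divide the index. -/
theorem not_dvd_index (hd2 : 2 ≤ d) (hι : Fintype.card ι = 2 * d) {r : ℕ} [Fact r.Prime]
    (hrq : (Fintype.card F : ZMod r) ≠ 0) (he : 2 ∣ orderOf ((Fintype.card F : ZMod r) ^ 2)) :
    ¬ r ∣ N.relIndex (Cfsg.Geo.omegaGL ⇑Q) := by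
  intro hr
  classical
  let _ := Fintype.ofFinite K
  have : FiniteDimensional K (ι → F) := FiniteDimensional.of_finrank_pos (by omega)
  have h2K : (2 : K) ≠ 0 := by rw [← map_ofNat (algebraMap F K) 2]; simpa using h2
  have hKc : ringChar K ≠ 2 := fun e => h2K (by have := ringChar.eq_iff.1 e; exact CharTwo.two_eq_zero)
  have hFc : ringChar F ≠ 2 := fun e => h2 (by have := ringChar.eq_iff.1 e; exact CharTwo.two_eq_zero)
  obtain ⟨α, hα⟩ := FiniteField.exists_nonsquare hKc
  have hα0 : α ≠ 0 := fun e => hα (e ▸ ⟨0, by simp⟩)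
  obtain ⟨hαN, -⟩ := nonsquare_facts (F := F) hK h2 hα
  obtain ⟨n, rfl⟩ : ∃ n, d = n + 1 := ⟨d - 1, by omega⟩
  obtain ⟨b, hb, hb1, hbl⟩ := CfsgLib.Forms.exists_diagonal_basis_symm h2K h ⟨hsymm⟩ (h_sep Q h htr hQ) hα hd
  set β := h (b (Fin.last n)) (b (Fin.last n)) with hβ
  have hbne : ∀ i, h (b i) (b i) ≠ 0 := fun i => by
    by_cases hi : i = Fin.last n
    · rcases hbl with e | e <;> rw [hi, ← hβ, e]
      · exact one_ne_zero
      · exact hα0
    · rw [hb1 i hi]; exact one_ne_zero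
  have hβprod : ∏ i, h (b i) (b i) = β := by
    rw [Finset.prod_eq_single (Fin.last n) (fun i _ hi => hb1 i hi) (fun hi => absurd (Finset.mem_univ _) hi)]
  obtain ⟨w, -, hw0, hwo, hwχ⟩ := exists_frame_of_basis Q h htr hK h2 b hb hbne
  set q := Fintype.card F with hq
  have hq2 : 2 ≤ q := Fintype.one_lt_card
  have hQK : Fintype.card K = q ^ 2 := by rw [Module.card_eq_pow_finrank (K := F), hK]
  have hq2' : Odd q := Nat.odd_iff.mpr (FiniteField.odd_card_of_char_ne_two hFc)
  have hQodd : Odd (q ^ 2) := hq2'.pow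
  have hneg : IsSquare (-1 : K) := by
    rw [FiniteField.isSquare_neg_one_iff, hQK]
    obtain ⟨k, hk⟩ := hq2'
    rw [hk, show (2 * k + 1) ^ 2 = 4 * (k * (k + 1)) + 1 by ring]
    omega
  have h1 : ∀ {w' : Fin (n + 1) → K} {c : K}, (∀ i, h (b i) (b i) = c * w' i) →
      r * Nat.card ↥(Cfsg.isometryGroup K ⇑(QuadraticMap.weightedSumSquares K w')) ∣
        Nat.card ↥(Cfsg.isometryGroup F ⇑Q) := fun hw' =>
    (mul_dvd_mul hr (diag_dvd Q h htr h2 N hN b hb _ _ hw')).trans (relIndex_mul_dvd' Q h2 hQ N (by omega))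
  set X := ∏ p, Q (w p) with hX
  have hX0 : X ≠ 0 := Finset.prod_ne_zero_iff.mpr fun p _ => hw0 p
  have hXχ : quadraticChar F X = (-1) ^ (n + 1) * quadraticChar F (Algebra.norm F β) := by
    rw [hX, Fintype.prod_prod_type, map_prod]
    simp only [Fin.prod_univ_two, hwχ]
    rw [Finset.prod_neg, Finset.card_univ, Fintype.card_fin, ← hβprod, map_prod, map_prod]
  have hι' : Fintype.card ι = Fintype.card (Fin (n + 1) ⊕ Fin (n + 1)) := by
    rw [hι, Fintype.card_sum, Fintype.card_fin, two_mul]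
  have hι'' : Fintype.card ι = Fintype.card ((Fin n ⊕ Fin n) ⊕ Fin 2) := by
    simp only [Fintype.card_sum, Fintype.card_fin, hι]; ring
  have hμ : Fintype.card (Fin (n + 1) × Fin 2) = Fintype.card ι := by
    rw [hι, Fintype.card_prod, Fintype.card_fin, Fintype.card_fin, mul_comm]
  obtain ⟨ν, hν⟩ := FiniteField.exists_nonsquare hFc
  have hν0 : ν ≠ 0 := fun e => hν (e ▸ ⟨0, by simp⟩)
  have hab : ∀ z₁ z₂ : F, z₁ ^ 2 + 0 * z₁ * z₂ + -ν * z₂ ^ 2 = 0 → z₁ = 0 ∧ z₂ = 0 := fun x y hxy => by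
    have hy : y = 0 := by
      by_contra hy
      exact hν ⟨x / y, by field_simp; linear_combination -hxy⟩
    exact ⟨pow_eq_zero_iff two_ne_zero |>.1 (by rw [hy] at hxy; linear_combination hxy), hy⟩
  have hplus : ∀ Y : F, Y ≠ 0 → IsSquare (X * Y) → IsSquare ((-1) ^ (n + 1) * Y) →
      Nat.card ↥(Cfsg.isometryGroup F ⇑Q) =
        2 * q ^ ((n + 1) * n) * (q ^ (n + 1) - 1) * ∏ i ∈ Finset.range n, (q ^ (2 * (i + 1)) - 1) := fun Y hY0 hY hY' => by
    rw [card_eq_of_frame h2 hQ (plusQ_nondegenerate (n + 1)) hι' hμ w hwo hw0 hY0 hY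
      (by simpa [Fintype.card_sum, two_mul] using SylowTwoAb.disc_plus (m := n + 1) h2 hY'), coe_plusQ,
      Forms4.card_isometryGroup_quadFormPlus rfl (n + 1) (by omega), Nat.add_sub_cancel]
  have hminus : ∀ Y : F, Y ≠ 0 → IsSquare (X * Y) → IsSquare ((-1) ^ n * (-ν) * Y) →
      Nat.card ↥(Cfsg.isometryGroup F ⇑Q) =
        2 * q ^ ((n + 1) * n) * (q ^ (n + 1) + 1) * ∏ i ∈ Finset.range n, (q ^ (2 * (i + 1)) - 1) := fun Y hY0 hY hY' => by
    have hD := disc_ne_zero_of_anisotropic h2 hab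
    have e := card_eq_of_frame h2 hQ (minusQ_nondegenerate n hD) hι'' hμ w hwo hw0 hY0 hY
      (by
        rw [show Fintype.card ((Fin n ⊕ Fin n) ⊕ Fin 2) = 2 * n + 2 by simp; ring]
        exact SylowTwoAb.disc_minus h2 hD (by simpa using hY'))
    have := Forms4.card_isometryGroup_quadFormMinus (F := F) rfl (n + 1) (by omega) 0 (-ν) hab
    rw [e, coe_minusQ]
    simpa using this
  have hνν : IsSquare (ν * ν) := ⟨ν, rfl⟩
  rcases Nat.even_or_odd (n + 1) with heven | hodd
  · obtain ⟨m, hm⟩ := heven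
    have hn1 : (-1 : ℤ) ^ (n + 1) = 1 := Even.neg_one_pow ⟨m, hm⟩
    have hn2 : (-1 : F) ^ (n + 1) = 1 := Even.neg_one_pow ⟨m, hm⟩
    have hn3 : (-1 : F) ^ n = -1 := Odd.neg_one_pow ⟨m - 1, by omega⟩
    rw [hn1, one_mul] at hXχ
    have hKι : Fintype.card (Fin (n + 1)) = Fintype.card (Fin m ⊕ Fin m) := by
      rw [Fintype.card_sum, Fintype.card_fin, Fintype.card_fin, hm]
    have hKι' : Fintype.card (Fin (n + 1)) = Fintype.card ((Fin (m - 1) ⊕ Fin (m - 1)) ⊕ Fin 2) := by
      simp only [Fintype.card_sum, Fintype.card_fin]; omega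
    have hRnd := SylowTwoAb.diag_nondegenerate (F := K) h2K hbne
    have hexp : (m * (m - 1)) * 2 ≤ (n + 1) * n := by
      have h' : m * (m - 1) ≤ m * n := Nat.mul_le_mul_left m (by omega)
      rw [hm, add_mul]
      omega
    have hn2' : n / 2 = m - 1 := by omega
    have hC : ¬ r ∣ 1 := fun e => (Fact.out : r.Prime).ne_one (Nat.dvd_one.mp e)
    have hne : h (b 0) (b 0) ≠ 0 := hbne 0
    rcases hbl with hl | hl
    · have hX1 : IsSquare X := (quadraticChar_one_iff_isSquare hX0).mp (by rw [hXχ, hl, map_one, map_one])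
      have hO := hplus 1 one_ne_zero (by rwa [mul_one]) (by rw [hn2, one_mul]; exact IsSquare.one)
      have hR := card_eq_of_frame (μ := Fin (n + 1)) (κ := Fin m ⊕ Fin m) h2K
        (Q := QuadraticMap.weightedSumSquares K fun i => h (b i) (b i)) hRnd (plusQ_nondegenerate m) hKι rfl
        (fun i => Pi.single i 1) (fun i j hij => polar_weighted_single _ hij)
        (fun i => by rw [weighted_single]; exact hbne i) (X := (1 : K)) one_ne_zero
        (by simp only [weighted_single]; rw [hβprod, hl, mul_one]; exact IsSquare.one)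
        (by
          simpa [Fintype.card_sum, two_mul] using
            SylowTwoAb.disc_plus (m := m) (X := (1 : K)) h2K (by rw [mul_one]; exact hneg.pow m))
      rw [coe_plusQ, Forms4.card_isometryGroup_quadFormPlus hQK m (by omega), ← pow_mul q 2 (m * (m - 1)),
        ← pow_mul q 2 m, show 2 * m = n + 1 by omega] at hR
      have h3 := h1 (w' := fun i => h (b i) (b i)) (c := 1) fun i => (one_mul _).symm
      rw [hR, hO, ← hn2'] at h3
      refine not_dvd_ratio hq2 hrq (a := 2 * (m * (n / 2))) (b := (n + 1) * n) (n := n) (C := 1) (B := q ^ (n + 1) - 1) (by rw [hn2']; omega)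
        (Nat.sub_pos_of_lt (Nat.one_lt_pow (by omega) hq2)) hC he ?_
      rw [mul_one]
      exact h3
    · have hXn : ¬ IsSquare X := quadraticChar_neg_one_iff_not_isSquare.mp (by rw [hXχ, hl, hαN])
      have hO := hminus ν hν0 (SylowTwoAb.isSquare_mul_of_not _ _ hXn hν)
        (by rw [hn3, neg_one_mul, neg_neg]; exact hνν)
      have habK : ∀ z₁ z₂ : K, z₁ ^ 2 + 0 * z₁ * z₂ + -α * z₂ ^ 2 = 0 → z₁ = 0 ∧ z₂ = 0 := fun x y hxy => by
        have hy : y = 0 := by
          by_contra hy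
          exact hα ⟨x / y, by field_simp; linear_combination -hxy⟩
        exact ⟨pow_eq_zero_iff two_ne_zero |>.1 (by rw [hy] at hxy; linear_combination hxy), hy⟩
      have hDK := disc_ne_zero_of_anisotropic h2K habK
      have hR := card_eq_of_frame (μ := Fin (n + 1)) (κ := (Fin (m - 1) ⊕ Fin (m - 1)) ⊕ Fin 2) h2K
        (Q := QuadraticMap.weightedSumSquares K fun i => h (b i) (b i)) hRnd (minusQ_nondegenerate (m - 1) hDK)
        hKι' rfl
        (fun i => Pi.single i 1) (fun i j hij => polar_weighted_single _ hij)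
        (fun i => by rw [weighted_single]; exact hbne i) (X := α) hα0
        (by simp only [weighted_single]; rw [hβprod, hl]; exact ⟨α, rfl⟩)
        (by
          rw [← hKι', Fintype.card_fin, show n + 1 = 2 * (m - 1) + 2 by omega]
          refine SylowTwoAb.disc_minus h2K hDK ?_
          rw [zero_pow two_ne_zero, zero_div, sub_zero, mul_assoc, neg_mul]
          obtain ⟨i, hi⟩ := hneg.pow m
          refine ⟨i * α, ?_⟩
          have : (-1 : K) ^ m = (-1) ^ (m - 1) * -1 := by rw [← pow_succ, Nat.sub_add_cancel (by omega)]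
          linear_combination (α * α) * hi - (α * α) * this)
      rw [coe_minusQ, Forms4.card_isometryGroup_quadFormMinus hQK m (by omega) 0 (-α) habK, ← pow_mul q 2 (m * (m - 1)),
        ← pow_mul q 2 m, show 2 * m = n + 1 by omega] at hR
      have h3 := h1 (w' := fun i => h (b i) (b i)) (c := 1) fun i => (one_mul _).symm
      rw [hR, hO, ← hn2'] at h3
      refine not_dvd_ratio hq2 hrq (a := 2 * (m * (n / 2))) (b := (n + 1) * n) (n := n) (C := 1) (B := q ^ (n + 1) + 1) (by rw [hn2']; omega)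
        (Nat.succ_pos _) hC he ?_
      rw [mul_one]
      exact h3
  · obtain ⟨m, hm⟩ := hodd
    have hC : ∀ A, A = q ^ (n + 1) - 1 ∨ A = q ^ (n + 1) + 1 → ¬ r ∣ A := fun A hA e => by
      have := he.trans (order_dvd hq2 hA e)
      omega
    obtain ⟨A, hA, hO⟩ : ∃ A, ¬ r ∣ A ∧ Nat.card ↥(Cfsg.isometryGroup F ⇑Q) =
        2 * q ^ ((n + 1) * n) * A * ∏ i ∈ Finset.range n, (q ^ (2 * (i + 1)) - 1) := by
      by_cases hs : IsSquare (X * (-1) ^ (n + 1))
      · exact ⟨_, hC _ (Or.inl rfl), hplus _ (pow_ne_zero _ (neg_ne_zero.mpr one_ne_zero)) hs ⟨(-1) ^ (n + 1), rfl⟩⟩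
      · refine ⟨_, hC _ (Or.inr rfl), hminus ((-1) ^ (n + 1) * ν)
          (mul_ne_zero (pow_ne_zero _ (neg_ne_zero.mpr one_ne_zero)) hν0) ?_ ⟨(-1) ^ n * ν, ?_⟩⟩
        · rw [← mul_assoc]
          exact SylowTwoAb.isSquare_mul_of_not _ _ hs hν
        · rw [pow_succ]; ring
    obtain ⟨c, w', hc0, hcw, hw'⟩ : ∃ (c : K) (w' : Fin (n + 1) → K), c ≠ 0 ∧ (∀ i, h (b i) (b i) = c * w' i) ∧
        IsSquare (∏ i, w' i) := by
      rcases hbl with hl | hl
      · exact ⟨1, fun i => h (b i) (b i), one_ne_zero, fun i => (one_mul _).symm, by rw [hβprod, hl]; exact IsSquare.one⟩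
      · refine ⟨α, fun i => α⁻¹ * h (b i) (b i), hα0, fun i => by field_simp, ?_⟩
        rw [Finset.prod_mul_distrib, hβprod, hl, Finset.prod_const, Finset.card_univ, Fintype.card_fin, pow_succ]
        refine ⟨(α⁻¹) ^ m, ?_⟩
        rw [show n = 2 * m by omega, pow_mul]
        field_simp
        ring
    have hw'0 : ∀ i, w' i ≠ 0 := fun i e => hbne i (by rw [hcw, e, mul_zero])
    have hKι : Fintype.card (Fin (n + 1)) = Fintype.card (Unit ⊕ (Fin m ⊕ Fin m)) := by
      simp only [Fintype.card_sum, Fintype.card_fin, Fintype.card_unit]; omega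
    have hR := card_eq_of_frame (μ := Fin (n + 1)) (κ := Unit ⊕ (Fin m ⊕ Fin m)) h2K
      (Q := QuadraticMap.weightedSumSquares K w') (SylowTwoAb.diag_nondegenerate h2K hw'0) (oddQ_nondegenerate h2K m)
      hKι rfl (fun i => Pi.single i 1) (fun i j hij => polar_weighted_single _ hij)
      (fun i => by rw [weighted_single]; exact hw'0 i) (X := (1 : K)) one_ne_zero
      (by simp only [weighted_single]; rwa [mul_one])
      (by
        rw [← hKι, Fintype.card_fin, show n + 1 = 2 * m + 1 by omega]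
        exact SylowTwoAb.disc_odd h2K (by rw [mul_one]; exact hneg.pow m))
    rw [coe_oddQ, Forms4.card_isometryGroup_quadFormOdd hQK hQodd, ← pow_mul q 2 (m ^ 2)] at hR
    have h3 := h1 hcw
    rw [hR, hO, show m = n / 2 by omega] at h3
    refine not_dvd_ratio hq2 hrq (a := 2 * (n / 2) ^ 2) (b := (n + 1) * n) (n := n) (C := A) (B := 1) ?_ one_pos hA he ?_
    · rw [show n / 2 = m by omega, show n = 2 * m by omega, pow_two]
      calc 2 * (m * m) = (2 * m) * m := by ring
        _ ≤ (2 * m) * (2 * m) := Nat.mul_le_mul_left _ (by omega)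
        _ ≤ _ := Nat.mul_le_mul_right _ (by omega)
    · rw [mul_one, one_mul]
      exact h3

end Index

end CfsgLib.FieldExtOrth
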