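import Cfsg.Agent.LinearElements.FieldExtOrthLines

/-!
Elements of order two modulo scalars of `Ω` are conjugate in `Ω` to maps normalising a self-adjoint quadratic
extension.
-/

set_option autoImplicit false

namespace CfsgLib.FieldExtOrth

open Module Submodule QuadraticMap Matrix CfsgLib.Spinor

section Families

variable {F V : Type*} [Field F] [Fintype F] [AddCommGroup V] [Module F V]
  {Q : QuadraticForm F V} {κ κ' : Type*} [Fintype κ] [Fintype κ']

local notation "𝔅" => QuadraticMap.polarBilin Q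

/-- Change the values of an orthogonal family, for any index types. -/
theorem exists_values' (h2 : (2 : F) ≠ 0) {b : κ → V} (hb : ∀ i j, i ≠ j → 𝔅 (b i) (b j) = 0)
    (hQ : ∀ i, Q (b i) ≠ 0) (c : κ' → F) (hcard : Fintype.card κ = Fintype.card κ') (hc : ∀ i, c i ≠ 0)
    (hsq : IsSquare ((∏ i, Q (b i)) * ∏ i, c i)) :
    ∃ b' : κ' → V, (∀ i, b' i ∈ span F (Set.range b)) ∧ (∀ i j, i ≠ j → 𝔅 (b' i) (b' j) = 0) ∧
      ∀ i, Q (b' i) = c i := by
  let e := (Fintype.equivFin κ).symm
  let e' := ((finCongr hcard).trans (Fintype.equivFin κ').symm)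
  obtain ⟨b', h1, h2', h3⟩ := exists_values (Q := Q) (b := b ∘ e) h2 (fun i j h => hb _ _ (e.injective.ne h))
    (fun i => hQ _) (c ∘ e') (fun i => hc _) (by
      simp only [Function.comp_apply]
      rw [Equiv.prod_comp e fun i => Q (b i), Equiv.prod_comp e' c]
      exact hsq)
  refine ⟨b' ∘ e'.symm, fun i => ?_, fun i j h => h2' _ _ (e'.symm.injective.ne h), fun i => by simp [h3]⟩
  exact Submodule.span_mono (Set.range_comp_subset_range _ _) (h1 _)

end Families

variable {F : Type*} [Field F] [Fintype F] {ι : Type} [Fintype ι] [DecidableEq ι] (Q : QuadraticForm F (ι → F))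

local notation "𝔅" => QuadraticMap.polarBilin Q
local notation "V" => (ι → F)

section Rotation

variable {Q}

omit [Fintype F] [Fintype ι] [DecidableEq ι] in
/-- An isometry with square `-1` is skew. -/
theorem quarter_skew (h2 : (2 : F) ≠ 0) {g : V →ₗ[F] V} (hg : ∀ v, Q (g v) = Q v) (hgg : ∀ v, g (g v) = -v)
    (u : V) : 𝔅 u (g u) = 0 := by
  have h := polar_isometry hg u (g u)
  rw [hgg, map_neg, polar_comm'] at h
  have h' : (2 : F) * 𝔅 u (g u) = 0 := by linear_combination -h
  exact (mul_eq_zero.mp h').resolve_left h2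

omit [Fintype F] in
/-- Reflections in two vectors of a rotated plane conjugate the rotation in the same way. -/
theorem refl_conj_rot (h2 : (2 : F) ≠ 0) {g : V →ₗ[F] V} (hg : ∀ v, Q (g v) = Q v) (hgg : ∀ v, g (g v) = -v)
    {u w : V} {s t : F} (hu : Q u ≠ 0) (hw : w = s • u + t • g u) (hQw : Q w = (s ^ 2 + t ^ 2) * Q u)
    (hw0 : Q w ≠ 0) (v : V) : refl Q u (g (refl Q u v)) = refl Q w (g (refl Q w v)) := by
  rw [refl_conj_quarter h2 hg hgg hu, refl_conj_quarter h2 hg hgg hw0, hQw]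
  have hst : s ^ 2 + t ^ 2 ≠ 0 := fun e => hw0 (by rw [hQw, e, zero_mul])
  have hgw : g w = s • g u - t • u := by rw [hw, map_add, map_smul, map_smul, hgg, smul_neg, sub_eq_add_neg]
  rw [hgw, hw]
  simp only [map_add, map_sub, map_smul, smul_eq_mul]
  match_scalars <;> field_simp <;> ring

end Rotation

variable {K : Type*} [Field K] [Algebra F K] [Finite K] [Module K (ι → F)] [IsScalarTower F K (ι → F)]
  (h : (ι → F) →ₗ[K] (ι → F) →ₗ[K] K)
  (htr : ∀ u v, QuadraticMap.polar (⇑Q) u v = Algebra.trace F K (h u v)) (hsymm : ∀ u v, h u v = h v u)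
  (hK : finrank F K = 2) (h2 : (2 : F) ≠ 0) (hQ : (QuadraticMap.polarBilin Q).Nondegenerate)
  (N : Subgroup (GL ι F))
  (hN : ∀ y : GL ι F, y ∈ N ↔ ∀ a : K, ∃ b : K, ∀ v : ι → F,
    (y : Matrix ι ι F) *ᵥ (a • v) = b • ((y : Matrix ι ι F) *ᵥ v))

include hN in
omit [Fintype F] [Finite K] [IsScalarTower F K (ι → F)] [Algebra F K] in
/-- A conjugate equal to a semilinear map. -/
theorem conj_mem {x g : GL ι F} (Y : V → V) (hY : ∀ a : K, ∃ b : K, ∀ v, Y (a • v) = b • Y v)
    (hc : ∀ v, (x : Matrix ι ι F) *ᵥ ((g : Matrix ι ι F) *ᵥ v) = (g : Matrix ι ι F) *ᵥ Y v) :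
    g⁻¹ * x * g ∈ N := by
  have e : ∀ v, ((g⁻¹ * x * g : GL ι F) : Matrix ι ι F) *ᵥ v = Y v := fun v => by
    rw [Units.val_mul, Units.val_mul, ← Matrix.mulVec_mulVec, ← Matrix.mulVec_mulVec, hc, Matrix.mulVec_mulVec,
      Units.inv_mul, Matrix.one_mulVec]
  refine (hN _).mpr fun a => ?_
  obtain ⟨b, hb⟩ := hY a
  exact ⟨b, fun v => by rw [e, e, hb]⟩

variable {d : ℕ} (hd : finrank K (ι → F) = d)

omit [Fintype F] [Finite K] [IsScalarTower F K (ι → F)] [Fintype ι] [DecidableEq ι] [Algebra F K] in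
/-- Values on an orthogonal basis. -/
theorem h_sum (b : Basis (Fin d) K V) (hb : ∀ i j, i ≠ j → h (b i) (b j) = 0) (a : Fin d → K) :
    h (∑ i, a i • b i) (∑ i, a i • b i) = ∑ i, a i * a i * h (b i) (b i) := by
  conv_lhs => rw [map_sum]
  simp only [LinearMap.sum_apply, map_sum]
  refine Finset.sum_congr rfl fun i _ => ?_
  rw [Finset.sum_eq_single i (fun j _ hj => by
    rw [map_smul, map_smul, LinearMap.smul_apply, hb j i hj, smul_zero, smul_zero])
    (fun hi => absurd (Finset.mem_univ i) hi)]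
  simp only [map_smul, LinearMap.smul_apply, smul_eq_mul]
  ring

omit [Fintype ι] [DecidableEq ι] in
/-- Coordinates changed by the conjugation and a factor. -/
theorem exists_lineConj (b : Basis (Fin d) K V) (c : Fin d → K) :
    ∃ Y : V →ₗ[F] V, (∀ v, Y v = ∑ i, (c i * conj (F := F) (b.repr v i)) • b i) ∧
      (∀ (a : K) v, Y (a • v) = conj (F := F) a • Y v) ∧
      ∀ (i) (k : K), Y (k • b i) = (c i * conj (F := F) k) • b i := by
  let Y : V →ₗ[F] V :=
    { toFun := fun v => ∑ i, (c i * conj (F := F) (b.repr v i)) • b i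
      map_add' := fun u v => by
        simp only [map_add, Finsupp.add_apply, mul_add, add_smul, Finset.sum_add_distrib]
      map_smul' := fun r v => by
        rw [RingHom.id_apply, Finset.smul_sum]
        refine Finset.sum_congr rfl fun i _ => ?_
        rw [← algebraMap_smul K r v, map_smul, Finsupp.smul_apply, smul_eq_mul, map_mul, AlgEquiv.commutes,
          mul_left_comm, mul_smul, algebraMap_smul] }
  refine ⟨Y, fun v => rfl, fun a v => ?_, fun i k => ?_⟩
  · show (∑ i, (c i * conj (F := F) (b.repr (a • v) i)) • b i) =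
      conj (F := F) a • ∑ i, (c i * conj (F := F) (b.repr v i)) • b i
    rw [Finset.smul_sum]
    refine Finset.sum_congr rfl fun i _ => ?_
    rw [map_smul, Finsupp.smul_apply, smul_eq_mul, map_mul, mul_left_comm, mul_smul]
  · show (∑ j, (c j * conj (F := F) (b.repr (k • b i) j)) • b j) = _
    rw [Finset.sum_eq_single i (fun j _ hj => by simp [hj.symm]) (fun hi => absurd (Finset.mem_univ i) hi)]
    simp

include htr hsymm hK h2 hQ hN hd in
/-- An element with square `-1`. -/
theorem exists_conj_of_quarter (hd0 : 0 < d) (hι : Fintype.card ι = 2 * d) {x : GL ι F}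
    (hx : x ∈ Cfsg.Geo.omegaGL ⇑Q) (hxx : ∀ v, (x : Matrix ι ι F) *ᵥ ((x : Matrix ι ι F) *ᵥ v) = -v) :
    ∃ g ∈ Cfsg.Geo.omegaGL ⇑Q, g⁻¹ * x * g ∈ N := by
  classical
  obtain ⟨x', -, rfl⟩ := hx
  set X : V →ₗ[F] V := Matrix.toLin' (mat Q x') with hX
  have hXv : ∀ v, X v = mat Q x' *ᵥ v := fun v => Matrix.toLin'_apply _ v
  have hXi : ∀ v, Q (X v) = Q v := fun v => by rw [hXv]; exact quad_mulVec Q x' v
  have hXX : ∀ v, X (X v) = -v := fun v => by rw [hXv, hXv]; exact hxx v
  have : FiniteDimensional K V := FiniteDimensional.of_finrank_pos (by omega)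
  let _ := Fintype.ofFinite K
  have h2K : (2 : K) ≠ 0 := by rw [← map_ofNat (algebraMap F K) 2]; simpa using h2
  have hKc : ringChar K ≠ 2 := fun e => h2K (by have := ringChar.eq_iff.1 e; exact CharTwo.two_eq_zero)
  obtain ⟨α, hα⟩ := FiniteField.exists_nonsquare hKc
  have hα0 : α ≠ 0 := fun e => hα (e ▸ ⟨0, by simp⟩)
  obtain ⟨hαN, m, hm1, hm2⟩ := nonsquare_facts (F := F) hK h2 hα
  have hfr : finrank F V = Fintype.card (Fin d × Fin 2) := by
    rw [Module.finrank_pi, hι, Fintype.card_prod, Fintype.card_fin, Fintype.card_fin, mul_comm]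
  have quarterFrame : ∀ G : V →ₗ[F] V, (∀ v, Q (G v) = Q v) → (∀ v, G (G v) = -v) →
      ∃ w : Fin d → V, (∀ p : Fin d × Fin 2, Q ((![w p.1, G (w p.1)] : Fin 2 → V) p.2) = 1) ∧
        ∀ p p' : Fin d × Fin 2, p ≠ p' →
          𝔅 ((![w p.1, G (w p.1)] : Fin 2 → V) p.2) ((![w p'.1, G (w p'.1)] : Fin 2 → V) p'.2) = 0 := by
    intro G hG hGG
    obtain ⟨k, w, hk, -, hw1, hww, hwg⟩ := exists_frame_quarter (Q := Q) h2 hG hGG _ (W := ⊤) rfl
      (fun _ _ => Submodule.mem_top) (fun w _ hw => by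
        by_contra hh
        push Not at hh
        exact hw (hQ.1 w fun y => hh y Submodule.mem_top))
    obtain rfl : k = d := by rw [finrank_top, Module.finrank_pi, hι] at hk; omega
    refine ⟨w, fun ⟨i, j⟩ => ?_, fun ⟨i, j⟩ ⟨i', j'⟩ hne => ?_⟩
    · fin_cases j
      · exact hw1 i
      · exact (hG _).trans (hw1 i)
    · fin_cases j <;> fin_cases j'
      · exact hww i i' fun e => hne (by rw [e])
      · exact hwg i i'
      · exact (polar_comm' _ _).trans (hwg i' i)
      · exact (polar_isometry hG _ _).trans (hww i i' fun e => hne (by rw [e]))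
  obtain ⟨wx, hwx1, hwxo⟩ := quarterFrame X hXi hXX
  obtain ⟨n, rfl⟩ : ∃ n, d = n + 1 := ⟨d - 1, by omega⟩
  obtain ⟨b, hb, hbne, hbα⟩ : ∃ b : Basis (Fin (n + 1)) K V, (∀ i j, i ≠ j → h (b i) (b j) = 0) ∧
      (∀ i, h (b i) (b i) ≠ 0) ∧ ∀ i, h (b i) (b i) = α := by
    obtain ⟨b, hb, hb1, hbl⟩ := CfsgLib.Forms.exists_diagonal_basis_symm h2K (α⁻¹ • h)
      ⟨fun u v => by simp [hsymm u v]⟩ (fun u hu => h_sep Q h htr hQ u fun y => by simpa [hα0] using hu y) hα hd
    have hb' : ∀ i j, i ≠ j → h (b i) (b j) = 0 := fun i j e => by simpa [hα0] using hb i j e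
    have hbv : ∀ i, i ≠ Fin.last n → h (b i) (b i) = α := fun i e => by
      have := hb1 i e
      simp only [LinearMap.smul_apply, smul_eq_mul] at this
      field_simp at this
      exact this
    rcases hbl with e | e
    · have el : h (b (Fin.last n)) (b (Fin.last n)) = α := by
        simp only [LinearMap.smul_apply, smul_eq_mul] at e
        field_simp at e
        exact e
      have hall : ∀ i, h (b i) (b i) = α := fun i => if hi : i = Fin.last n then hi ▸ el else hbv i hi
      exact ⟨b, hb', fun i => by rw [hall]; exact hα0, hall⟩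
    · exfalso
      have el : h (b (Fin.last n)) (b (Fin.last n)) = α * α := by
        simp only [LinearMap.smul_apply, smul_eq_mul] at e
        field_simp at e
        linear_combination e
      have hne : ∀ i, h (b i) (b i) ≠ 0 := fun i => by
        by_cases hi : i = Fin.last n
        · rw [hi, el]; exact mul_ne_zero hα0 hα0
        · rw [hbv i hi]; exact hα0
      obtain ⟨w, -, hw0, hwo, hwχ⟩ := exists_frame_of_basis Q h htr hK h2 b hb' hne
      obtain ⟨z, hz⟩ := isSquare_prod_frames (Q := Q) h2 hfr hwo hwxo hw0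
      have hp : quadraticChar F (∏ p, Q (w p)) = -1 := by
        rw [Fintype.prod_prod_type, map_prod, Finset.prod_eq_single (Fin.last n) (fun i _ hi => ?_)
          (fun hi => absurd (Finset.mem_univ _) hi)]
        · rw [Fin.prod_univ_two, hwχ, el, map_mul, map_mul, hαN]; rfl
        · rw [Fin.prod_univ_two, hwχ, hbv i hi, hαN]; rfl
      rw [Finset.prod_eq_one fun p _ => hwx1 p, mul_one] at hz
      rw [hz] at hp
      have hz0 : z ≠ 0 := fun e => by rw [e, zero_mul, quadraticChar_zero] at hp; exact absurd hp (by decide)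
      rw [← pow_two, quadraticChar_sq_one' hz0] at hp
      exact absurd hp (by decide)
  obtain ⟨Y, hYv, hYs, hYb⟩ := exists_lineConj (F := F) b fun _ => m
  have hYi : ∀ v, Q (Y v) = Q v := fun v => by
    have key : h (Y v) (Y v) = conj (F := F) (h v v) := by
      conv_rhs => rw [← b.sum_repr v]
      rw [hYv, h_sum h b hb, h_sum h b hb, map_sum]
      refine Finset.sum_congr rfl fun i _ => ?_
      rw [hbα, map_mul, map_mul, ← hm2]
      ring
    have e1 := htr (Y v) (Y v)
    rw [key, Algebra.trace_eq_of_algEquiv, ← htr, QuadraticMap.polar_self, QuadraticMap.polar_self] at e1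
    simp only [nsmul_eq_mul, Nat.cast_ofNat] at e1
    exact mul_left_cancel₀ h2 e1
  have hYY : ∀ v, Y (Y v) = -v := fun v => by
    rw [hYv v, map_sum]
    conv_rhs => rw [← b.sum_repr v, ← Finset.sum_neg_distrib]
    refine Finset.sum_congr rfl fun i _ => ?_
    rw [hYb, map_mul, conj_conj hK, ← mul_assoc, hm1, neg_one_mul, neg_smul]
  obtain ⟨Y', hY'v, hY's, hY'b⟩ := exists_lineConj (F := F) b fun i => if i = 0 then -m else m
  choose c c' hc1 hc2 hc3 hc4 using fun i => exists_line_frame Q h htr hK h2 (b := b i) (hbne i)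
  set u : V := c 0 • b 0 with hu
  have hu0 : Q u ≠ 0 := hc2 0
  have hYu : ∀ i (k : K), i ≠ 0 → 𝔅 (k • b i) u = 0 ∧ 𝔅 (k • b i) (Y u) = 0 := fun i k hi => by
    constructor <;>
      simp only [QuadraticMap.polarBilin_apply_apply, htr, hu, hYb, map_smul, LinearMap.smul_apply, hb i 0 hi,
        smul_zero, map_zero]
  have hconj : ∀ v, refl Q u (Y (refl Q u v)) = Y' v := by
    have hfo : ∀ p p' : Fin (n + 1) × Fin 2, p ≠ p' → 𝔅 ((![c p.1 • b p.1, Y (c p.1 • b p.1)] : Fin 2 → V) p.2)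
        ((![c p'.1 • b p'.1, Y (c p'.1 • b p'.1)] : Fin 2 → V) p'.2) = 0 := by
      rintro ⟨i, j⟩ ⟨i', j'⟩ hne
      rcases eq_or_ne i i' with rfl | hi
      · fin_cases j <;> fin_cases j'
        · exact absurd rfl hne
        · exact quarter_skew h2 hYi hYY _
        · exact (polar_comm' _ _).trans (quarter_skew h2 hYi hYY _)
        · exact absurd rfl hne
      · rw [QuadraticMap.polarBilin_apply_apply, htr]
        fin_cases j <;> fin_cases j' <;>
          simp [hYb, hb i i' hi]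
    obtain ⟨B, hB⟩ := exists_basis_orth (Q := Q) h2 hfo (fun ⟨i, j⟩ => by
      fin_cases j
      · exact hc2 i
      · exact (hYi (c i • b i)).symm ▸ hc2 i) hfr
    intro v
    have e : refl Q u ∘ₗ Y ∘ₗ refl Q u = Y' := B.ext fun ⟨i, j⟩ => by
      rw [LinearMap.comp_apply, LinearMap.comp_apply, hB, refl_conj_quarter h2 hYi hYY hu0]
      rcases eq_or_ne i 0 with rfl | hi
      · fin_cases j
        · show Y u - (Q u)⁻¹ • (𝔅 u u • Y u - 𝔅 u (Y u) • u) = Y' u
          rw [polar_self', quarter_skew h2 hYi hYY, zero_smul, sub_zero, smul_smul, show (Q u)⁻¹ * (2 * Q u) = 2 by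
            field_simp]
          rw [hu, hY'b, hYb, if_pos rfl, neg_mul, neg_smul, two_smul]
          abel
        · show Y (Y u) - (Q u)⁻¹ • (𝔅 (Y u) u • Y u - 𝔅 (Y u) (Y u) • u) = Y' (Y u)
          rw [polar_self', hYi, polar_comm' (Y u) u, quarter_skew h2 hYi hYY, zero_smul, zero_sub, smul_neg,
            smul_smul, show (Q u)⁻¹ * (2 * Q u) = 2 by field_simp, hYY, hu, hYb, hY'b, if_pos rfl, map_mul,
            conj_conj hK, ← mul_assoc, neg_mul, hm1, neg_neg, one_mul, two_smul]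
          abel
      · obtain ⟨k, hk⟩ : ∃ k : K, (![c i • b i, Y (c i • b i)] : Fin 2 → V) j = k • b i := by
          fin_cases j
          · exact ⟨c i, rfl⟩
          · exact ⟨_, hYb i (c i)⟩
        dsimp only
        rw [hk, (hYu i k hi).1, (hYu i k hi).2, zero_smul, zero_smul, sub_zero, smul_zero, sub_zero, hYb, hY'b,
          if_neg hi]
    exact LinearMap.congr_fun e v
  obtain ⟨wy, hwy1, hwyo⟩ := quarterFrame Y hYi hYY
  obtain ⟨L, hLi, hLw, hLc⟩ := exists_iso_frames (Q := Q) h2 hfr hwyo hwxo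
    (fun p => by rw [hwy1]; exact one_ne_zero) (fun p => by rw [hwy1, hwx1])
  have hLY : ∀ v, L (Y v) = X (L v) := hLc Y X fun ⟨i, j⟩ => by
    fin_cases j
    · exact hLw (i, 1)
    · show L (Y (Y (wy i))) = X (X (wx i))
      rw [hYY, hXX, map_neg]
      exact congrArg Neg.neg (hLw (i, 0))
  obtain ⟨g, hg⟩ := exists_iso_of_equiv L hLi
  have hgen := exists_isReflProd h2 hQ
  obtain ⟨g₁, hg₁, hpar⟩ : ∃ g₁ : ↥(Cfsg.isometryGroup F ⇑Q),
      (g₁ : GL ι F)⁻¹ * (x' : GL ι F) * g₁ ∈ N ∧ Forms.parityHom hQ hgen g₁ = 1 := by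
    rcases Int.units_eq_one_or (Forms.parityHom hQ hgen g) with hp | hp
    · refine ⟨g, conj_mem N hN Y (fun a => ⟨_, hYs a⟩) fun v => ?_, hp⟩
      rw [hg, hg, hLY, hXv]
    · refine ⟨g * reflIso Q u hu0, conj_mem N hN Y' (fun a => ⟨_, hY's a⟩) fun v => ?_, by
        rw [map_mul, hp, Forms.parityHom_reflIso]; decide⟩
      show mat Q x' *ᵥ (mat Q (g * reflIso Q u hu0) *ᵥ v) = mat Q (g * reflIso Q u hu0) *ᵥ Y' v
      rw [mat_mul, ← Matrix.mulVec_mulVec, ← Matrix.mulVec_mulVec, mat_reflIso, reflectionMatrix_mulVec,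
        reflectionMatrix_mulVec, hg, hg, ← hXv, ← hLY, ← hconj, refl_refl Q hu0]
  have hFc : ringChar F ≠ 2 := fun e => h2 (by have := ringChar.eq_iff.1 e; exact CharTwo.two_eq_zero)
  obtain ⟨η, hη⟩ := FiniteField.exists_nonsquare hFc
  have hη0 : η ≠ 0 := fun e => hη (e ▸ ⟨0, by simp⟩)
  obtain ⟨s, t, hst⟩ := CfsgLib.Forms.exists_diag_binary h2 (one_ne_zero : (1 : F) ≠ 0) one_ne_zero η
  rw [one_mul, one_mul] at hst
  set a := wx 0 with ha
  have hQa : Q a = 1 := hwx1 (0, 0)
  set w := s • a + t • X a with hw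
  have hQw : Q w = (s ^ 2 + t ^ 2) * Q a := by
    rw [hw, QuadraticMap.map_add (⇑Q), QuadraticMap.map_smul, QuadraticMap.map_smul, QuadraticMap.polar_smul_left,
      QuadraticMap.polar_smul_right, hXi, ← QuadraticMap.polarBilin_apply_apply, quarter_skew h2 hXi hXX]
    simp only [smul_eq_mul]
    ring
  have ha0 : Q a ≠ 0 := by rw [hQa]; exact one_ne_zero
  have hw0 : Q w ≠ 0 := by rw [hQw, hQa, mul_one, hst]; exact hη0
  set h₀ := reflIso Q a ha0 * reflIso Q w hw0 with hh₀
  have hcomm : (h₀ : GL ι F) * x' = (x' : GL ι F) * h₀ := by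
    refine Units.ext (Matrix.ext_iff_mulVec.mpr fun v => ?_)
    show (mat Q h₀ * mat Q x') *ᵥ v = (mat Q x' * mat Q h₀) *ᵥ v
    rw [hh₀, mat_mul, mat_reflIso, mat_reflIso]
    simp only [← Matrix.mulVec_mulVec, reflectionMatrix_mulVec, ← hXv]
    have e := refl_conj_rot h2 hXi hXX ha0 hw hQw hw0 (refl Q w v)
    rw [refl_refl Q hw0] at e
    have e' := congrArg (refl Q a) e
    rw [refl_refl Q ha0] at e'
    exact e'.symm
  suffices hcases : ∃ k : ↥(Cfsg.isometryGroup F ⇑Q), (k : GL ι F) * x' = (x' : GL ι F) * k ∧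
      ((Forms.parityHom hQ hgen).prod (Forms.spinHom hQ hgen)) k =
      ((Forms.parityHom hQ hgen).prod (Forms.spinHom hQ hgen)) g₁ by
    obtain ⟨g', hg', e⟩ := exists_omega_conj h2 hQ hgen g₁ rfl hcases
    exact ⟨g', hg', e ▸ hg₁⟩
  rcases Int.units_eq_one_or (Forms.spinHom hQ hgen g₁) with hs | hs
  · exact ⟨1, by simp, by simp [hpar, hs]⟩
  · refine ⟨h₀, hcomm, ?_⟩
    simp only [MonoidHom.prod_apply, hpar, hs, Prod.mk.injEq]
    constructor
    · rw [hh₀, map_mul, Forms.parityHom_reflIso, Forms.parityHom_reflIso]; decide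
    · ext
      rw [hh₀, map_mul, Units.val_mul, Forms.spinHom_reflIso, Forms.spinHom_reflIso, hQa, map_one, one_mul, hQw,
        hQa, mul_one, hst, quadraticChar_neg_one_iff_not_isSquare.2 hη]
      rfl

include htr hsymm hK h2 hQ hN hd in
/-- A non-scalar involution. -/
theorem exists_conj_of_involution (hι : Fintype.card ι = 2 * d) {x : GL ι F}
    (hx : x ∈ Cfsg.Geo.omegaGL ⇑Q) (hxx : ∀ v, (x : Matrix ι ι F) *ᵥ ((x : Matrix ι ι F) *ᵥ v) = v)
    (hns : ∀ z : F, (x : Matrix ι ι F) ≠ z • 1) :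
    ∃ g ∈ Cfsg.Geo.omegaGL ⇑Q, g⁻¹ * x * g ∈ N := by
  classical
  obtain ⟨x', hxΩ, rfl⟩ := hx
  set X : V →ₗ[F] V := Matrix.toLin' (mat Q x') with hX
  have hXv : ∀ v, X v = mat Q x' *ᵥ v := fun v => Matrix.toLin'_apply _ v
  have hXi : ∀ v, Q (X v) = Q v := fun v => by rw [hXv]; exact quad_mulVec Q x' v
  have hXX : ∀ v, X (X v) = v := fun v => by rw [hXv, hXv]; exact hxx v
  have hfr : finrank F V = Fintype.card (Fin d × Fin 2) := by
    rw [Module.finrank_pi, hι, Fintype.card_prod, Fintype.card_fin, Fintype.card_fin, mul_comm]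
  obtain ⟨bx, s, -, hbQ, hbo, hbs⟩ := exists_frame_involution (Q := Q) h2 hXi hXX (d * 2) (W := ⊤)
    (by rw [finrank_top, Module.finrank_pi, hι, mul_comm]) (fun _ _ => Submodule.mem_top) (fun w _ hw => by
      by_contra hh
      push Not at hh
      exact hw (hQ.1 w fun y => hh y Submodule.mem_top))
  obtain ⟨B, hB⟩ := exists_basis_orth (Q := Q) h2 hbo hbQ (by rw [Module.finrank_pi, hι, Fintype.card_fin, mul_comm])
  have hm1 : (-1 : F) ≠ 1 := fun e => h2 (by linear_combination -e)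
  set M := Finset.univ.filter (fun i => s i = -1) with hM
  set P := Finset.univ.filter (fun i => ¬ s i = -1) with hP
  have hs1 : ∀ i, ¬ s i = -1 → s i = 1 := fun i e => (hbs i).1.resolve_right e
  have hdet : ∏ i, s i = 1 := by
    have e1 : LinearMap.toMatrix B B X = Matrix.diagonal s := by
      ext i j
      rw [LinearMap.toMatrix_apply, show X (B j) = s j • B j by rw [hB]; exact (hbs j).2, map_smul,
        Basis.repr_self, Finsupp.smul_apply, smul_eq_mul]
      rcases eq_or_ne i j with rfl | hij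
      · simp
      · simp [hij]
    have e2 : (mat Q x').det = 1 := (Forms.mem_special_iff x').mp (Forms.omega_le_special hxΩ)
    rw [← Matrix.det_diagonal, ← e1, LinearMap.det_toMatrix, hX, LinearMap.det_toLin', e2]
  have heven : Even M.card := by
    rw [← Finset.prod_filter_mul_prod_filter_not Finset.univ (fun i => s i = -1),
      Finset.prod_congr rfl (fun i hi => (Finset.mem_filter.mp hi).2),
      Finset.prod_eq_one (s := P) (fun i hi => hs1 i (Finset.mem_filter.mp hi).2), mul_one, Finset.prod_const,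
      ← hM] at hdet
    exact (neg_one_pow_eq_one_iff_even hm1).mp hdet
  obtain ⟨a, ha⟩ := heven
  have hMP : M.card + P.card = d * 2 := by
    rw [hM, hP, Finset.card_filter_add_card_filter_not, Finset.card_univ, Fintype.card_fin]
  have hscal : ∀ z : F, (∀ i, s i = z) → False := fun z hz => hns z (Matrix.toLin'.injective (B.ext fun i => by
    rw [map_smul, Matrix.toLin'_one, LinearMap.smul_apply, LinearMap.id_apply]
    exact (congrArg X (congrFun hB i)).trans (((hbs i).2.trans (by rw [hz i])).trans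
      (congrArg (z • ·) (congrFun hB i).symm))))
  have ha0 : 0 < a := by
    refine Nat.pos_of_ne_zero fun e => hscal 1 fun i => hs1 i fun hi => ?_
    have : i ∈ M := by simp [hM, hi]
    rw [Finset.card_eq_zero.mp (show M.card = 0 by omega)] at this
    exact Finset.notMem_empty i this
  have had : a < d := by
    by_contra hlt
    refine hscal (-1) fun i => ?_
    by_contra hi
    have : i ∈ P := by simp [hP, hi]
    rw [Finset.card_eq_zero.mp (show P.card = 0 by omega)] at this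
    exact Finset.notMem_empty i this
  set χM : ℤ := quadraticChar F (∏ i : M, Q (bx i)) with hχM
  have hχM1 : χM = 1 ∨ χM = -1 := quadraticChar_dichotomy (Finset.prod_ne_zero_iff.mpr fun i _ => hbQ i)
  obtain ⟨b, hb, hbne, hbε⟩ := exists_basisK Q h htr hsymm hK h2 hQ hd ha0 had ((-1) ^ a * χM) (by
    rcases neg_one_pow_eq_or ℤ a with e | e <;> rcases hχM1 with e' | e' <;> simp [e, e'])
  obtain ⟨w, hwline, hw0, hwo, hwχ⟩ := exists_frame_of_basis Q h htr hK h2 b hb hbne
  set M' := (Finset.univ.filter fun i : Fin d => (i : ℕ) < a) ×ˢ (Finset.univ : Finset (Fin 2)) with hM'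
  have hmemM' : ∀ p : Fin d × Fin 2, p ∈ M' ↔ (p.1 : ℕ) < a := fun p => by simp [hM']
  have hM'card : M'.card = a * 2 := by
    rw [hM', Finset.card_product, Fin.card_filter_val_lt, Finset.card_univ, Fintype.card_fin, min_eq_right had.le]
  set P' := Finset.univ.filter (fun p : Fin d × Fin 2 => ¬ (p.1 : ℕ) < a) with hP'
  have hM'P' : M'.card + P'.card = d * 2 := by
    have e : M' = Finset.univ.filter (fun p : Fin d × Fin 2 => (p.1 : ℕ) < a) := by
      ext p
      simp [hmemM']
    rw [e, hP', Finset.card_filter_add_card_filter_not, Finset.card_univ, Fintype.card_prod, Fintype.card_fin,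
      Fintype.card_fin]
  have hχM' : quadraticChar F (∏ p : M', Q (w p)) = χM := by
    rw [Finset.prod_coe_sort M' (fun p => Q (w p)), hM', Finset.prod_product, map_prod]
    simp only [Fin.prod_univ_two, hwχ]
    rw [Finset.prod_neg, hbε, Fin.card_filter_val_lt, min_eq_right had.le, ← mul_assoc, ← mul_pow]
    norm_num
  have hsqM : IsSquare ((∏ i : M, Q (bx i)) * ∏ p : M', Q (w p)) := by
    have h0 : (∏ i : M, Q (bx i)) * ∏ p : M', Q (w p) ≠ 0 := mul_ne_zero
      (Finset.prod_ne_zero_iff.mpr fun i _ => hbQ i) (Finset.prod_ne_zero_iff.mpr fun p _ => hw0 p)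
    refine (quadraticChar_one_iff_isSquare h0).mp ?_
    rw [map_mul, hχM', ← hχM]
    rcases hχM1 with e | e <;> simp [e]
  have hall : IsSquare ((∏ i, Q (bx i)) * ∏ p, Q (w p)) := by
    have e := isSquare_prod_frames (Q := Q) (b := bx ∘ finProdFinEquiv) (b' := w) h2 hfr
      (fun i j hij => hbo _ _ (finProdFinEquiv.injective.ne hij)) hwo (fun i => hbQ _)
    simp only [Function.comp_apply] at e
    rw [Equiv.prod_comp finProdFinEquiv (fun i => Q (bx i))] at e
    exact e
  have hsqP : IsSquare ((∏ i : P, Q (bx i)) * ∏ p : P', Q (w p)) := by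
    have e1 : ∏ i, Q (bx i) = (∏ i : M, Q (bx i)) * ∏ i : P, Q (bx i) := by
      rw [Finset.prod_coe_sort M (fun i => Q (bx i)), Finset.prod_coe_sort P (fun i => Q (bx i)), hM, hP,
        Finset.prod_filter_mul_prod_filter_not]
    have e2 : ∏ p, Q (w p) = (∏ p : M', Q (w p)) * ∏ p : P', Q (w p) := by
      rw [Finset.prod_coe_sort M' (fun p => Q (w p)), Finset.prod_coe_sort P' (fun p => Q (w p)), hP',
        ← Finset.prod_filter_mul_prod_filter_not Finset.univ (fun p : Fin d × Fin 2 => (p.1 : ℕ) < a)]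
      congr 1
      refine Finset.prod_congr ?_ fun _ _ => rfl
      ext p
      simp [hmemM']
    rw [e1, e2, mul_mul_mul_comm] at hall
    obtain ⟨z, hz⟩ := hall
    obtain ⟨z', hz'⟩ := hsqM
    have hz0 : z' ≠ 0 := fun e => mul_ne_zero (a := ∏ i : M, Q (bx i)) (b := ∏ p : M', Q (w p))
      (Finset.prod_ne_zero_iff.mpr fun i _ => hbQ i) (Finset.prod_ne_zero_iff.mpr fun p _ => hw0 p)
      (hz'.trans (by rw [e, zero_mul]))
    refine ⟨z / z', ?_⟩
    rw [hz'] at hz
    field_simp
    linear_combination hz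
  obtain ⟨wM, hwMs, hwMo, hwMQ⟩ := exists_values' (Q := Q) (b := fun i : M => bx i) h2
    (fun i j hij => hbo _ _ (fun e => hij (Subtype.ext e))) (fun i => hbQ _) (fun p : M' => Q (w p))
    (by rw [Fintype.card_coe, Fintype.card_coe]; omega) (fun p => hw0 _) hsqM
  obtain ⟨wP, hwPs, hwPo, hwPQ⟩ := exists_values' (Q := Q) (b := fun i : P => bx i) h2
    (fun i j hij => hbo _ _ (fun e => hij (Subtype.ext e))) (fun i => hbQ _) (fun p : P' => Q (w p))
    (by rw [Fintype.card_coe, Fintype.card_coe]; omega) (fun p => hw0 _) hsqP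
  have hXM : ∀ p, X (wM p) = -wM p := fun p => by
    have hle : span F (Set.range fun i : M => bx i) ≤ LinearMap.ker (X + LinearMap.id) := by
      rw [Submodule.span_le]
      rintro _ ⟨⟨i, hi⟩, rfl⟩
      rw [SetLike.mem_coe, LinearMap.mem_ker, LinearMap.add_apply, LinearMap.id_apply, (hbs i).2,
        (Finset.mem_filter.mp hi).2, neg_one_smul, neg_add_cancel]
    exact eq_neg_of_add_eq_zero_left (hle (hwMs p))
  have hXP : ∀ p, X (wP p) = wP p := fun p => by
    have hle : span F (Set.range fun i : P => bx i) ≤ LinearMap.ker (X - LinearMap.id) := by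
      rw [Submodule.span_le]
      rintro _ ⟨⟨i, hi⟩, rfl⟩
      rw [SetLike.mem_coe, LinearMap.mem_ker, LinearMap.sub_apply, LinearMap.id_apply, (hbs i).2,
        hs1 i (Finset.mem_filter.mp hi).2, one_smul, sub_self]
    exact sub_eq_zero.mp (hle (hwPs p))
  have hcross : ∀ u v, X u = -u → X v = v → 𝔅 u v = 0 := fun u v hu hv => by
    have e := polar_isometry hXi u v
    rw [hu, hv, map_neg, LinearMap.neg_apply] at e
    have e' : (2 : F) * 𝔅 u v = 0 := by linear_combination -e
    exact (mul_eq_zero.mp e').resolve_left h2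
  let bb : Fin d × Fin 2 → V := fun p =>
    if hp : (p.1 : ℕ) < a then wM ⟨p, (hmemM' p).mpr hp⟩ else wP ⟨p, Finset.mem_filter.mpr ⟨Finset.mem_univ _, hp⟩⟩
  have hbbo : ∀ p p', p ≠ p' → 𝔅 (bb p) (bb p') = 0 := fun p p' hne => by
    simp only [bb]
    split_ifs with q q'
    · exact hwMo _ _ fun e => hne (congrArg Subtype.val e)
    · exact hcross _ _ (hXM _) (hXP _)
    · exact (polar_comm' _ _).trans (hcross _ _ (hXM _) (hXP _))
    · exact hwPo _ _ fun e => hne (congrArg Subtype.val e)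
  have hbbQ : ∀ p, Q (bb p) = Q (w p) := fun p => by
    simp only [bb]
    split_ifs
    · exact hwMQ _
    · exact hwPQ _
  obtain ⟨L, hLi, hLw, hLc⟩ := exists_iso_frames (Q := Q) h2 hfr hwo hbbo hw0 hbbQ
  let Y : V →ₗ[K] V := b.constr K fun i => (if (i : ℕ) < a then (-1 : K) else 1) • b i
  have hYw : ∀ p, Y (w p) = if (p.1 : ℕ) < a then -w p else w p := fun p => by
    obtain ⟨c, hc⟩ := hwline p
    rw [hc, map_smul, Basis.constr_basis]
    split_ifs <;> simp
  have hLY : ∀ v, L (Y v) = X (L v) := hLc (Y.restrictScalars F) X fun p => by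
    rw [LinearMap.restrictScalars_apply, hYw]
    simp only [bb]
    split_ifs
    · rw [map_neg, hLw, hXM]
      simp only [bb]
      rw [dif_pos (by assumption)]
    · rw [hLw, hXP]
      simp only [bb]
      rw [dif_neg (by assumption)]
  obtain ⟨g, hg⟩ := exists_iso_of_equiv L hLi
  have hgen := exists_isReflProd h2 hQ
  have hgx : (g : GL ι F)⁻¹ * (x' : GL ι F) * g ∈ N :=
    conj_mem N hN Y (fun c => ⟨c, fun v => map_smul Y c v⟩) fun v => by rw [hg, hg, hLY, hXv]
  have hFc : ringChar F ≠ 2 := fun e => h2 (by have := ringChar.eq_iff.1 e; exact CharTwo.two_eq_zero)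
  obtain ⟨η, hη⟩ := FiniteField.exists_nonsquare hFc
  have hη0 : η ≠ 0 := fun e => hη (e ▸ ⟨0, by simp⟩)
  have hvec : ∀ c : F, c ≠ 0 → ∃ (u : V) (hu : Q u ≠ 0), Q u = c ∧
      (reflIso Q u hu : GL ι F) * x' = (x' : GL ι F) * (reflIso Q u hu : GL ι F) := fun c hc => by
    obtain ⟨p, q, hpM, hqM, hpq⟩ := Finset.one_lt_card_iff.mp (show 1 < M.card by omega)
    obtain ⟨y, z, hyz⟩ := CfsgLib.Forms.exists_diag_binary h2 (hbQ p) (hbQ q) c
    have hQu : Q (y • bx p + z • bx q) = c := by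
      rw [QuadraticMap.map_add (⇑Q), QuadraticMap.map_smul, QuadraticMap.map_smul, QuadraticMap.polar_smul_left,
        QuadraticMap.polar_smul_right, ← QuadraticMap.polarBilin_apply_apply, hbo p q hpq]
      simp only [smul_eq_mul]
      linear_combination hyz
    refine ⟨_, hQu ▸ hc, hQu, reflIso_commute _ fun v => ?_⟩
    rw [← hXv, ← hXv]
    refine refl_commute_involution hXi (e := -1) (Or.inr rfl) ?_ v
    rw [map_add, map_smul, map_smul, (hbs p).2, (hbs q).2, (Finset.mem_filter.mp hpM).2,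
      (Finset.mem_filter.mp hqM).2, smul_add, smul_comm y, smul_comm z]
  obtain ⟨u₁, hu₁, hQu₁, hc₁⟩ := hvec 1 one_ne_zero
  obtain ⟨u₂, hu₂, hQu₂, hc₂⟩ := hvec η hη0
  suffices hcases : ∃ k : ↥(Cfsg.isometryGroup F ⇑Q), (k : GL ι F) * x' = (x' : GL ι F) * k ∧
      ((Forms.parityHom hQ hgen).prod (Forms.spinHom hQ hgen)) k =
      ((Forms.parityHom hQ hgen).prod (Forms.spinHom hQ hgen)) g by
    obtain ⟨g', hg', e⟩ := exists_omega_conj h2 hQ hgen g rfl hcases
    exact ⟨g', hg', e ▸ hgx⟩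
  have hp₁ := Forms.parityHom_reflIso hQ hgen u₁ hu₁
  have hp₂ := Forms.parityHom_reflIso hQ hgen u₂ hu₂
  have hs₁ : Forms.spinHom hQ hgen (reflIso Q u₁ hu₁) = 1 := by
    ext; rw [Forms.spinHom_reflIso, hQu₁, map_one, Units.val_one]
  have hs₂ : Forms.spinHom hQ hgen (reflIso Q u₂ hu₂) = -1 := by
    ext; rw [Forms.spinHom_reflIso, hQu₂, quadraticChar_neg_one_iff_not_isSquare.2 hη]; rfl
  rcases Int.units_eq_one_or (Forms.parityHom hQ hgen g) with hp | hp <;>
    rcases Int.units_eq_one_or (Forms.spinHom hQ hgen g) with hs | hs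
  · exact ⟨1, by simp, by simp [hp, hs]⟩
  · refine ⟨reflIso Q u₁ hu₁ * reflIso Q u₂ hu₂, ?_, by simp [hp, hs, hp₁, hp₂, hs₁, hs₂]⟩
    rw [Subgroup.coe_mul, mul_assoc, hc₂, ← mul_assoc, hc₁, mul_assoc]
  · exact ⟨reflIso Q u₁ hu₁, hc₁, by simp [hp, hs, hp₁, hs₁]⟩
  · exact ⟨reflIso Q u₂ hu₂, hc₂, by simp [hp, hs, hp₂, hs₂]⟩

include htr hsymm hK h2 hQ hN hd in
/-- An element of order two modulo scalars. -/
theorem exists_conj_two (hd0 : 0 < d) (hι : Fintype.card ι = 2 * d) {x : GL ι F}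
    (hx : x ∈ Cfsg.Geo.omegaGL ⇑Q) {z : F} (hz : ((x ^ 2 : GL ι F) : Matrix ι ι F) = z • 1)
    (hns : ∀ z : F, (x : Matrix ι ι F) ≠ z • 1) : ∃ g ∈ Cfsg.Geo.omegaGL ⇑Q, g⁻¹ * x * g ∈ N := by
  have hxx : ∀ v, (x : Matrix ι ι F) *ᵥ ((x : Matrix ι ι F) *ᵥ v) = z • v := fun v => by
    rw [Matrix.mulVec_mulVec, ← Units.val_mul, ← pow_two, hz, Matrix.smul_mulVec, Matrix.one_mulVec]
  have hzz : z * z = 1 := by
    obtain ⟨v, hv⟩ := Forms.exists_value h2 hQ (by omega) (1 : F)
    obtain ⟨x', -, rfl⟩ := hx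
    have e := congrArg Q (hxx v)
    rw [QuadraticMap.map_smul, hv, smul_eq_mul, mul_one] at e
    rw [← e]
    exact ((quad_mulVec Q x' _).trans (quad_mulVec Q x' v)).trans hv
  rcases mul_self_eq_one_iff.mp hzz with rfl | rfl
  · exact exists_conj_of_involution Q h htr hsymm hK h2 hQ N hN hd hι hx (fun v => by rw [hxx, one_smul]) hns
  · exact exists_conj_of_quarter Q h htr hsymm hK h2 hQ N hN hd hd0 hι hx (fun v => by rw [hxx, neg_one_smul])

end CfsgLib.FieldExtOrth
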