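import Cfsg.Agent.LinearElements.FieldExtCommon
import Cfsg.Agent.ExtField.SympMaximal
import Cfsg.Agent.Forms.SymplecticOrder
import Cfsg.Agent.Forms.SymplecticBasis

/-!
Prime order elements of `Sp_{2d}(q)` and the subgroups of type `Sp_{2d/k}(q^k)`.
-/

set_option autoImplicit false

namespace CfsgLib.FieldExtElements

open Module Submodule Matrix
open CfsgLib.ExtField (glAut glAut_apply SympTower)

variable {F : Type*} [Field F] [Fintype F] {d : ℕ}

local notation "ι" => (Fin d ⊕ Fin d)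
local notation "Mat" => Matrix (Fin d ⊕ Fin d) (Fin d ⊕ Fin d) F

omit [Fintype F] in
/-- A bijective linear map as an invertible matrix. -/
theorem exists_gl_of_bijective (y : Module.End F (ι → F)) (hy : Function.Bijective y) :
    ∃ x : GL ι F, ∀ v, (x : Mat) *ᵥ v = y v := by
  obtain ⟨x, hx⟩ := (glAut : GL ι F ≃* _).surjective (LinearEquiv.ofBijective y hy)
  exact ⟨x, fun v => by rw [← glAut_apply, hx]; rfl⟩

/-- Non-scalar involutive isometries of a four dimensional space are conjugate. -/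
theorem exists_conj_involution_four {V : Type*} [AddCommGroup V] [Module F V] [FiniteDimensional F V]
    {B : LinearMap.BilinForm F V} (h2 : (2 : F) ≠ 0) (hn : finrank F V = 2 * 2) (hA : B.IsAlt)
    (hB : ∀ x, (∀ y, B x y = 0) → x = 0) {g g' : V →ₗ[F] V} (hg : ∀ u v, B (g u) (g v) = B u v)
    (hg' : ∀ u v, B (g' u) (g' v) = B u v) (hgg : ∀ v, g (g v) = v) (hgg' : ∀ v, g' (g' v) = v)
    (hns : ∀ z : F, ∃ v, g v ≠ z • v) (hns' : ∀ z : F, ∃ v, g' v ≠ z • v) :
    ∃ L : V ≃ₗ[F] V, (∀ a b, B (L a) (L b) = B a b) ∧ ∀ a, L (g a) = g' (L a) := by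
  have key : ∀ h : V →ₗ[F] V, (∀ u v, B (h u) (h v) = B u v) → (∀ v, h (h v) = v) →
      (∀ z : F, ∃ v, h v ≠ z • v) →
      ∃ u v : Fin 2 → V, (∀ i j, B (u i) (u j) = 0) ∧ (∀ i j, B (v i) (v j) = 0) ∧
        (∀ i j, B (u i) (v j) = if i = j then (1 : F) else 0) ∧
        ∀ j, h (u j) = (![1, -1] : Fin 2 → F) j • u j ∧ h (v j) = (![1, -1] : Fin 2 → F) j • v j := by
    intro h hh hhh hs
    obtain ⟨u, v, s, h1, h2', h3, hs0, h4⟩ :=
      LinearElements.exists_pair_frame_involution hA hh h2 hhh hB hn (fun _ => 1) fun _ => one_ne_zero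
    have hsq : ∀ j, s j = 1 ∨ s j = -1 := fun j => by
      have hu : u j ≠ 0 := fun e => by
        have := h3 j j
        rw [e, map_zero, LinearMap.zero_apply, if_pos rfl] at this
        exact zero_ne_one this
      have e := hhh (u j)
      rw [(h4 j).1, map_smul, (h4 j).1, smul_smul] at e
      have e' : s j * s j = 1 := smul_left_injective F hu (e.trans (one_smul F _).symm)
      exact mul_self_eq_one_iff.mp e'
    have hne : s 0 ≠ s 1 := fun e => by
      obtain ⟨b, hb⟩ := exists_frame_basis hn u v (fun _ => 1) (fun _ => one_ne_zero) h1 h2' h3 hA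
      obtain ⟨w, hw⟩ := hs (s 0)
      apply hw
      have : h = s 0 • LinearMap.id := b.ext fun p => by
        rw [hb]
        rcases p with j | j <;> fin_cases j <;> simp [(h4 0).1, (h4 0).2, (h4 1).1, (h4 1).2, e]
      rw [this]
      rfl
    obtain ⟨π, hπ⟩ : ∃ π : Equiv.Perm (Fin 2), ∀ j, s (π j) = (![1, -1] : Fin 2 → F) j := by
      rcases hsq 0 with e0 | e0 <;> rcases hsq 1 with e1 | e1
      · exact absurd (e0.trans e1.symm) hne
      · exact ⟨1, Fin.forall_fin_two.mpr ⟨e0, e1⟩⟩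
      · exact ⟨Equiv.swap 0 1, Fin.forall_fin_two.mpr ⟨by simpa using e1, by simpa using e0⟩⟩
      · exact absurd (e0.trans e1.symm) hne
    refine ⟨u ∘ π, v ∘ π, fun i j => h1 _ _, fun i j => h2' _ _, fun i j => ?_, fun j => ?_⟩
    · simp only [Function.comp_apply, h3, π.injective.eq_iff]
    · rw [← hπ j]
      exact h4 (π j)
  obtain ⟨u, v, h1, h2', h3, h4⟩ := key g hg hgg hns
  obtain ⟨u', v', k1, k2, k3, k4⟩ := key g' hg' hgg' hns'
  obtain ⟨L, hL, hLf, hLc⟩ :=
    exists_isometry_frames hn u v u' v' (fun _ => 1) hA (fun _ => one_ne_zero) h1 h2' h3 k1 k2 k3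
  exact ⟨L, hL, hLc g g' fun j => by
    rw [(h4 j).1, (h4 j).2, (k4 j).1, (k4 j).2, map_smul, map_smul, (hLf j).1, (hLf j).2]
    exact ⟨rfl, rfl⟩⟩

section Tower

variable {K : Type*} [Field K] [Algebra F K] [Finite K] [Module K (Fin d ⊕ Fin d → F)] [IsScalarTower F K (Fin d ⊕ Fin d → F)]
  (N : Subgroup (GL (Fin d ⊕ Fin d) F))
  (hN : ∀ y : GL (Fin d ⊕ Fin d) F, y ∈ N ↔ ∀ a : K, ∃ b : K, ∀ v : Fin d ⊕ Fin d → F, (y : Matrix (Fin d ⊕ Fin d) (Fin d ⊕ Fin d) F) *ᵥ (a • v) = b • ((y : Matrix (Fin d ⊕ Fin d) (Fin d ⊕ Fin d) F) *ᵥ v))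
  (S : SympTower F K (Fin d ⊕ Fin d → F)) (hS : ∀ u v, S.f u v = Cfsg.sympForm d F u v)

omit [Fintype F] [Finite K] in
include hS in
theorem f_sep {w : ι → F} (h : ∀ y, S.f w y = 0) : w = 0 :=
  sympBilin_sep w fun y => by rw [CfsgLib.Forms.sympBilin_apply, ← hS, h]

omit [Fintype F] in
/-- A subspace over `K` nondegenerate for `f` has even dimension over `K`. -/
theorem even_finrankK [FiniteDimensional K (ι → F)] (W : Submodule K (ι → F))
    (hW : ∀ w ∈ W, w ≠ 0 → ∃ y ∈ W, S.f w y ≠ 0) : 2 ∣ finrank K W := by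
  letI := Fintype.ofFinite K
  refine LinearElements.even_finrank_sepOn (B := S.h) S.alt fun w hw hw0 => ?_
  obtain ⟨y, hy, hfy⟩ := hW w hw hw0
  exact ⟨y, hy, fun e => hfy (by rw [S.tr, e, map_zero])⟩

include hN hS in
/-- A conjugate of `x` normalising the field: linearity with a dimension condition, or few fixed points. -/
theorem conj_cases (hd : 0 < d) {k r : ℕ} [Fact r.Prime] (hk : k.Prime) (hK : finrank F K = k) {x g : GL ι F}
    (hx : x ∈ Cfsg.spGL d F) (hxr : x ^ r = 1) (hg : g ∈ Cfsg.spGL d F) (hgx : g⁻¹ * x * g ∈ N) :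
    (k ∣ ((x : Mat) - 1).rank ∧ ((r : F) ≠ 0 → 2 * k ∣ ((x : Mat) - 1).rank)) ∨
      (k = r ∧ d ≤ ((x : Mat) - 1).rank) := by
  haveI : Nonempty ι := ⟨Sum.inl ⟨0, hd⟩⟩
  haveI : FiniteDimensional F K := Module.Finite.of_finite
  haveI : FiniteDimensional K (ι → F) := Module.Finite.of_finite
  set y := g⁻¹ * x * g with hy
  have hys : y ∈ Cfsg.spGL d F := mul_mem (mul_mem ((Cfsg.spGL d F).inv_mem hg) hx) hg
  have hyr : y ^ r = 1 := by
    rw [hy, show g⁻¹ * x * g = g⁻¹ * x * g⁻¹⁻¹ by rw [inv_inv], conj_pow, hxr, mul_one, mul_inv_cancel]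
  set Y : Module.End F (ι → F) := Matrix.toLin' (y : Mat) with hY
  have hY1 := toLin_pow_eq_one hyr
  have hrank : finrank F (LinearMap.range (Y - 1)) = ((x : Mat) - 1).rank := by
    rw [hY, finrank_range_sub_one, rank_conj_sub_one]
  rcases linear_or_moving (K := K) hk hK hY1 (fun a => ((hN y).mp hgx) a) with hlin | ⟨hkr, hfix⟩
  · refine Or.inl ?_
    obtain ⟨W, hW, hWr⟩ := exists_rangeK hlin
    rw [hK, hrank] at hWr
    refine ⟨hWr ▸ dvd_mul_right k _, fun hrF => ?_⟩
    rw [← hWr, mul_comm 2 k]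
    refine mul_dvd_mul_left k (even_finrankK S W fun w hw hw0 => ?_)
    obtain ⟨u, hu, hwu⟩ := sepOn_range hrF hY1 (B := CfsgLib.Forms.sympBilin d F) sympBilin_sep
      (fun a b => by simp only [CfsgLib.Forms.sympBilin_apply, hY, Matrix.toLin'_apply]; exact hys a b)
      w ((hW w).mp hw) hw0
    exact ⟨u, (hW u).mpr hu, by rwa [hS, ← CfsgLib.Forms.sympBilin_apply]⟩
  · refine Or.inr ⟨hkr, ?_⟩
    have h := LinearMap.finrank_range_add_finrank_ker (Y - 1)
    rw [hrank] at h
    rw [CfsgLib.Forms.finrank_sympSpace] at h hfix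
    change 2 * finrank F (LinearMap.ker (Y - 1)) ≤ _ at hfix
    omega

include hS in
omit [Fintype F] in
/-- The dimension over `K` is even. -/
theorem exists_half {k : ℕ} (hK : finrank F K = k) :
    ∃ m, d = k * m ∧ finrank K (ι → F) = 2 * m := by
  haveI : FiniteDimensional K (ι → F) := by
    haveI : FiniteDimensional F K := Module.Finite.of_finite
    exact Module.Finite.of_restrictScalars_finite F K _
  obtain ⟨m, hm⟩ := even_finrankK S (⊤ : Submodule K (ι → F)) fun w _ hw => by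
    by_contra h
    push Not at h
    exact hw (f_sep S hS fun y => h y trivial)
  rw [finrank_top] at hm
  refine ⟨m, ?_, hm⟩
  have h := Module.finrank_mul_finrank F K (ι → F)
  rw [hK, hm, CfsgLib.Forms.finrank_sympSpace] at h
  rw [Nat.mul_comm 2 m, ← mul_assoc] at h
  omega

include hN hS in
/-- The isometries of the form over `K` are inside the normaliser. -/
theorem card_iso_dvd : Nat.card (Forms.isoGroup S.h) ∣ Nat.card ↥(N ⊓ Cfsg.spGL d F) := by
  let φ : Forms.isoGroup S.h →* GL ι F :=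
    { toFun := fun g => glAut.symm (g.1.restrictScalars F)
      map_one' := glAut.injective (by rw [MulEquiv.apply_symm_apply, map_one]; rfl)
      map_mul' := fun a b => glAut.injective (by
        rw [map_mul, MulEquiv.apply_symm_apply, MulEquiv.apply_symm_apply, MulEquiv.apply_symm_apply]; rfl) }
  have hφ : ∀ g v, (φ g : Mat) *ᵥ v = g.1 v := fun g v => by
    rw [← glAut_apply]
    show glAut (glAut.symm (g.1.restrictScalars F)) v = _
    rw [MulEquiv.apply_symm_apply]
    rfl
  have hmem : ∀ g, φ g ∈ N ⊓ Cfsg.spGL d F := fun g =>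
    ⟨(hN _).mpr fun a => ⟨a, fun v => by rw [hφ, hφ, map_smul]⟩, fun u v => by
      show Cfsg.sympForm d F ((φ g : Mat) *ᵥ u) ((φ g : Mat) *ᵥ v) = _
      rw [hφ, hφ, ← hS, ← hS, S.tr, S.tr, g.2]⟩
  refine Subgroup.card_dvd_of_injective (φ.codRestrict _ hmem) fun a b e => ?_
  refine Subtype.ext (LinearEquiv.ext fun v => ?_)
  rw [← hφ, ← hφ, show φ a = φ b from congrArg Subtype.val e]

include hN hS in
/-- If `k` divides the order of `q²`, the index is prime to `r`. -/
theorem not_dvd_index {p : ℕ} [Fact p.Prime] [CharP F p] {k r : ℕ} [Fact r.Prime] (hk : k.Prime)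
    (hK : finrank F K = k) (hrp : r ≠ p) (hke : k ∣ orderOf ((Fintype.card F : ZMod r) ^ 2)) :
    ¬ r ∣ N.relIndex (Cfsg.spGL d F) := by
  intro hr
  classical
  have hrP := (Fact.out : r.Prime)
  letI := Fintype.ofFinite K
  haveI : FiniteDimensional K (ι → F) := Module.Finite.of_finite
  obtain ⟨m, hdm, hm⟩ := exists_half S hS hK
  have hcard := Forms.card_isoGroup_alt S.h S.alt (fun w h => f_sep S hS fun y => by rw [S.tr, h, map_zero]) hm
  have hq : Fintype.card K = Fintype.card F ^ k := by rw [Module.card_eq_pow_finrank (K := F), hK]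
  set Q := Fintype.card F with hQ
  have hQ2 : 2 ≤ Q := Fintype.one_lt_card
  rw [hq] at hcard
  have h1 := (mul_dvd_mul_right hr _).trans (relIndex_mul_dvd (card_iso_dvd N hN S hS))
  rw [LinearElements.card_spGL_eq, Forms.card_symplecticGroup, hcard, ← hQ] at h1
  set f : ℕ → ℕ := fun i => Q ^ (2 * (i + 1)) - 1 with hf
  have hsplit : ∏ i ∈ Finset.range d, f i = (∏ t ∈ Finset.range m, ((Q ^ k) ^ (2 * (t + 1)) - 1)) *
      ∏ i ∈ (Finset.range d).filter (fun i => ¬ k ∣ i + 1), f i := by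
    rw [← Finset.prod_filter_mul_prod_filter_not (Finset.range d) (fun i => k ∣ i + 1)]
    congr 1
    symm
    refine Finset.prod_bij (fun t _ => k * (t + 1) - 1) (fun t ht => ?_) (fun a _ b _ h => ?_) (fun i hi => ?_)
      (fun t _ => ?_)
    · rw [Finset.mem_range] at ht
      have h1 : k * (t + 1) ≤ d := hdm ▸ Nat.mul_le_mul_left k ht
      have h2 : 0 < k * (t + 1) := Nat.mul_pos hk.pos (by omega)
      simp only [Finset.mem_filter, Finset.mem_range]
      exact ⟨by omega, by rw [Nat.sub_add_cancel h2]; exact dvd_mul_right k _⟩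
    · have ha : 0 < k * (a + 1) := Nat.mul_pos hk.pos (by omega)
      have hb : 0 < k * (b + 1) := Nat.mul_pos hk.pos (by omega)
      have := Nat.eq_of_mul_eq_mul_left hk.pos (show k * (a + 1) = k * (b + 1) by omega)
      omega
    · simp only [Finset.mem_filter, Finset.mem_range] at hi
      obtain ⟨hid, c, hc⟩ := hi
      have hc0 : 0 < c := Nat.pos_of_mul_pos_left (show 0 < k * c by omega)
      have hcm : c ≤ m := Nat.le_of_mul_le_mul_left (show k * c ≤ k * m by omega) hk.pos
      exact ⟨c - 1, Finset.mem_range.mpr (by omega), by rw [Nat.sub_add_cancel hc0]; omega⟩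
    · simp only [hf]
      rw [Nat.sub_add_cancel (Nat.mul_pos hk.pos (by omega)), ← pow_mul, Nat.mul_left_comm]
  rw [hsplit] at h1
  have hle : k * m ^ 2 ≤ d ^ 2 := by
    rw [hdm, mul_pow]
    exact Nat.mul_le_mul_right _ (Nat.le_self_pow two_ne_zero k)
  rw [← pow_mul, ← Nat.add_sub_cancel' hle, pow_add] at h1
  set P := ∏ t ∈ Finset.range m, ((Q ^ k) ^ (2 * (t + 1)) - 1) with hP
  have hPpos : 0 < P := Finset.prod_pos fun t _ =>
    Nat.sub_pos_of_lt (Nat.one_lt_pow (by omega) (Nat.one_lt_pow hk.ne_zero hQ2))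
  have h2 : r ∣ Q ^ (d ^ 2 - k * m ^ 2) * ∏ i ∈ (Finset.range d).filter (fun i => ¬ k ∣ i + 1), f i := by
    refine Nat.dvd_of_mul_dvd_mul_right (Nat.mul_pos (pow_pos (by omega : 0 < Q) (k * m ^ 2)) hPpos) (h1.trans ?_)
    exact dvd_of_eq (by ring)
  rcases hrP.prime.dvd_or_dvd h2 with h | h
  · exact LinearElements.cast_card_ne_zero (F := F) hrp ((ZMod.natCast_eq_zero_iff _ _).mpr (hrP.dvd_of_dvd_pow h))
  · obtain ⟨i, hi, hri⟩ := (hrP.prime.dvd_finsetProd_iff _).mp h
    rw [Finset.mem_filter] at hi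
    refine hi.2 (hke.trans (orderOf_dvd_of_pow_eq_one ?_))
    rw [← pow_mul]
    have := (ZMod.natCast_eq_zero_iff _ r).mpr hri
    rw [hf, Nat.cast_sub (Nat.one_le_pow _ _ (by omega)), Nat.cast_pow, Nat.cast_one, sub_eq_zero] at this
    exact this

include hN hS in
/-- In `Sp_4` with `k = 2`, every involution modulo scalars has a conjugate normalising the field. -/
theorem exists_conj_two (h2 : (2 : F) ≠ 0) (hd : d = 2) (hK : finrank F K = 2) {x : GL ι F}
    (hx : x ∈ Cfsg.spGL d F) {z : F} (hz : ((x ^ 2 : GL ι F) : Mat) = z • 1)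
    (hns : ∀ z : F, (x : Mat) ≠ z • 1) : ∃ g ∈ Cfsg.spGL d F, g⁻¹ * x * g ∈ N := by
  classical
  haveI : FiniteDimensional F K := Module.Finite.of_finite
  haveI : FiniteDimensional K (ι → F) := Module.Finite.of_finite
  set B := CfsgLib.Forms.sympBilin d F with hB
  have hA : B.IsAlt := CfsgLib.Forms.sympBilin_isAlt
  have hn : finrank F (ι → F) = 2 * 2 := by rw [CfsgLib.Forms.finrank_sympSpace, hd]
  have hBS : ∀ u v, B u v = Algebra.trace F K (S.h u v) := fun u v => by
    rw [hB, CfsgLib.Forms.sympBilin_apply, ← hS, S.tr]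
  obtain ⟨m, hdm, hm⟩ := exists_half S hS hK
  have hm1 : m = 1 := by omega
  obtain ⟨n, b, b1, b2, b3⟩ := Forms.exists_symplectic_basis_nondeg S.h S.alt
    ⟨fun w h => f_sep S hS fun y => by rw [S.tr, h, map_zero],
      fun w h => f_sep S hS fun y => by rw [S.f_swap y w, S.tr, h, map_zero, neg_zero]⟩
  have hn1 : n = 1 := by
    have := Module.finrank_eq_card_basis b
    rw [hm, hm1, Fintype.card_sum, Fintype.card_fin] at this
    omega
  subst hn1
  set e := b (Sum.inl 0) with he
  set f := b (Sum.inr 0) with hf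
  have hef : S.h e f = 1 := by rw [he, hf, b1, if_pos rfl]
  have hfe : S.h f e = -1 := by rw [S.h_swap e f, hef]
  have hexp : ∀ v, ∃ c c' : K, v = c • e + c' • f := fun v =>
    ⟨b.repr v (Sum.inl 0), b.repr v (Sum.inr 0), by
      rw [he, hf]
      conv_lhs => rw [← b.sum_repr v]
      rw [Fintype.sum_sum_type, Fin.sum_univ_one, Fin.sum_univ_one]⟩
  -- the two candidates
  have main : ∀ (Y : Module.End F (ι → F)), Function.Bijective Y → (∀ u v, B (Y u) (Y v) = B u v) →
      (∀ a : K, ∃ a' : K, ∀ v, Y (a • v) = a' • Y v) →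
      (∃ L : (ι → F) ≃ₗ[F] (ι → F), (∀ a c, B (L a) (L c) = B a c) ∧
        ∀ a, L (Y a) = Matrix.toLin' (x : Mat) (L a)) →
      ∃ g ∈ Cfsg.spGL d F, g⁻¹ * x * g ∈ N := by
    intro Y hYb hYi hYs ⟨L, hL, hLc⟩
    obtain ⟨y, hy⟩ := exists_gl_of_bijective Y hYb
    obtain ⟨g, hg, e⟩ := exists_spGL_conj x y L hL fun a => by rw [hy, hLc, Matrix.toLin'_apply]
    refine ⟨g, hg, e ▸ (hN y).mpr fun a => ?_⟩
    obtain ⟨a', ha'⟩ := hYs a
    exact ⟨a', fun v => by rw [hy, hy, ha']⟩
  have hxi : ∀ u v, B (Matrix.toLin' (x : Mat) u) (Matrix.toLin' (x : Mat) v) = B u v := fun u v => by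
    simp only [hB, CfsgLib.Forms.sympBilin_apply, Matrix.toLin'_apply]
    exact hx u v
  have hxx : ∀ v, Matrix.toLin' (x : Mat) (Matrix.toLin' (x : Mat) v) = z • v := fun v => by
    rw [Matrix.toLin'_apply, Matrix.toLin'_apply, Matrix.mulVec_mulVec, ← Units.val_mul, ← pow_two, hz,
      Matrix.smul_mulVec, Matrix.one_mulVec]
  rcases mul_self_eq_one_iff.mp (scalar_sq (by omega) ((Cfsg.spGL d F).pow_mem hx 2) hz) with rfl | rfl
  · -- an involution: the conjugation on the coordinates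
    obtain ⟨τ, hτ⟩ : ∃ τ : K ≃ₐ[F] K, τ ≠ 1 := by
      haveI : Nontrivial (K ≃ₐ[F] K) := Finite.one_lt_card_iff_nontrivial.mp
        (by rw [IsGalois.card_aut_eq_finrank, hK]; omega)
      exact exists_ne 1
    have hττ : ∀ a, τ (τ a) = a := fun a => by
      have h : τ ^ 2 = 1 := by
        rw [← hK, ← IsGalois.card_aut_eq_finrank F K]
        exact pow_card_eq_one'
      rw [pow_two] at h
      exact AlgEquiv.congr_fun h a
    obtain ⟨a₀, ha₀⟩ : ∃ a, τ a ≠ a := by
      by_contra h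
      push Not at h
      exact hτ (AlgEquiv.ext h)
    let Y : Module.End F (ι → F) :=
      { toFun := fun v => τ (b.repr v (Sum.inl 0)) • e + τ (b.repr v (Sum.inr 0)) • f
        map_add' := fun u v => by
          simp only [map_add, Finsupp.add_apply, add_smul]
          abel
        map_smul' := fun c v => by
          rw [← algebraMap_smul K c v, map_smul, RingHom.id_apply, smul_add, Finsupp.smul_apply,
            Finsupp.smul_apply, smul_eq_mul, smul_eq_mul, map_mul, map_mul, AlgEquiv.commutes, mul_smul, mul_smul,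
            algebraMap_smul, algebraMap_smul] }
    have hY : ∀ c c' : K, Y (c • e + c' • f) = τ c • e + τ c' • f := fun c c' => by
      show τ (b.repr (c • e + c' • f) (Sum.inl 0)) • e + τ (b.repr (c • e + c' • f) (Sum.inr 0)) • f = _
      simp [he, hf]
    have hYY : ∀ v, Y (Y v) = v := fun v => by
      obtain ⟨c, c', rfl⟩ := hexp v
      rw [hY, hY, hττ, hττ]
    have hYi : ∀ u v, B (Y u) (Y v) = B u v := fun u v => by
      obtain ⟨c, c', rfl⟩ := hexp u
      obtain ⟨c₁, c₁', rfl⟩ := hexp v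
      have hh : S.h (τ c • e + τ c' • f) (τ c₁ • e + τ c₁' • f) = τ (S.h (c • e + c' • f) (c₁ • e + c₁' • f)) := by
        simp only [map_add, map_smul, LinearMap.add_apply, LinearMap.smul_apply, S.alt, hef, hfe, smul_eq_mul,
          map_mul, map_zero, map_neg, map_one]
      rw [hY, hY, hBS, hBS, hh, Algebra.trace_eq_of_algEquiv]
    refine main Y ⟨fun u v h => by simpa [hYY] using congrArg Y h, fun v => ⟨Y v, hYY v⟩⟩ hYi
      (fun a => ⟨τ a, fun v => ?_⟩) ?_
    · obtain ⟨c, c', rfl⟩ := hexp v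
      rw [smul_add, smul_smul, smul_smul, hY, hY, smul_add, smul_smul, smul_smul, map_mul, map_mul]
    · refine exists_conj_involution_four h2 hn hA (fun w => sympBilin_sep w) hYi hxi hYY
        (fun v => by rw [hxx, one_smul]) (fun c => ?_) (fun c => ?_)
      · by_contra h
        push Not at h
        have h1 := h e
        rw [show Y e = e by simpa using hY 1 0] at h1
        have hc : c = 1 := by
          have he0 : e ≠ 0 := b.ne_zero _
          exact (smul_left_injective F he0 (h1.symm.trans (one_smul F e).symm))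
        have h2 := h (a₀ • e)
        rw [show Y (a₀ • e) = τ a₀ • e by simpa using hY a₀ 0, hc, one_smul] at h2
        exact ha₀ (smul_left_injective K (b.ne_zero _) h2)
      · by_contra h
        push Not at h
        exact hns c (Matrix.ext_iff_mulVec.mpr fun v => by
          rw [← Matrix.toLin'_apply, h v, Matrix.smul_mulVec, Matrix.one_mulVec])
  · -- square `-1`: the rotation
    let J : (ι → F) →ₗ[K] (ι → F) := b.constr K (Sum.elim (fun _ => f) (fun _ => -e))
    have hJ : ∀ c c' : K, J (c • e + c' • f) = c • f + c' • -e := fun c c' => by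
      simp only [J, map_add, map_smul, he, hf, Basis.constr_basis, Sum.elim_inl, Sum.elim_inr]
    let Y : Module.End F (ι → F) := J.restrictScalars F
    have hYY : ∀ v, Y (Y v) = -v := fun v => by
      obtain ⟨c, c', rfl⟩ := hexp v
      show J (J (c • e + c' • f)) = _
      rw [hJ, show c • f + c' • -e = (-c') • e + c • f by rw [smul_neg, neg_smul]; abel, hJ, neg_smul, smul_neg]
      abel
    have hYi : ∀ u v, B (Y u) (Y v) = B u v := fun u v => by
      obtain ⟨c, c', rfl⟩ := hexp u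
      obtain ⟨c₁, c₁', rfl⟩ := hexp v
      show B (J _) (J _) = _
      rw [hJ, hJ, hBS, hBS]
      congr 1
      simp only [map_add, map_smul, map_neg, LinearMap.add_apply, LinearMap.smul_apply, LinearMap.neg_apply,
        S.alt, hef, hfe, smul_eq_mul]
      ring
    refine main Y ⟨fun u v h => by simpa [hYY] using congrArg Y h,
      fun v => ⟨-Y v, by rw [map_neg, hYY, neg_neg]⟩⟩ hYi (fun a => ⟨a, fun v => map_smul J a v⟩) ?_
    exact exists_conj_quarter h2 hn hA (fun w => sympBilin_sep w) hYi hxi hYY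
      (fun v => by rw [hxx, neg_one_smul])

include hN hS in
/-- The criterion. -/
theorem fixes_iff_symp {p : ℕ} [Fact p.Prime] [CharP F p] (hd : 2 ≤ d) {k : ℕ} (hk : k.Prime)
    (hK : finrank F K = k) {r : ℕ} [Fact r.Prime] (hΩ : r ∣ N.relIndex (Cfsg.spGL d F)) :
    (∀ x ∈ Cfsg.spGL d F, (∃ z : F, ((x ^ r : GL ι F) : Mat) = z • (1 : Mat)) →
      (∀ z : F, (x : Mat) ≠ z • (1 : Mat)) → ∃ g ∈ Cfsg.spGL d F, g⁻¹ * x * g ∈ N) ↔
    (r = 2 ∧ d = 2 ∧ k = 2 ∧ Odd (Fintype.card F)) := by
  have hd0 : 0 < d := by omega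
  obtain ⟨m, hdm, -⟩ := exists_half S hS hK
  have h2odd : Odd (Fintype.card F) ↔ (2 : F) ≠ 0 := by
    rw [Nat.odd_iff]
    constructor
    · intro ho h2
      obtain ⟨n, -, hn⟩ := FiniteField.card F p
      haveI : CharP F 2 := CharTwo.of_one_ne_zero_of_two_eq_zero one_ne_zero h2
      rw [FiniteField.even_card_iff_char_two.mp (ringChar.eq F 2)] at ho
      exact absurd ho (by omega)
    · intro h2
      exact FiniteField.odd_card_of_char_ne_two fun e => h2 (by
        haveI : CharP F 2 := e ▸ ringChar.charP F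
        exact CharTwo.two_eq_zero)
  constructor
  · intro hall
    have hone : ∀ x : GL ι F, x ^ r = 1 → ∃ z : F, ((x ^ r : GL ι F) : Mat) = z • (1 : Mat) :=
      fun x h => ⟨1, by rw [h, Units.val_one, one_smul]⟩
    by_cases hrp : r = p
    · exfalso
      subst hrp
      obtain ⟨x, hx, hxr, hrank⟩ := exists_transvection_test (F := F) (p := r) hd0
      obtain ⟨g, hg, hgx⟩ := hall x hx (hone x hxr)
        (not_scalar_of_rank_lt (by omega) (by omega))
      rcases conj_cases N hN S hS hd0 hk hK hx hxr hg hgx with ⟨h, -⟩ | ⟨-, h⟩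
      · rw [hrank] at h
        exact hk.ne_one (Nat.eq_one_of_dvd_one h)
      · omega
    by_cases hr2 : r = 2
    · subst hr2
      have h2 : (2 : F) ≠ 0 := by exact_mod_cast cast_ne_zero (F := F) hrp
      obtain ⟨x, hx, hxr, hrank⟩ := exists_involution_test (F := F) h2 hd0
      obtain ⟨g, hg, hgx⟩ := hall x hx (hone x hxr)
        (not_scalar_of_rank_lt (by omega) (by omega))
      rcases conj_cases N hN S hS hd0 hk hK hx hxr hg hgx with ⟨-, h⟩ | ⟨hkr, h⟩
      · have h' := Nat.le_of_dvd (by omega) (h (by exact_mod_cast h2))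
        have := hk.two_le
        omega
      · exact ⟨rfl, by omega, hkr, h2odd.mpr h2⟩
    · exfalso
      have hdvd : r ∣ Nat.card (Cfsg.spGL d F) :=
        hΩ.trans ((dvd_of_eq (mul_one _).symm).trans (relIndex_mul_dvd (one_dvd _)))
      obtain ⟨hed, x, hx, hxr, hrank⟩ := exists_block_test hrp hr2 hdvd
      set e := orderOf ((Fintype.card F : ZMod r) ^ 2) with he
      have hq := LinearElements.cast_card_ne_zero (F := F) (r := r) hrp
      have he0 : 0 < e := orderOf_pos_iff.mpr (isOfFinOrder_iff_pow_eq_one.mpr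
        ⟨r - 1, by have := (Fact.out : r.Prime).two_le; omega, ZMod.pow_card_sub_one_eq_one (pow_ne_zero 2 hq)⟩)
      have hlt := two_mul_orderOf_sq_lt hr2 hq
      obtain ⟨g, hg, hgx⟩ := hall x hx (hone x hxr) (not_scalar_of_rank hd0 hr2 hx hxr (by omega))
      rcases conj_cases N hN S hS hd0 hk hK hx hxr hg hgx with ⟨-, h⟩ | ⟨hkr, h⟩
      · have h' := h (cast_ne_zero hrp)
        rw [hrank] at h'
        exact not_dvd_index N hN S hS hk hK hrp (Nat.dvd_of_mul_dvd_mul_left two_pos h') hΩ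
      · rw [hkr] at hdm
        have : r ≤ d := Nat.le_of_dvd hd0 (hdm ▸ dvd_mul_right r m)
        omega
  · rintro ⟨rfl, hd2, rfl, ho⟩ x hx ⟨z, hz⟩ hns
    exact exists_conj_two N hN S hS (h2odd.mp ho) hd2 hK hx hz hns

end Tower

end CfsgLib.FieldExtElements
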