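import Cfsg.Agent.LinearElements.FieldExtSymp

/-!
A self-adjoint field of matrices gives a form over the field; the criterion for the matrix groups.
-/

set_option autoImplicit false

namespace CfsgLib.FieldExtElements

open Module Matrix Cfsg.Geo
open CfsgLib.ExtField (SympTower mulVecModule isField_subalgebra exists_dual_comp mem_normalizer_of_conj_mem)

variable {F : Type*} [Field F] [Fintype F] {d : ℕ}

/-- The criterion for a self-adjoint field. -/
theorem fixes_iff_selfAdjoint {p : ℕ} [Fact p.Prime] [CharP F p] (hd : 2 ≤ d) {k : ℕ} (hk : k.Prime)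
    (K : Subalgebra F (Matrix (Fin d ⊕ Fin d) (Fin d ⊕ Fin d) F)) (hK : IsFieldSubalgebra k K)
    (hsa : IsSelfAdjointFor (Cfsg.sympForm d F) K)
    (halt : ∀ a ∈ K, ∀ v : Fin d ⊕ Fin d → F, Cfsg.sympForm d F (a *ᵥ v) v = 0)
    {r : ℕ} [Fact r.Prime] (hΩ : r ∣ (subalgebraNormalizer K).relIndex (Cfsg.spGL d F)) :
    (∀ x ∈ Cfsg.spGL d F, (∃ z : F, ((x ^ r : GL (Fin d ⊕ Fin d) F) :
        Matrix (Fin d ⊕ Fin d) (Fin d ⊕ Fin d) F) = z • (1 : Matrix (Fin d ⊕ Fin d) (Fin d ⊕ Fin d) F)) →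
      (∀ z : F, (x : Matrix (Fin d ⊕ Fin d) (Fin d ⊕ Fin d) F) ≠
        z • (1 : Matrix (Fin d ⊕ Fin d) (Fin d ⊕ Fin d) F)) →
      ∃ g ∈ Cfsg.spGL d F, g⁻¹ * x * g ∈ subalgebraNormalizer K) ↔
    (r = 2 ∧ d = 2 ∧ k = 2 ∧ Odd (Fintype.card F)) := by
  classical
  haveI : Nonempty (Fin d ⊕ Fin d) := ⟨Sum.inl ⟨0, by omega⟩⟩
  letI : Field K := (isField_subalgebra hK).toField
  letI : Module K (Fin d ⊕ Fin d → F) := mulVecModule K
  have hsmul : ∀ (a : K) (v : Fin d ⊕ Fin d → F),
      a • v = (a : Matrix (Fin d ⊕ Fin d) (Fin d ⊕ Fin d) F) *ᵥ v := fun _ _ => rfl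
  haveI : IsScalarTower F K (Fin d ⊕ Fin d → F) := ⟨fun c a v => by
    rw [hsmul, hsmul]; exact Matrix.smul_mulVec c _ v⟩
  haveI : Finite K := Subtype.finite
  have hs := MaxSub.sesq_sympForm (m := d) (F := F)
  have htr0 : Algebra.trace F K ≠ 0 := by
    obtain ⟨z, hz⟩ := Algebra.trace_surjective F K 1
    exact fun h => zero_ne_one (by rw [← hz, h]; rfl)
  choose ψ hψ using fun x => exists_dual_comp (K := K) htr0 (CfsgLib.Forms.sympBilin d F x)
  have huniq : ∀ a b : K, (∀ l : K, Algebra.trace F K (l * a) = Algebra.trace F K (l * b)) → a = b := by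
    intro a b h
    by_contra hne
    obtain ⟨s, hs'⟩ := Algebra.trace_surjective F K 1
    have := h (s / (a - b))
    rw [← sub_eq_zero, ← map_sub, ← mul_sub, div_mul_cancel₀ _ (sub_ne_zero.mpr hne), hs'] at this
    exact one_ne_zero this
  have hψl : ∀ (x y : Fin d ⊕ Fin d → F) (l : K),
      Algebra.trace F K (l * ψ x y) = Cfsg.sympForm d F x (l • y) := fun x y l => by
    rw [← smul_eq_mul, ← map_smul, hψ, CfsgLib.Forms.sympBilin_apply]
  have hkl : ∀ (l : K) (x y : Fin d ⊕ Fin d → F),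
      Cfsg.sympForm d F (l • x) y = Cfsg.sympForm d F x (l • y) := fun l x y => by
    rw [hsmul, hsmul]; exact hsa _ l.2 x y
  let h : (Fin d ⊕ Fin d → F) →ₗ[K] (Fin d ⊕ Fin d → F) →ₗ[K] K :=
    { toFun := ψ
      map_add' := fun a b => LinearMap.ext fun y => huniq _ _ fun l => by
        rw [hψl, hs.add_left, LinearMap.add_apply, mul_add, map_add, hψl, hψl]
      map_smul' := fun k a => LinearMap.ext fun y => huniq _ _ fun l => by
        rw [hψl, hkl, RingHom.id_apply, LinearMap.smul_apply, smul_eq_mul, ← mul_assoc, hψl,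
          smul_smul, mul_comm] }
  let S : SympTower F K (Fin d ⊕ Fin d → F) :=
    { f := CfsgLib.Forms.sympBilin d F
      h := h
      tr := fun x y => (hψ x y).symm
      alt := fun x => huniq _ 0 fun l => by
        show Algebra.trace F K (l * ψ x x) = _
        rw [hψl, ← hkl, mul_zero, map_zero, hsmul]
        exact halt _ l.2 x
      nondeg := fun x hx => by
        by_contra hc
        push Not at hc
        refine hx (sympBilin_sep x fun y => ?_)
        rw [← hψ]
        show Algebra.trace F K (h x y) = 0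
        rw [hc, map_zero] }
  refine fixes_iff_symp (subalgebraNormalizer K) (fun y => ⟨fun hy a => ?_, fun hy => ?_⟩) S
    (fun u v => CfsgLib.Forms.sympBilin_apply u v) hd hk hK.finrank_eq hΩ
  · refine ⟨⟨_, (hy a.1).mp a.2⟩, fun v => ?_⟩
    rw [hsmul, hsmul, Matrix.mulVec_mulVec, Matrix.mulVec_mulVec, mul_assoc, Units.inv_mul, mul_one]
  · refine mem_normalizer_of_conj_mem fun k hk => ?_
    obtain ⟨b, hb⟩ := hy ⟨k, hk⟩
    have e : (y : Matrix (Fin d ⊕ Fin d) (Fin d ⊕ Fin d) F) * k = b.1 * y := by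
      refine Matrix.ext_iff_mulVec.mpr fun v => ?_
      rw [← Matrix.mulVec_mulVec, ← Matrix.mulVec_mulVec]
      exact hb v
    rw [e, mul_assoc, Units.mul_inv, mul_one]
    exact b.2

end CfsgLib.FieldExtElements
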