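import Cfsg.Agent.LinearElements.DecompLines
import Cfsg.Agent.Aschbacher.Basic

/-! Extension-field structures on a vector space and the maps normalising them. -/

set_option autoImplicit false

namespace CfsgLib.LinearElements

open Module

variable {F V L : Type*} [Field F] [AddCommGroup V] [Module F V] [Field L] [Algebra F L]

/-- `g` carries the structure `φ` to itself. -/
def Normalizes (g : Module.End F V) (φ : L →ₐ[F] Module.End F V) : Prop := ∀ a, ∃ b, g * φ a = φ b * g

/-- `g` normalises some structure of an `L`-space. -/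
def HasStructure (L : Type*) [Field L] [Algebra F L] (g : Module.End F V) : Prop :=
  ∃ φ : L →ₐ[F] Module.End F V, Normalizes g φ

/-- The structure transported from an `L`-space. -/
def structureOf {M : Type*} [AddCommGroup M] [Module F M] [Module L M] [IsScalarTower F L M] (e : M ≃ₗ[F] V) :
    L →ₐ[F] Module.End F V :=
  (e.conjAlgEquiv F).toAlgHom.comp (Algebra.lsmul F F M)

theorem structureOf_apply {M : Type*} [AddCommGroup M] [Module F M] [Module L M] [IsScalarTower F L M]
    (e : M ≃ₗ[F] V) (a : L) (m : M) : structureOf e a (e m) = e (a • m) := by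
  simp [structureOf]

theorem Normalizes.smul {g : Module.End F V} {φ : L →ₐ[F] Module.End F V} (h : Normalizes g φ) (c : F) :
    Normalizes (c • g) φ := fun a => by
  obtain ⟨b, hb⟩ := h a
  exact ⟨b, by rw [smul_mul_assoc, hb, mul_smul_comm]⟩

theorem HasStructure.smul {g : Module.End F V} (h : HasStructure L g) (c : F) : HasStructure L (c • g) :=
  h.imp fun _ hφ => hφ.smul c

/-- A map intertwined with a field automorphism normalises the transported structure. -/
theorem hasStructure_of_intertwine {g : Module.End F V} (σ : L ≃ₐ[F] L) (e : L ≃ₗ[F] V)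
    (h : ∀ x, g (e x) = e (σ x)) : HasStructure L g := by
  refine ⟨structureOf e, fun a => ⟨σ a, LinearMap.ext fun v => ?_⟩⟩
  obtain ⟨x, rfl⟩ := e.surjective v
  rw [Module.End.mul_apply, Module.End.mul_apply, structureOf_apply, h, h, structureOf_apply, smul_eq_mul, smul_eq_mul,
    map_mul]

/-- A map which is scalar on the two members of an `L`-adapted decomposition commutes with the structure. -/
theorem hasStructure_of_split [FiniteDimensional F V] [FiniteDimensional F L] {g : Module.End F V} {U W : Submodule F V}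
    (hUW : IsCompl U W) (hU : finrank F L ∣ finrank F U) (hW : finrank F L ∣ finrank F W) {α β : F}
    (hgU : ∀ u ∈ U, g u = α • u) (hgW : ∀ w ∈ W, g w = β • w) : HasStructure L g := by
  obtain ⟨s₁, hs₁⟩ := hU
  obtain ⟨s₂, hs₂⟩ := hW
  let eU : (Fin s₁ → L) ≃ₗ[F] U := LinearEquiv.ofFinrankEq _ _ (by
    rw [Module.finrank_pi_fintype, hs₁]; simp [mul_comm])
  let eW : (Fin s₂ → L) ≃ₗ[F] W := LinearEquiv.ofFinrankEq _ _ (by
    rw [Module.finrank_pi_fintype, hs₂]; simp [mul_comm])
  let e := (eU.prodCongr eW).trans (Submodule.prodEquivOfIsCompl U W hUW)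
  have hge : ∀ x : (Fin s₁ → L) × (Fin s₂ → L), g (e x) = e (α • x.1, β • x.2) := fun x => by
    simp [e, hgU _ (eU x.1).2, hgW _ (eW x.2).2]
  refine ⟨structureOf e, fun a => ⟨a, LinearMap.ext fun v => ?_⟩⟩
  obtain ⟨x, rfl⟩ := e.surjective v
  rw [Module.End.mul_apply, Module.End.mul_apply, structureOf_apply, hge, hge, structureOf_apply]
  congr 1
  simp only [Prod.smul_fst, Prod.smul_snd, Prod.smul_mk, smul_comm α a x.1, smul_comm β a x.2]

theorem apply_injective [Nontrivial V] (φ : L →ₐ[F] Module.End F V) {v : V} (hv : v ≠ 0) :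
    Function.Injective fun a => φ a v := by
  intro a b hab
  by_contra hne
  refine hv ?_
  have h : φ ((a - b)⁻¹) (φ (a - b) v) = v := by
    rw [← Module.End.mul_apply, ← map_mul, inv_mul_cancel₀ (sub_ne_zero.mpr hne), map_one, Module.End.one_apply]
  rw [map_sub, LinearMap.sub_apply, show φ a v = φ b v from hab, sub_self, map_zero] at h
  exact h.symm

/-- A quadratic structure is not normalised by a map with `rank (g - 1) = 1` unless `n = 2`. -/
theorem finrank_eq_two_of_rank_one [FiniteDimensional F V] (hL : finrank F L = 2) {g : Module.End F V}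
    {φ : L →ₐ[F] Module.End F V} (hφ : Normalizes g φ) (hr : finrank F (LinearMap.range (g - 1)) = 1) :
    finrank F V ≤ 2 := by
  haveI : Nontrivial V := by
    by_contra hV
    rw [not_nontrivial_iff_subsingleton] at hV
    have := Submodule.finrank_le (LinearMap.range (g - 1))
    rw [hr, Module.finrank_zero_of_subsingleton] at this
    omega
  haveI : FiniteDimensional F L := Module.finite_of_finrank_eq_succ hL
  obtain ⟨w, hw⟩ : ∃ w : L, ∀ c : F, algebraMap F L c ≠ w := by
    by_contra h
    push Not at h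
    have h1 : Function.Surjective (Algebra.linearMap F L) := h
    have h2 := LinearMap.finrank_le_finrank_of_surjective h1
    rw [hL, Module.finrank_self] at h2
    omega
  obtain ⟨b, hb⟩ := hφ w
  have hbw : b ≠ w := by
    rintro rfl
    obtain ⟨v, hv, hspan⟩ := finrank_eq_one_iff'.mp hr
    have hmem : φ b (v : V) ∈ LinearMap.range (g - 1) := by
      obtain ⟨u, hu⟩ := v.2
      refine ⟨φ b u, ?_⟩
      have h1 := congrArg (fun f : Module.End F V => f u) hb
      simp only [Module.End.mul_apply] at h1
      rw [← hu, LinearMap.sub_apply, LinearMap.sub_apply, map_sub, Module.End.one_apply, Module.End.one_apply, h1]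
    obtain ⟨c, hc⟩ := hspan ⟨_, hmem⟩
    refine hw c (apply_injective φ (v := (v : V)) (fun h => hv (Subtype.ext h)) ?_)
    have := congrArg Subtype.val hc
    simpa [AlgHom.commutes, Module.algebraMap_end_apply] using this
  have hker : LinearMap.ker (g - 1) ⊓ (LinearMap.ker (g - 1)).map (φ w) = ⊥ := by
    rw [Submodule.eq_bot_iff]
    rintro _ ⟨hv', u, hu, rfl⟩
    rw [SetLike.mem_coe, LinearMap.mem_ker, LinearMap.sub_apply, Module.End.one_apply, sub_eq_zero] at hu hv'
    have h1 := congrArg (fun f : Module.End F V => f u) hb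
    simp only [Module.End.mul_apply, hu, hv'] at h1
    rcases eq_or_ne u 0 with rfl | hu0
    · simp
    · exact absurd (apply_injective φ hu0 h1.symm) hbw
  have h1 := finrank_sup_of_disjoint hker
  have h2 := Submodule.finrank_le (LinearMap.ker (g - 1) ⊔ (LinearMap.ker (g - 1)).map (φ w))
  have hinj : Function.Injective (φ w) := fun u v huv => by
    have h3 := congrArg (φ w⁻¹) huv
    rwa [← Module.End.mul_apply, ← Module.End.mul_apply, ← map_mul,
      inv_mul_cancel₀ (fun e => hw 0 (by rw [map_zero, e])), map_one] at h3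
  rw [← (Submodule.equivMapOfInjective _ hinj _).finrank_eq] at h1
  have h4 := LinearMap.finrank_range_add_finrank_ker (g - 1)
  omega

/-- For a structure of prime degree `finrank V`, a normalising map other than `1` fixes at most a line. -/
theorem finrank_ker_le_one [FiniteDimensional F V] {k : ℕ} (hk : k.Prime) (hL : finrank F L = k)
    (hV : finrank F V = k) {g : Module.End F V} {φ : L →ₐ[F] Module.End F V} (hφ : Normalizes g φ) (hg : g ≠ 1) :
    finrank F (LinearMap.ker (g - 1)) ≤ 1 := by
  haveI : FiniteDimensional F L := Module.finite_of_finrank_pos (hL ▸ hk.pos)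
  haveI : Nontrivial V := Module.nontrivial_of_finrank_pos (R := F) (hV ▸ hk.pos)
  by_contra hlt
  obtain ⟨v, hvker, hv⟩ := (Submodule.ne_bot_iff _).mp
    (fun h : LinearMap.ker (g - 1) = ⊥ => hlt (by rw [h, finrank_bot]; omega))
  have hgv : g v = v := by simpa [LinearMap.mem_ker, sub_eq_zero] using hvker
  let ev : L →ₗ[F] V := (LinearMap.applyₗ v).comp φ.toLinearMap
  have hev : Function.Bijective ev := by
    refine ⟨apply_injective φ hv, ?_⟩
    exact (LinearMap.injective_iff_surjective_of_finrank_eq_finrank (hL.trans hV.symm)).mp (apply_injective φ hv)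
  let A : Subalgebra F L := (Subalgebra.centralizer F {g}).comap φ
  have hA : ∀ a, a ∈ A ↔ g * φ a = φ a * g := fun a => by
    simp [A, Subalgebra.mem_centralizer_iff]
  have hmemker : ∀ a, a ∈ A ↔ ev a ∈ LinearMap.ker (g - 1) := by
    intro a
    show a ∈ A ↔ φ a v ∈ _
    rw [hA, LinearMap.mem_ker, LinearMap.sub_apply, Module.End.one_apply, sub_eq_zero]
    constructor
    · intro h
      have := congrArg (fun f : Module.End F V => f v) h
      simpa [hgv] using this
    · intro h
      obtain ⟨b, hb⟩ := hφ a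
      have h1 := congrArg (fun f : Module.End F V => f v) hb
      simp only [Module.End.mul_apply, hgv, h] at h1
      rwa [← apply_injective φ hv h1] at hb
  haveI := Subalgebra.isSimpleOrder_of_finrank_prime F L (hL ▸ hk)
  have hsub : LinearMap.ker (g - 1) = (Subalgebra.toSubmodule A).map ev := by
    ext x
    obtain ⟨a, rfl⟩ := hev.2 x
    refine ⟨fun h => Submodule.mem_map_of_mem ((hmemker a).mpr h), ?_⟩
    rintro ⟨b, hb, hba⟩
    rw [← hba]
    exact (hmemker b).mp hb
  rcases IsSimpleOrder.eq_bot_or_eq_top A with h | h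
  · rw [hsub, ← (Submodule.equivMapOfInjective ev hev.1 _).finrank_eq] at hlt
    exact hlt ((Subalgebra.finrank_toSubmodule A).trans (by rw [h, Subalgebra.finrank_bot])).le
  · refine hg (LinearMap.ext fun x => ?_)
    obtain ⟨a, rfl⟩ := hev.2 x
    have : ev a ∈ LinearMap.ker (g - 1) := (hmemker a).mp (h ▸ Algebra.mem_top)
    simpa [LinearMap.mem_ker, sub_eq_zero] using this

/-- Every structure is transported from a free one. -/
theorem exists_structureOf [FiniteDimensional F V] [FiniteDimensional F L] (φ : L →ₐ[F] Module.End F V) :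
    ∃ (s : ℕ) (e : (Fin s → L) ≃ₗ[F] V), φ = structureOf e := by
  letI : Module L V := Module.compHom V φ.toRingHom
  have hsm : ∀ (a : L) (v : V), a • v = φ a v := fun _ _ => rfl
  haveI : IsScalarTower F L V := ⟨fun c a v => by rw [hsm, hsm, map_smul, LinearMap.smul_apply]⟩
  haveI : Module.Finite L V := Module.Finite.of_restrictScalars_finite F L V
  let b := Module.finBasis L V
  refine ⟨finrank L V, b.equivFun.symm.restrictScalars F, AlgHom.ext fun a => LinearMap.ext fun v => ?_⟩
  obtain ⟨x, rfl⟩ := (b.equivFun.symm.restrictScalars F).surjective v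
  rw [structureOf_apply]
  show φ a (b.equivFun.symm x) = b.equivFun.symm (a • x)
  rw [map_smul, hsm]

variable [Fintype F]

/-- Two structures are conjugate by a map of determinant one. -/
theorem exists_conj_structure [FiniteDimensional F V] [FiniteDimensional F L] [Nontrivial V]
    (φ₁ φ₂ : L →ₐ[F] Module.End F V) :
    ∃ e : V ≃ₗ[F] V, LinearMap.det e.toLinearMap = 1 ∧ ∀ a v, e (φ₁ a v) = φ₂ a (e v) := by
  obtain ⟨s, e₁, h₁⟩ := exists_structureOf φ₁
  obtain ⟨s', e₂, h₂⟩ := exists_structureOf φ₂
  obtain rfl : s = s' := by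
    have h := e₁.finrank_eq.trans e₂.finrank_eq.symm
    rw [Module.finrank_pi_fintype, Module.finrank_pi_fintype] at h
    simp only [Finset.sum_const, Finset.card_univ, Fintype.card_fin, smul_eq_mul] at h
    exact Nat.eq_of_mul_eq_mul_right Module.finrank_pos h
  have hs : 0 < s := by
    rcases Nat.eq_zero_or_pos s with rfl | h
    · haveI := e₁.symm.toEquiv.subsingleton
      exact absurd ‹Nontrivial V› (not_nontrivial V)
    · exact h
  let e₀ := e₁.symm.trans e₂
  have hd₀ : LinearMap.det e₀.toLinearMap ≠ 0 := (LinearEquiv.isUnit_det' e₀).ne_zero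
  haveI : Finite F := Finite.of_fintype F
  haveI : Finite L := Module.finite_of_finite F
  obtain ⟨a₀, ha₀⟩ := FiniteField.norm_surjective F L (LinearMap.det e₀.toLinearMap)⁻¹
  let d : Fin s → L := Function.update 1 ⟨0, hs⟩ a₀
  have ha₀0 : a₀ ≠ 0 := fun h => by
    rw [h, Algebra.norm_zero] at ha₀
    exact inv_ne_zero hd₀ ha₀.symm
  have hd : ∀ i, d i ≠ 0 := fun i => by
    simp only [d, Function.update_apply]
    split <;> simp [ha₀0]
  let T : (Fin s → L) ≃ₗ[L] (Fin s → L) :=
    LinearEquiv.piCongrRight fun i => LinearEquiv.smulOfNeZero L L (d i) (hd i)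
  let T' := T.restrictScalars F
  let e := (e₁.symm.trans T').trans e₂
  refine ⟨e, ?_, fun a v => ?_⟩
  · have hT : LinearMap.det T'.toLinearMap = (LinearMap.det e₀.toLinearMap)⁻¹ := by
      show LinearMap.det ((T.toLinearMap).restrictScalars F) = _
      rw [LinearMap.det_restrictScalars, ← ha₀]
      congr 1
      rw [show T.toLinearMap = Matrix.toLin' (Matrix.diagonal d) from LinearMap.ext fun x => funext fun i => by
        simp [T, Matrix.mulVec_diagonal], LinearMap.det_toLin', Matrix.det_diagonal,
        Finset.prod_update_of_mem (Finset.mem_univ _)]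
      simp
    have he : e.toLinearMap =
        e₀.toLinearMap * ((e₁.toLinearMap ∘ₗ T'.toLinearMap) ∘ₗ e₁.symm.toLinearMap) := by
      ext v; simp [e, e₀]
    rw [he]
    rw [map_mul, LinearMap.comp_assoc, LinearMap.det_conj, hT, mul_inv_cancel₀ hd₀]
  · obtain ⟨x, rfl⟩ := e₁.surjective v
    rw [h₁, h₂, structureOf_apply]
    simp only [e, LinearEquiv.trans_apply, LinearEquiv.symm_apply_apply]
    rw [structureOf_apply]
    congr 1
    exact map_smul T a x

section Subalgebra

variable {ι : Type} [Fintype ι] [DecidableEq ι]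

/-- Conjugates in `SL` of the normaliser of a field subalgebra: the maps normalising a structure. -/
theorem exists_conj_mem_normalizer_iff [Nonempty ι] {p : ℕ} [Fact p.Prime] [CharP F p] {k : ℕ} (hk : 0 < k)
    (hL : finrank F L = k) {K : Subalgebra F (Matrix ι ι F)} (hK : Cfsg.Geo.IsFieldSubalgebra k K)
    (x : Matrix.SpecialLinearGroup ι F) :
    (∃ P : Matrix.SpecialLinearGroup ι F, P⁻¹ * x * P ∈ ((Cfsg.Geo.subalgebraNormalizer K).comap
      (Matrix.SpecialLinearGroup.toGL : Matrix.SpecialLinearGroup ι F →* GL ι F))) ↔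
    HasStructure L (Matrix.toLin' (x : Matrix ι ι F) : Module.End F (ι → F)) := by
  classical
  let hfld : IsField K :=
    { exists_pair_ne := ⟨0, 1, fun h => zero_ne_one (congrArg Subtype.val h)⟩
      mul_comm := fun x y => Subtype.ext (hK.comm x.1 x.2 y.1 y.2)
      mul_inv_cancel := fun {x} hx => by
        obtain ⟨y, hy, h⟩ := hK.inv x.1 x.2 (fun h => hx (Subtype.ext h))
        exact ⟨⟨y, hy⟩, Subtype.ext h⟩ }
  letI : Field K := hfld.toField
  haveI : NeZero k := ⟨hk.ne'⟩
  let ψ : L ≃ₐ[F] K :=
    (FiniteField.algEquivExtension F p k L hL).trans (FiniteField.algEquivExtension F p k K hK.finrank_eq).symm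
  haveI : FiniteDimensional F L := Module.finite_of_finrank_pos (hL ▸ hk)
  let τ : Matrix ι ι F ≃ₐ[F] Module.End F (ι → F) := Matrix.toLinAlgEquiv'
  let φK : L →ₐ[F] Module.End F (ι → F) := τ.toAlgHom.comp (K.val.comp ψ.toAlgHom)
  have hcoe : ∀ A : Matrix.SpecialLinearGroup ι F,
      ((A⁻¹ : Matrix.SpecialLinearGroup ι F) : Matrix ι ι F) * (A : Matrix ι ι F) = 1 ∧
      (A : Matrix ι ι F) * ((A⁻¹ : Matrix.SpecialLinearGroup ι F) : Matrix ι ι F) = 1 := fun A =>
    ⟨by rw [← Matrix.SpecialLinearGroup.coe_mul, inv_mul_cancel, Matrix.SpecialLinearGroup.coe_one],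
     by rw [← Matrix.SpecialLinearGroup.coe_mul, mul_inv_cancel, Matrix.SpecialLinearGroup.coe_one]⟩
  constructor
  · rintro ⟨P, hP⟩
    let Pm := (P : Matrix ι ι F)
    let Pi := ((P⁻¹ : Matrix.SpecialLinearGroup ι F) : Matrix ι ι F)
    refine ⟨AlgHom.ofLinearMap (LinearMap.mulLeft F (τ Pm) ∘ₗ LinearMap.mulRight F (τ Pi) ∘ₗ φK.toLinearMap) ?_ ?_,
      fun a => ?_⟩
    · simp only [LinearMap.comp_apply, AlgHom.toLinearMap_apply, map_one, LinearMap.mulRight_apply,
        LinearMap.mulLeft_apply, one_mul]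
      rw [← map_mul, (hcoe P).2, map_one]
    · intro a b
      simp only [LinearMap.comp_apply, LinearMap.mulLeft_apply, LinearMap.mulRight_apply, AlgHom.toLinearMap_apply,
        map_mul]
      simp only [mul_assoc]
      rw [← mul_assoc (τ Pi) (τ Pm), ← map_mul, (hcoe P).1, map_one, one_mul]
    · have hmem := (hP (ψ a : Matrix ι ι F)).mp (ψ a).2
      obtain ⟨b, hb⟩ := ψ.surjective ⟨_, hmem⟩
      refine ⟨b, ?_⟩
      simp only [AlgHom.ofLinearMap_apply, LinearMap.comp_apply, LinearMap.mulLeft_apply, LinearMap.mulRight_apply,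
        AlgHom.toLinearMap_apply, φK, AlgHom.comp_apply, AlgEquiv.toAlgHom_eq_coe, AlgEquiv.coe_toAlgHom, hb, Subalgebra.coe_val]
      show τ (x : Matrix ι ι F) * _ = _ * τ (x : Matrix ι ι F)
      rw [← map_mul, ← map_mul, ← map_mul, ← map_mul, ← map_mul, ← map_mul]
      congr 1
      simp only [← map_inv, Matrix.SpecialLinearGroup.coe_GL_coe_matrix, mul_inv_rev, inv_inv,
        Matrix.SpecialLinearGroup.coe_mul, Pm, Pi]
      simp only [mul_assoc]
      have hPP : ∀ M : Matrix ι ι F,
          (P : Matrix ι ι F) * (((P⁻¹ : Matrix.SpecialLinearGroup ι F) : Matrix ι ι F) * M) = M := fun M => by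
        rw [← mul_assoc, (hcoe P).2, one_mul]
      simp only [hPP, (hcoe x).1, mul_one]
  · rintro ⟨φ, hφ⟩
    obtain ⟨e, hdet, he⟩ := exists_conj_structure φK φ
    let P : Matrix.SpecialLinearGroup ι F := ⟨LinearMap.toMatrix' e.toLinearMap, by rw [LinearMap.det_toMatrix', hdet]⟩
    have hPe : ∀ v, (P : Matrix ι ι F).mulVec v = e v := fun v => LinearMap.toMatrix'_mulVec _ v
    refine ⟨P, Aschbacher.mem_subalgebraNormalizer_of fun m hm => ?_⟩
    obtain ⟨a, ha⟩ := ψ.surjective ⟨m, hm⟩
    obtain ⟨b, hb⟩ := hφ a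
    suffices h : (x : Matrix ι ι F) * (P : Matrix ι ι F) * m = (P : Matrix ι ι F) * (ψ b : Matrix ι ι F) *
        ((P⁻¹ : Matrix.SpecialLinearGroup ι F) : Matrix ι ι F) * ((x : Matrix ι ι F) * (P : Matrix ι ι F)) by
      simp only [Aschbacher.mat, ← map_inv, Matrix.SpecialLinearGroup.coe_GL_coe_matrix, mul_inv_rev, inv_inv,
        Matrix.SpecialLinearGroup.coe_mul]
      have key : ((P⁻¹ : Matrix.SpecialLinearGroup ι F) : Matrix ι ι F) * (x : Matrix ι ι F) * (P : Matrix ι ι F) * m *
          (((P⁻¹ : Matrix.SpecialLinearGroup ι F) : Matrix ι ι F) *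
            (((x⁻¹ : Matrix.SpecialLinearGroup ι F) : Matrix ι ι F) * (P : Matrix ι ι F))) = (ψ b : Matrix ι ι F) := by
        simp only [mul_assoc] at h ⊢
        rw [← mul_assoc (P : Matrix ι ι F) m, ← mul_assoc (x : Matrix ι ι F), h]
        simp only [← mul_assoc, (hcoe P).1, one_mul]
        simp only [mul_assoc]
        rw [← mul_assoc (P : Matrix ι ι F) ((P⁻¹ : Matrix.SpecialLinearGroup ι F) : Matrix ι ι F), (hcoe P).2, one_mul,
          ← mul_assoc (x : Matrix ι ι F), (hcoe x).2, one_mul, (hcoe P).1, mul_one]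
      rw [key]
      exact (ψ b).2
    refine Matrix.ext_iff_mulVec.mpr fun v => ?_
    have hPi : ((P⁻¹ : Matrix.SpecialLinearGroup ι F) : Matrix ι ι F).mulVec ((x : Matrix ι ι F).mulVec (e v)) =
        e.symm ((x : Matrix ι ι F).mulVec (e v)) := by
      apply e.injective
      rw [← hPe, Matrix.mulVec_mulVec, (hcoe P).2, Matrix.one_mulVec, e.apply_symm_apply]
    simp only [← Matrix.mulVec_mulVec, hPe]
    rw [hPi]
    have e1 : m.mulVec v = φK a v := by
      show m.mulVec v = Matrix.mulVec (ψ a : Matrix ι ι F) v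
      rw [ha]
    have e2 : ∀ w, (ψ b : Matrix ι ι F).mulVec w = φK b w := fun w => rfl
    rw [e1, e2, he, he, e.apply_symm_apply]
    exact congrArg (fun f : Module.End F (ι → F) => f (e v)) hb

end Subalgebra

end CfsgLib.LinearElements
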