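import Cfsg.Prelude.Def_GeometricClasses
import Mathlib

/-! Non-abelian subgroups of order 27 and exponent 3 of `GL(3, F)`: the standard pair of generators, elements of their
normaliser, and conjugation of diagonalisable elements inside `SL`. -/

set_option autoImplicit false

namespace CfsgLib.LinearElements.Heisenberg

open Matrix Module

theorem exists_central_commutator {G : Type*} [Group G] [Finite G] (hG : Nat.card G = 27)
    (hna : ¬ IsMulCommutative G) :
    ∃ a b c : G, c ≠ 1 ∧ (∀ g, c * g = g * c) ∧ a * b = c * (b * a) ∧ Subgroup.closure {a, b} = ⊤ := by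
  haveI : Fact (Nat.Prime 3) := ⟨by norm_num⟩
  have hp : IsPGroup 3 G := IsPGroup.of_card (n := 3) (by rw [hG]; norm_num)
  haveI : Nontrivial G := (Finite.one_lt_card_iff_nontrivial).mp (by omega)
  obtain ⟨a, b, hab⟩ : ∃ a b : G, a * b ≠ b * a := by
    by_contra h
    push Not at h
    exact hna ⟨⟨h⟩⟩
  have hcomm : ∀ u v : G ⧸ Subgroup.center G, u * v = v * u := by
    have hZ := hp.center_nontrivial
    have h1 : 1 < Nat.card (Subgroup.center G) := Finite.one_lt_card_iff_nontrivial.mpr hZ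
    have h2 := Subgroup.card_eq_card_quotient_mul_card_subgroup (Subgroup.center G)
    rw [hG] at h2
    have h3 : Nat.card (G ⧸ Subgroup.center G) ∈ Nat.divisors 27 := by
      rw [Nat.mem_divisors]; exact ⟨Dvd.intro _ h2.symm, by norm_num⟩
    rw [show Nat.divisors 27 = {1, 3, 9, 27} by decide] at h3
    simp only [Finset.mem_insert, Finset.mem_singleton] at h3
    rcases h3 with h | h | h | h
    · haveI := (Nat.card_eq_one_iff_unique.mp h).1
      exact fun u v => Subsingleton.elim _ _
    · haveI := isCyclic_of_prime_card h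
      exact fun u v => by obtain ⟨g, hg⟩ := IsCyclic.exists_generator (α := G ⧸ Subgroup.center G); obtain ⟨i, rfl⟩ := hg u; obtain ⟨j, rfl⟩ := hg v; exact (zpow_mul_comm g i j)
    · exact IsPGroup.commutative_of_card_eq_prime_sq (p := 3) (by rw [h]; norm_num)
    · rw [h] at h2; omega
  refine ⟨a, b, a * b * a⁻¹ * b⁻¹, fun h => hab ?_, fun g => ?_, by group, ?_⟩
  · rw [mul_inv_eq_one, mul_inv_eq_iff_eq_mul] at h; exact h
  · have : ((a * b * a⁻¹ * b⁻¹ : G) : G ⧸ Subgroup.center G) = 1 := by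
      rw [QuotientGroup.mk_mul, QuotientGroup.mk_mul, QuotientGroup.mk_mul, QuotientGroup.mk_inv,
        QuotientGroup.mk_inv, hcomm (a : G ⧸ Subgroup.center G) b]
      group
    exact (Subgroup.mem_center_iff.mp ((QuotientGroup.eq_one_iff _).mp this) g).symm
  · set K := Subgroup.closure {a, b}
    have haK : a ∈ K := Subgroup.subset_closure (by simp)
    have hbK : b ∈ K := Subgroup.subset_closure (by simp)
    have h3 : Nat.card K ∈ Nat.divisors 27 := by
      rw [Nat.mem_divisors, ← hG]; exact ⟨Subgroup.card_subgroup_dvd_card K, by omega⟩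
    rw [show Nat.divisors 27 = {1, 3, 9, 27} by decide] at h3
    simp only [Finset.mem_insert, Finset.mem_singleton] at h3
    have key : ¬ ∀ u v : K, u * v = v * u := fun h => hab (congrArg Subtype.val (h ⟨a, haK⟩ ⟨b, hbK⟩))
    rcases h3 with h | h | h | h
    · haveI := (Nat.card_eq_one_iff_unique.mp h).1
      exact absurd (fun u v => Subsingleton.elim _ _) key
    · haveI := isCyclic_of_prime_card h
      exact absurd (fun u v => by
        obtain ⟨g, hg⟩ := IsCyclic.exists_generator (α := K); obtain ⟨i, rfl⟩ := hg u; obtain ⟨j, rfl⟩ := hg v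
        exact (zpow_mul_comm g i j)) key
    · exact absurd (IsPGroup.commutative_of_card_eq_prime_sq (p := 3) (by rw [h]; norm_num)) key
    · exact Subgroup.eq_top_of_card_eq K (by rw [h, hG])

variable {F : Type*} [Field F]

local notation "M₃" => Matrix (Fin 3) (Fin 3) F
local notation "V₃" => (Fin 3 → F)

/-- The matrices `diag(1, ω, ω²)` and the cyclic shift. -/
def dMat (ω : F) : M₃ := Matrix.diagonal ![1, ω, ω ^ 2]

/-- The cyclic shift. -/
def tMat : M₃ := !![0, 0, 1; 1, 0, 0; 0, 1, 0]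

theorem tMat_mul_tMat_mul_tMat : (tMat : M₃) * tMat * tMat = 1 := by
  ext i j; fin_cases i <;> fin_cases j <;> simp [tMat, Matrix.mul_apply, Fin.sum_univ_three]

/-- A map of order three in characteristic prime to three has an eigenvector. -/
theorem exists_eigenvector (h3 : (3 : F) ≠ 0) {ω : F} (hω : IsPrimitiveRoot ω 3) {N : Module.End F V₃}
    (hN : ∀ v, N (N (N v)) = v) :
    ∀ v, ∃ u : Fin 3 → V₃, v = u 0 + u 1 + u 2 ∧ ∀ j, N (u j) = ω ^ (j : ℕ) • u j := by
  intro v
  have hω3 : ω ^ 3 = 1 := hω.pow_eq_one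
  have hsum : 1 + ω + ω ^ 2 = 0 := by
    have hne : ω - 1 ≠ 0 := sub_ne_zero.mpr (hω.ne_one (by norm_num))
    exact (mul_eq_zero.mp (show (ω - 1) * (1 + ω + ω ^ 2) = 0 by linear_combination hω3)).resolve_left hne
  refine ⟨fun j => (3 : F)⁻¹ • (v + (ω ^ (j : ℕ)) ^ 2 • N v + ω ^ (j : ℕ) • N (N v)), ?_, fun j => ?_⟩
  · have e : ((3 : F)⁻¹ • (v + (ω ^ 0) ^ 2 • N v + ω ^ 0 • N (N v))) +
        (3 : F)⁻¹ • (v + (ω ^ 1) ^ 2 • N v + ω ^ 1 • N (N v)) + (3 : F)⁻¹ • (v + (ω ^ 2) ^ 2 • N v + ω ^ 2 • N (N v)) =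
        ((3 : F)⁻¹ * 3) • v + ((3 : F)⁻¹ * (1 + ω + ω ^ 2)) • N v + ((3 : F)⁻¹ * (1 + ω + ω ^ 2)) • N (N v) := by
      rw [show (ω ^ 2) ^ 2 = ω by linear_combination ω * hω3]
      module
    refine Eq.symm (e.trans ?_)
    rw [inv_mul_cancel₀ h3, hsum, mul_zero, one_smul, zero_smul, zero_smul, add_zero, add_zero]
  · have hs : (ω ^ (j : ℕ)) ^ 3 = 1 := by rw [← pow_mul, mul_comm, pow_mul, hω3, one_pow]
    dsimp only
    generalize ω ^ (j : ℕ) = s at hs ⊢
    simp only [map_smul, map_add, hN]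
    rw [smul_comm s]
    congr 1
    simp only [smul_add, smul_smul]
    rw [show s * s ^ 2 = 1 by linear_combination hs, show s * s = s ^ 2 by ring, one_smul]
    abel

/-- The scalar matrix as an element of `GL`. -/
theorem exists_scalarGL {c : F} (hc : c ≠ 0) :
    ∃ s : GL (Fin 3) F, (s : M₃) = c • 1 ∧ ∀ g : GL (Fin 3) F, s * g = g * s :=
  ⟨⟨c • 1, c⁻¹ • 1, by simp [smul_smul, hc], by simp [smul_smul, hc]⟩, rfl,
    fun g => Units.ext (by simp [Units.val_mul])⟩

/-- A non-abelian subgroup of order 27 and exponent 3 contains, up to conjugation, the standard pair, which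
generates it, and the scalar of order three. -/
theorem exists_standard (h3 : (3 : F) ≠ 0) {ω : F} (hω : IsPrimitiveRoot ω 3) (R : Subgroup (GL (Fin 3) F))
    (hR : Nat.card R = 27) (hRe : Monoid.exponent R = 3) (hRna : ¬ IsMulCommutative R) :
    ∃ (γ a b : GL (Fin 3) F) (η : F), a ∈ R ∧ b ∈ R ∧ Subgroup.closure {a, b} = R ∧ IsPrimitiveRoot η 3 ∧
      (a : M₃) * (γ : M₃) = (γ : M₃) * dMat η ∧ (b : M₃) * (γ : M₃) = (γ : M₃) * tMat ∧ ∃ c ∈ R, (c : M₃) = η • 1 := by
  classical
  haveI : Finite R := Nat.finite_of_card_ne_zero (by omega)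
  obtain ⟨a, b, c, hc1, hcen, hab, hcl⟩ := exists_central_commutator hR hRna
  have hpow : ∀ g : R, ((g : GL (Fin 3) F) : M₃) ^ 3 = 1 := fun g => by
    rw [← Units.val_pow_eq_pow_val, ← SubgroupClass.coe_pow, show g ^ 3 = 1 by simpa [hRe] using Monoid.pow_exponent_eq_one g]
    rfl
  let op : R → Module.End F V₃ := fun g => Matrix.toLin' ((g : GL (Fin 3) F) : M₃)
  have hop : ∀ g h v, op (g * h) v = op g (op h v) := fun g h v => by
    simp [op, Matrix.mulVec_mulVec]
  have hop3 : ∀ g v, op g (op g (op g v)) = v := fun g v => by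
    simp only [op, Matrix.toLin'_apply, Matrix.mulVec_mulVec]
    rw [← mul_assoc, ← sq, ← pow_succ, hpow]
    simp
  -- an eigenspace of `c` for a non-trivial eigenvalue is the whole space
  obtain ⟨ρ, hρ3, hρ1, u, hu0, hu⟩ : ∃ ρ : F, ρ ^ 3 = 1 ∧ ρ ≠ 1 ∧ ∃ u, u ≠ 0 ∧ op c u = ρ • u := by
    by_contra hno
    push Not at hno
    refine hc1 (Subtype.ext (Units.ext ?_))
    have : op c = 1 := LinearMap.ext fun v => by
      obtain ⟨w, hw, hwe⟩ := exists_eigenvector h3 hω (hop3 c) v
      have hz : ∀ j : Fin 3, j ≠ 0 → w j = 0 := fun j hj => by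
        by_contra hne
        refine hno (ω ^ (j : ℕ)) (by rw [← pow_mul, mul_comm, pow_mul, hω.pow_eq_one, one_pow]) (fun e => ?_) _ hne (hwe j)
        exact hj (Fin.ext (hω.pow_inj j.2 (by norm_num) (by rw [e, Fin.val_zero, pow_zero])))
      rw [hw, hz 1 (by decide), hz 2 (by decide), add_zero, add_zero, hwe, Fin.val_zero, pow_zero, one_smul]
      rfl
    exact Matrix.toLin'.injective (this.trans Matrix.toLin'_one.symm)
  have hρ0 : ρ ≠ 0 := fun e => by simp [e] at hρ3
  set E := Module.End.eigenspace (op c) ρ with hE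
  have hEinv : ∀ g, ∀ v ∈ E, op g v ∈ E := fun g v hv => by
    rw [hE, Module.End.mem_eigenspace_iff] at hv ⊢
    rw [← hop, hcen, hop, hv, map_smul]
  have hEtop : E = ⊤ := by
    let A : Module.End F E := (op a).restrict (hEinv a)
    let B : Module.End F E := (op b).restrict (hEinv b)
    have hAB : A * B = ρ • (B * A) := LinearMap.ext fun v => Subtype.ext (by
      show op a (op b (v : V₃)) = ρ • op b (op a (v : V₃))
      rw [← hop, hab, hop, hop]
      exact Module.End.mem_eigenspace_iff.mp (hEinv _ _ (hEinv _ _ v.2)))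
    have hA3 : ∀ g, IsUnit (LinearMap.det ((op g).restrict (hEinv g))) := fun g => by
      refine IsUnit.of_pow_eq_one (n := 3) ?_ (by norm_num)
      rw [← map_pow, show (op g).restrict (hEinv g) ^ 3 = 1 from ?_, map_one]
      exact LinearMap.ext fun v => Subtype.ext (hop3 g v)
    have hd := congrArg LinearMap.det hAB
    rw [map_mul, LinearMap.det_smul, map_mul, mul_comm (LinearMap.det A)] at hd
    have hρd : ρ ^ finrank F E = 1 := by
      have := ((hA3 b).mul (hA3 a)).ne_zero
      exact (mul_eq_right₀ this).mp hd.symm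
    have hdvd : 3 ∣ finrank F E := (orderOf_eq_prime hρ3 hρ1).symm.dvd.trans (orderOf_dvd_of_pow_eq_one hρd)
    have hne : E ≠ ⊥ := fun e => hu0 (by
      have : u ∈ E := Module.End.mem_eigenspace_iff.mpr hu
      rwa [e, Submodule.mem_bot] at this)
    have hle := Submodule.finrank_le E
    have hpos : 0 < finrank F E := Nat.pos_of_ne_zero fun e => hne (Submodule.finrank_eq_zero.mp e)
    refine Submodule.eq_top_of_finrank_eq ?_
    rw [Module.finrank_fin_fun] at hle ⊢
    omega
  have hcv : ∀ v, op c v = ρ • v := fun v =>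
    Module.End.mem_eigenspace_iff.mp (show v ∈ E by rw [hEtop]; exact Submodule.mem_top)
  have hprim : IsPrimitiveRoot ρ 3 := orderOf_eq_prime hρ3 hρ1 ▸ IsPrimitiveRoot.orderOf ρ
  -- normalise `a` to have a fixed vector
  obtain ⟨j, v, hv0, hv⟩ : ∃ (j : Fin 3) (v : V₃), v ≠ 0 ∧ op a v = ρ ^ (j : ℕ) • v := by
    obtain ⟨w, hw, hwe⟩ := exists_eigenvector h3 hprim (hop3 a) u
    by_contra hno
    push Not at hno
    exact hu0 (by
      have h : ∀ j, w j = 0 := fun j => by
        by_contra hne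
        exact hno j _ hne (hwe j)
      rw [hw, h, h, h]; simp)
  have hcpow : ∀ (k : ℕ) w, op (c ^ k) w = ρ ^ k • w := by
    intro k
    induction k with
    | zero => intro w; simp [op]
    | succ k ih => intro w; rw [pow_succ', hop, ih, map_smul, hcv, smul_smul, pow_succ]
  set k : ℕ := 2 * (j : ℕ) with hk
  set a₁ := c ^ k * a with ha₁
  have hv1 : op a₁ v = v := by
    rw [ha₁, hop, hv, hcpow, smul_smul, ← pow_add, show k + (j : ℕ) = 3 * (j : ℕ) by omega, pow_mul, hρ3, one_pow,
      one_smul]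
  have hab₁ : a₁ * b = c * (b * a₁) := by
    have hck : ∀ g, c ^ k * g = g * c ^ k := fun g => ((Commute.pow_left (hcen g : Commute c g)) k).eq
    calc a₁ * b = c ^ k * (a * b) := by rw [ha₁, mul_assoc]
      _ = c * (c ^ k * (b * a)) := by rw [hab, ← mul_assoc, ← pow_succ, pow_succ', mul_assoc]
      _ = c * (b * a₁) := by rw [ha₁, ← mul_assoc (c ^ k), hck b, mul_assoc]
  have hbv : ∀ w (s : F), op a₁ w = s • w → op a₁ (op b w) = (ρ * s) • op b w := fun w s hw => by
    rw [← hop, hab₁, hop, hop, hw, map_smul, map_smul, hcv, smul_smul, mul_comm]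
  let B₀ : Fin 3 → V₃ := ![v, op b v, op b (op b v)]
  have hB : ∀ i : Fin 3, op a₁ (B₀ i) = ρ ^ (i : ℕ) • B₀ i := by
    intro i
    fin_cases i
    · simpa [B₀] using hv1
    · simpa [B₀] using hbv v 1 (by rw [one_smul, hv1])
    · have := hbv _ _ (hbv v 1 (by rw [one_smul, hv1]))
      simpa [B₀, mul_one, ← sq] using this
  have hbinj : ∀ w, op b w = 0 → w = 0 := fun w hw => by
    rw [← hop3 b w, hw, map_zero, map_zero]
  have hli : LinearIndependent F B₀ := by
    refine Module.End.eigenvectors_linearIndependent' (op a₁) (fun i : Fin 3 => ρ ^ (i : ℕ)) (fun i i' h => ?_) B₀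
      fun i => ⟨Module.End.mem_eigenspace_iff.mpr (hB i), ?_⟩
    · exact Fin.ext (hprim.pow_inj i.2 i'.2 h)
    · fin_cases i
      · simpa [B₀] using hv0
      · simpa [B₀] using fun e => hv0 (hbinj _ e)
      · simpa [B₀] using fun e => hv0 (hbinj _ (hbinj _ e))
  let M : M₃ := Matrix.of fun i i' => B₀ i' i
  have hM : IsUnit M := by
    rw [← Matrix.linearIndependent_cols_iff_isUnit]
    exact hli
  refine ⟨hM.unit, a₁, b, ρ, a₁.2, b.2, ?_, hprim, ?_, ?_, c, c.2, ?_⟩
  · refine le_antisymm ((Subgroup.closure_le R).mpr ?_) fun g hg => ?_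
    · rintro x (rfl | rfl)
      · exact a₁.2
      · exact b.2
    · have hgen : Subgroup.closure {a₁, b} = (⊤ : Subgroup R) := by
        refine top_le_iff.mp (hcl ▸ (Subgroup.closure_le _).mpr ?_)
        have hb' : b ∈ Subgroup.closure {a₁, b} := Subgroup.subset_closure (by simp)
        have ha' : a₁ ∈ Subgroup.closure {a₁, b} := Subgroup.subset_closure (by simp)
        have hc' : c ∈ Subgroup.closure {a₁, b} := by
          have : c = a₁ * b * a₁⁻¹ * b⁻¹ := by rw [hab₁]; group
          rw [this]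
          exact mul_mem (mul_mem (mul_mem ha' hb') (inv_mem ha')) (inv_mem hb')
        rintro x (hx | hx)
        · rw [hx, show a = (c ^ k)⁻¹ * a₁ by rw [ha₁, inv_mul_cancel_left]]
          exact mul_mem (inv_mem (pow_mem hc' _)) ha'
        · rw [hx]; exact hb'
      have h := Subgroup.mem_map_of_mem R.subtype (show (⟨g, hg⟩ : R) ∈ Subgroup.closure {a₁, b} by rw [hgen]; trivial)
      rw [MonoidHom.map_closure, Set.image_pair] at h
      exact h
  · rw [IsUnit.unit_spec]
    ext i i'
    have h := congrFun (hB i') i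
    simp only [op, Matrix.toLin'_apply, Matrix.mulVec, dotProduct] at h
    rw [dMat, Matrix.mul_diagonal, Matrix.mul_apply]
    refine h.trans ?_
    fin_cases i' <;> simp [M, mul_comm]
  · rw [IsUnit.unit_spec]
    have hcol : ∀ i' : Fin 3, op b (B₀ i') = B₀ (i' + 1) := fun i' => by
      fin_cases i' <;> simp [B₀, hop3 b v]
    ext i i'
    have h := congrFun (hcol i') i
    simp only [op, Matrix.toLin'_apply, Matrix.mulVec, dotProduct] at h
    rw [Matrix.mul_apply]
    refine h.trans ?_
    fin_cases i' <;> simp [M, tMat, Matrix.mul_apply, Fin.sum_univ_three]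
  · exact Matrix.toLin'.injective (LinearMap.ext fun w => (hcv w).trans (by simp))

/-- Membership in the normaliser of a finite subgroup given by generators. -/
theorem mem_normalizer_of_gens {G : Type*} [Group G] {R : Subgroup G} [Finite R] {S : Set G}
    (hS : Subgroup.closure S = R) {y : G} (h : ∀ s ∈ S, y * s * y⁻¹ ∈ R) : y ∈ Subgroup.normalizer (R : Set G) := by
  have hmap : R.map (MulAut.conj y).toMonoidHom = R := by
    refine Subgroup.eq_of_le_of_card_ge ?_ ?_
    · conv_lhs => rw [← hS, MonoidHom.map_closure]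
      rw [Subgroup.closure_le]
      rintro _ ⟨s, hs, rfl⟩
      exact h s hs
    · exact (Subgroup.card_map_of_injective (MulAut.conj y).injective).ge
  refine Subgroup.mem_normalizer_iff.mpr fun g => ?_
  conv_rhs => rw [← hmap]
  exact (Subgroup.mem_map_iff_mem (MulAut.conj y).injective).symm

variable {γ a b : GL (Fin 3) F} {R : Subgroup (GL (Fin 3) F)} {η : F}

/-- An element normalises `R` if its matrix in the standard frame maps the generators into `R`. -/
theorem mem_normalizer_of_frame [Finite R] (hab : Subgroup.closure {a, b} = R) (ha : (a : M₃) * (γ : M₃) = (γ : M₃) * dMat η)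
    (hb : (b : M₃) * (γ : M₃) = (γ : M₃) * tMat) (y a' b' : GL (Fin 3) F) (Y : M₃) (hy : (y : M₃) * (γ : M₃) = (γ : M₃) * Y) (ha'R : a' ∈ R)
    (hb'R : b' ∈ R) {A' B' : M₃} (hA' : (a' : M₃) * (γ : M₃) = (γ : M₃) * A') (hB' : (b' : M₃) * (γ : M₃) = (γ : M₃) * B')
    (h1 : Y * dMat η = A' * Y) (h2 : Y * tMat = B' * Y) : y ∈ Subgroup.normalizer (R : Set (GL (Fin 3) F)) := by
  refine mem_normalizer_of_gens hab ?_
  have key : ∀ (s s' : GL (Fin 3) F) (S S' : M₃), (s : M₃) * (γ : M₃) = (γ : M₃) * S → (s' : M₃) * (γ : M₃) = (γ : M₃) * S' → Y * S = S' * Y →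
      y * s * y⁻¹ = s' := by
    intro s s' S S' hs hs' he
    rw [mul_inv_eq_iff_eq_mul]
    have : y * s * γ = s' * y * γ := Units.ext (by
      simp only [Units.val_mul]
      rw [Matrix.mul_assoc, hs, ← Matrix.mul_assoc, hy, Matrix.mul_assoc, he, ← Matrix.mul_assoc, ← hs',
        Matrix.mul_assoc, ← hy, ← Matrix.mul_assoc])
    exact mul_right_cancel this
  rintro s (rfl | rfl)
  · rw [key s a' _ _ ha hA' h1]; exact ha'R
  · rw [key s b' _ _ hb hB' h2]; exact hb'R

/-- An element centralising the standard pair is scalar. -/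
theorem scalar_of_commute_frame (hη : IsPrimitiveRoot η 3) (ha : (a : M₃) * (γ : M₃) = (γ : M₃) * dMat η)
    (hb : (b : M₃) * (γ : M₃) = (γ : M₃) * tMat) {y : GL (Fin 3) F} (hya : y * a = a * y) (hyb : y * b = b * y) :
    ∃ c : F, (y : M₃) = c • 1 := by
  set Y : M₃ := ((γ⁻¹ * y * γ : GL (Fin 3) F) : M₃) with hY
  have hy : (y : M₃) * (γ : M₃) = (γ : M₃) * Y := by rw [hY, ← Units.val_mul, ← Units.val_mul]; congr 1; group
  have tr : ∀ (s : GL (Fin 3) F) (S : M₃), (s : M₃) * (γ : M₃) = (γ : M₃) * S → y * s = s * y → Y * S = S * Y := by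
    intro s S hs hc
    refine (Units.isUnit γ).mul_left_cancel ?_
    rw [← Matrix.mul_assoc, ← hy, Matrix.mul_assoc, ← hs, ← Matrix.mul_assoc, ← Units.val_mul, hc, Units.val_mul,
      Matrix.mul_assoc, hy, ← Matrix.mul_assoc, hs, Matrix.mul_assoc]
  have h1 := tr a _ ha hya
  have h2 := tr b _ hb hyb
  have hoff : ∀ i j, i ≠ j → Y i j = 0 := fun i j hij => by
    have h := congrFun (congrFun h1 i) j
    rw [dMat, Matrix.mul_diagonal, Matrix.diagonal_mul] at h
    by_contra hne
    refine hij (Fin.ext (hη.pow_inj i.2 j.2 ?_))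
    have e : ∀ k : Fin 3, (![1, η, η ^ 2] : Fin 3 → F) k = η ^ (k : ℕ) := fun k => by fin_cases k <;> simp
    rw [e, e, mul_comm] at h
    exact (mul_right_cancel₀ hne h).symm
  have hdiag : Y = Y 0 0 • 1 := by
    have e1 := congrFun (congrFun h2 1) 0
    have e2 := congrFun (congrFun h2 2) 1
    simp [tMat, Matrix.mul_apply, Fin.sum_univ_three] at e1 e2
    ext i j
    rcases eq_or_ne i j with rfl | hij
    · fin_cases i <;> simp [e1, e2]
    · simp [hoff i j hij, hij]
  refine ⟨Y 0 0, (Units.isUnit γ).mul_right_cancel ?_⟩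
  rw [hy, Matrix.smul_mul, Matrix.one_mul]
  conv_lhs => rw [hdiag, Matrix.mul_smul, Matrix.mul_one]

/-- Elements with eigenbases for the same eigenvalues are conjugate by a matrix of determinant one. -/
theorem exists_sl_conj {x y : GL (Fin 3) F} (Bx By : Basis (Fin 3) F V₃) (l : Fin 3 → F)
    (hx : ∀ i, Matrix.toLin' (x : M₃) (Bx i) = l i • Bx i) (hy : ∀ i, Matrix.toLin' (y : M₃) (By i) = l i • By i) :
    ∃ g ∈ Cfsg.Geo.specialLinear (Fin 3) F, g⁻¹ * x * g = y := by
  classical
  let std := Pi.basisFun F (Fin 3)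
  have hu := std.isUnit_det By
  have hu' := std.isUnit_det Bx
  set δ := std.det By / std.det Bx with hδ
  have hδ0 : δ ≠ 0 := div_ne_zero hu.ne_zero hu'.ne_zero
  let B := Bx.unitsSMul (Function.update 1 0 (Units.mk0 δ hδ0))
  have hBdet : std.det B = std.det By := by
    rw [Basis.det_apply, show std.toMatrix B = std.toMatrix Bx * Matrix.diagonal ![δ, 1, 1] from ?_, Matrix.det_mul,
      Matrix.det_diagonal, ← Basis.det_apply, Fin.prod_univ_three]
    · simp [hδ, mul_div_cancel₀ _ hu'.ne_zero]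
    · ext p q
      rw [Matrix.mul_diagonal, Basis.toMatrix_apply, Basis.toMatrix_apply]
      fin_cases q <;> simp [B, Basis.unitsSMul_apply, Units.smul_def, mul_comm]
  have hB : ∀ i, Matrix.toLin' (x : M₃) (B i) = l i • B i := fun i => by
    simp only [B, Basis.unitsSMul_apply, Units.smul_def, map_smul, hx, smul_comm (l i)]
  let e := By.equiv B (Equiv.refl _)
  have he : (LinearMap.toMatrix' e.toLinearMap).det = 1 := by
    have : (LinearMap.toMatrix' e.toLinearMap) * std.toMatrix By = std.toMatrix B := by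
      ext p q
      rw [Matrix.mul_apply]
      have : e (By q) = B q := by simp [e]
      rw [← LinearEquiv.coe_coe, ← Matrix.toLin'_toMatrix' e.toLinearMap, Matrix.toLin'_apply] at this
      simpa [std, Basis.toMatrix_apply, Matrix.mulVec, dotProduct] using congrFun this p
    have := congrArg Matrix.det this
    rw [Matrix.det_mul, ← Basis.det_apply, ← Basis.det_apply, hBdet] at this
    exact (mul_eq_right₀ hu.ne_zero).mp this
  let g₀ : GL (Fin 3) F := Matrix.SpecialLinearGroup.toGL ⟨_, he⟩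
  refine ⟨g₀, ?_, ?_⟩
  · rw [Cfsg.Geo.specialLinear, MonoidHom.mem_ker]
    exact Units.ext he
  · rw [mul_assoc, inv_mul_eq_iff_eq_mul]
    refine Units.ext (Matrix.toLin'.injective (By.ext fun i => ?_))
    have hg : Matrix.toLin' (g₀ : M₃) = e.toLinearMap := Matrix.toLin'_toMatrix' _
    rw [Units.val_mul, Units.val_mul, Matrix.toLin'_mul, Matrix.toLin'_mul, LinearMap.comp_apply, LinearMap.comp_apply,
      hg, hy, map_smul, LinearEquiv.coe_coe, show e (By i) = B i by simp [e], hB]

/-- The frame columns are eigenvectors of a matrix that is diagonal in the frame. -/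
theorem exists_eigenbasis_of_frame {y : GL (Fin 3) F} {d : Fin 3 → F} (hy : (y : M₃) * (γ : M₃) = (γ : M₃) * Matrix.diagonal d) :
    ∃ By : Basis (Fin 3) F V₃, ∀ i, Matrix.toLin' (y : M₃) (By i) = d i • By i := by
  have hli : LinearIndependent F (γ : M₃).col :=
    Matrix.linearIndependent_cols_iff_isUnit.mpr (Units.isUnit γ)
  refine ⟨basisOfLinearIndependentOfCardEqFinrank hli (by simp), fun i => ?_⟩
  rw [coe_basisOfLinearIndependentOfCardEqFinrank]
  ext k
  have h := congrFun (congrFun hy k) i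
  rw [Matrix.mul_diagonal, Matrix.mul_apply] at h
  simpa [Matrix.mulVec, dotProduct, mul_comm] using h

end CfsgLib.LinearElements.Heisenberg
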