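import Cfsg.Agent.LinearElements.Heisenberg
import Cfsg.Agent.Forms.UnitaryOrder
import Cfsg.Agent.Forms.Diagonal

/-! Unitary frames: orthonormal eigenbases of semisimple isometries, conjugation inside the special unitary group by
unitary frames, and the unitary frame of a unitary group of order 27 and exponent 3. -/

set_option autoImplicit false

namespace CfsgLib.LinearElements.HeisenbergUnitary

open Matrix Module CfsgLib.Forms CfsgLib.LinearElements.Heisenberg

section General

variable {F V : Type*} [Field F] [Finite F] [AddCommGroup V] [Module F V] {σ : F →+* F}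

/-- An isometry whose eigenvectors with eigenvalues of norm one span has an orthonormal eigenbasis. -/
theorem exists_orthonormal_eigenbasis [FiniteDimensional F V] (hσ : σ ≠ RingHom.id F) (hσ2 : ∀ a, σ (σ a) = a)
    (B : V →ₛₗ[σ] V →ₗ[F] F) (hS : B.IsSymm) (hB : ∀ x : V, (∀ y, B x y = 0) → x = 0) (g : Module.End F V)
    (hg : ∀ u v, B (g u) (g v) = B u v) (S : Set F) (hnorm : ∀ μ ∈ S, σ μ * μ = 1)
    (hspan : ∀ v, v ∈ Submodule.span F {w | ∃ μ ∈ S, g w = μ • w}) :
    ∀ {n : ℕ}, finrank F V = n → ∃ (b : Basis (Fin n) F V) (l : Fin n → F),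
      (∀ i j, B (b i) (b j) = if i = j then 1 else 0) ∧ (∀ i, l i ∈ S) ∧ ∀ i, g (b i) = l i • b i := by
  intro n hn
  induction n generalizing V with
  | zero => exact ⟨Module.finBasisOfFinrankEq F V hn, fun i => i.elim0, fun i => i.elim0, fun i => i.elim0,
      fun i => i.elim0⟩
  | succ n ih =>
    have horth : ∀ μ ν u v, g u = μ • u → g v = ν • v → σ μ * ν ≠ 1 → B u v = 0 := by
      intro μ ν u v hu hv hne
      have h := hg u v
      rw [hu, hv] at h
      simp only [LinearMap.map_smulₛₗ, LinearMap.smul_apply, RingHom.id_apply, smul_eq_mul, map_smul] at h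
      have h' : (σ μ * ν - 1) * B u v = 0 := by linear_combination h
      rw [mul_eq_zero, sub_eq_zero] at h'
      exact h'.resolve_left hne
    obtain ⟨μ, hμS, v, hgv, hv⟩ : ∃ μ ∈ S, ∃ v, g v = μ • v ∧ B v v ≠ 0 := by
      by_contra hno
      push Not at hno
      have h0 : ∀ u v, B u v = 0 := by
        intro u v
        induction hspan u using Submodule.span_induction with
        | mem u hu =>
          induction hspan v using Submodule.span_induction with
          | mem v hv =>
            obtain ⟨μ, hμ, hu⟩ := hu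
            obtain ⟨ν, hν, hv⟩ := hv
            by_cases he : σ μ * ν = 1
            · obtain rfl : ν = μ := by
                have := hnorm μ hμ
                have h0 : σ μ ≠ 0 := fun h => by simp [h] at this
                exact mul_left_cancel₀ h0 (he.trans this.symm)
              let E : Submodule F V := Module.End.eigenspace g ν
              have hE := hermitian_eq_zero_of_diag hσ
                ({ toFun := fun x => (B (x : V)).comp E.subtype
                   map_add' := fun x y => by ext; simp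
                   map_smul' := fun c x => by ext; simp } : E →ₛₗ[σ] E →ₗ[F] F)
                ⟨fun x y => hS.eq x y⟩ (fun x => hno ν hν x (Module.End.mem_eigenspace_iff.mp x.2))
              exact LinearMap.congr_fun (LinearMap.congr_fun hE ⟨u, Module.End.mem_eigenspace_iff.mpr hu⟩)
                ⟨v, Module.End.mem_eigenspace_iff.mpr hv⟩
            · exact horth μ ν u v hu hv he
          | zero => simp
          | add x y _ _ hx hy => simp [hx, hy]
          | smul c x _ hx => simp [hx]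
        | zero => simp
        | add x y _ _ hx hy => simp [hx, hy]
        | smul c x _ hx => simp [hx]
      haveI : Subsingleton V := subsingleton_of_forall_eq 0 fun x => hB x (h0 x)
      have := Module.finrank_zero_of_subsingleton (R := F) (M := V)
      omega
    obtain ⟨a, ha⟩ := exists_mul_involution_eq hσ hσ2 (c := (B v v)⁻¹) (by rw [map_inv₀, hS.eq])
    set w := a • v with hw'
    have hw : B w w = 1 := by
      simp only [hw', map_smulₛₗ, RingHom.id_apply, LinearMap.smul_apply, smul_eq_mul]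
      rw [← mul_assoc, ha, inv_mul_cancel₀ hv]
    have hgw : g w = μ • w := by rw [hw', map_smul, hgv, smul_comm]
    have hw0 : B w w ≠ 0 := by rw [hw]; exact one_ne_zero
    set W := LinearMap.ker (B w) with hW
    have hgW : ∀ x ∈ W, g x ∈ W := fun x hx => by
      rw [hW, LinearMap.mem_ker] at hx ⊢
      have h := hg w x
      rw [hgw, hx] at h
      simp only [LinearMap.map_smulₛₗ, LinearMap.smul_apply, smul_eq_mul] at h
      exact (mul_eq_zero.mp h).resolve_left fun h0 => by simpa [h0] using hnorm μ hμS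
    let π : V →ₗ[F] V := LinearMap.id - (B w).smulRight w
    have hπ : ∀ x, π x = x - B w x • w := fun x => rfl
    have hπW : ∀ x, π x ∈ W := fun x => by rw [hW, LinearMap.mem_ker, hπ]; simp [hw]
    have hspanW : ∀ x : W, x ∈ Submodule.span F {y : W | ∃ ν ∈ S, g.restrict hgW y = ν • y} := by
      intro x
      have hx : π.codRestrict W hπW (x : V) = x := Subtype.ext (by
        rw [LinearMap.codRestrict_apply, hπ, LinearMap.mem_ker.mp x.2, zero_smul, sub_zero])
      have h := Submodule.mem_map_of_mem (f := π.codRestrict W hπW) (hspan (x : V))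
      rw [Submodule.map_span, hx] at h
      refine Submodule.span_mono ?_ h
      rintro _ ⟨y, ⟨ν, hν, hy⟩, rfl⟩
      refine ⟨ν, hν, Subtype.ext ?_⟩
      show g (π y) = ν • π y
      rw [hπ, map_sub, map_smul, hgw, hy, smul_sub, smul_comm ν]
      by_cases he : σ μ * ν = 1
      · obtain rfl : ν = μ := by
          have := hnorm μ hμS
          have h0 : σ μ ≠ 0 := fun h => by simp [h] at this
          exact mul_left_cancel₀ h0 (he.trans this.symm)
        rfl
      · simp [horth μ ν w y hgw hy he]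
    obtain ⟨b, l, hb, hl, hgb⟩ := ih
      ({ toFun := fun x => (B (x : V)).comp W.subtype
         map_add' := fun x y => by ext; simp
         map_smul' := fun c x => by ext; simp } : W →ₛₗ[σ] W →ₗ[F] F)
      ⟨fun x y => hS.eq x y⟩
      (sep_restrict_ker B (ε := 1) (fun u v => by rw [one_mul, hS.eq]) hB hw0)
      (g.restrict hgW) (fun x y => hg x y) hspanW
      (by have h := finrank_ker_apply B hw0; change finrank F W + 1 = _ at h; omega)
    obtain ⟨b', h0, hs⟩ := exists_consBasis B hw0 b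
    have hmem : ∀ k, B w (b k : V) = 0 := fun k => (b k).2
    refine ⟨b', Fin.cons μ l, fun i j => ?_, fun i => ?_, fun i => ?_⟩
    · induction i using Fin.cases with
      | zero =>
        induction j using Fin.cases with
        | zero => simp [h0, hw]
        | succ j => simp [h0, hs, hmem, (Fin.succ_ne_zero j).symm]
      | succ i =>
        induction j using Fin.cases with
        | zero => rw [h0, hs, ← hS.eq, hmem, map_zero, if_neg (Fin.succ_ne_zero i)]
        | succ j =>
          have := hb i j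
          simpa [hs, Fin.succ_inj] using this
    · induction i using Fin.cases with
      | zero => simpa using hμS
      | succ i => simpa using hl i
    · induction i using Fin.cases with
      | zero => simpa [h0] using hgw
      | succ i =>
        have := congrArg Subtype.val (hgb i)
        simpa [hs] using this

end General

section Matrices

variable {F : Type*} [Field F] [Fintype F] {q : ℕ} {σ : F →+* F}

local notation "M₃" => Matrix (Fin 3) (Fin 3) F

omit [Fintype F] in
/-- The Gram matrix of a transformation. -/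
theorem gram_apply (M : M₃) (i j : Fin 3) :
    ((M.map σ)ᵀ * M) i j = hermSesq σ 3 (M *ᵥ Pi.single i 1) (M *ᵥ Pi.single j 1) := by
  rw [hermSesq_apply, Matrix.mul_apply]
  refine Finset.sum_congr rfl fun k _ => ?_
  simp [Matrix.mulVec_single]

omit [Fintype F] in
/-- Membership in the unitary group by the Gram matrix. -/
theorem mem_GU_iff (hσ : ∀ x, σ x = x ^ q) {g : GL (Fin 3) F} :
    g ∈ Cfsg.GU 3 F q ↔ ((g : M₃).map σ)ᵀ * (g : M₃) = 1 := by
  have key : ∀ u v, hermSesq σ 3 ((g : M₃) *ᵥ u) ((g : M₃) *ᵥ v) =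
      (σ ∘ u) ⬝ᵥ ((((g : M₃).map σ)ᵀ * (g : M₃)) *ᵥ v) := by
    intro u v
    rw [hermSesq_apply, ← Matrix.mulVec_mulVec, Matrix.dotProduct_mulVec, Matrix.vecMul_transpose]
    exact Finset.sum_congr rfl fun k _ => by rw [RingHom.map_mulVec]
  constructor
  · intro hg
    ext i j
    rw [gram_apply, ← hermForm_eq_hermSesq hσ,
      show Cfsg.hermForm 3 F q ((g : M₃) *ᵥ Pi.single j 1) ((g : M₃) *ᵥ Pi.single i 1) = _ from hg _ _,
      hermForm_eq_hermSesq hσ, hermSesq_apply]
    rcases eq_or_ne i j with rfl | hij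
    · simp [Pi.single_apply, apply_ite σ]
    · simp [Pi.single_apply, hij, Matrix.one_apply_ne hij, hij.symm, apply_ite σ]
  · intro hg u v
    show Cfsg.hermForm 3 F q ((g : M₃) *ᵥ u) ((g : M₃) *ᵥ v) = _
    rw [hermForm_eq_hermSesq hσ, hermForm_eq_hermSesq hσ, key, hg, Matrix.one_mulVec, hermSesq_apply]
    rfl

omit [Fintype F] in
theorem hermSesq_isometry (hσ : ∀ x, σ x = x ^ q) {g : GL (Fin 3) F} (hg : g ∈ Cfsg.GU 3 F q) (u v : Fin 3 → F) :
    hermSesq σ 3 ((g : M₃) *ᵥ u) ((g : M₃) *ᵥ v) = hermSesq σ 3 u v := by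
  rw [← hermForm_eq_hermSesq hσ, ← hermForm_eq_hermSesq hσ]
  exact hg v u

omit [Fintype F] in
theorem det_norm (hσ : ∀ x, σ x = x ^ q) {g : GL (Fin 3) F} (hg : g ∈ Cfsg.GU 3 F q) :
    σ (g : M₃).det * (g : M₃).det = 1 := by
  have h := congrArg Matrix.det ((mem_GU_iff hσ).mp hg)
  rw [Matrix.det_mul, Matrix.det_transpose, Matrix.det_one] at h
  rwa [RingHom.map_det, RingHom.mapMatrix_apply]

omit [Fintype F] in
/-- A diagonal matrix with entries of norm one is unitary. -/
theorem exists_diag_mem (hσ : ∀ x, σ x = x ^ q) (d : Fin 3 → F) (hd : ∀ i, σ (d i) * d i = 1) :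
    ∃ D ∈ Cfsg.GU 3 F q, (D : M₃) = Matrix.diagonal d := by
  have h0 : ∀ i, d i ≠ 0 := fun i h => by simpa [h] using hd i
  refine ⟨Matrix.GeneralLinearGroup.mkOfDetNeZero (Matrix.diagonal d) (by
    rw [Matrix.det_diagonal]; exact Finset.prod_ne_zero_iff.mpr fun i _ => h0 i), (mem_GU_iff hσ).mpr ?_, rfl⟩
  show ((Matrix.diagonal d).map σ)ᵀ * Matrix.diagonal d = 1
  rw [Matrix.diagonal_map (map_zero σ), Matrix.diagonal_transpose, Matrix.diagonal_mul_diagonal]
  exact Matrix.diagonal_eq_one.mpr (funext hd)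

omit [Fintype F] in
/-- Elements that are diagonal, with the same entries, in unitary frames are conjugate in `SU`. -/
theorem exists_su_conj (hσ : ∀ x, σ x = x ^ q) {x y P Q : GL (Fin 3) F} (hP : P ∈ Cfsg.GU 3 F q)
    (hQ : Q ∈ Cfsg.GU 3 F q) {l : Fin 3 → F} (hx : (x : M₃) * (P : M₃) = (P : M₃) * Matrix.diagonal l)
    (hy : (y : M₃) * (Q : M₃) = (Q : M₃) * Matrix.diagonal l) :
    ∃ g ∈ Cfsg.GU 3 F q ⊓ Cfsg.Geo.specialLinear (Fin 3) F, g⁻¹ * x * g = y := by
  have hP0 : (P : M₃).det ≠ 0 := ((Matrix.isUnit_iff_isUnit_det _).mp (Units.isUnit P)).ne_zero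
  have hQ0 : (Q : M₃).det ≠ 0 := ((Matrix.isUnit_iff_isUnit_det _).mp (Units.isUnit Q)).ne_zero
  obtain ⟨D, hD, hD'⟩ := exists_diag_mem hσ ![(Q : M₃).det / (P : M₃).det, 1, 1] (fun i => by
    fin_cases i
    · show σ ((Q : M₃).det / (P : M₃).det) * ((Q : M₃).det / (P : M₃).det) = 1
      rw [map_div₀, div_mul_div_comm, det_norm hσ hP, det_norm hσ hQ, div_one]
    · simp
    · simp)
  refine ⟨P * D * Q⁻¹, ⟨mul_mem (mul_mem hP hD) (Subgroup.inv_mem _ hQ), ?_⟩, ?_⟩
  · show P * D * Q⁻¹ ∈ Cfsg.Geo.specialLinear (Fin 3) F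
    rw [Cfsg.Geo.specialLinear, MonoidHom.mem_ker, map_mul, map_mul, map_inv, mul_inv_eq_one]
    refine Units.ext ?_
    show (P : M₃).det * (D : M₃).det = (Q : M₃).det
    rw [hD', Matrix.det_diagonal, Fin.prod_univ_three]
    simp [mul_div_cancel₀ _ hP0]
  · rw [mul_assoc, inv_mul_eq_iff_eq_mul]
    refine (mul_left_inj Q).mp (Units.ext ?_)
    rw [show x * (P * D * Q⁻¹) * Q = x * P * D by group]
    simp only [Units.val_mul]
    rw [Matrix.mul_assoc _ (y : M₃), hy, ← Matrix.mul_assoc, Matrix.mul_assoc _ _ (Q : M₃), Units.inv_mul,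
      Matrix.mul_one, hx, Matrix.mul_assoc, Matrix.mul_assoc, hD', Matrix.diagonal_mul_diagonal,
      Matrix.diagonal_mul_diagonal]
    simp only [mul_comm]

/-- A unitary semisimple element is diagonal in a unitary frame. -/
theorem exists_unitary_eigenframe (hF : Fintype.card F = q ^ 2) (hσ : ∀ x, σ x = x ^ q) (hσ2 : ∀ a, σ (σ a) = a)
    {x : GL (Fin 3) F} (hx : x ∈ Cfsg.GU 3 F q) (S : Set F) (hnorm : ∀ μ ∈ S, σ μ * μ = 1)
    (hspan : ∀ v, v ∈ Submodule.span F {w | ∃ μ ∈ S, Matrix.toLin' (x : M₃) w = μ • w}) :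
    ∃ (P : GL (Fin 3) F) (l : Fin 3 → F), P ∈ Cfsg.GU 3 F q ∧ (∀ i, l i ∈ S) ∧
      (x : M₃) * (P : M₃) = (P : M₃) * Matrix.diagonal l := by
  obtain ⟨b, l, hb, hl, hgb⟩ := exists_orthonormal_eigenbasis (conj_ne_id hF hσ) hσ2 (hermSesq σ 3)
    (hermSesq_isSymm hσ2 3) (hermSesq_sep 3) (Matrix.toLin' (x : M₃))
    (fun u v => by simpa using hermSesq_isometry hσ hx u v) S hnorm hspan (Module.finrank_fin_fun F)
  let P : M₃ := Matrix.of fun k i => b i k
  have hcol : ∀ i, P *ᵥ Pi.single i 1 = b i := fun i => by ext k; simp [P, Matrix.mulVec_single]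
  have hgram : (P.map σ)ᵀ * P = 1 := by
    ext i j; rw [gram_apply, hcol, hcol, hb, Matrix.one_apply]
  refine ⟨⟨P, (P.map σ)ᵀ, mul_eq_one_comm.mp hgram, hgram⟩, l, (mem_GU_iff hσ).mpr hgram, hl, ?_⟩
  refine Matrix.ext_of_mulVec_single fun i => ?_
  show ((x : M₃) * P) *ᵥ Pi.single i 1 = (P * Matrix.diagonal l) *ᵥ Pi.single i 1
  rw [← Matrix.mulVec_mulVec, hcol, ← Matrix.mulVec_mulVec, Matrix.diagonal_mulVec_single, mul_one,
    show Pi.single i (l i) = l i • (Pi.single i 1 : Fin 3 → F) by rw [← Pi.single_smul, smul_eq_mul, mul_one],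
    Matrix.mulVec_smul, hcol]
  simpa using hgb i

/-- The frame of a unitary standard pair can be taken unitary. -/
theorem exists_unitary_frame (hF : Fintype.card F = q ^ 2) (hσ : ∀ x, σ x = x ^ q) (hσ2 : ∀ a, σ (σ a) = a)
    {γ a b : GL (Fin 3) F} {η : F} (hη : IsPrimitiveRoot η 3) (hηn : σ η * η = 1) (haU : a ∈ Cfsg.GU 3 F q)
    (hbU : b ∈ Cfsg.GU 3 F q) (ha : (a : M₃) * (γ : M₃) = (γ : M₃) * dMat η)
    (hb : (b : M₃) * (γ : M₃) = (γ : M₃) * tMat) :
    ∃ γ' : GL (Fin 3) F, γ' ∈ Cfsg.GU 3 F q ∧ (a : M₃) * (γ' : M₃) = (γ' : M₃) * dMat η ∧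
      (b : M₃) * (γ' : M₃) = (γ' : M₃) * tMat := by
  set G := ((γ : M₃).map σ)ᵀ * (γ : M₃) with hG
  have inv : ∀ (g : GL (Fin 3) F) (S : M₃), g ∈ Cfsg.GU 3 F q → (g : M₃) * (γ : M₃) = (γ : M₃) * S →
      (S.map σ)ᵀ * G * S = G := by
    intro g S hg hgS
    calc (S.map σ)ᵀ * G * S = (((γ : M₃) * S).map σ)ᵀ * ((γ : M₃) * S) := by
          rw [hG, Matrix.map_mul, Matrix.transpose_mul]; simp only [Matrix.mul_assoc]
      _ = ((γ : M₃).map σ)ᵀ * (((g : M₃).map σ)ᵀ * (g : M₃)) * (γ : M₃) := by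
          rw [← hgS, Matrix.map_mul, Matrix.transpose_mul]; simp only [Matrix.mul_assoc]
      _ = G := by rw [(mem_GU_iff hσ).mp hg, Matrix.mul_one]
  have hA := inv a _ haU ha
  have hB := inv b _ hbU hb
  have hη0 : η ≠ 0 := hη.ne_zero (by norm_num)
  have hση : ∀ k : Fin 3, σ (![1, η, η ^ 2] k) * ![1, η, η ^ 2] k = 1 := fun k => by
    fin_cases k
    · simp
    · simpa using hηn
    · show σ (η ^ 2) * η ^ 2 = 1
      rw [map_pow, ← mul_pow, hηn, one_pow]
  have hoff : ∀ i j, i ≠ j → G i j = 0 := fun i j hij => by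
    have h := congrFun (congrFun hA i) j
    rw [dMat, Matrix.diagonal_map (map_zero σ), Matrix.diagonal_transpose, Matrix.mul_diagonal,
      Matrix.diagonal_mul] at h
    have e : ∀ k : Fin 3, (![1, η, η ^ 2] : Fin 3 → F) k = η ^ (k : ℕ) := fun k => by fin_cases k <;> simp
    by_contra hne
    refine hij (Fin.ext (hη.pow_inj i.2 j.2 ?_))
    rw [← e, ← e]
    have h1 : σ (![1, η, η ^ 2] i) * ![1, η, η ^ 2] j = 1 := by
      refine mul_right_cancel₀ hne ?_
      rw [one_mul]
      linear_combination h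
    exact mul_left_cancel₀ (left_ne_zero_of_mul_eq_one (hση i)) ((hση i).trans h1.symm)
  have e1 := congrFun (congrFun hB 0) 0
  have e2 := congrFun (congrFun hB 1) 1
  simp [tMat, Matrix.mul_apply, Fin.sum_univ_three] at e1 e2
  have hdiag : G = G 0 0 • (1 : M₃) := by
    ext i j
    rcases eq_or_ne i j with rfl | hij
    · fin_cases i <;> simp [e1, e2]
    · simp [hoff i j hij, hij]
  have hc : G 0 0 ≠ 0 := fun h => by
    have hdet : G.det ≠ 0 := by
      rw [hG, Matrix.det_mul, Matrix.det_transpose, ← RingHom.mapMatrix_apply, ← RingHom.map_det]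
      have := ((Matrix.isUnit_iff_isUnit_det _).mp (Units.isUnit γ)).ne_zero
      exact mul_ne_zero ((map_ne_zero σ).mpr this) this
    exact hdet (by rw [hdiag, h, zero_smul, Matrix.det_zero])
  have hfix : σ (G 0 0) = G 0 0 := by
    simp only [hG, Matrix.mul_apply, Matrix.transpose_apply, Matrix.map_apply, map_sum, map_mul, hσ2]
    exact Finset.sum_congr rfl fun k _ => mul_comm _ _
  obtain ⟨t, ht⟩ := exists_mul_involution_eq (conj_ne_id hF hσ) hσ2 (c := (G 0 0)⁻¹) (by rw [map_inv₀, hfix])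
  have ht0 : t ≠ 0 := fun h => inv_ne_zero hc (by simpa [h] using ht.symm)
  obtain ⟨s, hs, hsc⟩ := exists_scalarGL ht0
  refine ⟨γ * s, (mem_GU_iff hσ).mpr ?_, ?_, ?_⟩
  · rw [Units.val_mul, hs, Matrix.mul_smul, Matrix.mul_one, Matrix.map_smul' σ _ _ (map_mul σ), Matrix.transpose_smul,
      Matrix.smul_mul, Matrix.mul_smul, smul_smul, ← hG, hdiag, smul_smul, mul_comm (σ t) t, ht, inv_mul_cancel₀ hc,
      one_smul]
  · rw [Units.val_mul, ← Matrix.mul_assoc, ha, hs]; simp
  · rw [Units.val_mul, ← Matrix.mul_assoc, hb, hs]; simp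

end Matrices

end CfsgLib.LinearElements.HeisenbergUnitary
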