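import Cfsg.Agent.LinearElements.JordanType

/-! Nilpotent maps with prescribed block multiset, and sub-multisets from invariant summands. -/

set_option autoImplicit false

namespace CfsgLib.LinearElements

open Module Finset

variable {F V : Type*} [Field F] [AddCommGroup V] [Module F V]

theorem conj_pow_end {V' : Type*} [AddCommGroup V'] [Module F V'] (L : V ≃ₗ[F] V') (N : Module.End F V) :
    ∀ k : ℕ, (L.conj N) ^ k = L.conj (N ^ k)
  | 0 => by ext x; simp
  | k + 1 => by rw [pow_succ, pow_succ, conj_pow_end L N k]; ext x; simp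

/-- Transport of a chain basis of the whole space along a linear equivalence. -/
noncomputable def ChainBasis.transport {N : Module.End F V} (C : ChainBasis N ⊤) {V' : Type*} [AddCommGroup V']
    [Module F V'] (L : V ≃ₗ[F] V') : ChainBasis (L.conj N) ⊤ where
  L := C.L
  sz := C.sz
  gen i := L (C.gen i)
  sz_pos := C.sz_pos
  kill i := by rw [conj_pow_end, LinearEquiv.conj_apply_apply, L.symm_apply_apply, C.kill, map_zero]
  indep := by
    have h := C.indep.map' L.toLinearMap L.ker
    have e : (fun p : Σ i, Fin (C.sz i) => ((L.conj N) ^ (p.2 : ℕ)) (L (C.gen p.1))) =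
        L ∘ fun p : Σ i, Fin (C.sz i) => (N ^ (p.2 : ℕ)) (C.gen p.1) := by
      funext p
      simp [conj_pow_end, LinearEquiv.conj_apply_apply]
    rw [e]; exact h
  span_eq := by
    have e : (fun p : Σ i, Fin (C.sz i) => ((L.conj N) ^ (p.2 : ℕ)) (L (C.gen p.1))) =
        L ∘ fun p : Σ i, Fin (C.sz i) => (N ^ (p.2 : ℕ)) (C.gen p.1) := by
      funext p
      simp [conj_pow_end, LinearEquiv.conj_apply_apply]
    rw [e, Set.range_comp, ← LinearEquiv.coe_toLinearMap L, ← Submodule.map_span, C.span_eq, Submodule.map_top,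
      LinearEquiv.range]

/-- The multiset of block sizes of a chain basis. -/
def ChainBasis.sizes {N : Module.End F V} {W : Submodule F V} (C : ChainBasis N W) : Multiset ℕ :=
  (Finset.univ : Finset (Fin C.L)).val.map C.sz

theorem ChainBasis.count_sizes {N : Module.End F V} {W : Submodule F V} (C : ChainBasis N W) (s : ℕ) :
    C.sizes.count s = #{i | C.sz i = s} := by
  rw [ChainBasis.sizes, Multiset.count_map]
  simp only [eq_comm (a := s)]
  rfl

theorem exists_list_family (μ : Multiset ℕ) :
    ∃ (L : ℕ) (sz : Fin L → ℕ), (Finset.univ : Finset (Fin L)).val.map sz = μ := by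
  induction μ using Quot.ind with
  | _ l => exact ⟨l.length, l.get, by simp only [Fin.univ_val_map, List.ofFn_get]; rfl⟩

/-- There is a nilpotent map with any prescribed block multiset. -/
theorem exists_chain_model [FiniteDimensional F V] (μ : Multiset ℕ) (hpos : ∀ s ∈ μ, 0 < s)
    (hsum : μ.sum = finrank F V) : ∃ (N : Module.End F V) (C : ChainBasis N ⊤), C.sizes = μ := by
  obtain ⟨L, sz, hsz⟩ := exists_list_family μ
  have hsz1 : ∀ i, 1 ≤ sz i := fun i => hpos _ (by
    rw [← hsz]; exact Multiset.mem_map.mpr ⟨i, by simp, rfl⟩)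
  have hfin : finrank F (BlockIdx sz → F) = finrank F V := by
    rw [Module.finrank_pi, Fintype.card_sigma, ← hsum, ← hsz]
    simp only [Fintype.card_fin]
    rfl
  let e := LinearEquiv.ofFinrankEq (BlockIdx sz → F) V hfin
  exact ⟨_, (blockShiftChain sz hsz1).transport e, hsz⟩

variable [FiniteDimensional F V]

/-- The block multiset of a direct summand is part of that of the whole space. -/
theorem blockMultiset_le_sizes {N : Module.End F V} (C : ChainBasis N ⊤) {ι : Type*} [Fintype ι]
    {D : ι → Submodule F V} (hD : iSupIndep D) (htop : ⨆ i, D i = ⊤) (hinv : ∀ i, (D i).map N ≤ D i) (P : ℕ)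
    (j : ι) : blockMultiset N (D j) P ≤ C.sizes := by
  rw [Multiset.le_iff_count]
  intro s
  rw [count_blockMultiset, ChainBasis.count_sizes]
  split
  next hs =>
    rw [← C.blockCount_eq (Finset.mem_Icc.mp hs).1, ← htop, blockCount_iSup hD hinv]
    exact Finset.single_le_sum (f := fun i => blockCount N (D i) s) (fun i _ => Nat.zero_le _) (Finset.mem_univ j)
  next => exact Nat.zero_le _

omit [FiniteDimensional F V] in
theorem ChainBasis.pow_eq_zero {N : Module.End F V} (C : ChainBasis N ⊤) {P : ℕ} (hP : ∀ i, C.sz i ≤ P) :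
    N ^ P = 0 := by
  refine LinearMap.ext fun x => ?_
  have hx : x ∈ (⊤ : Submodule F V) := trivial
  rw [← C.span_eq] at hx
  induction hx using Submodule.span_induction with
  | mem y hy =>
    obtain ⟨⟨i, j⟩, rfl⟩ := hy
    have h := hP i
    rw [← Module.End.mul_apply, ← pow_add, show P + (j : ℕ) = (P + j - C.sz i) + C.sz i by omega, pow_add,
      Module.End.mul_apply, C.kill, map_zero, LinearMap.zero_apply]
  | zero => simp
  | add y z _ _ hy hz => simp only [map_add, hy, hz, LinearMap.zero_apply, add_zero]
  | smul a y _ hy => simp only [map_smul, hy, LinearMap.zero_apply, smul_zero]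

omit [FiniteDimensional F V] in
theorem ChainBasis.ne_zero_of_two_le {N : Module.End F V} (C : ChainBasis N ⊤) {i : Fin C.L} (hi : 2 ≤ C.sz i) :
    N ≠ 0 := by
  intro h
  have := C.indep.ne_zero (⟨i, ⟨1, hi⟩⟩ : Σ i, Fin (C.sz i))
  simp [h] at this

/-- `1 + N` for a nilpotent `N` of exponent at most `p`, in characteristic `p`. -/
theorem one_add_nilpotent (p : ℕ) [Fact p.Prime] [CharP F p] {N : Module.End F V} (hN : N ^ p = 0) :
    (1 + N) ^ p = 1 ∧ LinearMap.det (1 + N) = 1 ∧ (N ≠ 0 → ∀ c : F, 1 + N ≠ c • (1 : Module.End F V)) := by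
  rcases subsingleton_or_nontrivial V with hV | hV
  · haveI : Subsingleton (Module.End F V) := ⟨fun f g => LinearMap.ext fun x => Subsingleton.elim _ _⟩
    exact ⟨Subsingleton.elim _ _, by rw [Subsingleton.elim (1 + N) 1, map_one], fun h => absurd (Subsingleton.elim _ _) h⟩
  haveI : CharP (Module.End F V) p := charP_of_injective_algebraMap' F p
  have h1 : (1 + N) ^ p = 1 := by rw [add_pow_char_of_commute _ (Commute.one_left N), hN, one_pow, add_zero]
  refine ⟨h1, ?_, ?_⟩
  · have h2 : LinearMap.det (1 + N) ^ p = 1 := by rw [← map_pow, h1, map_one]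
    have h3 : (LinearMap.det (1 + N) - 1) ^ p = 0 := by rw [sub_pow_char, h2, one_pow, sub_self]
    exact sub_eq_zero.mp (eq_zero_of_pow_eq_zero h3)
  · intro hne c hc
    have hNc : N = algebraMap F (Module.End F V) (c - 1) := by
      rw [map_sub, map_one, Algebra.algebraMap_eq_smul_one, ← hc, add_sub_cancel_left]
    rw [hNc, ← map_pow] at hN
    have := (map_eq_zero_iff _ (FaithfulSMul.algebraMap_injective F (Module.End F V))).mp hN
    rw [hNc, eq_zero_of_pow_eq_zero this, map_zero] at hne
    exact hne rfl

end CfsgLib.LinearElements
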