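import Cfsg.Agent.Forms.SymplecticOrder

/-! The number of complementary pairs of totally isotropic half-dimensional subspaces, up to a power of `q`. -/

set_option autoImplicit false

namespace CfsgLib.LinearElements

open Module Finset

variable {F V : Type*} [Field F] [AddCommGroup V] [Module F V]

/-- `U` is totally isotropic. -/
def TotIso (B : LinearMap.BilinForm F V) (U : Submodule F V) : Prop := ∀ u ∈ U, ∀ v ∈ U, B u v = 0

variable [FiniteDimensional F V]

theorem finrank_le_of_totIso {B : LinearMap.BilinForm F V} (hB : B.Nondegenerate) {d : ℕ}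
    (hd : finrank F V = 2 * d) {U : Submodule F V} (hU : TotIso B U) : finrank F U ≤ d := by
  have h1 := LinearMap.BilinForm.finrank_orthogonal hB U
  have h2 : U ≤ LinearMap.BilinForm.orthogonal B U := fun v hv u hu => hU u hu v hv
  have h3 := Submodule.finrank_mono h2
  omega

theorem finrank_of_isCompl_totIso {B : LinearMap.BilinForm F V} (hB : B.Nondegenerate) {d : ℕ}
    (hd : finrank F V = 2 * d) {U W : Submodule F V} (hUW : IsCompl U W) (hU : TotIso B U) (hW : TotIso B W) :
    finrank F U = d := by
  have h1 := finrank_le_of_totIso hB hd hU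
  have h2 := finrank_le_of_totIso hB hd hW
  have h3 := Submodule.finrank_add_eq_of_isCompl hUW
  omega

variable [Fintype F]

/-- The number of totally isotropic `d`-spaces of a symplectic space of dimension `2 d`. -/
theorem card_totIso (B : LinearMap.BilinForm F V) (hA : B.IsAlt) (hB : B.Nondegenerate) {d : ℕ}
    (hd : finrank F V = 2 * d) :
    Nat.card {U : Submodule F V // finrank F U = d ∧ TotIso B U} =
      ∏ j ∈ Finset.range d, (Fintype.card F ^ (d - j) + 1) := by
  classical
  haveI : Finite V := Module.finite_of_finite F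
  haveI : Finite (Submodule F V) := Finite.of_injective (fun W => (W : Set V)) SetLike.coe_injective
  haveI := Fintype.ofFinite {U : Submodule F V // finrank F U = d ∧ TotIso B U}
  have e : Forms.frames B d ≃
      Σ U : {U : Submodule F V // finrank F U = d ∧ TotIso B U},
        {s : Fin d → (U : Submodule F V) // LinearIndependent F s} :=
    Equiv.symm <| Equiv.ofBijective
      (fun x => ⟨fun i => ((x.2.1 i : (x.1 : Submodule F V)) : V),
        ⟨x.2.2.map' (x.1 : Submodule F V).subtype (Submodule.ker_subtype _),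
          fun i j => x.1.2.2 _ (x.2.1 i).2 _ (x.2.1 j).2⟩⟩)
      ⟨fun x y h => by
        have hspan : ∀ x : Σ U : {U : Submodule F V // finrank F U = d ∧ TotIso B U},
            {s : Fin d → (U : Submodule F V) // LinearIndependent F s},
            Submodule.span F (Set.range fun i => ((x.2.1 i : (x.1 : Submodule F V)) : V)) = (x.1 : Submodule F V) := by
          intro x
          refine Submodule.eq_of_le_of_finrank_eq (Submodule.span_le.mpr (by rintro _ ⟨i, rfl⟩; exact (x.2.1 i).2)) ?_
          have hl : LinearIndependent F (fun i => ((x.2.1 i : (x.1 : Submodule F V)) : V)) :=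
            x.2.2.map' (x.1 : Submodule F V).subtype (Submodule.ker_subtype _)
          rw [finrank_span_eq_card hl, Fintype.card_fin]
          exact x.1.2.1.symm
        have hfun := congrArg Subtype.val h
        simp only at hfun
        have h1 : x.1 = y.1 := Subtype.ext (by rw [← hspan x, ← hspan y, hfun])
        obtain ⟨W, s⟩ := x
        obtain ⟨W', s'⟩ := y
        cases h1
        exact Sigma.ext rfl (heq_of_eq (Subtype.ext (funext fun i => Subtype.ext (congrFun hfun i)))),
      fun s => ⟨⟨⟨Submodule.span F (Set.range s.1), by rw [finrank_span_eq_card s.2.1, Fintype.card_fin], by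
          intro u hu v hv
          induction hu using Submodule.span_induction with
          | mem x hx =>
            obtain ⟨i, rfl⟩ := hx
            induction hv using Submodule.span_induction with
            | mem y hy => obtain ⟨j, rfl⟩ := hy; exact s.2.2 i j
            | zero => simp
            | add a b _ _ ha hb => simp [ha, hb]
            | smul c a _ ha => simp [ha]
          | zero => simp
          | add a b _ _ ha hb => simp [ha, hb]
          | smul c a _ ha => simp [ha]⟩,
        ⟨fun i => ⟨s.1 i, Submodule.subset_span ⟨i, rfl⟩⟩, linearIndependent_span s.2.1⟩⟩, rfl⟩⟩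
  have h := Nat.card_congr e
  rw [Forms.card_frames B (Forms.alt_symm hA)
    (fun i => Fintype.card F ^ (finrank F V - i) - Fintype.card F ^ i) d
    (fun i _ f hf => Forms.card_frameExt_alt B hA hB.1 hf), Nat.card_sigma] at h
  have h1 : ∀ U : {U : Submodule F V // finrank F U = d ∧ TotIso B U},
      Nat.card {s : Fin d → (U : Submodule F V) // LinearIndependent F s} =
        ∏ i : Fin d, (Fintype.card F ^ d - Fintype.card F ^ (i : ℕ)) := fun U => by
    rw [card_linearIndependent (by rw [U.2.1]), U.2.1]
  rw [Finset.sum_congr rfl (fun U _ => h1 U), Finset.sum_const, Finset.card_univ, smul_eq_mul,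
    ← Nat.card_eq_fintype_card, hd,
    ← Finset.prod_range (f := fun i => Nat.card F ^ d - Nat.card F ^ i)] at h
  rw [Nat.card_eq_fintype_card (α := F)] at h
  have hq : 1 < Fintype.card F := Fintype.one_lt_card
  have hsplit : ∀ j ∈ Finset.range d, Fintype.card F ^ (2 * d - j) - Fintype.card F ^ j =
      (Fintype.card F ^ (d - j) + 1) * (Fintype.card F ^ d - Fintype.card F ^ j) := by
    intro j hj
    rw [Finset.mem_range] at hj
    rw [Nat.mul_sub, add_mul, add_mul, one_mul, one_mul, ← pow_add, ← pow_add, show d - j + d = 2 * d - j by omega,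
      Nat.sub_add_cancel hj.le]
    omega
  rw [Finset.prod_congr rfl hsplit, Finset.prod_mul_distrib] at h
  rw [Nat.card_eq_fintype_card]
  refine (Nat.eq_of_mul_eq_mul_right ?_ h).symm
  refine Finset.prod_pos fun j hj => ?_
  have := Nat.pow_lt_pow_right hq (Finset.mem_range.mp hj)
  omega

/-- The totally isotropic complements of `U`, given one, form an affine space. -/
theorem exists_card_complements (B : LinearMap.BilinForm F V) {U W₀ : Submodule F V}
    (h₀ : IsCompl U W₀) (hU : TotIso B U) (hW₀ : TotIso B W₀) :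
    ∃ k, Nat.card {W : Submodule F V // IsCompl U W ∧ TotIso B W} = Fintype.card F ^ k := by
  let π₀ := U.projectionOnto W₀ h₀
  have hπ : ∀ x : U, π₀ x = x := fun x => Submodule.projectionOnto_apply_left h₀ x
  have ha : ∀ v, v - (π₀ v : V) ∈ W₀ := fun v => by
    rw [← Submodule.ker_projectionOnto h₀, LinearMap.mem_ker, map_sub, hπ, sub_self]
  let S : Submodule F ((V ⧸ U) →ₗ[F] U) :=
    { carrier := {h | ∀ v w, B (v - (π₀ v : V)) (h (U.mkQ w) : V) + B (h (U.mkQ v) : V) (w - (π₀ w : V)) = 0}
      zero_mem' := fun v w => by simp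
      add_mem' := fun {h h'} hh hh' v w => by
        simp only [LinearMap.add_apply, Submodule.coe_add, map_add, LinearMap.add_apply]
        linear_combination hh v w + hh' v w
      smul_mem' := fun c h hh v w => by
        simp only [LinearMap.smul_apply, Submodule.coe_smul, map_smul, LinearMap.smul_apply, smul_eq_mul]
        linear_combination c * hh v w }
  have key : ∀ (h : (V ⧸ U) →ₗ[F] U), TotIso B (LinearMap.ker (π₀ + h ∘ₗ U.mkQ)) ↔ h ∈ S := by
    intro h
    have hproj : ∀ x : U, (π₀ + h ∘ₗ U.mkQ) x = x := fun x => by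
      simp [hπ x, (Submodule.Quotient.mk_eq_zero U).mpr x.2]
    have hker : ∀ v : V, v - (π₀ v : V) - (h (U.mkQ v) : V) ∈ LinearMap.ker (π₀ + h ∘ₗ U.mkQ) := fun v => by
      rw [LinearMap.mem_ker, sub_sub, map_sub, map_add, hproj, hproj]
      simp
    have hexp : ∀ v w : V, B (v - (π₀ v : V) - (h (U.mkQ v) : V)) (w - (π₀ w : V) - (h (U.mkQ w) : V)) =
        -(B (v - (π₀ v : V)) (h (U.mkQ w) : V) + B (h (U.mkQ v) : V) (w - (π₀ w : V))) := fun v w => by
      have e1 := hW₀ _ (ha v) _ (ha w)
      have e2 := hU _ (h (U.mkQ v)).2 _ (h (U.mkQ w)).2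
      simp only [map_sub, LinearMap.sub_apply] at e1 e2 ⊢
      linear_combination e1 + e2
    constructor
    · intro hiso v w
      have := hiso _ (hker v) _ (hker w)
      rw [hexp] at this
      exact neg_eq_zero.mp this
    · intro hS u hu v hv
      have hu' : u = u - (π₀ u : V) - (h (U.mkQ u) : V) := by
        rw [sub_sub, ← Submodule.coe_add]
        have : π₀ u + h (U.mkQ u) = 0 := hu
        rw [this, Submodule.coe_zero, sub_zero]
      have hv' : v = v - (π₀ v : V) - (h (U.mkQ v) : V) := by
        rw [sub_sub, ← Submodule.coe_add]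
        have : π₀ v + h (U.mkQ v) = 0 := hv
        rw [this, Submodule.coe_zero, sub_zero]
      rw [hu', hv', hexp, hS u v, neg_zero]
  have e : {W : Submodule F V // IsCompl U W ∧ TotIso B W} ≃ S :=
    { toFun := fun W => ⟨U.liftQ (U.projectionOnto W.1 W.2.1 - π₀) (fun x hx => by
          rw [LinearMap.mem_ker, LinearMap.sub_apply, Submodule.projectionOnto_apply_left W.2.1 ⟨x, hx⟩,
            hπ ⟨x, hx⟩, sub_self]), (key _).mp (by
          rw [Submodule.liftQ_mkQ, add_sub_cancel, Submodule.ker_projectionOnto]; exact W.2.2)⟩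
      invFun := fun h => ⟨LinearMap.ker (π₀ + h.1 ∘ₗ U.mkQ), LinearMap.isCompl_of_proj fun x => by
          simp [hπ x, (Submodule.Quotient.mk_eq_zero U).mpr x.2], (key h.1).mpr h.2⟩
      left_inv := fun W => Subtype.ext (by
        show LinearMap.ker (π₀ + _ ∘ₗ U.mkQ) = W.1
        rw [Submodule.liftQ_mkQ, add_sub_cancel, Submodule.ker_projectionOnto])
      right_inv := fun h => Subtype.ext (Submodule.linearMap_qext _ (by
        show (U.liftQ _ _) ∘ₗ U.mkQ = _
        rw [Submodule.liftQ_mkQ]
        have := LinearMap.projectionOnto_of_proj (π₀ + h.1 ∘ₗ U.mkQ) (fun x => by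
          simp [hπ x, (Submodule.Quotient.mk_eq_zero U).mpr x.2])
        rw [this, add_sub_cancel_left])) }
  exact ⟨finrank F S, by
    rw [Nat.card_congr e, Module.natCard_eq_pow_finrank (K := F), Nat.card_eq_fintype_card]⟩

/-- The number of pairs of complementary totally isotropic subspaces. -/
theorem exists_card_isoPairs (B : LinearMap.BilinForm F V) (hA : B.IsAlt) (hB : B.Nondegenerate) {d : ℕ}
    (hd : finrank F V = 2 * d) {U₀ W₀ : Submodule F V} (h₀ : IsCompl U₀ W₀) (hU₀ : TotIso B U₀) (hW₀ : TotIso B W₀) :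
    ∃ k, Nat.card {P : Submodule F V × Submodule F V // IsCompl P.1 P.2 ∧ TotIso B P.1 ∧ TotIso B P.2} =
      Fintype.card F ^ k * ∏ j ∈ Finset.range d, (Fintype.card F ^ (d - j) + 1) := by
  classical
  haveI : Finite V := Module.finite_of_finite F
  haveI : Finite (Submodule F V) := Finite.of_injective (fun W => (W : Set V)) SetLike.coe_injective
  haveI := Fintype.ofFinite {U : Submodule F V // finrank F U = d ∧ TotIso B U}
  obtain ⟨k, hk⟩ := exists_card_complements B h₀ hU₀ hW₀
  refine ⟨k, ?_⟩
  have e : {P : Submodule F V × Submodule F V // IsCompl P.1 P.2 ∧ TotIso B P.1 ∧ TotIso B P.2} ≃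
      Σ U : {U : Submodule F V // finrank F U = d ∧ TotIso B U},
        {W : Submodule F V // IsCompl (U : Submodule F V) W ∧ TotIso B W} :=
    { toFun := fun P => ⟨⟨P.1.1, finrank_of_isCompl_totIso hB hd P.2.1 P.2.2.1 P.2.2.2, P.2.2.1⟩,
        ⟨P.1.2, P.2.1, P.2.2.2⟩⟩
      invFun := fun x => ⟨(x.1.1, x.2.1), x.2.2.1, x.1.2.2, x.2.2.2⟩
      left_inv := fun P => rfl
      right_inv := fun x => rfl }
  have hconst : ∀ U : {U : Submodule F V // finrank F U = d ∧ TotIso B U},
      Nat.card {W : Submodule F V // IsCompl (U : Submodule F V) W ∧ TotIso B W} = Fintype.card F ^ k := by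
    rintro ⟨U, hUd, hU⟩
    let φ : U₀ ≃ₗ[F] U := LinearEquiv.ofFinrankEq U₀ U
      ((finrank_of_isCompl_totIso hB hd h₀ hU₀ hW₀).trans hUd.symm)
    obtain ⟨g, hg, hgφ⟩ := Forms.witt_alt B hB hA U₀ U φ
      (fun x x' => (hU _ (φ x).2 _ (φ x').2).trans (hU₀ _ x.2 _ x'.2).symm)
    have hmap : U₀.map g.toLinearMap = U := by
      refine le_antisymm ?_ fun u hu => ⟨(φ.symm ⟨u, hu⟩ : V), (φ.symm ⟨u, hu⟩).2, by
        show g _ = u
        rw [hgφ, LinearEquiv.apply_symm_apply]⟩
      rintro _ ⟨x, hx, rfl⟩
      show g x ∈ U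
      rw [hgφ ⟨x, hx⟩]
      exact (φ ⟨x, hx⟩).2
    rw [← hk]
    refine Nat.card_congr (Equiv.subtypeEquiv (Submodule.orderIsoMapComap g).toEquiv fun W => ?_).symm
    show IsCompl U₀ W ∧ TotIso B W ↔ IsCompl U (W.map g.toLinearMap) ∧ TotIso B (W.map g.toLinearMap)
    rw [← hmap]
    refine and_congr (OrderIso.isCompl_iff (Submodule.orderIsoMapComap g)) ⟨?_, fun h u hu v hv => ?_⟩
    · rintro h _ ⟨u, hu, rfl⟩ _ ⟨v, hv, rfl⟩
      exact (hg u v).trans (h u hu v hv)
    · exact (hg u v).symm.trans (h _ ⟨u, hu, rfl⟩ _ ⟨v, hv, rfl⟩)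
  rw [Nat.card_congr e, Nat.card_sigma, Finset.sum_congr rfl (fun U _ => hconst U), Finset.sum_const, Finset.card_univ,
    smul_eq_mul, ← Nat.card_eq_fintype_card, card_totIso B hA hB hd, mul_comm]

end CfsgLib.LinearElements
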