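import Mathlib

/-! An isometry of an alternating non-degenerate form whose square is `±1` fixes or exchanges the members of a pair
of complementary Lagrangian subspaces (odd characteristic). -/

set_option autoImplicit false

namespace CfsgLib.LinearElements

open Module

variable {F V : Type*} [Field F] [AddCommGroup V] [Module F V] [FiniteDimensional F V]

/-- `U, W` are totally isotropic with direct sum `S`, mapped by `g` to themselves, or each into the other. -/
structure IsLagrangianPair (B : V →ₗ[F] V →ₗ[F] F) (g : V →ₗ[F] V) (sw : Bool) (S U W : Submodule F V) : Prop where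
  disj : U ⊓ W = ⊥
  sup : U ⊔ W = S
  isoU : ∀ u ∈ U, ∀ v ∈ U, B u v = 0
  isoW : ∀ u ∈ W, ∀ v ∈ W, B u v = 0
  mapU : U.map g ≤ if sw then W else U
  mapW : W.map g ≤ if sw then U else W

variable {B : V →ₗ[F] V →ₗ[F] F} {g : V →ₗ[F] V} {z : F}

/-- The induction step: splitting off a hyperbolic pair `(e, f)`. -/
theorem lagrangianPair_step (halt : ∀ v, B v v = 0) (hg : ∀ u v, B (g u) (g v) = B u v)
    (hz : ∀ v, g (g v) = z • v) (hz0 : z ≠ 0) (sw : Bool) {S : Submodule F V}
    (hSg : ∀ v ∈ S, g v ∈ S) (hnd : ∀ v ∈ S, (∀ w ∈ S, B v w = 0) → v = 0) {e f : V} (he : e ∈ S) (hf : f ∈ S)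
    (hef : B e f ≠ 0) (hge : g e ∈ Submodule.span F {if sw then f else e})
    (hgf : g f ∈ Submodule.span F {if sw then e else f})
    (hind : ∀ S' : Submodule F V, finrank F S' < finrank F S → (∀ v ∈ S', g v ∈ S') →
      (∀ v ∈ S', (∀ w ∈ S', B v w = 0) → v = 0) → ∃ U W, IsLagrangianPair B g sw S' U W) :
    ∃ U W, IsLagrangianPair B g sw S U W := by
  have hskew : ∀ u v, B v u = - B u v := fun u v => by
    have := halt (u + v)
    simp only [map_add, LinearMap.add_apply, halt] at this
    linear_combination this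
  set P := Submodule.span F {e, f} with hP
  have hePm : e ∈ P := Submodule.subset_span (by simp)
  have hfPm : f ∈ P := Submodule.subset_span (by simp)
  have hgeP : g e ∈ P := by
    refine Submodule.span_mono ?_ hge
    cases sw <;> simp
  have hgfP : g f ∈ P := by
    refine Submodule.span_mono ?_ hgf
    cases sw <;> simp
  set S' := S ⊓ (LinearMap.ker (B e) ⊓ LinearMap.ker (B f)) with hS'
  have hmem : ∀ v, v ∈ S' ↔ v ∈ S ∧ B e v = 0 ∧ B f v = 0 := fun v => by simp [hS']
  have horth : ∀ v ∈ S', ∀ p ∈ P, B p v = 0 := by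
    intro v hv p hp
    obtain ⟨α, β, rfl⟩ := Submodule.mem_span_pair.mp hp
    obtain ⟨-, h1, h2⟩ := (hmem v).mp hv
    simp [h1, h2]
  have hSg' : ∀ v ∈ S', g v ∈ S' := by
    intro v hv
    obtain ⟨hvS, -, -⟩ := (hmem v).mp hv
    have key : ∀ p, g p ∈ P → B p (g v) = 0 := by
      intro p hgp
      have h1 : B (g p) v = 0 := horth v hv _ hgp
      rw [← hg, hz, map_smul, LinearMap.smul_apply, smul_eq_mul] at h1
      exact (mul_eq_zero.mp h1).resolve_left hz0
    exact (hmem _).mpr ⟨hSg v hvS, key e hgeP, key f hgfP⟩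
  have hproj : ∀ v ∈ S, ∃ α β : F, v - α • e - β • f ∈ S' := by
    intro v hv
    refine ⟨B v f / B e f, B e v / B e f, (hmem _).mpr
      ⟨S.sub_mem (S.sub_mem hv (S.smul_mem _ he)) (S.smul_mem _ hf), ?_, ?_⟩⟩
    · simp only [map_sub, map_smul, smul_eq_mul, halt]
      field_simp
      ring
    · simp only [map_sub, map_smul, smul_eq_mul, halt, hskew e f, hskew v f]
      field_simp
      ring
  have hnd' : ∀ v ∈ S', (∀ w ∈ S', B v w = 0) → v = 0 := by
    intro v hv hvv
    obtain ⟨hvS, -, -⟩ := (hmem v).mp hv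
    refine hnd v hvS fun w hw => ?_
    obtain ⟨α, β, hαβ⟩ := hproj w hw
    have h1 := hvv _ hαβ
    simp only [map_sub, map_smul, smul_eq_mul] at h1
    rw [hskew e v, hskew f v, horth v hv e hePm, horth v hv f hfPm] at h1
    simpa using h1
  have hlt : finrank F S' < finrank F S := by
    refine Submodule.finrank_lt_finrank_of_lt (lt_of_le_of_ne inf_le_left fun h => ?_)
    exact hef ((hmem f).mp (h ▸ hf)).2.1
  obtain ⟨U', W', h'⟩ := hind S' hlt hSg' hnd'
  have hU'S : U' ≤ S' := h'.sup ▸ le_sup_left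
  have hW'S : W' ≤ S' := h'.sup ▸ le_sup_right
  refine ⟨Submodule.span F {e} ⊔ U', Submodule.span F {f} ⊔ W', ?_, ?_, ?_, ?_, ?_, ?_⟩
  · rw [Submodule.eq_bot_iff]
    rintro v ⟨hv1, hv2⟩
    obtain ⟨a, ha, u', hu', rfl⟩ := Submodule.mem_sup.mp hv1
    obtain ⟨α, rfl⟩ := Submodule.mem_span_singleton.mp ha
    obtain ⟨b, hb, w', hw', hw⟩ := Submodule.mem_sup.mp hv2
    obtain ⟨β, rfl⟩ := Submodule.mem_span_singleton.mp hb
    have hu0 := (hmem u').mp (hU'S hu')
    have hw0 := (hmem w').mp (hW'S hw')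
    have h1 : β * B e f = 0 := by
      have := congrArg (B e) hw
      simpa [halt, hu0.2.1, hw0.2.1] using this
    have h2 : α * B f e = 0 := by
      have := congrArg (B f) hw
      simpa [halt, hu0.2.2, hw0.2.2] using this.symm
    have hfe : B f e ≠ 0 := by rw [hskew e f]; exact neg_ne_zero.mpr hef
    rw [(mul_eq_zero.mp h1).resolve_right hef] at hw
    rw [(mul_eq_zero.mp h2).resolve_right hfe] at hw ⊢
    simp only [zero_smul, zero_add] at hw ⊢
    have : u' ∈ U' ⊓ W' := ⟨hu', hw ▸ hw'⟩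
    rwa [h'.disj, Submodule.mem_bot] at this
  · refine le_antisymm (sup_le (sup_le ?_ (hU'S.trans inf_le_left)) (sup_le ?_ (hW'S.trans inf_le_left))) ?_
    · exact (Submodule.span_singleton_le_iff_mem e S).mpr he
    · exact (Submodule.span_singleton_le_iff_mem f S).mpr hf
    · intro v hv
      obtain ⟨α, β, hαβ⟩ := hproj v hv
      rw [← h'.sup] at hαβ
      have hsum : v = α • e + β • f + (v - α • e - β • f) := by abel
      rw [hsum]
      refine Submodule.add_mem _ (Submodule.add_mem _ ?_ ?_) ?_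
      · exact Submodule.mem_sup_left (Submodule.mem_sup_left (Submodule.smul_mem _ _ (Submodule.mem_span_singleton_self e)))
      · exact Submodule.mem_sup_right (Submodule.mem_sup_left (Submodule.smul_mem _ _ (Submodule.mem_span_singleton_self f)))
      · exact SetLike.le_def.mp (sup_le_sup le_sup_right le_sup_right) hαβ
  · intro u hu v hv
    obtain ⟨a, ha, u', hu', rfl⟩ := Submodule.mem_sup.mp hu
    obtain ⟨α, rfl⟩ := Submodule.mem_span_singleton.mp ha
    obtain ⟨b, hb, v', hv', rfl⟩ := Submodule.mem_sup.mp hv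
    obtain ⟨β, rfl⟩ := Submodule.mem_span_singleton.mp hb
    have h1 : B e v' = 0 := horth _ (hU'S hv') e hePm
    have h2 : B u' e = 0 := by rw [hskew e u', horth _ (hU'S hu') e hePm, neg_zero]
    simp [halt, h1, h2, h'.isoU _ hu' _ hv']
  · intro u hu v hv
    obtain ⟨a, ha, u', hu', rfl⟩ := Submodule.mem_sup.mp hu
    obtain ⟨α, rfl⟩ := Submodule.mem_span_singleton.mp ha
    obtain ⟨b, hb, v', hv', rfl⟩ := Submodule.mem_sup.mp hv
    obtain ⟨β, rfl⟩ := Submodule.mem_span_singleton.mp hb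
    have h1 : B f v' = 0 := horth _ (hW'S hv') f hfPm
    have h2 : B u' f = 0 := by rw [hskew f u', horth _ (hW'S hu') f hfPm, neg_zero]
    simp [halt, h1, h2, h'.isoW _ hu' _ hv']
  · rw [Submodule.map_sup]
    have h1 := h'.mapU
    have h2 : (Submodule.span F {e}).map g ≤ Submodule.span F {if sw then f else e} := by
      rw [Submodule.map_span, Set.image_singleton, Submodule.span_singleton_le_iff_mem]
      exact hge
    cases sw <;> exact sup_le_sup h2 h1
  · rw [Submodule.map_sup]
    have h1 := h'.mapW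
    have h2 : (Submodule.span F {f}).map g ≤ Submodule.span F {if sw then e else f} := by
      rw [Submodule.map_span, Set.image_singleton, Submodule.span_singleton_le_iff_mem]
      exact hgf
    cases sw <;> exact sup_le_sup h2 h1

/-- Existence of a fixed or exchanged pair on every invariant non-degenerate subspace. -/
theorem exists_lagrangianPair (h2 : (2 : F) ≠ 0) (halt : ∀ v, B v v = 0)
    (hg : ∀ u v, B (g u) (g v) = B u v) (hz : ∀ v, g (g v) = z • v) (hz1 : z = 1 ∨ z = -1) (sw : Bool)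
    (hsw : sw = true ↔ ¬ IsSquare z) :
    ∀ n, ∀ S : Submodule F V, finrank F S = n → (∀ v ∈ S, g v ∈ S) →
      (∀ v ∈ S, (∀ w ∈ S, B v w = 0) → v = 0) → ∃ U W, IsLagrangianPair B g sw S U W := by
  have hz0 : z ≠ 0 := by rcases hz1 with rfl | rfl <;> simp
  intro n
  induction n using Nat.strong_induction_on with
  | _ n ih =>
  intro S hn hSg hnd
  have hind : ∀ S' : Submodule F V, finrank F S' < finrank F S → (∀ v ∈ S', g v ∈ S') →
      (∀ v ∈ S', (∀ w ∈ S', B v w = 0) → v = 0) → ∃ U W, IsLagrangianPair B g sw S' U W :=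
    fun S' h => ih _ (hn ▸ h) S' rfl
  by_cases hS : S = ⊥
  · subst hS
    exact ⟨⊥, ⊥, by simp, by simp, by simp, by simp, by simp, by simp⟩
  obtain ⟨v, hv, hv0⟩ := S.ne_bot_iff.mp hS
  cases sw with
  | false =>
    obtain ⟨μ, hμ⟩ : IsSquare z := by simpa using hsw
    have hμ0 : μ ≠ 0 := fun h => hz0 (by simp [hμ, h])
    have hp : ∀ x ∈ S, ∀ ν : F, ν * ν = z → x + ν⁻¹ • g x ∈ S ∧
        g (x + ν⁻¹ • g x) = ν • (x + ν⁻¹ • g x) := by
      intro x hx ν hν
      have hν0 : ν ≠ 0 := fun h => hz0 (by simp [← hν, h])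
      refine ⟨S.add_mem hx (S.smul_mem _ (hSg x hx)), ?_⟩
      rw [map_add, map_smul, hz, ← hν, smul_smul, smul_add, smul_smul, mul_inv_cancel₀ hν0, one_smul,
        show ν⁻¹ * (ν * ν) = ν by field_simp]
      abel
    have hsplit : ∀ x : V, x = (2 : F)⁻¹ • ((x + μ⁻¹ • g x) + (x + (-μ)⁻¹ • g x)) := fun x => by
      have : (x + μ⁻¹ • g x) + (x + (-μ)⁻¹ • g x) = (2 : F) • x := by
        rw [inv_neg]; module
      rw [this, smul_smul, inv_mul_cancel₀ h2, one_smul]
    obtain ⟨e, he, ν, hge, he0⟩ : ∃ e ∈ S, ∃ ν : F, g e = ν • e ∧ e ≠ 0 := by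
      by_cases h : v + μ⁻¹ • g v = 0
      · refine ⟨_, (hp v hv (-μ) (by rw [hμ]; ring)).1, -μ, (hp v hv (-μ) (by rw [hμ]; ring)).2, fun h' => hv0 ?_⟩
        rw [hsplit v, h, h', add_zero, smul_zero]
      · exact ⟨_, (hp v hv μ hμ.symm).1, μ, (hp v hv μ hμ.symm).2, h⟩
    obtain ⟨w, hw, hew⟩ : ∃ w ∈ S, B e w ≠ 0 := by
      by_contra hall
      push Not at hall
      exact he0 (hnd e he hall)
    obtain ⟨f, hf, ρ, hgf, hef⟩ : ∃ f ∈ S, ∃ ρ : F, g f = ρ • f ∧ B e f ≠ 0 := by
      by_cases h : B e (w + μ⁻¹ • g w) = 0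
      · refine ⟨_, (hp w hw (-μ) (by rw [hμ]; ring)).1, -μ, (hp w hw (-μ) (by rw [hμ]; ring)).2, fun h' => hew ?_⟩
        rw [hsplit w, map_smul, map_add, h, h', add_zero, smul_zero]
      · exact ⟨_, (hp w hw μ hμ.symm).1, μ, (hp w hw μ hμ.symm).2, h⟩
    exact lagrangianPair_step halt hg hz hz0 false hSg hnd he hf hef
      (Submodule.mem_span_singleton.mpr ⟨ν, hge.symm⟩) (Submodule.mem_span_singleton.mpr ⟨ρ, hgf.symm⟩) hind
  | true =>
    have hns : ¬ IsSquare z := hsw.mp rfl
    have hzm : z = -1 := hz1.resolve_left fun h => hns (h ▸ IsSquare.one)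
    have hskew : ∀ u v, B v u = - B u v := fun u v => by
      have := halt (u + v)
      simp only [map_add, LinearMap.add_apply, halt] at this
      linear_combination this
    have hsym : ∀ u v, B u (g v) = B v (g u) := fun u v => by
      rw [← hg u (g v), hz, hzm, map_smul, hskew v (g u), smul_eq_mul]; ring
    obtain ⟨e, he, hee⟩ : ∃ e ∈ S, B e (g e) ≠ 0 := by
      by_contra hall
      push Not at hall
      refine hv0 (hnd v hv fun w hw => ?_)
      have hgw : w = g (-g w) := by rw [map_neg, hz, hzm]; simp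
      rw [hgw]
      have hu : -g w ∈ S := S.neg_mem (hSg w hw)
      have h3 := hall (v + -g w) (S.add_mem hv hu)
      simp only [map_add, LinearMap.add_apply, hall v hv, hall _ hu] at h3
      rw [hsym (-g w) v] at h3
      have h4 : (2 : F) * B v (g (-g w)) = 0 := by linear_combination h3
      exact (mul_eq_zero.mp h4).resolve_left h2
    exact lagrangianPair_step halt hg hz hz0 true hSg hnd he (hSg e he) hee
      (Submodule.mem_span_singleton_self _) (Submodule.mem_span_singleton.mpr ⟨z, by simp [hz]⟩) hind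

end CfsgLib.LinearElements
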