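import Cfsg.Agent.LinearElements.NonsingularPoints
import Cfsg.Agent.OrthTwo.Classify

/-! A model of the minus form in characteristic two on the field with `q ^ (2d)` elements, with the multiplications
by elements of norm one as isometries; the vectors of value one of the minus form. -/

set_option autoImplicit false

namespace CfsgLib.LinearElements

open Module QuadraticMap

variable {F : Type*} [Field F]

/-- Coordinates of the matrix version of the minus form. -/
def minusCoords (F : Type*) [Field F] (k : ℕ) :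
    ((Fin k ⊕ Fin k) ⊕ Fin 2 → F) ≃ₗ[F] ((Fin k → F) × (Fin k → F)) × (F × F) where
  toFun v := ((fun i => v (.inl (.inl i)), fun i => v (.inl (.inr i))), (v (.inr 0), v (.inr 1)))
  map_add' _ _ := rfl
  map_smul' _ _ := rfl
  invFun w := Sum.elim (Sum.elim w.1.1 w.1.2) ![w.2.1, w.2.2]
  left_inv v := funext fun i => by
    rcases i with (i | i) | i
    · rfl
    · rfl
    · fin_cases i <;> rfl
  right_inv w := rfl

section

variable [CharP F 2]

theorem minus_equivalent (k : ℕ) (a b : F) :
    (CfsgLib.StdForms.minusQ k F a b).Equivalent ((CfsgLib.OrthTwo.hyp F k).prod (CfsgLib.OrthTwo.bin a b)) := by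
  refine ⟨⟨minusCoords F k, fun v => ?_⟩⟩
  rw [QuadraticMap.prod_apply, CfsgLib.OrthTwo.hyp_apply, CfsgLib.OrthTwo.bin_apply, CfsgLib.StdForms.minusQ_apply]
  rfl

theorem minus_nondegenerate [Finite F] (k : ℕ) {a b : F} (hab : CfsgLib.OrthTwo.Aniso a b) :
    (polarBilin (CfsgLib.StdForms.minusQ k F a b)).Nondegenerate :=
  CfsgLib.StdForms.minusQ_nondegenerate k (by
    have h2 : (2 : F) = 0 := CharTwo.two_eq_zero
    rw [show a ^ 2 - 4 * b = a ^ 2 by linear_combination -2 * b * h2]
    exact pow_ne_zero _ hab.ne_zero)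

theorem minus_noLagrangian [Finite F] (k : ℕ) {a b : F} (hab : CfsgLib.OrthTwo.Aniso a b) :
    CfsgLib.OrthTwo.NoLagrangian (CfsgLib.StdForms.minusQ k F a b) :=
  CfsgLib.OrthTwo.noLagrangian_congr (minus_equivalent k a b).symm
    (CfsgLib.OrthTwo.noLagrangian_minus hab hab.ne_zero k)

end

/-- A Lagrangian determines the number of vectors of value one. -/
theorem card_value_one_of_lagrangian [Fintype F] {V : Type*} [AddCommGroup V] [Module F V] [Finite V]
    [FiniteDimensional F V] (Q : QuadraticForm F V) {d : ℕ} (hd : finrank F V = 2 * d) {W : Submodule F V}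
    (hW : finrank F W = d) (hts : ∀ w ∈ W, Q w = 0) (hperp : ∀ x, (∀ w ∈ W, polar Q x w = 0) → x ∈ W) :
    Nat.card {v : V // Q v = 1} = (Fintype.card F ^ d - 1) * Fintype.card F ^ (d - 1) := by
  classical
  obtain ⟨C, hC⟩ := Submodule.exists_isCompl W
  have hCd : finrank F C = d := by
    have := Submodule.finrank_add_eq_of_isCompl hC; omega
  haveI := Fintype.ofFinite C
  let e := Submodule.prodEquivOfIsCompl W C hC
  let L : C → (W →ₗ[F] F) := fun c => ((polarBilin Q).flip (c : V)).comp W.subtype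
  have hval : ∀ (w : W) (c : C), Q (e (w, c)) = L c w + Q (c : V) := fun w c => by
    show Q ((w : V) + (c : V)) = polar Q (w : V) (c : V) + Q (c : V)
    rw [QuadraticMap.map_add (⇑Q), hts _ w.2]
    ring
  have e1 : {v : V // Q v = 1} ≃ Σ c : C, {w : W // L c w = 1 - Q (c : V)} :=
    { toFun := fun v => ⟨(e.symm v.1).2, (e.symm v.1).1, by
        have h := v.2
        rw [← e.apply_symm_apply v.1, ← Prod.mk.eta (p := e.symm v.1), hval] at h
        linear_combination h⟩
      invFun := fun p => ⟨e (p.2.1, p.1), by rw [hval, p.2.2]; ring⟩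
      left_inv := fun v => Subtype.ext (e.apply_symm_apply v.1)
      right_inv := fun p => by
        obtain ⟨c, w, hw⟩ := p
        have hs : e.symm (e (w, c)) = (w, c) := e.symm_apply_apply _
        refine Sigma.subtype_ext (congrArg Prod.snd hs) ?_
        exact congrArg Prod.fst hs }
  rw [Nat.card_congr e1, Nat.card_sigma, ← Finset.add_sum_erase _ _ (Finset.mem_univ (0 : C))]
  have h0 : Nat.card {w : W // L 0 w = 1 - Q ((0 : C) : V)} = 0 := by
    haveI : IsEmpty {w : W // L 0 w = 1 - Q ((0 : C) : V)} := ⟨fun w => by simpa [L] using w.2⟩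
    exact Nat.card_of_isEmpty
  rw [h0, zero_add, Finset.sum_const_nat (m := Fintype.card F ^ (d - 1)) fun c hc => ?_,
    Finset.card_erase_of_mem (Finset.mem_univ _), Finset.card_univ, Module.card_eq_pow_finrank (K := F) (V := C), hCd]
  have hc0 : c ≠ 0 := (Finset.mem_erase.mp hc).1
  rw [CfsgLib.Forms.card_fiber (L c) (fun h => hc0 ?_), hW]
  have hcW : (c : V) ∈ W := hperp _ fun w hw => by
    have := LinearMap.congr_fun h ⟨w, hw⟩
    rw [polar_comm]
    exact this
  exact Subtype.ext ((Submodule.disjoint_def.mp hC.disjoint) _ hcW c.2)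

/-- The vectors of value one of the minus form (characteristic two). -/
theorem card_minus_value_one [Fintype F] [CharP F 2] (k : ℕ) {a b : F} (hab : CfsgLib.OrthTwo.Aniso a b) :
    Nat.card {v : (Fin k ⊕ Fin k) ⊕ Fin 2 → F // Cfsg.quadFormMinus k F a b v = 1} =
      Fintype.card F ^ k * (Fintype.card F ^ (k + 1) + 1) := by
  classical
  set q := Fintype.card F with hq
  have hq1 : 1 < q := Fintype.one_lt_card
  let g : (Fin 2 → F) → F := fun z => z 0 ^ 2 + a * z 0 * z 1 + b * z 1 ^ 2
  have hg : ∀ z, g z = 0 → z = 0 := fun z hz => funext fun i => by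
    obtain ⟨h0, h1⟩ := hab _ _ hz
    fin_cases i <;> assumption
  have hgs : ∀ (c : F) z, g (c • z) = c * c * g z := fun c z => by simp [g]; ring
  -- the plane
  have h1 : Nat.card {z : Fin 2 → F // g z = 1} = q + 1 := by
    let φ : Fˣ × {z : Fin 2 → F // g z = 1} → {z : Fin 2 → F // z ≠ 0} := fun p => ⟨(p.1 : F) • p.2.1, fun h => by
      rcases smul_eq_zero.mp h with h | h
      · exact p.1.ne_zero h
      · have := p.2.2; rw [h] at this; simp [g] at this⟩
    have hφ : Function.Bijective φ := by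
      refine ⟨fun p p' h => ?_, fun z => ?_⟩
      · have h' : (p.1 : F) • p.2.1 = (p'.1 : F) • p'.2.1 := congrArg Subtype.val h
        have hh := congrArg g h'
        rw [hgs, hgs, p.2.2, p'.2.2, mul_one, mul_one] at hh
        have hu : (p.1 : F) = p'.1 := by
          rcases mul_self_eq_mul_self_iff.mp hh with h | h
          · exact h
          · rw [h, CharTwo.neg_eq]
        rw [hu] at h'
        exact Prod.ext (Units.ext hu) (Subtype.ext (smul_right_injective _ p'.1.ne_zero h'))
      · obtain ⟨s, hs⟩ := CfsgLib.Forms.exists_sq_eq (g z.1)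
        have hz : g z.1 ≠ 0 := fun h => z.2 (hg _ h)
        have hs0 : s ≠ 0 := fun h => hz (by rw [← hs, h, mul_zero])
        refine ⟨⟨Units.mk0 s hs0, ⟨s⁻¹ • z.1, ?_⟩⟩, Subtype.ext ?_⟩
        · rw [hgs, ← hs]; field_simp
        · show s • s⁻¹ • z.1 = z.1
          rw [smul_smul, mul_inv_cancel₀ hs0, one_smul]
    have := Nat.card_congr (Equiv.ofBijective φ hφ)
    rw [Nat.card_prod, Nat.card_units, Nat.card_eq_fintype_card (α := F), Nat.card_eq_fintype_card (α := {z : Fin 2 → F // z ≠ 0}),
      Fintype.card_subtype_compl, Fintype.card_subtype_eq, Fintype.card_fun, Fintype.card_fin, ← hq,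
      show q ^ 2 - 1 = (q + 1) * (q - 1) by rw [← Nat.sq_sub_sq, one_pow], mul_comm (q + 1)] at this
    exact Nat.eq_of_mul_eq_mul_left (by omega) this
  let L : (Fin k → F) → ((Fin k → F) →ₗ[F] F) := fun x =>
    { toFun := fun y => ∑ i, x i * y i
      map_add' := fun y y' => by simp [mul_add, Finset.sum_add_distrib]
      map_smul' := fun a y => by simp [Finset.mul_sum, mul_left_comm] }
  let e : {v : (Fin k ⊕ Fin k) ⊕ Fin 2 → F // Cfsg.quadFormMinus k F a b v = 1} ≃
      Σ p : (Fin k → F) × (Fin 2 → F), {y : Fin k → F // L p.1 y = 1 - g p.2} :=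
    { toFun := fun v => ⟨(fun i => v.1 (.inl (.inl i)), fun i => v.1 (.inr i)), fun i => v.1 (.inl (.inr i)), by
        have h := v.2
        change (∑ i, v.1 (.inl (.inl i)) * v.1 (.inl (.inr i))) + g (fun i => v.1 (.inr i)) = 1 at h
        show (∑ i, v.1 (.inl (.inl i)) * v.1 (.inl (.inr i))) = _
        linear_combination h⟩
      invFun := fun p => ⟨Sum.elim (Sum.elim p.1.1 p.2.1) p.1.2, by
        show L p.1.1 p.2.1 + g p.1.2 = 1
        rw [p.2.2]; ring⟩
      left_inv := fun v => Subtype.ext (funext fun i => by rcases i with (i | i) | i <;> rfl)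
      right_inv := fun p => rfl }
  rw [Nat.card_congr e, Nat.card_sigma, Fintype.sum_prod_type, ← Finset.add_sum_erase _ _ (Finset.mem_univ (0 : Fin k → F))]
  have h0 : ∑ z : Fin 2 → F, Nat.card {y : Fin k → F // L 0 y = 1 - g z} = (q + 1) * q ^ k := by
    rw [← h1, Nat.card_eq_fintype_card, Fintype.card_subtype, ← smul_eq_mul, ← Finset.sum_const, Finset.sum_filter]
    refine Finset.sum_congr rfl fun z _ => ?_
    by_cases hz : g z = 1
    · rw [if_pos hz, Nat.card_congr (Equiv.subtypeUnivEquiv fun y => by simp [L, hz]), Nat.card_eq_fintype_card,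
        Fintype.card_fun, Fintype.card_fin]
    · rw [if_neg hz]
      haveI : IsEmpty {y : Fin k → F // L 0 y = 1 - g z} := ⟨fun y => hz (by
        have := y.2; simp [L] at this; exact (sub_eq_zero.mp this.symm).symm)⟩
      exact Nat.card_of_isEmpty
  have h2 : ∀ x ∈ Finset.univ.erase (0 : Fin k → F),
      ∑ z : Fin 2 → F, Nat.card {y : Fin k → F // L x y = 1 - g z} = q ^ 2 * q ^ (k - 1) := by
    intro x hx
    have hx0 : x ≠ 0 := (Finset.mem_erase.mp hx).1
    rw [Finset.sum_const_nat (m := q ^ (k - 1)) fun z _ => ?_, Finset.card_univ, Fintype.card_fun, Fintype.card_fin]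
    rw [CfsgLib.Forms.card_fiber (L x) (fun h => hx0 (funext fun i => ?_)), Module.finrank_fin_fun]
    simpa [L, Pi.single_apply] using congrArg (fun φ : (Fin k → F) →ₗ[F] F => φ (Pi.single i 1)) h
  rw [h0, Finset.sum_const_nat h2, Finset.card_erase_of_mem (Finset.mem_univ _), Finset.card_univ, Fintype.card_fun,
    Fintype.card_fin, ← hq]
  rcases Nat.eq_zero_or_pos k with rfl | hk
  · simp
  · obtain ⟨j, rfl⟩ : ∃ j, k = j + 1 := ⟨k - 1, by omega⟩
    have : 1 ≤ q ^ (j + 1) := Nat.one_le_pow _ _ (by omega)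
    zify [this]
    simp only [Nat.add_sub_cancel]
    ring

/-- For a prime `r` dividing `q ^ d + 1`, the minus form has a fixed-point-free isometry of order `r`. -/
theorem exists_minus_singer [Fintype F] [CharP F 2] {k r : ℕ} [Fact r.Prime]
    (hr : r ∣ Fintype.card F ^ (k + 1) + 1) {a b : F} (hab : CfsgLib.OrthTwo.Aniso a b) :
    ∃ g : GL ((Fin k ⊕ Fin k) ⊕ Fin 2) F, g ^ r = 1 ∧
      (∀ v, Cfsg.quadFormMinus k F a b ((g : Matrix ((Fin k ⊕ Fin k) ⊕ Fin 2) ((Fin k ⊕ Fin k) ⊕ Fin 2) F).mulVec v) = Cfsg.quadFormMinus k F a b v) ∧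
      ∀ v, (g : Matrix ((Fin k ⊕ Fin k) ⊕ Fin 2) ((Fin k ⊕ Fin k) ⊕ Fin 2) F).mulVec v = v → v = 0 := by
  classical
  haveI : Fact (Nat.Prime 2) := ⟨Nat.prime_two⟩
  have hrp : r.Prime := Fact.out
  set d := k + 1 with hd
  set q := Fintype.card F with hq
  have hq1 : 1 < q := Fintype.one_lt_card
  haveI : NeZero (2 * d) := ⟨by omega⟩
  let L := FiniteField.Extension F 2 (2 * d)
  have hL : finrank F L = 2 * d := FiniteField.finrank_extension F 2 (2 * d)
  haveI : Finite L := Module.finite_of_finite F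
  haveI := Fintype.ofFinite L
  haveI : CharP L 2 := charP_of_injective_algebraMap' F 2
  have hcardL : Fintype.card L = q ^ (2 * d) := by rw [Module.card_eq_pow_finrank (K := F), hL]
  let σ := (FiniteField.frobeniusAlgEquivOfAlgebraic F L) ^ d
  have hσ : ∀ x, σ x = x ^ q ^ d := fun x => by
    show ((FiniteField.frobeniusAlgEquivOfAlgebraic F L) ^ d) x = _
    rw [AlgEquiv.coe_pow, FiniteField.coe_frobeniusAlgEquivOfAlgebraic_iterate]
  have hσσ : ∀ x, σ (σ x) = x := fun x => by
    rw [hσ, hσ, ← pow_mul, ← pow_add, ← two_mul, ← hcardL, FiniteField.pow_card]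
  obtain ⟨w, hw⟩ := IsCyclic.exists_generator (α := Lˣ)
  have hord : orderOf w = (q ^ d + 1) * (q ^ d - 1) := by
    rw [orderOf_eq_card_of_forall_mem_zpowers hw, Nat.card_eq_fintype_card, Fintype.card_units, hcardL, mul_comm 2,
      pow_mul, ← Nat.sq_sub_sq, one_pow]
  have hqd : 2 ≤ q ^ d := le_trans hq1 (Nat.le_self_pow (by omega) q)
  -- a splitting of one
  obtain ⟨c, hc⟩ : ∃ c : L, c + σ c = 1 := by
    obtain ⟨y, hy⟩ : ∃ y : L, y + σ y ≠ 0 := by
      by_contra hall
      push Not at hall
      have h1 : (w : L) ^ q ^ d = (w : L) := by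
        rw [← hσ, ← CharTwo.neg_eq ((w : L))]
        rw [CharTwo.neg_eq]
        exact (CharTwo.add_eq_zero.mp (hall _)).symm
      have h2 : w ^ (q ^ d - 1) = 1 := by
        refine Units.ext (mul_left_cancel₀ w.ne_zero ?_)
        rw [Units.val_pow_eq_pow_val, ← pow_succ', Nat.sub_add_cancel (by omega), h1, Units.val_one, mul_one]
      have h3 := Nat.le_of_dvd (by omega) (hord ▸ orderOf_dvd_of_pow_eq_one h2)
      have : 2 * (q ^ d - 1) ≤ (q ^ d + 1) * (q ^ d - 1) := Nat.mul_le_mul_right _ (by omega)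
      omega
    refine ⟨y / (y + σ y), ?_⟩
    rw [map_div₀, map_add, hσσ, add_comm (σ y) y, ← add_div, div_self hy]
  let T : L →ₗ[F] F := Algebra.trace F L
  let β : LinearMap.BilinMap F L F :=
    LinearMap.mk₂ F (fun x y => T (c * x * σ y))
      (fun x x' y => by rw [← map_add]; congr 1; ring)
      (fun s x y => by rw [← map_smul]; congr 1; simp only [Algebra.smul_def]; ring)
      (fun x y y' => by rw [← map_add, map_add]; congr 1; ring)
      (fun s x y => by rw [← map_smul, map_smul]; congr 1; simp only [Algebra.smul_def]; ring)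
  let Q : QuadraticForm F L := β.toQuadraticMap
  have hQ : ∀ x, Q x = T (c * x * σ x) := fun x => rfl
  have hpolar : ∀ x y, polar Q x y = T (x * σ y) := by
    intro x y
    rw [show polar Q x y = β x y + β y x from LinearMap.BilinMap.polar_toQuadraticMap x y]
    show T (c * x * σ y) + T (c * y * σ x) = _
    have : T (c * y * σ x) = T (σ c * x * σ y) := by
      show Algebra.trace F L _ = Algebra.trace F L _
      rw [← Algebra.trace_eq_of_algEquiv σ (c * y * σ x)]
      congr 1
      rw [map_mul σ, map_mul σ, hσσ]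
      ring
    rw [this, ← map_add, ← add_mul, ← add_mul, hc, one_mul]
  have hnd : (polarBilin Q).Nondegenerate := CfsgLib.StdForms.nondegenerate_of_sep _ fun x hx => by
    refine (traceForm_nondegenerate F L).1 x fun y => ?_
    have := hx (σ y)
    rw [hpolar, hσσ] at this
    exact this
  -- the norm one group
  set u := w ^ (q ^ d - 1) with hu
  have huo : orderOf u = q ^ d + 1 := by
    rw [hu, orderOf_pow' _ (by omega), hord, Nat.gcd_eq_right (dvd_mul_left _ _), Nat.mul_div_cancel _ (by omega)]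
  have hmul : ∀ v : Lˣ, v ∈ Subgroup.zpowers u → ∀ x, Q ((v : L) * x) = Q x := by
    intro v hv x
    have hv1 : (v : L) * σ (v : L) = 1 := by
      rw [hσ, ← Units.val_pow_eq_pow_val, ← Units.val_mul, ← pow_succ', ← huo,
        orderOf_dvd_iff_pow_eq_one.mp (orderOf_dvd_of_mem_zpowers hv), Units.val_one]
    rw [hQ, hQ]
    congr 1
    rw [map_mul σ]
    linear_combination (c * x * σ x) * hv1
  have hdvd : q ^ d + 1 ∣ Nat.card {x : L // Q x = 1} := by
    let S : Set (Lˣ ⧸ Subgroup.zpowers u) := QuotientGroup.mk '' {v : Lˣ | Q (v : L) = 1}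
    have e1 : {x : L // Q x = 1} ≃ (QuotientGroup.mk ⁻¹' S : Set Lˣ) :=
      { toFun := fun x => ⟨Units.mk0 x.1 (fun h => by simpa [h] using x.2), ⟨_, x.2, rfl⟩⟩
        invFun := fun v => ⟨(v.1 : L), by
          obtain ⟨v', hv', he⟩ := v.2
          have hmem := QuotientGroup.eq.mp he
          rw [show ((v.1 : Lˣ) : L) = ((v'⁻¹ * v.1 : Lˣ) : L) * (v' : L) by rw [← Units.val_mul]; congr 1; rw [mul_comm v'⁻¹, inv_mul_cancel_right],
            hmul _ hmem]
          exact hv'⟩
        left_inv := fun x => rfl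
        right_inv := fun v => Subtype.ext (Units.ext rfl) }
    rw [Nat.card_congr (e1.trans (QuotientGroup.preimageMkEquivSubgroupProdSet _ S)), Nat.card_prod, Nat.card_zpowers, huo]
    exact dvd_mul_right _ _
  have hNL : CfsgLib.OrthTwo.NoLagrangian Q := by
    intro W hts hperp
    have hWd : finrank F W = d := by
      have hle' : W ≤ LinearMap.BilinForm.orthogonal (polarBilin Q) W := fun v hv w hw => by
        show polar Q w v = 0
        rw [polar, hts _ (W.add_mem hw hv), hts w hw, hts v hv, sub_zero, sub_zero]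
      have hge : LinearMap.BilinForm.orthogonal (polarBilin Q) W ≤ W := fun v hv => hperp v fun w hw => by
        rw [polar_comm]; exact hv w hw
      have := LinearMap.BilinForm.finrank_orthogonal hnd W
      rw [le_antisymm hge hle', hL] at this
      have := W.finrank_le
      omega
    have h := card_value_one_of_lagrangian Q hL hWd hts hperp
    rw [h, ← hq] at hdvd
    have hcop : Nat.Coprime (q ^ d + 1) (q ^ (d - 1)) := by
      refine Nat.Coprime.pow_right _ ?_
      rw [Nat.coprime_comm, Nat.coprime_iff_gcd_eq_one, show q ^ d + 1 = 1 + q * q ^ (d - 1) by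
        rw [← pow_succ', Nat.sub_add_cancel (by omega)]; ring]
      simp
    have hle := Nat.le_of_dvd (show 0 < q ^ d - 1 by omega) (hcop.dvd_of_dvd_mul_right hdvd)
    omega
  obtain ⟨e⟩ := (CfsgLib.OrthTwo.equivalent_minus hab k Q hnd hL hNL).trans (minus_equivalent k a b).symm
  -- an element of order `r`
  obtain ⟨t, ht⟩ := hr
  set ζ := u ^ t with hζ
  have hζr : ζ ^ r = 1 := by rw [hζ, ← pow_mul, mul_comm t, ← ht, ← huo, pow_orderOf_eq_one]
  have hζ1 : (ζ : L) ≠ 1 := fun h => by
    have h' : u ^ t = 1 := Units.ext h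
    have := Nat.le_of_dvd (Nat.pos_of_ne_zero fun h0 => by simp [h0] at ht)
      (orderOf_dvd_of_pow_eq_one h')
    rw [huo, ht] at this
    have := hrp.two_le
    have : 0 < t := Nat.pos_of_ne_zero fun h0 => by simp [h0] at ht
    nlinarith
  let τ : Matrix ((Fin k ⊕ Fin k) ⊕ Fin 2) ((Fin k ⊕ Fin k) ⊕ Fin 2) F ≃ₐ[F]
      Module.End F ((Fin k ⊕ Fin k) ⊕ Fin 2 → F) := Matrix.toLinAlgEquiv'
  set M := τ.symm (e.toLinearEquiv.conjAlgEquiv F (Algebra.lmul F L (ζ : L))) with hM
  have hMr : M ^ r = 1 := by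
    rw [hM, ← map_pow, ← map_pow, ← map_pow, ← Units.val_pow_eq_pow_val, hζr, Units.val_one, map_one, map_one, map_one]
  have hMv : ∀ v, M.mulVec v = e.toLinearEquiv ((ζ : L) * e.toLinearEquiv.symm v) := fun v => by
    show τ M v = _
    rw [hM, τ.apply_symm_apply]
    rfl
  refine ⟨(IsUnit.of_pow_eq_one hMr hrp.ne_zero).unit, Units.ext (by
    rw [Units.val_pow_eq_pow_val, IsUnit.unit_spec, hMr, Units.val_one]), fun v => ?_, fun v hv => ?_⟩
  · rw [IsUnit.unit_spec, hMv, ← CfsgLib.StdForms.minusQ_apply, ← CfsgLib.StdForms.minusQ_apply]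
    refine (e.map_app _).trans ?_
    rw [hmul _ (Subgroup.pow_mem _ (Subgroup.mem_zpowers u) t), ← e.map_app]
    exact congrArg _ (e.toLinearEquiv.apply_symm_apply v)
  · rw [IsUnit.unit_spec, hMv] at hv
    have h2 : (ζ : L) * e.toLinearEquiv.symm v = e.toLinearEquiv.symm v := by
      conv_rhs => rw [← hv, LinearEquiv.symm_apply_apply]
    have h4 : e.toLinearEquiv.symm v = 0 := (mul_left_eq_self₀.mp h2).resolve_left hζ1
    exact (LinearEquiv.map_eq_zero_iff _).mp h4

/-- An involutory isometry that fixes only singular vectors fixes a Lagrangian pointwise. -/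
theorem not_singular_fixed_of_noLagrangian [CharP F 2] {V : Type*} [AddCommGroup V] [Module F V] [FiniteDimensional F V]
    (Q : QuadraticForm F V) (hQ : (polarBilin Q).Nondegenerate) (hNL : CfsgLib.OrthTwo.NoLagrangian Q)
    {g : Module.End F V} (hg : ∀ v, g (g v) = v) (hK : ∀ v, g v = v → Q v = 0) : False := by
  set N : Module.End F V := g - 1 with hN
  have hNv : ∀ v, N v = g v - v := fun v => rfl
  set K := LinearMap.ker N with hKdef
  have hmem : ∀ v, v ∈ K ↔ g v = v := fun v => by rw [hKdef, LinearMap.mem_ker, hNv, sub_eq_zero]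
  have hle : LinearMap.range N ≤ K := by
    rintro _ ⟨v, rfl⟩
    rw [hmem, hNv, map_sub, hg, ← sub_eq_zero]
    rw [show v - g v - (g v - v) = (2 : F) • (v - g v) by module, (CharTwo.two_eq_zero : (2 : F) = 0), zero_smul]
  have hle' : K ≤ LinearMap.BilinForm.orthogonal (polarBilin Q) K := fun v hv u hu => by
    show polar Q u v = 0
    rw [polar, hK _ ((hmem _).mp (K.add_mem hu hv)), hK _ ((hmem u).mp hu), hK _ ((hmem v).mp hv), sub_zero, sub_zero]
  have h1 := LinearMap.BilinForm.finrank_orthogonal hQ K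
  have h2 := Submodule.finrank_mono hle'
  have h3 := LinearMap.finrank_range_add_finrank_ker N
  have h4 := Submodule.finrank_mono hle
  have heq : K = LinearMap.BilinForm.orthogonal (polarBilin Q) K := by
    refine Submodule.eq_of_le_of_finrank_le hle' ?_
    have : finrank F (LinearMap.ker N) = finrank F K := rfl
    omega
  refine hNL K (fun w hw => hK w ((hmem w).mp hw)) fun x hx => ?_
  rw [heq]
  intro w hw
  show polar Q w x = 0
  rw [polar_comm]; exact hx w hw

end CfsgLib.LinearElements
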