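import Cfsg.Prelude.Def_GeometricClasses
import Cfsg.Agent.Spinor.StdForms
import Cfsg.Agent.Forms.OrthIndex
import Cfsg.Agent.Forms.SymplecticOrder

/-! Non-singular points of quadratic forms in characteristic two and elements of odd order of `Ω`. -/

set_option autoImplicit false

namespace CfsgLib.LinearElements

open Module Matrix

variable {F : Type*} [Field F]

/-- A quadratic form with non-degenerate polar form satisfies the predicate on functions. -/
theorem isNondegenerateQuadraticForm_coe {ι : Type} [Fintype ι] (Q : QuadraticForm F (ι → F))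
    (h : (QuadraticMap.polarBilin Q).Nondegenerate) : Cfsg.Geo.IsNondegenerateQuadraticForm ⇑Q where
  smul c v := by rw [QuadraticMap.map_smul, smul_eq_mul, sq]
  polar_bilinear :=
    ⟨fun x y v => QuadraticMap.polar_add_left Q x y v, fun c x v => by rw [QuadraticMap.polar_smul_left]; rfl,
      fun v x y => QuadraticMap.polar_add_right Q v x y, fun c v x => by rw [QuadraticMap.polar_smul_right]; rfl⟩
  nondegenerate v hv := by
    refine ⟨?_, ?_⟩
    · by_contra hall
      push Not at hall
      exact hv (h.2 v hall)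
    · by_contra hall
      push Not at hall
      exact hv (h.1 v hall)

/-- In characteristic two every non-singular point has exactly one vector of value one. -/
theorem card_nonsingular_points [Finite F] [CharP F 2] {ι : Type} [Fintype ι] (Q : QuadraticForm F (ι → F)) :
    Nat.card {W : Submodule F (ι → F) // finrank F W = 1 ∧ ∃ v ∈ W, Q v ≠ 0} = Nat.card {v : ι → F // Q v = 1} := by
  symm
  refine Nat.card_eq_of_bijective (fun v => ⟨Submodule.span F {v.1}, finrank_span_singleton (fun h => ?_),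
    v.1, Submodule.mem_span_singleton_self _, by rw [v.2]; exact one_ne_zero⟩) ⟨fun v w h => ?_, fun W => ?_⟩
  · have := v.2
    rw [h, QuadraticMap.map_zero] at this
    exact zero_ne_one this
  · have hw : w.1 ∈ Submodule.span F {v.1} := by
      rw [show Submodule.span F {v.1} = Submodule.span F {w.1} from congrArg Subtype.val h]
      exact Submodule.mem_span_singleton_self _
    obtain ⟨c, hc⟩ := Submodule.mem_span_singleton.mp hw
    have := w.2
    rw [← hc, QuadraticMap.map_smul, v.2, smul_eq_mul, mul_one] at this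
    rcases mul_self_eq_one_iff.mp this with rfl | rfl
    · exact Subtype.ext (by rw [← hc, one_smul])
    · exact Subtype.ext (by rw [← hc, CharTwo.neg_eq, one_smul])
  · obtain ⟨W, hW, v, hv, hQv⟩ := W
    obtain ⟨s, hs⟩ := CfsgLib.Forms.exists_sq_eq (Q v)⁻¹
    have hQ1 : Q (s • v) = 1 := by rw [QuadraticMap.map_smul, hs, smul_eq_mul, inv_mul_cancel₀ hQv]
    refine ⟨⟨s • v, hQ1⟩, Subtype.ext ?_⟩
    refine Submodule.eq_of_le_of_finrank_eq (Submodule.span_le.mpr ?_) ?_
    · rintro _ rfl; exact W.smul_mem _ hv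
    · rw [hW]
      refine finrank_span_singleton fun h => ?_
      change s • v = 0 at h
      rw [h, QuadraticMap.map_zero] at hQ1
      exact zero_ne_one hQ1

/-- The vectors of a given non-zero value of `Σ xᵢyᵢ`. -/
theorem card_plus_value [Fintype F] (d : ℕ) {c : F} (hc : c ≠ 0) :
    Nat.card {v : Fin d ⊕ Fin d → F // Cfsg.quadFormPlus d F v = c} =
      (Fintype.card F ^ d - 1) * Fintype.card F ^ (d - 1) := by
  classical
  let L : (Fin d → F) → ((Fin d → F) →ₗ[F] F) := fun x =>
    { toFun := fun y => ∑ i, x i * y i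
      map_add' := fun y y' => by simp [mul_add, Finset.sum_add_distrib]
      map_smul' := fun a y => by simp [Finset.mul_sum, mul_left_comm] }
  let e : {v : Fin d ⊕ Fin d → F // Cfsg.quadFormPlus d F v = c} ≃ Σ x : Fin d → F, {y : Fin d → F // L x y = c} :=
    { toFun := fun v => ⟨fun i => v.1 (.inl i), fun i => v.1 (.inr i), v.2⟩
      invFun := fun p => ⟨Sum.elim p.1 p.2.1, p.2.2⟩
      left_inv := fun v => Subtype.ext (funext fun i => by cases i <;> rfl)
      right_inv := fun p => rfl }
  rw [Nat.card_congr e, Nat.card_sigma, ← Finset.add_sum_erase _ _ (Finset.mem_univ (0 : Fin d → F))]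
  have h0 : Nat.card {y : Fin d → F // L 0 y = c} = 0 := by
    haveI : IsEmpty {y : Fin d → F // L 0 y = c} := ⟨fun y => hc (by rw [← y.2]; simp [L])⟩
    exact Nat.card_of_isEmpty
  rw [h0, zero_add, Finset.sum_const_nat (m := Fintype.card F ^ (d - 1)) fun x hx => ?_,
    Finset.card_erase_of_mem (Finset.mem_univ _), Finset.card_univ, Fintype.card_fun, Fintype.card_fin]
  have hx0 : x ≠ 0 := (Finset.mem_erase.mp hx).1
  rw [CfsgLib.Forms.card_fiber (L x) (fun h => hx0 (funext fun i => ?_)) c, Module.finrank_fin_fun]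
  simpa [L, Pi.single_apply] using congrArg (fun φ : (Fin d → F) →ₗ[F] F => φ (Pi.single i 1)) h

/-- Isometries of odd order lie in `Ω` (characteristic two). -/
theorem mem_omegaGL_of_odd_order [Finite F] [CharP F 2] {ι : Type} [Fintype ι] [DecidableEq ι]
    (Q : QuadraticForm F (ι → F)) (hQ : (QuadraticMap.polarBilin Q).Nondegenerate) (hn : 0 < Fintype.card ι)
    (hexc : Nat.card F ≠ 2 ∨ Fintype.card ι ≠ 4) {g : GL ι F} (hg : ∀ v, Q ((g : Matrix ι ι F) *ᵥ v) = Q v) {r : ℕ}
    (hr : Odd r) (h1 : g ^ r = 1) : g ∈ Cfsg.Geo.omegaGL ⇑Q := by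
  obtain ⟨k, rfl⟩ := hr
  let G : ↥(Cfsg.isometryGroup F ⇑Q) := ⟨g, fun u _ => hg u⟩
  have hG : G * G ∈ Cfsg.Omega F ⇑Q :=
    Subgroup.mul_self_mem_of_index_two (CfsgLib.Forms.index_omega_charTwo hQ hn hexc) G
  refine ⟨(G * G) ^ (k + 1), Subgroup.pow_mem _ hG _, ?_⟩
  show (g * g) ^ (k + 1) = g
  rw [← sq, ← pow_mul, show 2 * (k + 1) = 2 * k + 1 + 1 by ring, pow_succ, h1, one_mul]

/-- A matrix of order `r` of size `d` without non-zero fixed vectors, for a prime `r` with `r ∣ q ^ d - 1`. -/
theorem exists_fixedPointFree [Fintype F] {p : ℕ} [Fact p.Prime] [CharP F p] {r d : ℕ} [Fact r.Prime] (hd : 0 < d)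
    (hr : r ∣ Fintype.card F ^ d - 1) :
    ∃ A : Matrix (Fin d) (Fin d) F, A ^ r = 1 ∧ ∀ v, A *ᵥ v = v → v = 0 := by
  classical
  have hrp : r.Prime := Fact.out
  have hq1 : 1 < Fintype.card F := Fintype.one_lt_card
  have hcast : (Fintype.card F : ZMod r) ^ d = 1 := by
    have h0 : ((Fintype.card F ^ d - 1 : ℕ) : ZMod r) = 0 := (ZMod.natCast_eq_zero_iff _ _).mpr hr
    rw [Nat.cast_sub (Nat.one_le_pow _ _ (by omega)), Nat.cast_pow, Nat.cast_one, sub_eq_zero] at h0
    exact h0
  set i := orderOf (Fintype.card F : ZMod r) with hi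
  have hid : i ∣ d := hi ▸ orderOf_dvd_of_pow_eq_one hcast
  haveI : NeZero i := ⟨fun e => by rw [e, Nat.zero_dvd] at hid; omega⟩
  obtain ⟨t, ht⟩ := hid
  let L := FiniteField.Extension F p i
  have hL : finrank F L = i := FiniteField.finrank_extension F p i
  haveI : Finite L := Module.finite_of_finite F
  haveI := Fintype.ofFinite L
  have hdvd : r ∣ Fintype.card L - 1 := by
    rw [Module.card_eq_pow_finrank (K := F), hL, ← ZMod.natCast_eq_zero_iff, Nat.cast_sub (Nat.one_le_pow _ _ (by omega)),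
      Nat.cast_pow, Nat.cast_one, pow_orderOf_eq_one, sub_self]
  obtain ⟨u, hu⟩ := exists_prime_orderOf_dvd_card (G := Lˣ) r (by rwa [Fintype.card_units])
  have hζr : (u : L) ^ r = 1 := by rw [← Units.val_pow_eq_pow_val, ← hu, pow_orderOf_eq_one, Units.val_one]
  have hζ1 : (u : L) ≠ 1 := fun e => hrp.one_lt.ne' (by rw [← hu, ← orderOf_units, e, orderOf_one])
  let e : (Fin t → L) ≃ₗ[F] (Fin d → F) := LinearEquiv.ofFinrankEq _ _ (by
    rw [Module.finrank_pi_fintype, Finset.sum_const, Finset.card_univ, Fintype.card_fin, hL, Module.finrank_fin_fun,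
      smul_eq_mul, ht, mul_comm])
  let g : Module.End F (Fin t → L) := Algebra.lmul F (Fin t → L) (fun _ => (u : L))
  let τ : Matrix (Fin d) (Fin d) F ≃ₐ[F] Module.End F (Fin d → F) := Matrix.toLinAlgEquiv'
  refine ⟨τ.symm (e.conjAlgEquiv F g), ?_, fun v hv => ?_⟩
  · rw [← map_pow, ← map_pow, ← map_pow, show (fun _ => (u : L) : Fin t → L) ^ r = 1 from funext fun _ => hζr,
      map_one, map_one, map_one]
  · have h2 : τ (τ.symm (e.conjAlgEquiv F g)) v = v := hv
    rw [τ.apply_symm_apply] at h2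
    change e ((fun _ => (u : L)) * e.symm v) = v at h2
    have h3 : (fun _ => (u : L)) * e.symm v = e.symm v := e.injective (by rw [h2, e.apply_symm_apply])
    have h4 : e.symm v = 0 := funext fun j => by
      have := congrFun h3 j
      simp only [Pi.mul_apply] at this
      rcases mul_left_eq_self₀.mp this with h | h
      · exact absurd h hζ1
      · exact h
    simpa using congrArg e h4

/-- A fixed-point-free element of odd order of `O⁺` from a fixed-point-free matrix. -/
theorem exists_plus_levi {d : ℕ} {r : ℕ} (hr : 0 < r) {A : Matrix (Fin d) (Fin d) F} (hA : A ^ r = 1)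
    (hfix : ∀ v, A *ᵥ v = v → v = 0) :
    ∃ g : GL (Fin d ⊕ Fin d) F, g ^ r = 1 ∧
      (∀ v, Cfsg.quadFormPlus d F ((g : Matrix (Fin d ⊕ Fin d) (Fin d ⊕ Fin d) F) *ᵥ v) = Cfsg.quadFormPlus d F v) ∧
      ∀ v, (g : Matrix (Fin d ⊕ Fin d) (Fin d ⊕ Fin d) F) *ᵥ v = v → v = 0 := by
  have hAu : IsUnit A := IsUnit.of_pow_eq_one hA hr.ne'
  set B : Matrix (Fin d) (Fin d) F := (A ^ (r - 1))ᵀ with hB
  have hBA : Aᵀ * B = 1 := by
    rw [hB, ← Matrix.transpose_mul, ← pow_succ, Nat.sub_add_cancel hr, hA, Matrix.transpose_one]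
  have hBr : B ^ r = 1 := by
    rw [hB, ← Matrix.transpose_pow, ← pow_mul, mul_comm, pow_mul, hA, one_pow, Matrix.transpose_one]
  set M : Matrix (Fin d ⊕ Fin d) (Fin d ⊕ Fin d) F := Matrix.fromBlocks A 0 0 B with hM
  have hMr : M ^ r = 1 := by rw [hM, Matrix.fromBlocks_diagonal_pow, hA, hBr, Matrix.fromBlocks_one]
  let g : GL (Fin d ⊕ Fin d) F := (IsUnit.of_pow_eq_one hMr hr.ne').unit
  have hg : (g : Matrix (Fin d ⊕ Fin d) (Fin d ⊕ Fin d) F) = M := IsUnit.unit_spec _
  refine ⟨g, Units.ext (by rw [Units.val_pow_eq_pow_val, hg, hMr, Units.val_one]), fun v => ?_, fun v hv => ?_⟩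
  · rw [hg, hM, Matrix.fromBlocks_mulVec]
    simp only [Cfsg.quadFormPlus, Sum.elim_inl, Sum.elim_inr, Matrix.zero_mulVec, add_zero, zero_add]
    show (A *ᵥ (v ∘ Sum.inl)) ⬝ᵥ (B *ᵥ (v ∘ Sum.inr)) = (v ∘ Sum.inl) ⬝ᵥ (v ∘ Sum.inr)
    rw [Matrix.dotProduct_mulVec, ← Matrix.mulVec_transpose, Matrix.mulVec_mulVec,
      show Bᵀ * A = (Aᵀ * B)ᵀ by simp [Matrix.transpose_mul], hBA, Matrix.transpose_one,
      Matrix.one_mulVec]
  · rw [hg, hM, Matrix.fromBlocks_mulVec] at hv
    have h1 : A *ᵥ (v ∘ Sum.inl) = v ∘ Sum.inl := funext fun i => by simpa using congrFun hv (.inl i)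
    have h2 : B *ᵥ (v ∘ Sum.inr) = v ∘ Sum.inr := funext fun i => by simpa using congrFun hv (.inr i)
    have h3 : Aᵀ *ᵥ (v ∘ Sum.inr) = v ∘ Sum.inr := by
      conv_lhs => rw [← h2, Matrix.mulVec_mulVec, hBA, Matrix.one_mulVec]
    have h4 : (v ∘ Sum.inr) = 0 := by
      have hinj : Function.Injective ((A - 1)ᵀ).mulVec := by
        rw [Matrix.mulVec_injective_iff_isUnit, Matrix.isUnit_transpose, ← Matrix.mulVec_injective_iff_isUnit]
        intro a b hab
        simp only [Matrix.sub_mulVec, Matrix.one_mulVec] at hab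
        refine sub_eq_zero.mp (hfix _ ?_)
        rw [Matrix.mulVec_sub]
        calc A *ᵥ a - A *ᵥ b = (A *ᵥ a - a) - (A *ᵥ b - b) + (a - b) := by abel
          _ = _ := by rw [hab, sub_self, zero_add]
      refine hinj ?_
      rw [Matrix.transpose_sub, Matrix.transpose_one, Matrix.sub_mulVec, Matrix.one_mulVec, h3, sub_self,
        Matrix.mulVec_zero]
    funext i
    rcases i with i | i
    · exact congrFun (hfix _ h1) i
    · exact congrFun h4 i

/-- An involutory isometry that fixes only singular vectors forces half the dimension to be even. -/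
theorem even_of_singular_fixed {V : Type*} [AddCommGroup V] [Module F V] [FiniteDimensional F V] [CharP F 2]
    (Q : QuadraticForm F V) (hQ : (QuadraticMap.polarBilin Q).Nondegenerate) {d : ℕ} (hd : finrank F V = 2 * d)
    {g : Module.End F V} (hg : ∀ v, g (g v) = v) (hiso : ∀ v, Q (g v) = Q v) (hK : ∀ v, g v = v → Q v = 0) :
    Even d := by
  set N : Module.End F V := g - 1 with hN
  have hNv : ∀ v, N v = g v - v := fun v => rfl
  set K := LinearMap.ker N with hKdef
  have hmem : ∀ v, v ∈ K ↔ g v = v := fun v => by rw [hKdef, LinearMap.mem_ker, hNv, sub_eq_zero]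
  have hle : LinearMap.range N ≤ K := by
    rintro _ ⟨v, rfl⟩
    rw [hmem, hNv, map_sub, hg, ← sub_eq_zero]
    have : (2 : F) = 0 := CharTwo.two_eq_zero
    rw [show v - g v - (g v - v) = (2 : F) • (v - g v) by module, this, zero_smul]
  have horth : ∀ u ∈ K, ∀ v ∈ K, QuadraticMap.polar Q u v = 0 := fun u hu v hv => by
    rw [QuadraticMap.polar, hK _ ((hmem _).mp (K.add_mem hu hv)), hK _ ((hmem u).mp hu), hK _ ((hmem v).mp hv),
      sub_zero, sub_zero]
  have hKd : finrank F K ≤ d := by
    have hle' : K ≤ LinearMap.BilinForm.orthogonal (QuadraticMap.polarBilin Q) K := fun v hv u hu => horth u hu v hv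
    have := LinearMap.BilinForm.finrank_orthogonal hQ K
    have := Submodule.finrank_mono hle'
    omega
  have hrn := LinearMap.finrank_range_add_finrank_ker N
  have := Submodule.finrank_mono hle
  have hKeq : finrank F K = d := by
    have : finrank F (LinearMap.ker N) = finrank F K := rfl
    omega
  obtain ⟨C, hC⟩ := Submodule.exists_isCompl K
  have hCd : finrank F C = d := by
    have := Submodule.finrank_add_eq_of_isCompl hC; omega
  let β : LinearMap.BilinForm F C :=
    (QuadraticMap.polarBilin Q).compl₁₂ (N.comp C.subtype) C.subtype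
  have hA : β.IsAlt := fun u => by
    show QuadraticMap.polar Q (N (u : V)) (u : V) = 0
    rw [QuadraticMap.polar, hNv, sub_add_cancel, hiso,
      hK _ ((hmem _).mp (hle ⟨_, hNv (u : V)⟩))]
    ring
  have hnd : β.Nondegenerate := hA.isRefl.nondegenerate_iff_separatingLeft.mpr fun u hu => by
    have h0 : N (u : V) = 0 := hQ.1 _ fun v => by
      obtain ⟨k, hk, c, hc, rfl⟩ := Submodule.mem_sup.mp (hC.sup_eq_top.ge (Submodule.mem_top : v ∈ ⊤))
      rw [map_add, show QuadraticMap.polarBilin Q (N (u : V)) k = 0 from horth _ (hle ⟨_, rfl⟩) _ hk, zero_add]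
      exact hu ⟨c, hc⟩
    exact Subtype.ext ((Submodule.disjoint_def.mp hC.disjoint) _ (LinearMap.mem_ker.mpr h0) u.2)
  obtain ⟨m, b, -⟩ := CfsgLib.Forms.exists_symplectic_basis_nondeg β hA hnd
  exact ⟨m, by rw [← hCd, Module.finrank_eq_card_basis b]; simp⟩

end CfsgLib.LinearElements
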