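import Cfsg.Agent.LinearElements.SympModels
import Mathlib.FieldTheory.ChevalleyWarning

/-!
Totally isotropic invariant subspaces of isometries of odd prime order: existence by the theorem of Chevalley and
Warning, and models in which they are small.
-/

set_option autoImplicit false

namespace CfsgLib.LinearElements

open Module Submodule Polynomial

section
variable {F V : Type*} [Field F] [Fintype F] [AddCommGroup V] [Module F V] [FiniteDimensional F V]
  {B : LinearMap.BilinForm F V} {g : Module.End F V}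
  (hA : B.IsAlt) (hgB : ∀ u v, B (g u) (g v) = B u v) {r : ℕ} [Fact r.Prime] (hg : g ^ r = 1)
  (hq : (Fintype.card F : ZMod r) ≠ 0)

include hA hgB hg hq

omit hA hq [Fact r.Prime] in
theorem form_pow (k : ℕ) (u v : V) : B ((g ^ k) u) ((g ^ k) v) = B u v := by
  induction k with
  | zero => rfl
  | succ k ih => rw [pow_succ', Module.End.mul_apply, Module.End.mul_apply, hgB, ih]

/-- More than `r - 1` moved dimensions contain an isotropic invariant subspace. -/
theorem exists_isotropic_atom (hr2 : r ≠ 2) {M : Submodule F V} (hM : InvBy g M) (hM0 : fixedIn g M = ⊥)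
    (hdim : r - 1 < finrank F M) :
    ∃ U, U ≤ M ∧ InvBy g U ∧ finrank F U = orderOf (Fintype.card F : ZMod r) ∧ ∀ u ∈ U, ∀ v ∈ U, B u v = 0 := by
  classical
  obtain ⟨p, hchar⟩ := CharP.exists F
  haveI := hchar
  have hp : p.Prime := CharP.char_is_prime F p
  set n := finrank F M
  let b := Module.finBasis F M
  let Q : Fin ((r - 1) / 2) → MvPolynomial (Fin n) F := fun k =>
    ∑ a, ∑ a', MvPolynomial.C (B ((g ^ ((k : ℕ) + 1)) (b a : V)) (b a' : V)) * (MvPolynomial.X a * MvPolynomial.X a')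
  let wv : (Fin n → F) → V := fun x => ∑ a, x a • (b a : V)
  have heval : ∀ k x, MvPolynomial.eval x (Q k) = B ((g ^ ((k : ℕ) + 1)) (wv x)) (wv x) := fun k x => by
    simp only [Q, wv, map_sum, map_smul, LinearMap.sum_apply, LinearMap.smul_apply, MvPolynomial.eval_mul,
      MvPolynomial.eval_C, MvPolynomial.eval_X, smul_eq_mul, Finset.mul_sum]
    rw [Finset.sum_comm]
    exact Finset.sum_congr rfl fun a _ => Finset.sum_congr rfl fun a' _ => by ring
  have hdeg : (∑ k, (Q k).totalDegree) < Fintype.card (Fin n) := by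
    refine lt_of_le_of_lt (b := (r - 1) / 2 * 2) ?_ (by rw [Fintype.card_fin]; omega)
    refine (Finset.sum_le_card_nsmul _ _ 2 fun k _ => ?_).trans_eq (by rw [Finset.card_univ, Fintype.card_fin, smul_eq_mul])
    refine (MvPolynomial.totalDegree_finsetSum_le fun a _ => (MvPolynomial.totalDegree_finsetSum_le fun a' _ => ?_))
    refine (MvPolynomial.totalDegree_mul _ _).trans ?_
    rw [MvPolynomial.totalDegree_C, Nat.zero_add]
    exact (MvPolynomial.totalDegree_mul _ _).trans (by simp [MvPolynomial.totalDegree_X])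
  have hdvd := char_dvd_card_solutions_of_fintype_sum_lt p hdeg
  obtain ⟨x, hx, hx0⟩ : ∃ x : Fin n → F, (∀ k, MvPolynomial.eval x (Q k) = 0) ∧ x ≠ 0 := by
    by_contra hall
    push Not at hall
    have h1 : ∃ z : {x : Fin n → F // ∀ k, MvPolynomial.eval x (Q k) = 0}, ∀ y, y = z :=
      ⟨⟨0, fun k => by rw [heval]; simp [wv]⟩, fun y => Subtype.ext (hall y.1 y.2)⟩
    obtain ⟨z, hz⟩ := h1
    rw [← @Nat.card_eq_fintype_card _ (_)] at hdvd
    haveI : Unique {x : Fin n → F // ∀ k, MvPolynomial.eval x (Q k) = 0} := ⟨⟨z⟩, hz⟩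
    rw [Nat.card_unique, Nat.dvd_one] at hdvd
    exact hp.one_lt.ne' hdvd
  set w := wv x
  have hwM : w ∈ M := M.sum_mem fun a _ => M.smul_mem _ (b a).2
  have hw0 : w ≠ 0 := fun e0 => hx0 (funext fun a => by
    have h1 : ∑ a, x a • b a = 0 := Subtype.ext (by simpa [w, wv] using e0)
    exact Fintype.linearIndependent_iff.mp b.linearIndependent x h1 a)
  have hk : ∀ k, k < r → B ((g ^ k) w) w = 0 := fun k hk => by
    rcases Nat.eq_zero_or_pos k with rfl | hk0
    · exact hA w
    · by_cases hkr : k ≤ (r - 1) / 2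
      · have h1 := hx ⟨k - 1, by omega⟩
        rwa [heval, show k - 1 + 1 = k by omega] at h1
      · have h1 := hx ⟨r - k - 1, by obtain ⟨j, hj⟩ := (Fact.out : r.Prime).odd_of_ne_two hr2; omega⟩
        rw [heval, show r - k - 1 + 1 = r - k by omega] at h1
        rw [← form_pow hgB hg (r - k), ← Module.End.mul_apply, ← pow_add, Nat.sub_add_cancel hk.le, hg,
          Module.End.one_apply, ← LinearMap.IsAlt.neg hA, h1, neg_zero]
  have hall : ∀ a a' : ℕ, B ((g ^ a) w) ((g ^ a') w) = 0 := fun a a' => by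
    rw [← form_pow hgB hg ((r - 1) * a') ((g ^ a) w), ← Module.End.mul_apply, ← Module.End.mul_apply, ← pow_add, ← pow_add,
      show (r - 1) * a' + a' = r * a' by
        rw [Nat.sub_mul, one_mul]; exact Nat.sub_add_cancel (Nat.le_mul_of_pos_left a' (Fact.out : r.Prime).pos),
      pow_mul g r, hg, one_pow, Module.End.one_apply, pow_eq_pow_mod _ hg]
    exact hk _ (Nat.mod_lt _ (Fact.out : r.Prime).pos)
  set S := span F (Set.range fun a : ℕ => (g ^ a) w)
  have hSinv : InvBy g S := invBy_iff_map_le.mpr (by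
    rw [Submodule.map_span, span_le]
    rintro _ ⟨_, ⟨a, rfl⟩, rfl⟩
    exact subset_span ⟨a + 1, by simp only [pow_succ', Module.End.mul_apply]⟩)
  have hSM : S ≤ M := span_le.mpr (by rintro _ ⟨a, rfl⟩; exact hM.pow a w hwM)
  have hS0 : S ≠ ⊥ := fun e => hw0 ((Submodule.eq_bot_iff _).mp e w (subset_span ⟨0, by simp⟩))
  have hiso : ∀ u ∈ S, ∀ v ∈ S, B u v = 0 := fun u hu v hv => by
    induction hu using Submodule.span_induction with
    | mem y hy =>
      obtain ⟨a, rfl⟩ := hy
      induction hv using Submodule.span_induction with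
      | mem z hz => obtain ⟨a', rfl⟩ := hz; exact hall a a'
      | zero => simp
      | add y z _ _ hy hz => simp [hy, hz]
      | smul c y _ hy => simp [hy]
    | zero => simp
    | add y z _ _ hy hz => simp [hy, hz]
    | smul c y _ hy => simp [hy]
  obtain ⟨U, hUS, hU, hU0, hUd⟩ := exists_small_invBy hg hq hSinv hS0
  have hdvd := orderOf_dvd_finrank_sub hg hq hU
  rw [show fixedIn g U = ⊥ from le_bot_iff.mp ((inf_le_inf_right _ (hUS.trans hSM)).trans hM0.le), finrank_bot,
    Nat.sub_zero] at hdvd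
  exact ⟨U, hUS.trans hSM, hU, le_antisymm hUd
    (Nat.le_of_dvd (Nat.pos_of_ne_zero fun e => hU0 (Submodule.finrank_eq_zero.mp e)) hdvd),
    fun u hu v hv => hiso u (hUS hu) v (hUS hv)⟩

/-- Isotropic invariant subspaces inside a nondegenerate fixed point free invariant subspace. -/
theorem exists_isotropic_sum (hr2 : r ≠ 2) (hrF : (r : F) ≠ 0) :
    ∀ (s : ℕ) (M : Submodule F V), InvBy g M → SepOn B M → fixedIn g M = ⊥ →
      (Odd (orderOf (Fintype.card F : ZMod r)) ∧ 2 * s * orderOf (Fintype.card F : ZMod r) ≤ finrank F M ∨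
        s = 0 ∨ 2 * (s - 1) * orderOf (Fintype.card F : ZMod r) + (r - 1) < finrank F M) →
      ∃ Z, Z ≤ M ∧ InvBy g Z ∧ finrank F Z = s * orderOf (Fintype.card F : ZMod r) ∧ ∀ u ∈ Z, ∀ v ∈ Z, B u v = 0 := by
  set i := orderOf (Fintype.card F : ZMod r) with hi
  have hi0 : 0 < i := orderOf_pos_iff.mpr (isOfFinOrder_iff_pow_eq_one.mpr
    ⟨r - 1, by have := (Fact.out : r.Prime).two_le; omega, ZMod.pow_card_sub_one_eq_one hq⟩)
  have hbot : ∃ Z, Z ≤ (⊥ : Submodule F V) ∧ InvBy g Z ∧ finrank F Z = 0 ∧ ∀ u ∈ Z, ∀ v ∈ Z, B u v = 0 :=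
    ⟨⊥, le_rfl, invBy_bot, finrank_bot F V, fun u hu v _ => by simp [(Submodule.mem_bot F).mp hu]⟩
  intro s
  induction s with
  | zero =>
    intro M _ _ _ _
    obtain ⟨Z, hZ, h⟩ := hbot
    exact ⟨Z, hZ.trans bot_le, by rw [Nat.zero_mul]; exact h⟩
  | succ s ih =>
    intro M hM hMs hM0 hcond
    obtain ⟨U, hUM, hU, hUd, hUiso⟩ : ∃ U, U ≤ M ∧ InvBy g U ∧ finrank F U = i ∧ ∀ u ∈ U, ∀ v ∈ U, B u v = 0 := by
      rcases hcond with ⟨hodd, hle⟩ | h | h
      · have hne : M ≠ ⊥ := fun e => by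
          rw [e, finrank_bot, Nat.le_zero] at hle
          simp only [mul_eq_zero] at hle
          omega
        obtain ⟨U, hUM, hU, hU0, hUd⟩ := exists_small_invBy hg hq hM hne
        have hlow : ∀ X, X ≤ M → InvBy g X → X ≠ ⊥ → i ≤ finrank F X := fun X hXM hX hX0 => by
          have hdvd := orderOf_dvd_finrank_sub hg hq hX
          rw [show fixedIn g X = ⊥ from le_bot_iff.mp ((inf_le_inf_right _ hXM).trans hM0.le), finrank_bot,
            Nat.sub_zero] at hdvd
          exact Nat.le_of_dvd (Nat.pos_of_ne_zero fun e => hX0 (Submodule.finrank_eq_zero.mp e)) hdvd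
        have hUi : finrank F U = i := le_antisymm hUd (hlow U hUM hU hU0)
        refine ⟨U, hUM, hU, hUi, ?_⟩
        let R := U ⊓ B.orthogonal U
        have hR : InvBy g R := fun y hy => ⟨hU y hy.1, fun x hx => by
          have h1 : x = g ((g ^ (r - 1)) x) := by
            rw [← Module.End.mul_apply, ← pow_succ', Nat.sub_add_cancel (Fact.out : r.Prime).pos, hg,
              Module.End.one_apply]
          show B x (g y) = 0
          rw [h1, hgB]
          exact hy.2 _ (hU.pow _ x hx)⟩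
        by_cases hR0 : R = ⊥
        · exfalso
          have h2 := even_finrank_sepOn hA (W := U) fun w hw hw0 => by
            by_contra hall
            push Not at hall
            refine hw0 ((Submodule.eq_bot_iff _).mp hR0 w ⟨hw, fun x hx => ?_⟩)
            show B x w = 0
            rw [← LinearMap.IsAlt.neg hA w x, hall x hx, neg_zero]
          rw [hUi] at h2
          exact (Nat.not_even_iff_odd.mpr hodd) (even_iff_two_dvd.mpr h2)
        · have hRU : R = U := Submodule.eq_of_le_of_finrank_le inf_le_left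
            (hUi.trans_le (hlow R (inf_le_left.trans hUM) hR hR0))
          exact fun u hu v hv => (hRU.ge hv).2 u hu
      · omega
      · exact exists_isotropic_atom hA hgB hg hq hr2 hM hM0 (by omega)
    -- the orthogonal of `U` inside `M`
    let BM : LinearMap.BilinForm F M := B.restrict M
    have hBMA : BM.IsAlt := fun v => hA (v : V)
    have hBM : BM.Nondegenerate := by
      refine ⟨fun v hv => ?_, fun v hv => ?_⟩ <;> by_contra hne <;>
        obtain ⟨y, hy, hvy⟩ := hMs v v.2 (fun e => hne (Subtype.ext e))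
      · exact hvy (hv ⟨y, hy⟩)
      · exact hvy (by rw [← LinearMap.IsAlt.neg hA y (v : V)]; exact neg_eq_zero.mpr (hv ⟨y, hy⟩))
    set P := B.orthogonal U ⊓ M
    have hUP : U ≤ P := fun v hv => ⟨fun x hx => hUiso x hx v hv, hUM hv⟩
    have hP : InvBy g P := fun y hy => ⟨fun x hx => by
      have h1 : x = g ((g ^ (r - 1)) x) := by
        rw [← Module.End.mul_apply, ← pow_succ', Nat.sub_add_cancel (Fact.out : r.Prime).pos, hg, Module.End.one_apply]
      show B x (g y) = 0
      rw [h1, hgB]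
      exact hy.1 _ (hU.pow _ x hx), hM y hy.2⟩
    have hPM : BM.orthogonal (U.comap M.subtype) = P.comap M.subtype := by
      ext v
      exact ⟨fun h => ⟨fun x hx => h ⟨x, hUM hx⟩ hx, v.2⟩, fun h x hx => h.1 (x : V) hx⟩
    have hPd : finrank F P + i = finrank F M := by
      have h1 := LinearMap.BilinForm.finrank_orthogonal hBM (U.comap M.subtype)
      rw [hPM, (Submodule.comapSubtypeEquivOfLe hUM).finrank_eq,
        (Submodule.comapSubtypeEquivOfLe (inf_le_right : P ≤ M)).finrank_eq, hUd] at h1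
      have h2 : finrank F P = finrank F M - i := h1
      have := Submodule.finrank_mono hUM
      omega
    obtain ⟨M', hM', hM'P, hinf, hsup⟩ := exists_invBy_compl (Fact.out : r.Prime).pos hrF one_ne_zero
      (by rw [hg, one_smul]) hP hU hUP
    have hM's : SepOn B M' := fun w hw hw0 => by
      by_contra hall
      push Not at hall
      have h1 : (⟨w, (hM'P hw).2⟩ : M) ∈ BM.orthogonal (BM.orthogonal (U.comap M.subtype)) := fun y hy => by
        rw [hPM] at hy
        have hyP : (y : V) ∈ U ⊔ M' := hsup.ge hy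
        obtain ⟨u, hu, v, hv, huv⟩ := Submodule.mem_sup.mp hyP
        show B (y : V) w = 0
        rw [← huv, map_add, LinearMap.add_apply, (hM'P hw).1 u hu, ← LinearMap.IsAlt.neg hA w v, hall v hv, neg_zero,
          add_zero]
      rw [LinearMap.BilinForm.orthogonal_orthogonal hBM hBMA.isRefl] at h1
      exact hw0 ((Submodule.eq_bot_iff _).mp hinf w ⟨h1, hw⟩)
    have hd := finrank_sup_of_disjoint hinf
    rw [hsup, hUd] at hd
    obtain ⟨Z, hZM, hZ, hZd, hZiso⟩ := ih M' hM' hM's
      (le_bot_iff.mp ((inf_le_inf_right _ (hM'P.trans inf_le_right)).trans hM0.le)) (by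
        rcases hcond with ⟨hodd, hle⟩ | h | h
        · left
          refine ⟨hodd, ?_⟩
          rw [Nat.mul_succ, Nat.add_mul] at hle
          omega
        · omega
        · right
          rcases Nat.eq_zero_or_pos s with hs | hs
          · exact Or.inl hs
          · right
            obtain ⟨s', rfl⟩ : ∃ s', s = s' + 1 := ⟨s - 1, by omega⟩
            simp only [Nat.add_sub_cancel] at h ⊢
            rw [Nat.mul_succ, Nat.add_mul] at h
            omega)
    have hdis : U ⊓ Z = ⊥ := le_bot_iff.mp ((inf_le_inf_left _ hZM).trans hinf.le)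
    refine ⟨U ⊔ Z, sup_le hUM (hZM.trans (hM'P.trans inf_le_right)), hU.sup hZ, ?_, ?_⟩
    · rw [finrank_sup_of_disjoint hdis, hUd, hZd, Nat.succ_mul, Nat.add_comm]
    · intro x hx y hy
      obtain ⟨u, hu, z, hz, rfl⟩ := Submodule.mem_sup.mp hx
      obtain ⟨u', hu', z', hz', rfl⟩ := Submodule.mem_sup.mp hy
      have h1 : B z u' = 0 := by rw [← LinearMap.IsAlt.neg hA u' z, (hM'P (hZM hz)).1 u' hu', neg_zero]
      simp [hUiso u hu u' hu', hZiso z hz z' hz', h1, (hM'P (hZM hz')).1 u hu]

omit hgB hg hq [Fact r.Prime] in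
/-- A nondegenerate subspace of dimension at least `2 f` contains an isotropic one of dimension `f`. -/
theorem exists_isotropic_sub {W : Submodule F V} (hWs : SepOn B W) {f : ℕ} (hf : 2 * f ≤ finrank F W) :
    ∃ Z, Z ≤ W ∧ finrank F Z = f ∧ ∀ u ∈ Z, ∀ v ∈ Z, B u v = 0 := by
  obtain ⟨h, hh⟩ := even_finrank_sepOn hA hWs
  obtain ⟨u, v, hmem, huu, -, huv, -⟩ := exists_pair_frame hA (g := LinearMap.id) (fun _ _ => rfl) (z := 1) one_ne_zero
    (fun v => (one_smul F v).symm) (fun _ _ => True)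
    (fun u v _ => ⟨Submodule.subset_span (by simp), Submodule.subset_span (by simp)⟩)
    (fun W _ hW hne c _ => by
      obtain ⟨u, hu, hu0⟩ := (Submodule.ne_bot_iff _).mp hne
      obtain ⟨y, hy, huy⟩ := hW u hu hu0
      exact ⟨u, hu, (c / B u y) • y, W.smul_mem _ hy, by rw [map_smul, smul_eq_mul, div_mul_cancel₀ _ huy], trivial⟩)
    (m := h) W (fun w hw => hw) hWs hh (fun _ => 1) fun _ => one_ne_zero
  have hfh : f ≤ h := by omega
  let z : Fin f → V := fun k => u (Fin.castLE hfh k)
  have hli : LinearIndependent F z := by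
    rw [Fintype.linearIndependent_iff]
    intro c hc k
    have h1 := congrArg (fun y => B y (v (Fin.castLE hfh k))) hc
    simpa [z, huv, (Fin.castLE_injective hfh).eq_iff] using h1
  refine ⟨span F (Set.range z), span_le.mpr (by rintro _ ⟨k, rfl⟩; exact (hmem _).1),
    by rw [finrank_span_eq_card hli, Fintype.card_fin], fun a ha b hb => ?_⟩
  induction ha using Submodule.span_induction with
  | mem y hy =>
    obtain ⟨k, rfl⟩ := hy
    induction hb using Submodule.span_induction with
    | mem y hy => obtain ⟨k', rfl⟩ := hy; exact huu _ _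
    | zero => simp
    | add y z _ _ hy hz => simp [hy, hz]
    | smul c y _ hy => simp [hy]
  | zero => simp
  | add y z _ _ hy hz => simp [hy, hz]
  | smul c y _ hy => simp [hy]

end

section
variable {F : Type*} [Field F]

theorem aeval_intertwine {V W : Type*} [AddCommGroup V] [Module F V] [AddCommGroup W] [Module F W] (π : V →ₗ[F] W)
    {g : Module.End F V} {g' : Module.End F W} (h : ∀ v, π (g v) = g' (π v)) (P : F[X]) :
    ∀ v, π (aeval g P v) = aeval g' P (π v) := by
  induction P using Polynomial.induction_on' with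
  | add P Q hP hQ => intro v; simp [hP, hQ]
  | monomial k a =>
    intro v
    have hk : ∀ k : ℕ, ∀ v, π ((g ^ k) v) = (g' ^ k) (π v) := fun k => by
      induction k with
      | zero => intro v; rfl
      | succ k ih => intro v; rw [pow_succ', Module.End.mul_apply, h, ih, ← Module.End.mul_apply, ← pow_succ']
    simp [aeval_monomial, hk]

variable {l k d : ℕ}

/-- The first component. -/
def blkFst (E : Fin l ⊕ Fin k ≃ Fin d) : (Fin d ⊕ Fin d → F) →ₗ[F] (Fin l ⊕ Fin l → F) :=
  LinearMap.funLeft F F (CfsgLib.SpSum.shuffle E ∘ Sum.inl)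

/-- The second component. -/
def blkSnd (E : Fin l ⊕ Fin k ≃ Fin d) : (Fin d ⊕ Fin d → F) →ₗ[F] (Fin k ⊕ Fin k → F) :=
  LinearMap.funLeft F F (CfsgLib.SpSum.shuffle E ∘ Sum.inr)

theorem blk_components_ext (E : Fin l ⊕ Fin k ≃ Fin d) {u v : Fin d ⊕ Fin d → F} (h1 : blkFst E u = blkFst E v)
    (h2 : blkSnd E u = blkSnd E v) : u = v := by
  funext w
  obtain ⟨s, rfl⟩ := (CfsgLib.SpSum.shuffle E).surjective w
  rcases s with s | s
  · exact congrFun h1 s
  · exact congrFun h2 s

theorem blkFst_apply (E : Fin l ⊕ Fin k ≃ Fin d) (A : ↥(Matrix.symplecticGroup (Fin l) F))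
    (C : ↥(Matrix.symplecticGroup (Fin k) F)) (v : Fin d ⊕ Fin d → F) :
    blkFst E (Matrix.toLin' ((CfsgLib.SpSum.blk E (A, C) : ↥(Matrix.symplecticGroup (Fin d) F)) :
        Matrix (Fin d ⊕ Fin d) (Fin d ⊕ Fin d) F) v) =
      Matrix.toLin' (A : Matrix (Fin l ⊕ Fin l) (Fin l ⊕ Fin l) F) (blkFst E v) := by
  funext s
  show (((CfsgLib.SpSum.blk E (A, C) : ↥(Matrix.symplecticGroup (Fin d) F)) :
    Matrix (Fin d ⊕ Fin d) (Fin d ⊕ Fin d) F).mulVec v) (CfsgLib.SpSum.shuffle E (Sum.inl s)) = _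
  rw [blk_mulVec]
  simp only [Function.comp_apply, Equiv.symm_apply_apply, Sum.elim_inl]
  rfl

theorem blkSnd_apply (E : Fin l ⊕ Fin k ≃ Fin d) (A : ↥(Matrix.symplecticGroup (Fin l) F))
    (C : ↥(Matrix.symplecticGroup (Fin k) F)) (v : Fin d ⊕ Fin d → F) :
    blkSnd E (Matrix.toLin' ((CfsgLib.SpSum.blk E (A, C) : ↥(Matrix.symplecticGroup (Fin d) F)) :
        Matrix (Fin d ⊕ Fin d) (Fin d ⊕ Fin d) F) v) =
      Matrix.toLin' (C : Matrix (Fin k ⊕ Fin k) (Fin k ⊕ Fin k) F) (blkSnd E v) := by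
  funext s
  show (((CfsgLib.SpSum.blk E (A, C) : ↥(Matrix.symplecticGroup (Fin d) F)) :
    Matrix (Fin d ⊕ Fin d) (Fin d ⊕ Fin d) F).mulVec v) (CfsgLib.SpSum.shuffle E (Sum.inr s)) = _
  rw [blk_mulVec]
  simp only [Function.comp_apply, Equiv.symm_apply_apply, Sum.elim_inr]
  rfl

theorem blk_form (E : Fin l ⊕ Fin k ≃ Fin d) (u v : Fin d ⊕ Fin d → F) :
    Cfsg.sympForm d F u v = Cfsg.sympForm l F (blkFst E u) (blkFst E v) +
      Cfsg.sympForm k F (blkSnd E u) (blkSnd E v) := by
  simp only [CfsgLib.Forms.sympForm_eq_sum]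
  rw [← E.sum_comp, Fintype.sum_sum_type]
  congr 1

/-- Isotropic invariant subspaces have dimension at most `b`. -/
def IsoBound (g : Module.End F (Fin d ⊕ Fin d → F)) (b : ℕ) : Prop :=
  ∀ Z : Submodule F (Fin d ⊕ Fin d → F), InvBy g Z →
    (∀ u ∈ Z, ∀ v ∈ Z, Cfsg.sympForm d F u v = 0) → finrank F Z ≤ b

/-- The half of the dimension bounds every isotropic subspace. -/
theorem isoBound_half (g : Module.End F (Fin d ⊕ Fin d → F)) : IsoBound g d := fun Z _ hiso => by
  have h1 := LinearMap.BilinForm.finrank_orthogonal (CfsgLib.Forms.sympBilin_nondegenerate (m := d) (F := F)) Z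
  have h2 : finrank F Z ≤ finrank F ((CfsgLib.Forms.sympBilin d F).orthogonal Z) :=
    Submodule.finrank_mono fun v hv x hx => by
      show CfsgLib.Forms.sympBilin d F x v = 0
      rw [CfsgLib.Forms.sympBilin_apply]
      exact hiso x hx v hv
  rw [h1, CfsgLib.Forms.finrank_sympSpace] at h2
  omega

/-- An element killed by `f` with a bound on its isotropic invariant subspaces. -/
def Piece (r : ℕ) (l : ℕ) (f : F[X]) (b : ℕ) : Prop :=
  ∃ A : ↥(Matrix.symplecticGroup (Fin l) F), A ^ r = 1 ∧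
    aeval (Matrix.toLin' (A : Matrix (Fin l ⊕ Fin l) (Fin l ⊕ Fin l) F) : Module.End F _) f = 0 ∧
    IsoBound (Matrix.toLin' (A : Matrix (Fin l ⊕ Fin l) (Fin l ⊕ Fin l) F)) b

variable {r : ℕ}

theorem Piece.add {f f' : F[X]} {b b' : ℕ} (h : Piece r l f b) (h' : Piece r k f' b') (hco : IsCoprime f f')
    (hd : l + k = d) : Piece r d (f * f') (b + b') := by
  obtain ⟨A, hA, hAf, hAb⟩ := h
  obtain ⟨C, hC, hCf, hCb⟩ := h'
  let E : Fin l ⊕ Fin k ≃ Fin d := finSumFinEquiv.trans (finCongr hd)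
  refine ⟨CfsgLib.SpSum.blk E (A, C), by rw [← map_pow, Prod.pow_mk, hA, hC, Prod.mk_one_one, map_one], ?_, ?_⟩
  · refine LinearMap.ext fun v => blk_components_ext E ?_ ?_ <;> rw [LinearMap.zero_apply, map_zero]
    · rw [aeval_intertwine _ (blkFst_apply E A C), map_mul, hAf]; simp
    · rw [aeval_intertwine _ (blkSnd_apply E A C), map_mul, hCf]; simp
  intro Z hZ hiso
  set g : Module.End F (Fin d ⊕ Fin d → F) := Matrix.toLin' ((CfsgLib.SpSum.blk E (A, C) :
    ↥(Matrix.symplecticGroup (Fin d) F)) : Matrix (Fin d ⊕ Fin d) (Fin d ⊕ Fin d) F)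
  have hpol : ∀ P : F[X], ∀ z ∈ Z, aeval g P z ∈ Z := fun P => by
    induction P using Polynomial.induction_on' with
    | add P Q hP hQ => intro z hz; rw [map_add, LinearMap.add_apply]; exact Z.add_mem (hP z hz) (hQ z hz)
    | monomial n a =>
      intro z hz
      rw [aeval_monomial, Module.End.mul_apply, Module.algebraMap_end_apply]
      exact Z.smul_mem _ (hZ.pow n z hz)
  obtain ⟨a, a', haa⟩ := hco
  have hfst : ∀ z ∈ Z, ∃ z1 ∈ Z, blkFst E z1 = blkFst E z ∧ blkSnd E z1 = 0 := fun z hz => by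
    refine ⟨aeval g (a' * f') z, hpol _ z hz, ?_, ?_⟩
    · rw [aeval_intertwine _ (blkFst_apply E A C), show a' * f' = 1 - a * f by linear_combination haa, map_sub, map_one,
        map_mul, hAf]
      simp
    · rw [aeval_intertwine _ (blkSnd_apply E A C), map_mul, hCf]; simp
  have hsnd : ∀ z ∈ Z, ∃ z1 ∈ Z, blkFst E z1 = 0 ∧ blkSnd E z1 = blkSnd E z := fun z hz => by
    refine ⟨aeval g (a * f) z, hpol _ z hz, ?_, ?_⟩
    · rw [aeval_intertwine _ (blkFst_apply E A C), map_mul, hAf]; simp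
    · rw [aeval_intertwine _ (blkSnd_apply E A C), show a * f = 1 - a' * f' by linear_combination haa, map_sub, map_one,
        map_mul, hCf]
      simp
  have h1 : finrank F (Z.map (blkFst E)) ≤ b := by
    refine hAb _ ?_ ?_
    · rintro _ ⟨z, hz, rfl⟩
      exact ⟨g z, hZ z hz, blkFst_apply E A C z⟩
    · rintro _ ⟨z, hz, rfl⟩ _ ⟨z', hz', rfl⟩
      obtain ⟨z1, hz1, e1, e2⟩ := hfst z hz
      have h3 := hiso z1 hz1 z' hz'
      rw [blk_form E, e1, e2] at h3
      simpa [Cfsg.sympForm] using h3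
  have h2 : finrank F (Z.map (blkSnd E)) ≤ b' := by
    refine hCb _ ?_ ?_
    · rintro _ ⟨z, hz, rfl⟩
      exact ⟨g z, hZ z hz, blkSnd_apply E A C z⟩
    · rintro _ ⟨z, hz, rfl⟩ _ ⟨z', hz', rfl⟩
      obtain ⟨z1, hz1, e1, e2⟩ := hsnd z hz
      have h3 := hiso z1 hz1 z' hz'
      rw [blk_form E, e1, e2] at h3
      simpa [Cfsg.sympForm] using h3
  let ψ : Z →ₗ[F] (Z.map (blkFst E)) × (Z.map (blkSnd E)) :=
    LinearMap.prod (LinearMap.codRestrict _ (blkFst E ∘ₗ Z.subtype) fun z => Submodule.mem_map_of_mem z.2)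
      (LinearMap.codRestrict _ (blkSnd E ∘ₗ Z.subtype) fun z => Submodule.mem_map_of_mem z.2)
  have h3 := LinearMap.finrank_le_finrank_of_injective (f := ψ) fun z z' e =>
    Subtype.ext (blk_components_ext E (congrArg (fun y => (y.1 : Fin l ⊕ Fin l → F)) e)
      (congrArg (fun y => (y.2 : Fin k ⊕ Fin k → F)) e))
  rw [Module.finrank_prod] at h3
  omega

/-- Repeating a piece: killed by the same polynomial. -/
theorem Piece.repeat {f : F[X]} {b : ℕ} (h : Piece r l f b) : ∀ j, ∃ A : ↥(Matrix.symplecticGroup (Fin (j * l)) F),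
    A ^ r = 1 ∧ aeval (Matrix.toLin' (A : Matrix (Fin (j * l) ⊕ Fin (j * l)) (Fin (j * l) ⊕ Fin (j * l)) F) :
      Module.End F _) f = 0 := by
  obtain ⟨A, hA, hAf, -⟩ := h
  intro j
  induction j with
  | zero =>
    refine ⟨1, one_pow r, LinearMap.ext fun v => funext fun w => ?_⟩
    rcases w with w | w <;> exact absurd w.2 (by simp)
  | succ j ih =>
    obtain ⟨C, hC, hCf⟩ := ih
    let E : Fin (j * l) ⊕ Fin l ≃ Fin ((j + 1) * l) := finSumFinEquiv.trans (finCongr (Nat.succ_mul j l).symm)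
    refine ⟨CfsgLib.SpSum.blk E (C, A), by rw [← map_pow, Prod.pow_mk, hA, hC, Prod.mk_one_one, map_one], ?_⟩
    refine LinearMap.ext fun v => blk_components_ext E ?_ ?_ <;> rw [LinearMap.zero_apply, map_zero]
    · rw [aeval_intertwine _ (blkFst_apply E C A), hCf]; rfl
    · rw [aeval_intertwine _ (blkSnd_apply E C A), hAf]; rfl

variable [Fintype F] [Fact r.Prime]

/-- Without fixed vectors the bound is rounded down to a multiple of the order of `q`. -/
theorem isoBound_round (hq : (Fintype.card F : ZMod r) ≠ 0) {g : Module.End F (Fin d ⊕ Fin d → F)} (hg : g ^ r = 1)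
    {f : F[X]} (hf : aeval g f = 0) (hf1 : f.eval 1 ≠ 0) {b s : ℕ} (hb : IsoBound g b)
    (hs : b < (s + 1) * orderOf (Fintype.card F : ZMod r)) :
    IsoBound g (s * orderOf (Fintype.card F : ZMod r)) := fun Z hZ hiso => by
  have hfree : fixedIn g Z = ⊥ := (Submodule.eq_bot_iff _).mpr fun v hv => by
    have hgv := (mem_fixedIn.mp hv).2
    have h1 : ∀ P : F[X], aeval g P v = P.eval 1 • v := fun P => by
      induction P using Polynomial.induction_on' with
      | add P Q hP hQ => simp [hP, hQ, add_smul]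
      | monomial n a =>
        have hn : ∀ n : ℕ, (g ^ n) v = v := fun n => by
          induction n with
          | zero => rfl
          | succ n ih => rw [pow_succ, Module.End.mul_apply, hgv, ih]
        simp [aeval_monomial, hn]
    have h2 := h1 f
    rw [hf, LinearMap.zero_apply] at h2
    exact (smul_eq_zero.mp h2.symm).resolve_left hf1
  obtain ⟨j, hj⟩ := orderOf_dvd_finrank_sub hg hq hZ
  rw [hfree, finrank_bot, Nat.sub_zero] at hj
  have h3 := hb Z hZ hiso
  rw [hj, mul_comm] at h3 ⊢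
  have h4 : j < s + 1 := Nat.lt_of_mul_lt_mul_right (h3.trans_lt hs)
  exact Nat.mul_le_mul_right _ (Nat.lt_succ_iff.mp h4)

end

end CfsgLib.LinearElements
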