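import Cfsg.Agent.LinearElements.QuadType
import Cfsg.Agent.LinearElements.SympIsotropic

/-!
Isometries of odd prime order `r` of quadratic forms: fixed space, smallest blocks and their types.  On the moved part
the alternating form `(u, v) ↦ B(g u - g⁻¹ u, v)` has the same invariant nondegenerate and totally isotropic subspaces.
-/

set_option autoImplicit false

namespace CfsgLib.OrthAtoms

open Module Submodule CfsgLib.LinearElements CfsgLib.QuadType

variable {F V : Type*} [Field F] [AddCommGroup V] [Module F V] {Q : QuadraticForm F V} {g : Module.End F V}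

local notation "𝔅" => QuadraticMap.polarBilin Q

/-- The type of a sum of `j` smallest blocks. -/
def sgn (i j : ℕ) : Prop := Odd i ∨ Even j

theorem sgn_add (i a b : ℕ) : sgn i (a + b) ↔ (sgn i a ↔ sgn i b) := by
  unfold sgn
  rcases Nat.even_or_odd i with h | h
  · simp only [Nat.not_odd_iff_even.mpr h, false_or, Nat.even_add]
  · simp [h]

theorem sgn_zero (i : ℕ) : sgn i 0 := Or.inr Even.zero

theorem sgn_one (i : ℕ) : sgn i 1 ↔ Odd i := by simp [sgn]

theorem polar_iso (hg : ∀ v, Q (g v) = Q v) (u v : V) : 𝔅 (g u) (g v) = 𝔅 u v := by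
  have h1 := map_add' (Q := Q) (g u) (g v)
  rw [← map_add, hg, hg, hg, map_add' (Q := Q)] at h1
  linear_combination -h1

section
variable [Fintype F] {r : ℕ} (hg : ∀ v, Q (g v) = Q v) (hgr : g ^ r = 1) (hr : 0 < r)
include hg hgr hr

theorem polar_adjoint (u v : V) : 𝔅 ((g ^ (r - 1)) u) v = 𝔅 u (g v) := by
  conv_rhs => rw [show u = g ((g ^ (r - 1)) u) by
    rw [← Module.End.mul_apply, ← pow_succ', Nat.sub_add_cancel hr, hgr, Module.End.one_apply], polar_iso hg]

/-- The twisted form. -/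
noncomputable def twist (Q : QuadraticForm F V) (g : Module.End F V) (r : ℕ) : LinearMap.BilinForm F V :=
  (QuadraticMap.polarBilin Q).comp (g - g ^ (r - 1))

omit hg hgr hr in
theorem twist_apply (u v : V) : twist Q g r u v = 𝔅 (g u) v - 𝔅 ((g ^ (r - 1)) u) v := by
  simp [twist, LinearMap.BilinForm.comp, map_sub]

theorem twist_isAlt : (twist Q g r).IsAlt := fun v => by
  rw [twist_apply, polar_adjoint hg hgr hr, polar_swap, sub_self]

theorem twist_iso (u v : V) : twist Q g r (g u) (g v) = twist Q g r u v := by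
  have hc : (g ^ (r - 1)) (g u) = g ((g ^ (r - 1)) u) := by
    rw [← Module.End.mul_apply, ← Module.End.mul_apply, (Commute.self_pow g (r - 1)).eq]
  rw [twist_apply, twist_apply, polar_iso hg, hc, polar_iso hg]

omit hg hr in
theorem twist_bijOn [FiniteDimensional F V] [Fact r.Prime] (hr2 : r ≠ 2) {W : Submodule F V} (hW : InvBy g W)
    (hW0 : fixedIn g W = ⊥) : ∀ w ∈ W, ∃ w' ∈ W, (g - g ^ (r - 1)) w' = w := by
  have hT : ∀ v ∈ W, (g - g ^ (r - 1)) v ∈ W := fun v hv => W.sub_mem (hW v hv) (hW.pow _ v hv)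
  let T : W →ₗ[F] W := (g - g ^ (r - 1)).restrict hT
  have hinj : Function.Injective T := by
    rw [← LinearMap.ker_eq_bot, Submodule.eq_bot_iff]
    intro v hv
    have h0 : g (v : V) = (g ^ (r - 1)) (v : V) := sub_eq_zero.mp (congrArg Subtype.val (LinearMap.mem_ker.mp hv))
    have h3 : (g ^ 2) (v : V) = v := by
      rw [pow_two, Module.End.mul_apply, h0, ← Module.End.mul_apply, ← pow_succ',
        Nat.sub_add_cancel (Fact.out : r.Prime).pos, hgr, Module.End.one_apply]
    have h2 : ∀ k, (g ^ (2 * k)) (v : V) = v := fun k => by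
      induction k with
      | zero => simp
      | succ k ih => rw [Nat.mul_succ, pow_add, Module.End.mul_apply, h3, ih]
    obtain ⟨k, hk⟩ := (Fact.out : r.Prime).odd_of_ne_two hr2
    have h4 := LinearMap.congr_fun hgr (g v)
    rw [← Module.End.mul_apply, ← pow_succ, Module.End.one_apply, hk, show 2 * k + 1 + 1 = 2 * (k + 1) by ring, h2] at h4
    exact Subtype.ext ((Submodule.eq_bot_iff _).mp hW0 v (mem_fixedIn.mpr ⟨v.2, h4.symm⟩))
  intro w hw
  obtain ⟨w', hw'⟩ := (LinearMap.injective_iff_surjective.mp hinj) ⟨w, hw⟩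
  exact ⟨w', w'.2, congrArg Subtype.val hw'⟩

omit hg hr in
theorem sepOn_twist_iff [FiniteDimensional F V] [Fact r.Prime] (hr2 : r ≠ 2) {W : Submodule F V} (hW : InvBy g W)
    (hW0 : fixedIn g W = ⊥) : SepOn (twist Q g r) W ↔ Sep Q W := by
  constructor
  · intro h w hw hw0
    obtain ⟨w', hw', rfl⟩ := twist_bijOn hgr hr2 hW hW0 w hw
    obtain ⟨y, hy, hwy⟩ := h w' hw' fun e => hw0 (by rw [e, map_zero])
    exact ⟨y, hy, by simpa [twist_apply] using hwy⟩
  · intro h w hw hw0
    have hne : (g - g ^ (r - 1)) w ≠ 0 := fun e => by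
      obtain ⟨w', hw', he⟩ := twist_bijOn hgr hr2 hW hW0 w hw
      have hT : ∀ v ∈ W, (g - g ^ (r - 1)) v ∈ W := fun v hv => W.sub_mem (hW v hv) (hW.pow _ v hv)
      have hsurj : Function.Surjective ((g - g ^ (r - 1)).restrict hT) := fun z => by
        obtain ⟨z', hz', hz⟩ := twist_bijOn hgr hr2 hW hW0 z z.2
        exact ⟨⟨z', hz'⟩, Subtype.ext hz⟩
      have := (LinearMap.injective_iff_surjective.mpr hsurj) (a₁ := ⟨w, hw⟩) (a₂ := 0) (Subtype.ext (by simp [e]))
      exact hw0 (congrArg Subtype.val this)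
    obtain ⟨y, hy, hwy⟩ := h _ (W.sub_mem (hW w hw) (hW.pow _ w hw)) hne
    exact ⟨y, hy, by simpa [twist_apply] using hwy⟩

omit hg hr in
/-- Orthogonality of invariant subspaces for the twisted form is orthogonality. -/
theorem orth_of_twist [FiniteDimensional F V] [Fact r.Prime] (hr2 : r ≠ 2) {X Y : Submodule F V} (hX : InvBy g X)
    (hX0 : fixedIn g X = ⊥) (h : ∀ x ∈ X, ∀ y ∈ Y, twist Q g r x y = 0) : ∀ x ∈ X, ∀ y ∈ Y, 𝔅 x y = 0 := by
  intro x hx y hy
  obtain ⟨x', hx', rfl⟩ := twist_bijOn hgr hr2 hX hX0 x hx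
  simpa [twist_apply] using h x' hx' y hy

omit hgr hr in
/-- A totally isotropic invariant subspace without fixed vectors is totally singular. -/
theorem singular_of_isotropic [FiniteDimensional F V] {Z : Submodule F V} (hZ : InvBy g Z) (hZ0 : fixedIn g Z = ⊥)
    (hiso : ∀ u ∈ Z, ∀ v ∈ Z, 𝔅 u v = 0) : ∀ u ∈ Z, Q u = 0 := by
  have hT : ∀ v ∈ Z, (g - 1) v ∈ Z := fun v hv => Z.sub_mem (hZ v hv) hv
  let T : Z →ₗ[F] Z := (g - 1).restrict hT
  have hinj : Function.Injective T := by
    rw [← LinearMap.ker_eq_bot, Submodule.eq_bot_iff]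
    intro v hv
    exact Subtype.ext ((Submodule.eq_bot_iff _).mp hZ0 v
      (mem_fixedIn.mpr ⟨v.2, sub_eq_zero.mp (congrArg Subtype.val (LinearMap.mem_ker.mp hv))⟩))
  intro u hu
  obtain ⟨v, hv⟩ := (LinearMap.injective_iff_surjective.mp hinj) ⟨u, hu⟩
  have hu' : u = g (v : V) + (-1 : F) • (v : V) := by
    have := congrArg Subtype.val hv
    rw [← show (g - 1) (v : V) = u from this, LinearMap.sub_apply, Module.End.one_apply, neg_one_smul, sub_eq_add_neg]
  rw [hu', map_add' (Q := Q), smul_quad, hg, map_smul, hiso _ (hZ _ v.2) _ v.2, smul_zero, add_zero]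
  have h := polar_diag (Q := Q) (v : V)
  rw [hiso _ v.2 _ v.2] at h
  linear_combination -h

/-- The fixed part of a nondegenerate invariant subspace and its moved complement. -/
theorem exists_split_moved [FiniteDimensional F V] (hrF : (r : F) ≠ 0) {W : Submodule F V} (hW : InvBy g W)
    (hWs : Sep Q W) :
    Sep Q (fixedIn g W) ∧ ∃ M, M ≤ W ∧ InvBy g M ∧ Sep Q M ∧ fixedIn g M = ⊥ ∧
      (∀ x ∈ fixedIn g W, ∀ y ∈ M, 𝔅 x y = 0) ∧ fixedIn g W ⊔ M = W ∧
      finrank F W = finrank F (fixedIn g W) + finrank F M := by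
  have hfs : Sep Q (fixedIn g W) := by
    intro w hw hw0
    obtain ⟨hwW, hgw⟩ := mem_fixedIn.mp hw
    obtain ⟨y, hy, hwy⟩ := hWs w hwW hw0
    refine ⟨(∑ k ∈ Finset.range r, g ^ k) y, mem_fixedIn.mpr ⟨?_, ?_⟩, ?_⟩
    · rw [LinearMap.sum_apply]
      exact Submodule.sum_mem _ fun k _ => hW.pow k y hy
    · have h2 := mul_geom_sum g r
      rw [hgr, sub_self, sub_mul, one_mul, sub_eq_zero] at h2
      exact congrArg (fun f : Module.End F V => f y) h2
    · have hk : ∀ k : ℕ, 𝔅 w ((g ^ k) y) = 𝔅 w y := fun k => by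
        induction k with
        | zero => simp
        | succ k ih =>
          rw [pow_succ', Module.End.mul_apply]
          conv_lhs => rw [← hgw]
          rw [polar_iso hg, ih]
      rw [LinearMap.sum_apply, map_sum, Finset.sum_congr rfl fun k _ => hk k, Finset.sum_const, Finset.card_range,
        nsmul_eq_mul]
      exact mul_ne_zero hrF hwy
  obtain ⟨M, hMW, hMs, horth, hsup, hd, hmem⟩ := exists_perp hWs hfs inf_le_left
  have hM : InvBy g M := fun y hy => hmem _ (hW y (hMW hy)) fun x hx => by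
    rw [← (mem_fixedIn.mp hx).2, polar_iso hg]
    exact horth x hx y hy
  refine ⟨hfs, M, hMW, hM, hMs, ?_, horth, hsup, hd⟩
  rw [← le_bot_iff, ← orth_inf_bot hfs horth]
  exact le_inf (inf_le_inf_right _ hMW) inf_le_left

end

section
variable [Fintype F] [Finite V] [FiniteDimensional F V] {r : ℕ} [Fact r.Prime] (hg : ∀ v, Q (g v) = Q v)
  (hgr : g ^ r = 1) (hr2 : r ≠ 2) (hrF : (r : F) ≠ 0) (hq : (Fintype.card F : ZMod r) ≠ 0)
  {c : ℕ} (hc : c = if Even (orderOf (Fintype.card F : ZMod r)) then orderOf (Fintype.card F : ZMod r)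
    else 2 * orderOf (Fintype.card F : ZMod r))

include hg hgr hr2 hrF hq hc

omit hg hgr hrF in
theorem atom_pos : 0 < c := CfsgLib.LinearElements.atom_dim_pos hq hc

/-- The smallest blocks with their type. -/
theorem exists_orth_atom {M : Submodule F V} (hM : InvBy g M) (hMs : Sep Q M) (hM0 : fixedIn g M = ⊥) (hne : M ≠ ⊥) :
    ∃ X, X ≤ M ∧ InvBy g X ∧ Sep Q X ∧ fixedIn g X = ⊥ ∧ finrank F X = c ∧
      (Plus Q X ↔ Odd (orderOf (Fintype.card F : ZMod r))) := by
  classical
  have hr := (Fact.out : r.Prime)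
  have hA := twist_isAlt hg hgr hr.pos
  have hgB := twist_iso hg hgr hr.pos
  obtain ⟨X, hXM, hX, hXs', hXd⟩ := exists_atom hA hgB hgr hr2 hrF hq hc hM
    ((sepOn_twist_iff hgr hr2 hM hM0).mpr hMs) hM0 hne
  have hX0 : fixedIn g X = ⊥ := le_bot_iff.mp ((inf_le_inf_right _ hXM).trans hM0.le)
  have hXs := (sepOn_twist_iff hgr hr2 hX hX0).mp hXs'
  refine ⟨X, hXM, hX, hXs, hX0, hXd, ?_⟩
  set i := orderOf (Fintype.card F : ZMod r) with hi
  rcases Nat.even_or_odd i with hev | hodd
  swap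
  · refine iff_of_true ?_ hodd
    have hcv : c = 2 * i := by rw [hc, if_neg (Nat.not_even_iff_odd.mpr hodd)]
    obtain ⟨Z, hZX, hZ, hZd, hZiso⟩ := exists_isotropic_sum hA hgB hgr hq hr2 hrF 1 X hX hXs' hX0
      (Or.inl ⟨hodd, by rw [hXd, hcv, mul_one]⟩)
    have hZ0 : fixedIn g Z = ⊥ := le_bot_iff.mp ((inf_le_inf_right _ hZX).trans hX0.le)
    exact ⟨Z, hZX, singular_of_isotropic hg hZ hZ0 (orth_of_twist hgr hr2 hZ hZ0 hZiso),
      by rw [hXd, hcv, hZd, one_mul]⟩
  · refine iff_of_false (fun hplus => ?_) (Nat.not_odd_iff_even.mpr hev)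
    obtain ⟨h, hh⟩ := hev
    have hcv : c = 2 * h := by rw [hc, if_pos ⟨h, hh⟩]; omega
    have hXd' : finrank F X = 2 * h := hXd.trans hcv
    set q := Fintype.card F
    -- the number of singular vectors of a subspace of plus type
    haveI := Fintype.ofFinite X
    let S := {x : X // Q (x : V) = 0}
    let f : Function.End S := fun x => ⟨⟨g x.1, hX _ x.1.2⟩, (hg _).trans x.2⟩
    have hfpow : ∀ (k : ℕ) (x : S), (((f ^ k) x).1 : V) = (g ^ k) (x.1 : V) := fun k => by
      induction k with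
      | zero => intro x; rfl
      | succ k ih => intro x; rw [pow_succ, pow_succ, Module.End.mul_apply]; exact ih (f x)
    have hf : f ^ r ^ 1 = 1 := funext fun x => Subtype.ext (Subtype.ext (by
      rw [pow_one, hfpow, hgr]; rfl))
    have hmod := Equiv.Perm.card_fixedPoints_modEq hf
    have hone : Fintype.card (Function.fixedPoints f) = 1 := by
      refine Fintype.card_eq_one_iff.mpr ⟨⟨⟨0, by simp⟩, Subtype.ext (Subtype.ext (map_zero g))⟩, fun ⟨x, hx⟩ => ?_⟩
      refine Subtype.ext (Subtype.ext (Subtype.ext ?_))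
      exact (Submodule.eq_bot_iff _).mp hX0 _
        (mem_fixedIn.mpr ⟨x.1.2, congrArg (fun y : S => (y.1 : V)) hx⟩)
    rw [hone] at hmod
    have hcount : (q : ℂ) * (Fintype.card S : ℂ) = (q : ℂ) ^ (2 * h) + ((q : ℂ) - 1) * (q : ℂ) ^ h := by
      have hpol : ∀ (a : F) (u v : V), QuadraticMap.polarBilin (a • Q) u v = a * 𝔅 u v := fun a u v => by
        simp only [QuadraticMap.polarBilin_apply_apply, QuadraticMap.polar, QuadraticMap.smul_apply, smul_eq_mul]
        ring
      have hga : ∀ a : F, a ≠ 0 → gauss (a • Q) X = (q : ℂ) ^ h := fun a ha => by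
        refine (gauss_eq h (Q := a • Q) (fun w hw hw0 => ?_) hXd').1 ?_
        · obtain ⟨y, hy, hwy⟩ := hXs w hw hw0
          exact ⟨y, hy, by rw [hpol]; exact mul_ne_zero ha hwy⟩
        · obtain ⟨U, hUX, hU, hUd⟩ := hplus
          exact ⟨U, hUX, fun u hu => by simp [hU u hu], hUd⟩
      have h1 : ∑ a : F, gauss (a • Q) X = (q : ℂ) * (Fintype.card S : ℂ) := by
        simp only [gauss, finsum_eq_sum_of_fintype, QuadraticMap.smul_apply, smul_eq_mul]
        have e : ∀ w : X, ∑ a : F, AddChar.FiniteField.primitiveChar_to_Complex F (a * Q (w : V)) =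
            if Q (w : V) = 0 then (q : ℂ) else 0 := fun w => by
          rw [AddChar.sum_mulShift (Q (w : V)) (AddChar.FiniteField.primitiveChar_to_Complex_isPrimitive F)]
          split_ifs <;> simp [q]
        rw [Finset.sum_comm]
        simp only [e]
        rw [Fintype.card_subtype, Finset.natCast_card_filter, Finset.mul_sum]
        exact Finset.sum_congr rfl fun w _ => by split_ifs <;> simp [q]
      rw [← h1, ← Finset.add_sum_erase _ _ (Finset.mem_univ (0 : F)),
        Finset.sum_congr rfl fun a ha => hga a (Finset.ne_of_mem_erase ha), Finset.sum_const,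
        Finset.card_erase_of_mem (Finset.mem_univ (0 : F)), Finset.card_univ, nsmul_eq_mul,
        Nat.cast_sub (Nat.one_le_iff_ne_zero.mpr Fintype.card_ne_zero), Nat.cast_one]
      congr 1
      simp only [gauss, finsum_eq_sum_of_fintype, QuadraticMap.smul_apply, zero_smul, QuadraticMap.zero_apply, AddChar.map_zero_eq_one,
        Finset.sum_const, Finset.card_univ, nsmul_eq_mul, mul_one]
      rw [Module.card_eq_pow_finrank (K := F) (V := X), hXd', Nat.cast_pow]
    have hq1' : 1 ≤ q := Nat.one_le_iff_ne_zero.mpr Fintype.card_ne_zero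
    have hnat : q * Fintype.card S = q ^ (2 * h) + (q - 1) * q ^ h := by
      have h1 : ((q * Fintype.card S : ℕ) : ℂ) = ((q ^ (2 * h) + (q - 1) * q ^ h : ℕ) : ℂ) := by
        push_cast [Nat.cast_sub hq1']
        exact hcount
      exact_mod_cast h1
    have hz := congrArg (fun x : ℕ => (x : ZMod r)) hnat
    have hS1 : (Fintype.card S : ZMod r) = 1 := by rw [(ZMod.natCast_eq_natCast_iff _ _ r).mpr hmod, Nat.cast_one]
    have hpow : ((q : ZMod r)) ^ (2 * h) = 1 := by rw [show 2 * h = i by omega, hi, pow_orderOf_eq_one]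
    have hi0 : 0 < i := by have := atom_pos hr2 hq hc; omega
    have hneg : (q : ZMod r) ^ h = -1 := by
      rcases mul_self_eq_one_iff.mp (show (q : ZMod r) ^ h * (q : ZMod r) ^ h = 1 by rw [← pow_add, ← two_mul, hpow])
        with h2 | h2
      · exact absurd (hi ▸ orderOf_dvd_of_pow_eq_one h2) (Nat.not_dvd_of_pos_of_lt (by omega) (by omega))
      · exact h2
    simp only [Nat.cast_mul, Nat.cast_add, Nat.cast_pow, hS1, hpow, hneg,
      Nat.cast_sub hq1', Nat.cast_one] at hz
    have h2q : (2 : ZMod r) * ((q : ZMod r) - 1) = 0 := by linear_combination hz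
    have h2r : (2 : ZMod r) ≠ 0 := fun e => by
      have : ((2 : ℕ) : ZMod r) = 0 := by exact_mod_cast e
      rw [ZMod.natCast_eq_zero_iff] at this
      exact hr2 ((Nat.prime_dvd_prime_iff_eq hr Nat.prime_two).mp this)
    have hq1 : (q : ZMod r) = 1 := sub_eq_zero.mp ((mul_eq_zero.mp h2q).resolve_left h2r)
    have : i = 1 := by rw [hi, hq1, orderOf_one]
    omega

/-- The moved part is a sum of blocks. -/
theorem moved_type : ∀ (n : ℕ) {M : Submodule F V}, finrank F M = n → InvBy g M → Sep Q M → fixedIn g M = ⊥ →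
    ∃ j, n = j * c ∧ (Plus Q M ↔ sgn (orderOf (Fintype.card F : ZMod r)) j) ∧
      ∀ k, k ≤ j → ∃ X, X ≤ M ∧ InvBy g X ∧ Sep Q X ∧ fixedIn g X = ⊥ ∧ finrank F X = k * c := by
  intro n
  induction n using Nat.strong_induction_on with
  | _ n ih =>
  intro M hn hM hMs hM0
  rcases eq_or_ne M ⊥ with rfl | hne
  · refine ⟨0, by rw [← hn, finrank_bot, zero_mul], iff_of_true plus_bot (sgn_zero _),
      fun k hk => ⟨⊥, le_rfl, invBy_bot, sep_bot, hM0, ?_⟩⟩
    rw [Nat.le_zero.mp hk, zero_mul, finrank_bot]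
  obtain ⟨X, hXM, hX, hXs, hX0, hXd, hXt⟩ := exists_orth_atom hg hgr hr2 hrF hq hc hM hMs hM0 hne
  obtain ⟨Y, hYM, hYs, horth, hsup, hd, hmem⟩ := exists_perp hMs hXs hXM
  have hr := (Fact.out : r.Prime)
  have hY : InvBy g Y := fun y hy => hmem _ (hM y (hYM hy)) fun x hx => by
    rw [← polar_adjoint hg hgr hr.pos]
    exact horth _ (hX.pow _ x hx) y hy
  have hY0 : fixedIn g Y = ⊥ := le_bot_iff.mp ((inf_le_inf_right _ hYM).trans hM0.le)
  have hcpos := atom_pos hr2 hq hc
  obtain ⟨j, hj, hjt, hjsub⟩ := ih (finrank F Y) (by omega) rfl hY hYs hY0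
  refine ⟨j + 1, by rw [← hn, hd, hXd, hj]; ring, ?_, fun k hk => ?_⟩
  · have hce : Even c := by
      rw [hc]; split_ifs with he
      exacts [he, even_two_mul _]
    rw [← hsup, plus_sup_iff hXs hYs horth (hXd ▸ hce) (hj ▸ hce.mul_left j), hXt, hjt, add_comm j 1, sgn_add,
      sgn_one]
  · rcases Nat.eq_zero_or_pos k with rfl | hk0
    · exact ⟨⊥, bot_le, invBy_bot, sep_bot, le_bot_iff.mp inf_le_left, by rw [zero_mul, finrank_bot]⟩
    obtain ⟨Z, hZY, hZ, hZs, -, hZd⟩ := hjsub (k - 1) (by omega)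
    have ho : ∀ x ∈ X, ∀ z ∈ Z, 𝔅 x z = 0 := fun x hx z hz => horth x hx z (hZY hz)
    refine ⟨X ⊔ Z, sup_le hXM (hZY.trans hYM), hX.sup hZ, sep_sup hXs hZs ho,
      le_bot_iff.mp ((inf_le_inf_right _ (sup_le hXM (hZY.trans hYM))).trans hM0.le), ?_⟩
    rw [finrank_orth_sup hXs ho, hXd, hZd]
    obtain ⟨k', rfl⟩ : ∃ k', k = k' + 1 := ⟨k - 1, by omega⟩
    rw [Nat.add_sub_cancel]
    ring

end

end CfsgLib.OrthAtoms
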