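import Cfsg.Agent.LinearElements.OrthFix
import Cfsg.Prelude.Def_GeometricClasses

/-!
Even dimension, odd primes: fixed nondegenerate subspaces of even and of odd dimension, with the arithmetic conditions.
-/

set_option autoImplicit false

namespace CfsgLib.OrthEvenDim

open Module Submodule CfsgLib.LinearElements CfsgLib.QuadType CfsgLib.OrthAtoms CfsgLib.OrthPrimePower CfsgLib.OrthFix

theorem frozen_nondeg {F : Type*} [Field F] {ι : Type} [Fintype ι] [DecidableEq ι] (Q : QuadraticForm F (ι → F))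
    (W : Submodule F (ι → F)) : Cfsg.Geo.IsNondegenerateOn (QuadraticMap.polar ⇑Q) W ↔ Sep Q W := by
  refine ⟨fun h w hw hw0 => (h w hw hw0).2, fun h w hw hw0 => ?_⟩
  obtain ⟨y, hy, hwy⟩ := h w hw hw0
  exact ⟨⟨y, hy, by rw [QuadraticMap.polar_comm]; exact hwy⟩, y, hy, hwy⟩

theorem div_mod_le {n c a : ℕ} (h : a * c ≤ n) (hc : 0 < c) : a ≤ n / c ∧ n % c ≤ n - a * c := by
  have ha := (Nat.le_div_iff_mul_le hc).mpr h
  refine ⟨ha, ?_⟩
  have h1 := Nat.mul_le_mul_right c ha
  have h2 := Nat.div_add_mod n c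
  rw [Nat.mul_comm] at h2
  omega

/-- If the remainder is below `c`, the quotient is determined. -/
theorem eq_div {n c a : ℕ} (h : a * c ≤ n) (hlt : n < a * c + c) : a = n / c ∧ n - a * c = n % c := by
  have hc : 0 < c := by omega
  obtain ⟨ha, -⟩ := div_mod_le h hc
  have h2 := Nat.div_add_mod n c
  rw [Nat.mul_comm] at h2
  have : a = n / c := by
    refine le_antisymm ha (le_of_not_gt fun hcon => ?_)
    have := Nat.mul_le_mul_right c (show a + 1 ≤ n / c by omega)
    rw [add_mul, one_mul] at this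
    omega
  exact ⟨this, by subst this; omega⟩

/-- The arithmetic condition for even dimension and even subspaces. -/
theorem good_even_iff {n c i h : ℕ} (hc : 0 < c) (hn : Even n) (hcn : c ≤ n) (hh : 0 < h) (hhn : 2 * h < n)
    {PV T : Prop} (hexcl : ∃ j, j * c ≤ n ∧ (n = j * c → (PV ↔ sgn i j)) ∧
      (n - j * c < 2 * h ∨ (n - j * c = 2 * h ∧ ¬ ((PV ↔ sgn i j) ↔ T)))) :
    (∀ j, 1 ≤ j → j * c ≤ n → (n = j * c → (PV ↔ sgn i j)) → Good n c i j (2 * h) PV T) ↔
      ((n % c = 0 ∧ ((PV ↔ sgn i (n / c)) → (2 * h) % c = 0 ∧ (sgn i (2 * h / c) ↔ T))) ∨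
       (0 < n % c ∧ c ≤ 2 * h ∧ (((2 * h) % c < n % c ∧ ((2 * h) % c = 0 → (sgn i (2 * h / c) ↔ T))) ∨
          ((2 * h) % c = n % c ∧ (((PV ↔ sgn i (n / c)) ↔ sgn i (2 * h / c)) ↔ T))))) := by
  have hm := Nat.div_add_mod (2 * h) c
  have hk := Nat.div_add_mod n c
  have hml := Nat.mod_lt (2 * h) hc
  have hkl := Nat.mod_lt n hc
  rw [Nat.mul_comm] at hm hk
  constructor
  · intro hall
    rcases Nat.eq_zero_or_pos (n % c) with h0 | hpos
    · refine Or.inl ⟨h0, fun hmatch => ?_⟩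
      obtain ⟨a, haJ, ham, hgood⟩ := hall (n / c) ((Nat.one_le_div_iff hc).mpr hcn) (by omega) fun _ => hmatch
      rcases hgood with ⟨hlt, -⟩ | ⟨heq, -, ht⟩
      · omega
      · obtain ⟨rfl, he⟩ := eq_div ham (by omega)
        refine ⟨by omega, ?_⟩
        rw [iff_true_left hmatch] at ht
        exact ht
    · obtain ⟨a, haJ, ham, hgood⟩ := hall (n / c) ((Nat.one_le_div_iff hc).mpr hcn) (by omega) fun e => by omega
      have hea : a = 2 * h / c ∧ 2 * h - a * c = (2 * h) % c := eq_div ham (by rcases hgood with h1 | h1 <;> omega)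
      obtain ⟨rfl, he⟩ := hea
      refine Or.inr ⟨hpos, ?_, ?_⟩
      · by_contra hcm
        obtain ⟨j, hj, -, hf⟩ := hexcl
        obtain ⟨rfl, hje⟩ := eq_div hj (by rcases hf with h1 | h1 <;> omega)
        rw [Nat.mod_eq_of_lt (by omega : 2 * h < c)] at hm he
        rcases hf with h1 | ⟨h1, h2⟩
        · rcases hgood with h3 | h3 <;> omega
        · rcases hgood with h3 | ⟨-, -, h3⟩
          · omega
          · rw [Nat.div_eq_of_lt (by omega : 2 * h < c)] at h3
            rw [iff_true_right (sgn_zero i)] at h3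
            exact h2 h3
      · rcases hgood with ⟨hlt, h0⟩ | ⟨heq, -, ht⟩
        · exact Or.inl ⟨by omega, fun e => h0 (by omega)⟩
        · exact Or.inr ⟨by omega, ht⟩
  · intro hR j hj1 hjn hjt
    obtain ⟨hjJ, hjk⟩ := div_mod_le hjn hc
    have hjJc := Nat.mul_le_mul_right c hjJ
    rcases le_or_gt (2 * h / c) j with hMj | hMj
    swap
    · have := Nat.mul_le_mul_right c (show j + 1 ≤ 2 * h / c by omega)
      rw [add_mul, one_mul] at this
      exact ⟨j, le_rfl, by omega, Or.inl ⟨by omega, fun e => by omega⟩⟩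
    have hstep : j < n / c → j * c + c ≤ n / c * c := fun hlt => by
      have := Nat.mul_le_mul_right c (show j + 1 ≤ n / c by omega)
      rwa [add_mul, one_mul] at this
    rcases hR with ⟨hk0, hR⟩ | ⟨hpos, -, ⟨hlt, h0⟩ | ⟨heq, ht⟩⟩
    · rcases hjJ.lt_or_eq with hlt | rfl
      · have := hstep hlt
        rcases Nat.eq_zero_or_pos ((2 * h) % c) with hl0 | hl0
        swap
        · exact ⟨2 * h / c, hMj, by omega, Or.inl ⟨by omega, fun e => by omega⟩⟩
        by_cases hMT : sgn i (2 * h / c) ↔ T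
        · exact ⟨2 * h / c, hMj, by omega, Or.inl ⟨by omega, fun _ => hMT⟩⟩
        obtain ⟨M, hM⟩ : ∃ M, 2 * h / c = M + 1 := ⟨2 * h / c - 1, by
          have : 2 * h / c ≠ 0 := fun e => by rw [e] at hm; omega
          exact (Nat.sub_add_cancel (Nat.one_le_iff_ne_zero.mpr this)).symm⟩
        rw [hM] at hm hMj hMT
        have hmul : (M + 1) * c = M * c + c := by ring
        rcases Nat.lt_or_ge (j * c + c) (n / c * c) with hfc | hfc
        · exact ⟨M, by omega, by omega, Or.inl ⟨by omega, fun e => by omega⟩⟩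
        · refine ⟨M, by omega, by omega, Or.inr ⟨by omega, hn, ?_⟩⟩
          have hJ : n / c = j + 1 := by
            refine le_antisymm (le_of_not_gt fun hcon => ?_) hlt
            have := Nat.mul_le_mul_right c (show j + 2 ≤ n / c by omega)
            rw [add_mul] at this
            omega
          have hnm : ¬ (PV ↔ sgn i (n / c)) := fun hmatch => hMT (hM ▸ (hR hmatch).2)
          rw [hJ, sgn_add] at hnm
          rw [sgn_add] at hMT
          by_cases h1 : PV <;> by_cases h2 : sgn i j <;> by_cases h3 : sgn i M <;> by_cases h4 : sgn i 1 <;>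
            by_cases h5 : T <;> simp_all
      · have hmatch := hjt (by omega)
        obtain ⟨hl0, hMT⟩ := hR hmatch
        exact ⟨2 * h / c, hMj, by omega, Or.inr ⟨by omega, hn, by rw [iff_true_left hmatch]; exact hMT⟩⟩
    · exact ⟨2 * h / c, hMj, by omega, Or.inl ⟨by omega, fun e => h0 (by omega)⟩⟩
    · rcases hjJ.lt_or_eq with hlt | rfl
      · have := hstep hlt
        exact ⟨2 * h / c, hMj, by omega, Or.inl ⟨by omega, fun e => by omega⟩⟩
      · exact ⟨2 * h / c, hMj, by omega, Or.inr ⟨by omega, hn, ht⟩⟩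

/-- The condition for subspaces of odd dimension. -/
def GoodOdd (n c j m : ℕ) : Prop := ∃ a, a ≤ j ∧ a * c ≤ m ∧ m - a * c < n - j * c

/-- The arithmetic condition for even dimension and odd subspaces. -/
theorem good_odd_iff {n c i m : ℕ} (hc : 0 < c) (hcn : c ≤ n) (hmn : m < n) {PV : Prop}
    (hexcl : ∃ j, j * c ≤ n ∧ (n = j * c → (PV ↔ sgn i j)) ∧ n - j * c < m) :
    (∀ j, 1 ≤ j → j * c ≤ n → (n = j * c → (PV ↔ sgn i j)) → GoodOdd n c j m) ↔
      ((n % c = 0 ∧ ¬ (PV ↔ sgn i (n / c))) ∨ (0 < n % c ∧ c ≤ m ∧ m % c < n % c)) := by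
  have hm := Nat.div_add_mod m c
  have hk := Nat.div_add_mod n c
  have hml := Nat.mod_lt m hc
  have hkl := Nat.mod_lt n hc
  rw [Nat.mul_comm] at hm hk
  constructor
  · intro hall
    rcases Nat.eq_zero_or_pos (n % c) with h0 | hpos
    · refine Or.inl ⟨h0, fun hmatch => ?_⟩
      obtain ⟨a, -, -, hlt⟩ := hall (n / c) ((Nat.one_le_div_iff hc).mpr hcn) (by omega) fun _ => hmatch
      omega
    · obtain ⟨a, haJ, ham, hlt⟩ := hall (n / c) ((Nat.one_le_div_iff hc).mpr hcn) (by omega) fun e => by omega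
      obtain ⟨rfl, he⟩ := eq_div ham (by omega)
      refine Or.inr ⟨hpos, ?_, by omega⟩
      by_contra hcm
      obtain ⟨j, hj, -, hf⟩ := hexcl
      obtain ⟨rfl, hje⟩ := eq_div hj (by omega)
      rw [Nat.mod_eq_of_lt (by omega : m < c)] at he
      omega
  · intro hR j _ hjn hjt
    obtain ⟨hjJ, hjk⟩ := div_mod_le hjn hc
    rcases le_or_gt (m / c) j with hMj | hMj
    swap
    · have := Nat.mul_le_mul_right c (show j + 1 ≤ m / c by omega)
      rw [add_mul, one_mul] at this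
      exact ⟨j, le_rfl, by omega, by omega⟩
    refine ⟨m / c, hMj, by omega, ?_⟩
    rcases hR with ⟨hk0, hR⟩ | ⟨hpos, -, hlt⟩
    · rcases hjJ.lt_or_eq with hlt | rfl
      · have := Nat.mul_le_mul_right c (show j + 1 ≤ n / c by omega)
        rw [add_mul, one_mul] at this
        omega
      · exact absurd (hjt (by omega)) hR
    · omega

variable {F V : Type*} [Field F] [AddCommGroup V] [Module F V] {Q : QuadraticForm F V} [Fintype F] [Finite V]
  [FiniteDimensional F V]

local notation "𝔅" => QuadraticMap.polarBilin Q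

/-- A nondegenerate subspace of odd dimension embeds in every larger one. -/
theorem exists_iso_sub {E C : Submodule F V} (hE : Sep Q E) (hC : Sep Q C) (hodd : Odd (finrank F E))
    (hlt : finrank F E < finrank F C) : ∃ E', E' ≤ C ∧ Sep Q E' ∧ Iso Q Q E' E := by
  obtain ⟨t, ht⟩ := hodd
  obtain ⟨H, hHE, hH, hHd, hHt⟩ := exists_sub_type t hE (by omega) True fun _ => trivial
  obtain ⟨L, -, hL, horthL, hsupL, hdL, -⟩ := exists_perp hE hH hHE
  obtain ⟨w, hw, hw0⟩ := (Submodule.ne_bot_iff L).mp fun e => by rw [e, finrank_bot] at hdL; omega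
  have hLw : L = span F {w} := (Submodule.eq_of_le_of_finrank_eq ((span_singleton_le_iff_mem _ _).mpr hw)
    (by rw [finrank_span_singleton hw0]; omega)).symm
  have hQw : Q w ≠ 0 := fun e => by
    obtain ⟨z, hz, hwz⟩ := hL w hw hw0
    rw [hLw, mem_span_singleton] at hz
    obtain ⟨s, rfl⟩ := hz
    exact hwz (by rw [map_smul, polar_diag, e]; simp)
  obtain ⟨H', hH'C, hH', hH'd, hH't⟩ := exists_sub_type t hC (by omega) True fun _ => trivial
  obtain ⟨R, hRC, hR, horthR, -, hdR, -⟩ := exists_perp hC hH' hH'C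
  obtain ⟨v, hvR, hv⟩ := exists_value hR (by omega) (Q w)
  have hv0 : v ≠ 0 := fun e => hQw (by rw [← hv, e, map_zero])
  have hiso : Iso Q Q (span F {v}) L := by
    rw [hLw]
    refine ⟨(LinearEquiv.toSpanNonzeroSingleton F V v hv0).symm.trans
      (LinearEquiv.toSpanNonzeroSingleton F V w hw0), fun z => ?_⟩
    obtain ⟨s, rfl⟩ := (LinearEquiv.toSpanNonzeroSingleton F V v hv0).surjective z
    rw [LinearEquiv.trans_apply, LinearEquiv.symm_apply_apply]
    show Q (s • w) = Q (s • v)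
    rw [smul_quad, smul_quad, hv]
  have hvle : span F {v} ≤ R := (span_singleton_le_iff_mem _ _).mpr hvR
  have ho : ∀ x ∈ H', ∀ y ∈ span F {v}, 𝔅 x y = 0 := fun x hx y hy => horthR x hx y (hvle hy)
  have hvs : Sep Q (span F {v}) := by
    intro y hy hy0
    obtain ⟨s, rfl⟩ := mem_span_singleton.mp hy
    obtain ⟨z, hz, hwz⟩ := hL w hw hw0
    rw [hLw, mem_span_singleton] at hz
    obtain ⟨s', rfl⟩ := hz
    refine ⟨s' • v, smul_mem _ _ (mem_span_singleton_self v), ?_⟩
    simp only [map_smul, LinearMap.smul_apply, polar_diag, hv, smul_eq_mul] at hwz ⊢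
    exact mul_ne_zero (left_ne_zero_of_mul hwz) (mul_ne_zero (fun e => hy0 (by rw [e, zero_smul]))
      (right_ne_zero_of_mul hwz))
  refine ⟨H' ⊔ span F {v}, sup_le hH'C (hvle.trans hRC), sep_sup hH' hvs ho, ?_⟩
  rw [← hsupL]
  exact Iso.sup hH' ho hH horthL (iso_of_type t hH' hH hH'd hHd (hH't.trans hHt.symm)) hiso

omit [Fintype F] [Finite V] [FiniteDimensional F V] in
theorem iso_finrank {W W' : Submodule F V} (h : Iso Q Q W W') : finrank F W = finrank F W' :=
  h.choose.finrank_eq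

omit [Fintype F] [Finite V] [FiniteDimensional F V] in
theorem iso_trans {W W' W'' : Submodule F V} (h : Iso Q Q W W') (h' : Iso Q Q W' W'') : Iso Q Q W W'' := by
  obtain ⟨e, he⟩ := h
  obtain ⟨e', he'⟩ := h'
  exact ⟨e.trans e', fun w => (he' (e w)).trans (he w)⟩

omit [Fintype F] [Finite V] [FiniteDimensional F V] in
theorem iso_symm {W W' : Submodule F V} (h : Iso Q Q W W') : Iso Q Q W' W := by
  obtain ⟨e, he⟩ := h
  exact ⟨e.symm, fun w => by rw [← he, LinearEquiv.apply_symm_apply]⟩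

variable {r : ℕ} [Fact r.Prime] (hQ : Sep Q ⊤) (hr2 : r ≠ 2)
  (hrF : (r : F) ≠ 0) (hq : (Fintype.card F : ZMod r) ≠ 0)
  {c : ℕ} (hc : c = if Even (orderOf (Fintype.card F : ZMod r)) then orderOf (Fintype.card F : ZMod r)
    else 2 * orderOf (Fintype.card F : ZMod r))

include hQ hr2 hrF hq hc

/-- Invariant subspaces isometric to a given one of odd dimension. -/
theorem fix_odd_iff (hne : Even (finrank F V)) {g : Module.End F V} (hg : ∀ v, Q (g v) = Q v) (hgr : g ^ r = 1)
    {j : ℕ} (hj : finrank F V = finrank F (fixedIn g ⊤) + j * c) {m : ℕ} (hm : Odd m) {W₀ : Submodule F V}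
    (hW₀ : Sep Q W₀) (hW₀d : finrank F W₀ = m) :
    (∃ W : Submodule F V, (finrank F W = m ∧ Sep Q W ∧ Iso Q Q W W₀) ∧ InvBy g W) ↔
      GoodOdd (finrank F V) c j m := by
  have hr := (Fact.out : r.Prime)
  have hc0 := atom_dim_pos hq hc
  have hce := even_c (F := F) (r := r) hc
  obtain ⟨hfs, M, -, hM, hMs, hM0, horth, hsup, hd⟩ := exists_split_moved hg hgr hr.pos hrF (invBy_top (g := g)) hQ
  obtain ⟨j', hj', -, hsub⟩ := moved_type hg hgr hr2 hrF hq hc _ rfl hM hMs hM0
  rw [finrank_top, hj'] at hd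
  obtain rfl : j' = j := Nat.eq_of_mul_eq_mul_right hc0 (by omega)
  have hCe : Even (finrank F (fixedIn g (⊤ : Submodule F V))) := by
    rw [hd, Nat.even_add] at hne
    exact hne.mpr (hce.mul_left j')
  constructor
  · rintro ⟨W, ⟨hWd, hWs, -⟩, hW⟩
    obtain ⟨-, M', -, hM', hM's, hM'0, -, -, hd'⟩ := exists_split_moved hg hgr hr.pos hrF hW hWs
    obtain ⟨a, ha, -, -⟩ := moved_type hg hgr hr2 hrF hq hc _ rfl hM' hM's hM'0
    rw [hWd, ha] at hd'
    have hle : fixedIn g W ≤ fixedIn g ⊤ := inf_le_inf_right _ le_top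
    have hfle := Submodule.finrank_mono hle
    have haj : a ≤ j' := by
      have h1 := Submodule.finrank_sup_add_finrank_inf_eq (fixedIn g (⊤ : Submodule F V)) M'
      have h2 : fixedIn g (⊤ : Submodule F V) ⊓ M' = ⊥ := by
        rw [← le_bot_iff, ← hM'0]
        exact le_inf inf_le_right (inf_le_left.trans inf_le_right)
      rw [h2, finrank_bot, ha] at h1
      have h3 := Submodule.finrank_le (fixedIn g (⊤ : Submodule F V) ⊔ M')
      exact Nat.le_of_mul_le_mul_right (by omega) hc0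
    refine ⟨a, haj, by omega, ?_⟩
    obtain ⟨t, ht⟩ := hm
    obtain ⟨t', ht'⟩ := hce.mul_left a
    obtain ⟨t'', ht''⟩ := hCe
    omega
  · rintro ⟨a, haj, ham, hlt⟩
    obtain ⟨X, hXM, hX, hXs, hX0, hXd⟩ := hsub a haj
    obtain ⟨a', ha', hXt, -⟩ := moved_type hg hgr hr2 hrF hq hc _ rfl hX hXs hX0
    obtain rfl : a = a' := Nat.eq_of_mul_eq_mul_right hc0 (hXd.symm.trans ha')
    obtain ⟨s, hs⟩ := hce.mul_left a
    have ham' : a * c < m := by obtain ⟨t, ht⟩ := hm; omega
    obtain ⟨H, hHW, hH, hHd, hHt⟩ := exists_sub_type s hW₀ (by omega) (sgn (orderOf (Fintype.card F : ZMod r)) a)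
      fun e => by
        have : a = 0 := (Nat.mul_eq_zero.mp (by omega : a * c = 0)).resolve_right hc0.ne'
        rw [this]; exact sgn_zero _
    obtain ⟨E, -, hE, horthE, hsupE, hdE, -⟩ := exists_perp hW₀ hH hHW
    have hEodd : Odd (finrank F E) := by
      obtain ⟨t, ht⟩ := hm
      exact ⟨t - s, by omega⟩
    obtain ⟨E', hE'C, hE', hiso⟩ := exists_iso_sub hE hfs hEodd (by omega)
    have ho : ∀ x ∈ X, ∀ y ∈ E', 𝔅 x y = 0 := fun x hx y hy =>
      (polar_swap x y).trans (horth y (hE'C hy) x (hXM hx))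
    have hE'inv : InvBy g E' := fun v hv => by rw [(mem_fixedIn.mp (hE'C hv)).2]; exact hv
    have hWiso : Iso Q Q (X ⊔ E') W₀ := hsupE ▸
      Iso.sup hXs ho hH horthE (iso_of_type s hXs hH (by omega) hHd (hXt.trans hHt.symm)) hiso
    exact ⟨X ⊔ E', ⟨(iso_finrank hWiso).trans hW₀d, sep_sup hXs hE' ho, hWiso⟩, hX.sup hE'inv⟩

/-- The family of subspaces isometric to a given one of odd dimension, when its size is a multiple of `r`. -/
theorem exists_pfix_of_dvd_odd (hne : Even (finrank F V)) {m : ℕ} (hm : Odd m) {W₀ : Submodule F V}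
    (hW₀ : Sep Q W₀) (hW₀d : finrank F W₀ = m)
    (hdvd : r ∣ Nat.card {W : Submodule F V // finrank F W = m ∧ Sep Q W ∧ Iso Q Q W W₀}) :
    (∃ g : Module.End F V, (∀ v, Q (g v) = Q v) ∧ g ^ r = 1 ∧ g ≠ 1) ∧
      ∃ j, j * c ≤ finrank F V ∧
        (finrank F V = j * c → (Plus Q ⊤ ↔ sgn (orderOf (Fintype.card F : ZMod r)) j)) ∧
        finrank F V - j * c < m := by
  obtain ⟨hel, P, ρ, hP, hρ, hno⟩ := of_dvd_card (Q := Q)
    (Pr := fun W => finrank F W = m ∧ Sep Q W ∧ Iso Q Q W W₀)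
    ⟨W₀, hW₀d, hW₀, LinearEquiv.refl F W₀, fun _ => rfl⟩
    (fun g hg W hW => ⟨(finrank_map' _ g.injective W).trans hW.1, (sep_map _ g.injective hg).mpr hW.2.1,
      iso_trans (iso_symm ⟨Submodule.equivMapOfInjective _ g.injective W, fun w => hg (w : V)⟩) hW.2.2⟩)
    (fun W W' hW hW' => exists_isoG_map hQ (iso_trans hW.2.2 (iso_symm hW'.2.2)))
    hdvd
  haveI : Finite (V ≃ₗ[F] V) := Finite.of_injective _ (DFunLike.coe_injective (F := V ≃ₗ[F] V))
  obtain ⟨C, j, hC, hd, hfix, htype⟩ := exists_pfix hP hr2 hrF hq hc _ ρ rfl hQ hρ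
  refine ⟨hel, j, by omega, fun he => ?_, ?_⟩
  · have h0 : C = ⊥ := Submodule.finrank_eq_zero.mp (by omega)
    subst h0
    rw [htype hne, iff_true_left plus_bot]
  · by_contra hge
    have hlt : m < finrank F C := by
      obtain ⟨t, ht⟩ := hm
      obtain ⟨u, hu⟩ := hne
      obtain ⟨s, hs⟩ := (even_c (F := F) (r := r) hc).mul_left j
      omega
    obtain ⟨E', hE'C, hE', hiso⟩ := exists_iso_sub hW₀ hC (hW₀d.symm ▸ hm) (hW₀d.symm ▸ hlt)
    obtain ⟨a, ha⟩ := hno E' ⟨(iso_finrank hiso).trans hW₀d, hE', hiso⟩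
    refine ha ?_
    rintro _ ⟨v, hv, rfl⟩
    rw [hfix a v (hE'C hv)]
    exact hv

end CfsgLib.OrthEvenDim
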