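import Cfsg.Agent.LinearElements.OrthInvolutions

/-!
Characteristic two: involutions with few invariant nondegenerate subspaces, and the whole statement for `r = 2` and
subspaces of even dimension.
-/

set_option autoImplicit false

namespace CfsgLib.OrthInvolutionCounters

open Module Submodule CfsgLib.LinearElements CfsgLib.QuadType CfsgLib.OrthFix CfsgLib.OrthShear Matrix

variable {F : Type*} [Field F]

theorem pairs_ker_even {d : ℕ} (hde : Even d) {b : Fin d → F} (hb : pairs d *ᵥ b = 0) : b = 0 := by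
  funext j
  by_cases hj : (j : ℕ) + 1 < d
  · exact pairs_ker hb j hj
  obtain ⟨t, ht⟩ := hde
  have hjv : (j : ℕ) + 1 = d := by omega
  have h1 := congrFun hb ⟨2 * (t - 1), by omega⟩
  rw [Matrix.mulVec, dotProduct, Pi.zero_apply, Finset.sum_eq_single j (fun l _ hl => by
    simp only [pairs, Matrix.of_apply]
    split_ifs with h2 h3
    · exact absurd (Fin.ext (by omega)) hl
    · obtain ⟨s, hs⟩ := h3.2; omega
    · exact zero_mul _) (by simp)] at h1
  simp only [pairs, Matrix.of_apply] at h1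
  rw [if_pos ⟨by omega, even_two_mul _⟩, one_mul] at h1
  exact h1

variable [Fintype F] [CharP F 2]

/-- The split space of dimension divisible by four. -/
theorem exists_plus_four {d : ℕ} (hd : 3 ≤ d) (hde : Even d) :
    ∃ x : GL (Fin d ⊕ Fin d) F, x ∈ Cfsg.Geo.omegaGL ⇑(CfsgLib.StdForms.plusQ d F) ∧
      (∃ z : F, ((x ^ 2 : GL (Fin d ⊕ Fin d) F) : Matrix (Fin d ⊕ Fin d) (Fin d ⊕ Fin d) F) = z • 1) ∧
      (∀ z : F, (x : Matrix (Fin d ⊕ Fin d) (Fin d ⊕ Fin d) F) ≠ z • 1) ∧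
      ∀ W : Submodule F (Fin d ⊕ Fin d → F), Sep (CfsgLib.StdForms.plusQ d F) W →
        W.map (Matrix.toLin' (x : Matrix (Fin d ⊕ Fin d) (Fin d ⊕ Fin d) F)) ≤ W → 4 ∣ finrank F W := by
  have h2 : (2 : F) = 0 := CharTwo.two_eq_zero
  set S : Matrix (Fin d) (Fin d) F := pairs d with hSdef
  have hS : IsAltMat S := pairs_alt
  set Q := CfsgLib.StdForms.plusQ d F
  have hS2 : shear S * shear S = 1 := by
    rw [shear_mul, ← two_smul F S, h2, zero_smul]; exact Units.ext mat_zero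
  refine ⟨shear S, shear_mem_omega hd hS, ⟨1, by rw [pow_two, hS2, one_smul]; rfl⟩, fun z hz => ?_, fun W hWs hle => ?_⟩
  · have h1 := congrFun (congrFun hz (Sum.inl ⟨0, by omega⟩)) (Sum.inr ⟨1, by omega⟩)
    simp [shear_val, mat, hSdef, pairs] at h1
  set g := Matrix.toLin' (shear S : Matrix (Fin d ⊕ Fin d) (Fin d ⊕ Fin d) F)
  have hg : ∀ v, Q (g v) = Q v := fun v => by rw [Matrix.toLin'_apply]; exact shear_quad hS v
  have hgg : ∀ v, g (g v) = v := fun v => by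
    rw [Matrix.toLin'_apply, Matrix.toLin'_apply, Matrix.mulVec_mulVec, ← Units.val_mul, hS2, Units.val_one,
      Matrix.one_mulVec]
  have hN : ∀ v, (g - 1) v = Sum.elim (S *ᵥ (v ∘ Sum.inr)) 0 := fun v => by
    rw [LinearMap.sub_apply, Module.End.one_apply, Matrix.toLin'_apply, shear_val, mat_mulVec]
    funext w
    rcases w with w | w <;> simp
  obtain ⟨C, s, -, hC, hCfix, hCd, -, -⟩ := OrthInvolutions.singular_blocks h2 hg hgg _ (W := W) rfl
    (fun v hv => hle ⟨v, hv, rfl⟩) hWs fun y _ => by rw [hN, quad_eq]; simp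
  have hb : ∀ v ∈ C, v ∘ Sum.inr = 0 := fun v hv => pairs_ker_even hde (by
    have h1 : (g - 1) v = 0 := by rw [LinearMap.sub_apply, Module.End.one_apply, hCfix v hv, sub_self]
    rw [hN] at h1
    exact funext fun i => congrFun h1 (Sum.inl i))
  have hC0 : C = ⊥ := by
    rw [Submodule.eq_bot_iff]
    intro v hv
    by_contra hne
    obtain ⟨w, hw, hvw⟩ := hC v hv hne
    refine hvw ?_
    show QuadraticMap.polar (⇑Q) v w = 0
    rw [CfsgLib.StdForms.polar_plus]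
    refine Finset.sum_eq_zero fun i _ => ?_
    rw [show v (Sum.inr i) = 0 from congrFun (hb v hv) i, show w (Sum.inr i) = 0 from congrFun (hb w hw) i]
    ring
  rw [hC0, finrank_bot, zero_add] at hCd
  exact ⟨s, hCd⟩

/-- The minus space, `d - 1` even: a split block with a shear, next to a fixed anisotropic plane. -/
theorem exists_minus_two {k : ℕ} (hk : 3 ≤ k) (hke : Even k) {a b : F} :
    ∃ x : GL ((Fin k ⊕ Fin k) ⊕ Fin 2) F, x ∈ Cfsg.Geo.omegaGL ⇑(CfsgLib.StdForms.minusQ k F a b) ∧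
      (∃ z : F, ((x ^ 2 : GL ((Fin k ⊕ Fin k) ⊕ Fin 2) F) : Matrix ((Fin k ⊕ Fin k) ⊕ Fin 2) ((Fin k ⊕ Fin k) ⊕ Fin 2) F) = z • 1) ∧
      (∀ z : F, (x : Matrix ((Fin k ⊕ Fin k) ⊕ Fin 2) ((Fin k ⊕ Fin k) ⊕ Fin 2) F) ≠ z • 1) ∧
      ∀ W : Submodule F ((Fin k ⊕ Fin k) ⊕ Fin 2 → F), Sep (CfsgLib.StdForms.minusQ k F a b) W →
        ¬ Plus (CfsgLib.StdForms.minusQ k F a b) W →
        W.map (Matrix.toLin' (x : Matrix ((Fin k ⊕ Fin k) ⊕ Fin 2) ((Fin k ⊕ Fin k) ⊕ Fin 2) F)) ≤ W →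
        ¬ 4 ∣ finrank F W := by
  have h2 : (2 : F) = 0 := CharTwo.two_eq_zero
  set S : Matrix (Fin k) (Fin k) F := pairs k with hSdef
  have hS : IsAltMat S := pairs_alt
  set P := CfsgLib.StdForms.plusQ k F
  set Q := CfsgLib.StdForms.minusQ k F a b
  let ext : GL (Fin k ⊕ Fin k) F →* GL ((Fin k ⊕ Fin k) ⊕ Fin 2) F :=
    { toFun := fun y => ⟨Matrix.fromBlocks (y : Matrix (Fin k ⊕ Fin k) (Fin k ⊕ Fin k) F) 0 0 1,
        Matrix.fromBlocks ((y⁻¹ : GL (Fin k ⊕ Fin k) F) : Matrix (Fin k ⊕ Fin k) (Fin k ⊕ Fin k) F) 0 0 1,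
        by rw [Matrix.fromBlocks_multiply]; simp, by rw [Matrix.fromBlocks_multiply]; simp⟩
      map_one' := Units.ext (by simp)
      map_mul' := fun y y' => Units.ext (by simp [Matrix.fromBlocks_multiply]) }
  have hQP : ∀ (v : (Fin k ⊕ Fin k) ⊕ Fin 2 → F), Q v =
      P (v ∘ Sum.inl) + ((v (Sum.inr 0)) ^ 2 + a * v (Sum.inr 0) * v (Sum.inr 1) + b * (v (Sum.inr 1)) ^ 2) := fun v => by
    simp [Q, P, CfsgLib.StdForms.minusQ_apply, CfsgLib.StdForms.plusQ_apply, Cfsg.quadFormMinus, Cfsg.quadFormPlus]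
  have hextv : ∀ (y : GL (Fin k ⊕ Fin k) F) (v : (Fin k ⊕ Fin k) ⊕ Fin 2 → F),
      (ext y : Matrix ((Fin k ⊕ Fin k) ⊕ Fin 2) ((Fin k ⊕ Fin k) ⊕ Fin 2) F) *ᵥ v =
        Sum.elim ((y : Matrix (Fin k ⊕ Fin k) (Fin k ⊕ Fin k) F) *ᵥ (v ∘ Sum.inl)) (v ∘ Sum.inr) := fun y v => by
    show Matrix.fromBlocks _ 0 0 1 *ᵥ v = _
    rw [Matrix.fromBlocks_mulVec]
    simp
  let extI : ↥(Cfsg.isometryGroup F ⇑P) →* ↥(Cfsg.isometryGroup F ⇑Q) :=
    { toFun := fun y => ⟨ext y.1, fun v _ => by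
        show Q ((ext y.1 : Matrix ((Fin k ⊕ Fin k) ⊕ Fin 2) ((Fin k ⊕ Fin k) ⊕ Fin 2) F) *ᵥ v) = Q v
        rw [hextv, hQP, hQP, Sum.elim_comp_inl,
          show P ((y.1 : Matrix (Fin k ⊕ Fin k) (Fin k ⊕ Fin k) F) *ᵥ (v ∘ Sum.inl)) = P (v ∘ Sum.inl) from y.2 (v ∘ Sum.inl) (v ∘ Sum.inl)]
        simp⟩
      map_one' := Subtype.ext (map_one ext)
      map_mul' := fun y y' => Subtype.ext (map_mul ext y.1 y'.1) }
  have hmem : ext (shear S) ∈ Cfsg.Geo.omegaGL ⇑Q := by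
    obtain ⟨y, hy, hyS⟩ := shear_mem_omega hk hS
    refine ⟨extI y, ?_, congrArg ext hyS⟩
    have h1 : Subgroup.map extI (commutator _) ≤ commutator _ := by
      rw [commutator_def, Subgroup.map_commutator]
      exact Subgroup.commutator_mono le_top le_top
    exact h1 ⟨y, hy, rfl⟩
  have hS2 : ext (shear S) * ext (shear S) = 1 := by
    rw [← map_mul, shear_mul, ← two_smul F S, h2, zero_smul, show shear (0 : Matrix (Fin k) (Fin k) F) = 1 from
      Units.ext mat_zero, map_one]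
  refine ⟨ext (shear S), hmem, ⟨1, by rw [pow_two, hS2, one_smul]; rfl⟩, fun z hz => ?_, fun W hWs hWp hle => ?_⟩
  · have h1 := congrFun (congrFun hz (Sum.inl (Sum.inl ⟨0, by omega⟩))) (Sum.inl (Sum.inr ⟨1, by omega⟩))
    simp [ext, shear_val, mat, hSdef, pairs] at h1
  set g := Matrix.toLin' (ext (shear S) : Matrix ((Fin k ⊕ Fin k) ⊕ Fin 2) ((Fin k ⊕ Fin k) ⊕ Fin 2) F)
  have hgQ : ∀ v, Q (g v) = Q v := fun v => by rw [Matrix.toLin'_apply]; exact quad_of_mem_omega hmem v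
  have hgg : ∀ v, g (g v) = v := fun v => by
    rw [Matrix.toLin'_apply, Matrix.toLin'_apply, Matrix.mulVec_mulVec, ← Units.val_mul, hS2, Units.val_one,
      Matrix.one_mulVec]
  have hN : ∀ v, (g - 1) v = Sum.elim (Sum.elim (S *ᵥ ((v ∘ Sum.inl) ∘ Sum.inr)) 0) 0 := fun v => by
    rw [LinearMap.sub_apply, Module.End.one_apply, Matrix.toLin'_apply, hextv, shear_val, mat_mulVec]
    funext w
    rcases w with (w | w) | w <;> simp
  obtain ⟨C, s, -, hC, hCfix, hCd, hCt, -⟩ := OrthInvolutions.singular_blocks h2 hgQ hgg _ (W := W) rfl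
    (fun v hv => hle ⟨v, hv, rfl⟩) hWs fun y _ => by
      rw [hN, hQP, Sum.elim_comp_inl, quad_eq]
      simp
  rintro ⟨t, ht⟩
  have hCp : ¬ Plus Q C := fun h => hWp ((hCt ⟨2 * t, by omega⟩).mpr h)
  have hC0 : C ≠ ⊥ := fun e => hCp (by rw [e]; exact plus_bot)
  have hCpos : finrank F C ≠ 0 := fun e => hC0 (Submodule.finrank_eq_zero.mp e)
  have hb : ∀ v ∈ C, (v ∘ Sum.inl) ∘ Sum.inr = 0 := fun v hv => pairs_ker_even hke (by
    have h1 : (g - 1) v = 0 := by rw [LinearMap.sub_apply, Module.End.one_apply, hCfix v hv, sub_self]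
    rw [hN] at h1
    exact funext fun i => congrFun h1 (Sum.inl (Sum.inl i)))
  -- the projection to the fixed plane is injective
  let π : C →ₗ[F] (Fin 2 → F) :=
    { toFun := fun v => (v : (Fin k ⊕ Fin k) ⊕ Fin 2 → F) ∘ Sum.inr
      map_add' := fun _ _ => rfl
      map_smul' := fun _ _ => rfl }
  have hπ : Function.Injective π := by
    rw [← LinearMap.ker_eq_bot, Submodule.eq_bot_iff]
    intro v hv
    by_contra hne
    obtain ⟨w, hw, hvw⟩ := hC v v.2 fun e => hne (Subtype.ext e)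
    refine hvw ?_
    have hv0 : ∀ i, (v : (Fin k ⊕ Fin k) ⊕ Fin 2 → F) (Sum.inr i) = 0 := fun i =>
      congrFun (LinearMap.mem_ker.mp hv) i
    show QuadraticMap.polar (⇑Q) (v : (Fin k ⊕ Fin k) ⊕ Fin 2 → F) w = 0
    rw [CfsgLib.StdForms.polar_minus, hv0, hv0]
    have h0 : ∀ i, (v : (Fin k ⊕ Fin k) ⊕ Fin 2 → F) (Sum.inl (Sum.inr i)) = 0 ∧ w (Sum.inl (Sum.inr i)) = 0 :=
      fun i => ⟨congrFun (hb v v.2) i, congrFun (hb w hw) i⟩
    simp [fun i => (h0 i).1, fun i => (h0 i).2]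
  have hle2 := LinearMap.finrank_le_finrank_of_injective hπ
  rw [Module.finrank_fintype_fun_eq_card, Fintype.card_fin] at hle2
  omega

end CfsgLib.OrthInvolutionCounters
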