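import Cfsg.Agent.LinearElements.OrthShear

/-!
Involutions of quadratic spaces in characteristic two: the invariant nondegenerate subspaces.
-/

set_option autoImplicit false

namespace CfsgLib.OrthInvolutions

open Module Submodule CfsgLib.LinearElements CfsgLib.QuadType CfsgLib.OrthAtoms CfsgLib.OrthPrimePower CfsgLib.OrthFix

variable {F V : Type*} [Field F] [AddCommGroup V] [Module F V] {Q : QuadraticForm F V} {g : Module.End F V}

local notation "𝔅" => QuadraticMap.polarBilin Q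

variable (h2 : (2 : F) = 0) (hg : ∀ v, Q (g v) = Q v) (hgg : ∀ v, g (g v) = v)

section
include h2 hgg

theorem sub_one_sq (v : V) : (g - 1) ((g - 1) v) = 0 := by
  have h3 : (2 : F) • (v - g v) = 0 := by rw [h2, zero_smul]
  simp only [LinearMap.sub_apply, Module.End.one_apply, map_sub, hgg]
  linear_combination (norm := module) h3

end

section
include hg hgg

theorem sub_one_adj (u v : V) : 𝔅 ((g - 1) u) v = 𝔅 u ((g - 1) v) := by
  have h1 := polar_iso (Q := Q) hg (g u) v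
  rw [hgg] at h1
  simp only [LinearMap.sub_apply, Module.End.one_apply, map_sub, LinearMap.sub_apply]
  rw [← h1]

theorem perp_inv {X Y : Submodule F V} (hX : InvBy g X) {W : Submodule F V} (hW : InvBy g W) (hYW : Y ≤ W)
    (horth : ∀ x ∈ X, ∀ y ∈ Y, 𝔅 x y = 0) (hmem : ∀ w ∈ W, (∀ x ∈ X, 𝔅 x w = 0) → w ∈ Y) : InvBy g Y :=
  fun y hy => hmem _ (hW y (hYW hy)) fun x hx => by
    have h1 := polar_iso (Q := Q) hg (g x) y
    rw [hgg] at h1
    rw [h1]
    exact horth _ (hX x hx) y hy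

end

section
include h2 hg

theorem quad_sub_one (u : V) : Q ((g - 1) u) = 𝔅 ((g - 1) u) u := by
  simp only [LinearMap.sub_apply, Module.End.one_apply, map_sub, LinearMap.sub_apply, polar_diag]
  rw [sub_eq_add_neg, QuadType.map_add', QuadraticMap.map_neg, hg, map_neg]
  linear_combination (2 * Q u - 𝔅 (g u) u) * h2

end

include h2 hg hgg

theorem sub_one_orth (u v : V) : 𝔅 ((g - 1) u) ((g - 1) v) = 0 := by
  rw [sub_one_adj hg hgg, sub_one_sq h2 hgg, map_zero]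

variable [FiniteDimensional F V]

/-- The plane of a vector with anisotropic image. -/
theorem exists_plane {W : Submodule F V} (hW : InvBy g W) (hWs : Sep Q W) {u : V} (hu : u ∈ W)
    (hα : Q ((g - 1) u) ≠ 0) :
    ∃ R, R ≤ W ∧ InvBy g R ∧ Sep Q R ∧ InvBy g (span F {u, (g - 1) u}) ∧ Sep Q (span F {u, (g - 1) u}) ∧
      finrank F (span F {u, (g - 1) u}) = 2 ∧ (∀ x ∈ span F {u, (g - 1) u}, ∀ y ∈ R, 𝔅 x y = 0) ∧
      span F {u, (g - 1) u} ⊔ R = W ∧ finrank F W = finrank F R + 2 ∧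
      (∀ w ∈ W, 𝔅 u w = 0 → 𝔅 ((g - 1) u) w = 0 → w ∈ R) := by
  have hB : 𝔅 u ((g - 1) u) = Q ((g - 1) u) := (polar_swap _ _).trans (quad_sub_one h2 hg u).symm
  obtain ⟨hs, -, hd⟩ := sep_span_pair (Q := Q) (u := u) (v := (g - 1) u) (by
    intro e
    refine hα ?_
    have h1 : 𝔅 u ((g - 1) u) * 𝔅 u ((g - 1) u) = 0 := by
      linear_combination e + 2 * (Q u * Q ((g - 1) u)) * h2
    rw [← hB]
    exact mul_self_eq_zero.mp h1)
  have hinv : InvBy g (span F {u, (g - 1) u}) := by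
    intro x hx
    obtain ⟨s, t, rfl⟩ := mem_span_pair.mp hx
    have h1 := sub_one_sq h2 hgg u
    rw [LinearMap.sub_apply, Module.End.one_apply, sub_eq_zero] at h1
    rw [map_add, map_smul, map_smul, h1, show g u = u + (g - 1) u by simp]
    exact add_mem (smul_mem _ _ (add_mem (subset_span (by simp)) (subset_span (by simp))))
      (smul_mem _ _ (subset_span (by simp)))
  obtain ⟨R, hRW, hR, horth, hsup, hdR, hmem⟩ := exists_perp hWs hs
    (span_le.mpr (by simp [Set.insert_subset_iff, hu, W.sub_mem (hW u hu) hu]))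
  refine ⟨R, hRW, perp_inv hg hgg hinv hW hRW horth hmem, hR, hinv, hs, hd, horth, hsup, by omega,
    fun w hw h h' => hmem w hw fun x hx => ?_⟩
  obtain ⟨s, t, rfl⟩ := mem_span_pair.mp hx
  rw [map_add, map_smul, map_smul, LinearMap.add_apply, LinearMap.smul_apply, LinearMap.smul_apply, h, h', smul_zero,
    smul_zero, add_zero]

/-- The plane can be chosen so that the rest is fixed or again has a vector with anisotropic image. -/
theorem good_split {W : Submodule F V} (hW : InvBy g W) (hWs : Sep Q W) (hu : ∃ u ∈ W, Q ((g - 1) u) ≠ 0) :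
    ∃ u ∈ W, ∃ R, Q ((g - 1) u) ≠ 0 ∧ R ≤ W ∧ InvBy g R ∧ Sep Q R ∧ InvBy g (span F {u, (g - 1) u}) ∧
      Sep Q (span F {u, (g - 1) u}) ∧ finrank F (span F {u, (g - 1) u}) = 2 ∧
      (∀ x ∈ span F {u, (g - 1) u}, ∀ y ∈ R, 𝔅 x y = 0) ∧ span F {u, (g - 1) u} ⊔ R = W ∧
      finrank F W = finrank F R + 2 ∧ ((∀ y ∈ R, g y = y) ∨ ∃ y ∈ R, Q ((g - 1) y) ≠ 0) := by
  obtain ⟨u, hu, hα⟩ := hu
  obtain ⟨R, hRW, hR, hRs, hP, hPs, hPd, horth, hsup, hd, -⟩ := exists_plane h2 hg hgg hW hWs hu hα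
  by_cases hgood : (∀ y ∈ R, g y = y) ∨ ∃ y ∈ R, Q ((g - 1) y) ≠ 0
  · exact ⟨u, hu, R, hα, hRW, hR, hRs, hP, hPs, hPd, horth, hsup, hd, hgood⟩
  push Not at hgood
  obtain ⟨⟨a, ha, ha'⟩, halt⟩ := hgood
  have hN : ∀ y ∈ R, (g - 1) y ∈ R := fun y hy => R.sub_mem (hR y hy) hy
  obtain ⟨b, hb, hab⟩ := hRs _ (hN a ha) fun e => ha' (sub_eq_zero.mp e)
  have huP : u ∈ span F {u, (g - 1) u} := subset_span (by simp)
  have hNuP : (g - 1) u ∈ span F {u, (g - 1) u} := subset_span (by simp)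
  set u' := u + a
  have hu'W : u' ∈ W := W.add_mem hu (hRW ha)
  have hNu' : (g - 1) u' = (g - 1) u + (g - 1) a := map_add _ _ _
  have hα' : Q ((g - 1) u') = Q ((g - 1) u) := by
    rw [hNu', QuadType.map_add', halt a ha, horth _ hNuP _ (hN a ha), add_zero, add_zero]
  obtain ⟨R', hR'W, hR', hR's, hP', hP's, hP'd, horth', hsup', hd', hmem'⟩ :=
    exists_plane h2 hg hgg hW hWs hu'W (hα'.symm ▸ hα)
  set v := u + (-(Q ((g - 1) u)) / 𝔅 ((g - 1) a) b) • b with hv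
  set t := 𝔅 u' v / Q ((g - 1) u) with ht
  refine ⟨u', hu'W, R', hα'.symm ▸ hα, hR'W, hR', hR's, hP', hP's, hP'd, horth', hsup', hd',
    Or.inr ⟨v - t • (g - 1) u', hmem' _ ?_ ?_ ?_, ?_⟩⟩
  · exact W.sub_mem (W.add_mem hu (W.smul_mem _ (hRW hb))) (W.smul_mem _ (W.sub_mem (hW _ hu'W) hu'W))
  · rw [map_sub, map_smul, polar_swap u' ((g - 1) u'), ← quad_sub_one h2 hg, hα', smul_eq_mul, ht,
      div_mul_cancel₀ _ hα, sub_self]
  · have hv' : 𝔅 ((g - 1) u') v = 0 := by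
      rw [hNu', hv]
      simp only [map_add, map_smul, LinearMap.add_apply, smul_eq_mul]
      rw [← quad_sub_one h2 hg, horth _ hNuP b hb, polar_swap ((g - 1) a) u, horth u huP _ (hN a ha), zero_add,
        div_mul_cancel₀ _ hab]
      ring
    rw [map_sub, map_smul, sub_one_orth h2 hg hgg, smul_zero, sub_zero, hv']
  · have h1 : (g - 1) (v - t • (g - 1) u') = (g - 1) u + (-(Q ((g - 1) u)) / 𝔅 ((g - 1) a) b) • (g - 1) b := by
      rw [map_sub, map_smul, sub_one_sq h2 hgg, smul_zero, sub_zero, hv, map_add, map_smul]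
    rw [h1, QuadType.map_add', smul_quad, halt b hb, map_smul, horth _ hNuP _ (hN b hb)]
    simpa using hα

variable [Fintype F] [Finite V]

/-- Invariant subspaces of every even dimension, when some image is anisotropic or all vectors are fixed. -/
theorem exists_any : ∀ (n : ℕ) {W : Submodule F V}, finrank F W = n → InvBy g W → Sep Q W →
    ((∀ y ∈ W, g y = y) ∨ ∃ y ∈ W, Q ((g - 1) y) ≠ 0) → ∀ k, 2 * k ≤ n →
    ∃ X, X ≤ W ∧ InvBy g X ∧ Sep Q X ∧ finrank F X = 2 * k := by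
  intro n
  induction n using Nat.strong_induction_on with
  | _ n ih =>
  intro W hn hW hWs hgood k hk
  rcases hgood with hfix | hu
  · rcases hk.lt_or_eq with hlt | heq
    · obtain ⟨X, hXW, hX, hXd, -⟩ := exists_sub_type k hWs (hn ▸ hlt) True fun _ => trivial
      exact ⟨X, hXW, fun v hv => by rw [hfix v (hXW hv)]; exact hv, hX, hXd⟩
    · exact ⟨W, le_rfl, hW, hWs, by omega⟩
  · rcases Nat.eq_zero_or_pos k with rfl | hk0
    · exact ⟨⊥, bot_le, invBy_bot, sep_bot, by simp⟩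
    obtain ⟨u, -, R, -, hRW, hR, hRs, hP, hPs, hPd, horth, hsup, hd, hgood⟩ := good_split h2 hg hgg hW hWs hu
    obtain ⟨X, hXR, hX, hXs, hXd⟩ := ih _ (by omega) rfl hR hRs hgood (k - 1) (by omega)
    have ho : ∀ x ∈ span F {u, (g - 1) u}, ∀ y ∈ X, 𝔅 x y = 0 := fun x hx y hy => horth x hx y (hXR hy)
    refine ⟨span F {u, (g - 1) u} ⊔ X, sup_le (hsup ▸ le_sup_left) (hXR.trans hRW), hP.sup hX,
      sep_sup hPs hXs ho, ?_⟩
    rw [finrank_orth_sup hPs ho, hPd, hXd]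
    omega

/-- With two independent anisotropic images every dimension and type occurs. -/
theorem fix_anisotropic (hQ : Sep Q ⊤) {d : ℕ} (hn : finrank F V = 2 * d) (hu : ∃ u, Q ((g - 1) u) ≠ 0)
    (hnr : ∀ w, Q w ≠ 0 → ∃ v, g v ≠ v - ((Q w)⁻¹ * 𝔅 w v) • w) {h : ℕ} (hh : 0 < h) (hhd : h < d) (T : Prop) :
    ∃ W : Submodule F V, (finrank F W = 2 * h ∧ Sep Q W ∧ (Plus Q W ↔ T)) ∧ InvBy g W := by
  obtain ⟨u₁, -, R₁, hα₁, -, hR₁, hR₁s, hP₁, hP₁s, hP₁d, horth₁, hsup₁, hd₁, hgood₁⟩ :=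
    good_split h2 hg hgg (W := ⊤) invBy_top hQ (hu.imp fun u h => ⟨trivial, h⟩)
  rw [finrank_top, hn] at hd₁
  set P₁ := span F {u₁, (g - 1) u₁}
  have hne : ∃ y ∈ R₁, Q ((g - 1) y) ≠ 0 := by
    refine hgood₁.resolve_left fun hfix => ?_
    obtain ⟨v, hv⟩ := hnr _ hα₁
    apply hv
    obtain ⟨p, hp, y, hy, rfl⟩ := Submodule.mem_sup.mp (hsup₁.ge (Submodule.mem_top (x := v)))
    obtain ⟨s, t, rfl⟩ := mem_span_pair.mp hp
    have h1 : 𝔅 ((g - 1) u₁) (s • u₁ + t • (g - 1) u₁ + y) = s * Q ((g - 1) u₁) := by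
      rw [map_add, map_add, map_smul, map_smul, ← quad_sub_one h2 hg, sub_one_orth h2 hg hgg,
        horth₁ _ (subset_span (by simp)) y hy]
      simp
    have h3 := sub_one_sq h2 hgg u₁
    rw [LinearMap.sub_apply, Module.End.one_apply, sub_eq_zero] at h3
    rw [h1, map_add, map_add, map_smul, map_smul, h3, hfix y hy, show g u₁ = u₁ + (g - 1) u₁ by simp,
      show (Q ((g - 1) u₁))⁻¹ * (s * Q ((g - 1) u₁)) = s by field_simp]
    have hchar : (2 : F) • (s • (g - 1) u₁) = 0 := by rw [h2, zero_smul]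
    linear_combination (norm := module) hchar
  obtain ⟨u₂, hu₂, Y, hα₂, hYR, hY, hYs, hP₂, hP₂s, hP₂d, horth₂, hsup₂, hd₂, hgoodY⟩ :=
    good_split h2 hg hgg hR₁ hR₁s hne
  set P₂ := span F {u₂, (g - 1) u₂}
  have hP₂R : P₂ ≤ R₁ := hsup₂ ▸ le_sup_left
  obtain ⟨W'', hW''Y, hW'', hW''s, hW''d⟩ := exists_any h2 hg hgg _ rfl hY hYs hgoodY (h - 1) (by omega)
  -- a plane of either type among the first two
  obtain ⟨P', hP'le, hP', hP's, hP'd, hP't⟩ : ∃ P', P' ≤ P₁ ⊔ P₂ ∧ InvBy g P' ∧ Sep Q P' ∧ finrank F P' = 2 ∧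
      (Plus Q P' ↔ (T ↔ Plus Q W'')) := by
    obtain ⟨a, b, hab⟩ := exists_aniso (F := F)
    have hsq : ∀ c : F, IsSquare c := (two_cases (F := F)).resolve_left (not_not.mpr h2)
    have ha0 : a ≠ 0 := fun e => by
      obtain ⟨r, hr⟩ := hsq b
      exact one_ne_zero (hab r 1 (by linear_combination r * 1 * e - hr + b * h2)).2
    classical
    by_cases hT : T ↔ Plus Q W''
    all_goals
      obtain ⟨c, hc⟩ : ∃ c : F, (if T ↔ Plus Q W'' then (0 : F) else Q ((g - 1) u₁) * (b / (a * a))) = c := ⟨_, rfl⟩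
      obtain ⟨s, hs⟩ := hsq ((c - Q u₁) / Q ((g - 1) u₂))
      set u' := u₁ + s • (g - 1) u₂
      have hP₂mem : (g - 1) u₂ ∈ R₁ := hP₂R (subset_span (by simp))
      have hQu' : Q u' = c := by
        rw [QuadType.map_add', smul_quad, map_smul, horth₁ u₁ (subset_span (by simp)) _ hP₂mem, ← hs,
          div_mul_cancel₀ _ hα₂]
        simp
      have hNu' : (g - 1) u' = (g - 1) u₁ := by rw [map_add, map_smul, sub_one_sq h2 hgg, smul_zero, add_zero]
      have hu'mem : u' ∈ P₁ ⊔ P₂ := Submodule.add_mem_sup (subset_span (by simp))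
        (smul_mem _ _ (subset_span (by simp)))
      obtain ⟨-, -, -, -, hinv, hsep, hd', -, -, -, -⟩ := exists_plane h2 hg hgg (u := u') (hP₁.sup hP₂)
        (sep_sup hP₁s hP₂s fun x hx y hy => horth₁ x hx y (hP₂R hy)) hu'mem (hNu'.symm ▸ hα₁)
      refine ⟨span F {u', (g - 1) u'}, span_le.mpr ?_, hinv, hsep, hd', ?_⟩
      · simp only [Set.insert_subset_iff, Set.singleton_subset_iff, SetLike.mem_coe]
        exact ⟨hu'mem, by rw [hNu']; exact Submodule.mem_sup_left (subset_span (by simp))⟩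
      rw [plus_plane_iff hd']
      have hval : ∀ x y : F, Q (x • u' + y • (g - 1) u') =
          x * x * c + (x * y) * Q ((g - 1) u₁) + y * y * Q ((g - 1) u₁) := fun x y => by
        rw [QuadType.map_add', smul_quad, smul_quad, hQu', hNu', map_smul, map_smul, LinearMap.smul_apply,
          polar_swap u', ← hNu', ← quad_sub_one h2 hg, hNu']
        simp only [smul_eq_mul]
        ring
    · rw [if_pos hT] at hc
      refine iff_of_true ⟨u', subset_span (by simp), fun e => ?_, hQu'.trans hc.symm⟩ hT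
      rw [e, map_zero] at hNu'
      exact hα₁ (by rw [← hNu', map_zero])
    · rw [if_neg hT] at hc
      refine iff_of_false (fun ⟨e, he, he0, hQe⟩ => ?_) hT
      obtain ⟨x, y, rfl⟩ := mem_span_pair.mp he
      rw [hval, ← hc] at hQe
      have h0 : (a * y) ^ 2 + a * (a * y) * x + b * x ^ 2 = 0 := by
        field_simp at hQe
        refine (mul_eq_zero.mp (show Q ((g - 1) u₁) * ((a * y) ^ 2 + a * (a * y) * x + b * x ^ 2) = 0 by
          first | linear_combination hQe | linear_combination Q ((g - 1) u₁) * hQe)).resolve_left hα₁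
      obtain ⟨hy, hx⟩ := hab (a * y) x (by linear_combination h0)
      rw [mul_eq_zero, or_iff_right ha0] at hy
      exact he0 (by rw [hy, hx]; simp)
  have ho : ∀ x ∈ P', ∀ y ∈ W'', 𝔅 x y = 0 := fun x hx y hy => by
    obtain ⟨x₁, hx₁, x₂, hx₂, rfl⟩ := Submodule.mem_sup.mp (hP'le hx)
    rw [map_add, LinearMap.add_apply, horth₁ x₁ hx₁ y (hYR (hW''Y hy)), horth₂ x₂ hx₂ y (hW''Y hy), add_zero]
  refine ⟨P' ⊔ W'', ⟨?_, sep_sup hP's hW''s ho, ?_⟩, hP'.sup hW''⟩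
  · rw [finrank_orth_sup hP's ho, hP'd, hW''d]; omega
  · rw [plus_sup_iff hP's hW''s ho (hP'd ▸ even_two) (hW''d ▸ even_two_mul _), hP't]
    by_cases h1 : T <;> by_cases h3 : Plus Q W'' <;> simp [h1, h3]

/-- Totally singular images: a fixed part and hyperbolic blocks of dimension four. -/
theorem singular_blocks : ∀ (n : ℕ) {W : Submodule F V}, finrank F W = n → InvBy g W → Sep Q W →
    (∀ y ∈ W, Q ((g - 1) y) = 0) →
    ∃ (C : Submodule F V) (s : ℕ), C ≤ W ∧ Sep Q C ∧ (∀ v ∈ C, g v = v) ∧ n = finrank F C + 4 * s ∧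
      (Even n → (Plus Q W ↔ Plus Q C)) ∧
      ∀ a, a ≤ s → ∃ X, X ≤ W ∧ InvBy g X ∧ Sep Q X ∧ finrank F X = 4 * a ∧ Plus Q X ∧
        ∀ x ∈ X, ∀ y ∈ C, 𝔅 x y = 0 := by
  intro n
  induction n using Nat.strong_induction_on with
  | _ n ih =>
  intro W hn hW hWs halt
  by_cases hfix : ∀ y ∈ W, g y = y
  · refine ⟨W, 0, le_rfl, hWs, hfix, by omega, fun _ => Iff.rfl, fun a ha => ⟨⊥, bot_le, invBy_bot, sep_bot,
      by rw [Nat.le_zero.mp ha]; simp, plus_bot, fun x hx y _ => by simp [(Submodule.mem_bot F).mp hx]⟩⟩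
  push Not at hfix
  obtain ⟨u₀, hu₀, hgu₀⟩ := hfix
  have hN : ∀ y ∈ W, (g - 1) y ∈ W := fun y hy => W.sub_mem (hW y hy) hy
  obtain ⟨v, hv, huv₀⟩ := hWs _ (hN u₀ hu₀) fun e => hgu₀ (sub_eq_zero.mp e)
  obtain ⟨u₁, hu₁, huv⟩ : ∃ u₁ ∈ W, 𝔅 ((g - 1) u₁) v = 1 :=
    ⟨(𝔅 ((g - 1) u₀) v)⁻¹ • u₀, W.smul_mem _ hu₀, by
      rw [map_smul, map_smul, LinearMap.smul_apply, smul_eq_mul, inv_mul_cancel₀ huv₀]⟩
  set u := u₁ - 𝔅 v u₁ • (g - 1) u₁ with hu
  have huW : u ∈ W := W.sub_mem hu₁ (W.smul_mem _ (hN u₁ hu₁))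
  have hNu : (g - 1) u = (g - 1) u₁ := by rw [hu, map_sub, map_smul, sub_one_sq h2 hgg, smul_zero, sub_zero]
  rw [← hNu] at huv
  have hvu : 𝔅 v u = 0 := by
    rw [hu, map_sub, map_smul, ← hNu, polar_swap v ((g - 1) u), huv]; simp
  have hNvu : 𝔅 ((g - 1) v) u = 1 := by rw [sub_one_adj hg hgg, polar_swap, huv]
  have hQu : Q ((g - 1) u) = 0 := halt u huW
  have hQv : Q ((g - 1) v) = 0 := halt v hv
  have hBu : 𝔅 ((g - 1) u) u = 0 := by rw [← quad_sub_one h2 hg]; exact hQu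
  have hBv : 𝔅 ((g - 1) v) v = 0 := by rw [← quad_sub_one h2 hg]; exact hQv
  obtain ⟨h1s, -, h1d⟩ := sep_span_pair (Q := Q) (u := (g - 1) u) (v := v) (by rw [hQu, huv]; simp)
  obtain ⟨h2s, -, h2d⟩ := sep_span_pair (Q := Q) (u := (g - 1) v) (v := u) (by rw [hQv, hNvu]; simp)
  have h12 : ∀ x ∈ span F {(g - 1) u, v}, ∀ y ∈ span F {(g - 1) v, u}, 𝔅 x y = 0 := fun x hx y hy => by
    obtain ⟨a, b, rfl⟩ := mem_span_pair.mp hx
    obtain ⟨a', b', rfl⟩ := mem_span_pair.mp hy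
    simp only [map_add, map_smul, LinearMap.add_apply, LinearMap.smul_apply, sub_one_orth h2 hg hgg, hBu,
      polar_swap v ((g - 1) v), hBv, hvu, smul_zero, add_zero]
  set Z := span F {(g - 1) u, v} ⊔ span F {(g - 1) v, u}
  have hZs : Sep Q Z := sep_sup h1s h2s h12
  have hZd : finrank F Z = 4 := by rw [finrank_orth_sup h1s h12, h1d, h2d]
  have hmemZ : (g - 1) u ∈ Z ∧ v ∈ Z ∧ (g - 1) v ∈ Z ∧ u ∈ Z :=
    ⟨Submodule.mem_sup_left (subset_span (by simp)), Submodule.mem_sup_left (subset_span (by simp)),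
      Submodule.mem_sup_right (subset_span (by simp)), Submodule.mem_sup_right (subset_span (by simp))⟩
  have hgfix : ∀ z, g ((g - 1) z) = (g - 1) z := fun z => sub_eq_zero.mp (sub_one_sq h2 hgg z)
  have hZi : InvBy g Z := by
    intro x hx
    obtain ⟨p, hp, p', hp', rfl⟩ := Submodule.mem_sup.mp hx
    obtain ⟨a, b, rfl⟩ := mem_span_pair.mp hp
    obtain ⟨a', b', rfl⟩ := mem_span_pair.mp hp'
    simp only [map_add, map_smul, hgfix]
    rw [show g v = v + (g - 1) v by simp, show g u = u + (g - 1) u by simp]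
    exact Z.add_mem (Z.add_mem (Z.smul_mem _ hmemZ.1) (Z.smul_mem _ (Z.add_mem hmemZ.2.1 hmemZ.2.2.1)))
      (Z.add_mem (Z.smul_mem _ hmemZ.2.2.1) (Z.smul_mem _ (Z.add_mem hmemZ.2.2.2 hmemZ.1)))
  have hZp : Plus Q Z := by
    rw [plus_sup_iff h1s h2s h12 (h1d ▸ even_two) (h2d ▸ even_two), plus_plane_iff h1d, plus_plane_iff h2d]
    refine iff_of_true ⟨_, subset_span (by simp), fun e => ?_, hQu⟩ ⟨_, subset_span (by simp), fun e => ?_, hQv⟩
    · rw [e] at huv; simp at huv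
    · rw [e] at hNvu; simp at hNvu
  have hZW : Z ≤ W := sup_le (span_le.mpr (Set.insert_subset_iff.mpr ⟨hN u huW, Set.singleton_subset_iff.mpr hv⟩))
    (span_le.mpr (Set.insert_subset_iff.mpr ⟨hN v hv, Set.singleton_subset_iff.mpr huW⟩))
  obtain ⟨R, hRW, hR, horth, hsup, hd, hmem⟩ := exists_perp hWs hZs hZW
  rw [hn, hZd] at hd
  obtain ⟨C, s, hCR, hC, hCfix, hCd, hCt, hblocks⟩ := ih _ (by omega) rfl
    (perp_inv hg hgg hZi hW hRW horth hmem) hR fun y hy => halt y (hRW hy)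
  refine ⟨C, s + 1, hCR.trans hRW, hC, hCfix, by omega, fun hne => ?_, fun a ha => ?_⟩
  · have hRe : Even (finrank F R) := by rw [hd, Nat.even_add] at hne; exact hne.mp (by decide)
    rw [← hsup, plus_sup_iff hZs hR horth (hZd ▸ by decide) hRe, iff_true_left hZp, hCt hRe]
  · rcases Nat.eq_zero_or_pos a with rfl | ha0
    · exact ⟨⊥, bot_le, invBy_bot, sep_bot, by simp, plus_bot, fun x hx y _ => by simp [(Submodule.mem_bot F).mp hx]⟩
    obtain ⟨X, hXR, hX, hXs, hXd, hXp, hXC⟩ := hblocks (a - 1) (by omega)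
    have ho : ∀ z ∈ Z, ∀ x ∈ X, 𝔅 z x = 0 := fun z hz x hx => horth z hz x (hXR hx)
    refine ⟨Z ⊔ X, sup_le hZW (hXR.trans hRW), hZi.sup hX, sep_sup hZs hXs ho, ?_, ?_, fun x hx y hy => ?_⟩
    · rw [finrank_orth_sup hZs ho, hZd, hXd]; omega
    · rw [plus_sup_iff hZs hXs ho (hZd ▸ by decide) (hXd ▸ ⟨2 * (a - 1), by ring⟩)]
      exact iff_of_true hZp hXp
    · obtain ⟨z, hz, x', hx', rfl⟩ := Submodule.mem_sup.mp hx
      rw [map_add, LinearMap.add_apply, horth z hz y (hCR hy), hXC x' hx' y hy, add_zero]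

/-- Involutions with totally singular image. -/
theorem fix_singular (hQ : Sep Q ⊤) {d : ℕ} (hn : finrank F V = 2 * d) (halt : ∀ u, Q ((g - 1) u) = 0) {h : ℕ}
    {T : Prop} (harith : ∀ s, 4 * s ≤ 2 * d → (4 * s = 2 * d → Plus Q ⊤) →
      ∃ a, a ≤ s ∧ 4 * a ≤ 2 * h ∧ 2 * h - 4 * a ≤ 2 * d - 4 * s ∧
        (2 * h = 4 * a → T) ∧ (2 * h - 4 * a = 2 * d - 4 * s → (Plus Q ⊤ ↔ T))) :
    ∃ W : Submodule F V, (finrank F W = 2 * h ∧ Sep Q W ∧ (Plus Q W ↔ T)) ∧ InvBy g W := by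
  obtain ⟨C, s, -, hC, hCfix, hCd, hCt, hblocks⟩ := singular_blocks h2 hg hgg _ (W := ⊤) rfl invBy_top hQ
    fun y _ => halt y
  rw [finrank_top, hn] at hCd hCt
  have hVC := hCt (even_two_mul d)
  obtain ⟨a, ha, hah, hle, h0, hfull⟩ := harith s (by omega) fun e => by
    rw [hVC, show C = ⊥ from Submodule.finrank_eq_zero.mp (by omega)]
    exact plus_bot
  obtain ⟨X, -, hX, hXs, hXd, hXp, hXC⟩ := hblocks a ha
  obtain ⟨E, hEC, hE, hEd, hEt⟩ : ∃ E, E ≤ C ∧ Sep Q E ∧ finrank F E = 2 * h - 4 * a ∧ (Plus Q E ↔ T) := by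
    rcases hle.lt_or_eq with hlt | heq
    · obtain ⟨E, hEC, hE, hEd, hEt⟩ := exists_sub_type (h - 2 * a) hC (by omega) T fun e => h0 (by omega)
      exact ⟨E, hEC, hE, by omega, hEt⟩
    · exact ⟨C, le_rfl, hC, by omega, hVC.symm.trans (hfull heq)⟩
  have ho : ∀ x ∈ X, ∀ y ∈ E, 𝔅 x y = 0 := fun x hx y hy => hXC x hx y (hEC hy)
  refine ⟨X ⊔ E, ⟨?_, sep_sup hXs hE ho, ?_⟩, hX.sup fun y hy => by rw [hCfix y (hEC hy)]; exact hy⟩
  · rw [finrank_orth_sup hXs ho, hXd, hEd]; omega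
  · rw [plus_sup_iff hXs hE ho (hXd ▸ ⟨2 * a, by ring⟩) (hEd ▸ ⟨h - 2 * a, by omega⟩), iff_true_left hXp, hEt]

end CfsgLib.OrthInvolutions

namespace CfsgLib.OrthInvolutions

open Module Submodule CfsgLib.LinearElements CfsgLib.QuadType CfsgLib.OrthFix Matrix

variable {F : Type*} [Field F] [Fintype F] {ι : Type} [Fintype ι] [DecidableEq ι] {Q : QuadraticForm F (ι → F)}

/-- Elements of `Ω` are not reflections. -/
theorem not_refl [CharP F 2] (hQ : (QuadraticMap.polarBilin Q).Nondegenerate) (hn : 4 < Fintype.card ι) {x : GL ι F}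
    (hx : x ∈ Cfsg.Geo.omegaGL ⇑Q) {w : ι → F} (hw : Q w ≠ 0) :
    ∃ v, Matrix.toLin' (x : Matrix ι ι F) v ≠ v - ((Q w)⁻¹ * QuadraticMap.polarBilin Q w v) • w := by
  by_contra hall
  push Not at hall
  obtain ⟨g, hg, rfl⟩ := hx
  have hgen := CfsgLib.Forms.exists_isReflProd_charTwo hQ (Or.inr (by omega))
  have hrefl : CfsgLib.Spinor.IsReflProd Q g [w] := by
    refine ⟨by simpa using hw, ?_⟩
    rw [List.map_singleton, List.prod_singleton]
    refine Matrix.toLin'.injective (LinearMap.ext fun v => ?_)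
    rw [CfsgLib.Spinor.toLin'_reflectionMatrix, CfsgLib.Spinor.refl_apply]
    exact hall v
  have h1 := CfsgLib.Forms.parityHom_eq hQ hgen hrefl
  rw [show CfsgLib.Forms.parityHom hQ hgen g = 1 from
    Abelianization.commutator_subset_ker (CfsgLib.Forms.parityHom hQ hgen) hg] at h1
  simp at h1

/-- In characteristic two every involution of `Ω` fixes a subspace, under the arithmetic condition. -/
theorem two_two_fix [CharP F 2] (hQ : (QuadraticMap.polarBilin Q).Nondegenerate) {d : ℕ}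
    (hn : Fintype.card ι = 2 * d) (hd : 4 ≤ d) {h : ℕ} (hh : 0 < h) (hhd : h < d) {PV T : Prop}
    (hPV : Plus Q ⊤ ↔ PV) (harith : ∀ s, 4 * s ≤ 2 * d → (4 * s = 2 * d → PV) →
      ∃ a, a ≤ s ∧ 4 * a ≤ 2 * h ∧ 2 * h - 4 * a ≤ 2 * d - 4 * s ∧
        (2 * h = 4 * a → T) ∧ (2 * h - 4 * a = 2 * d - 4 * s → (PV ↔ T)))
    {x : GL ι F} (hx : x ∈ Cfsg.Geo.omegaGL ⇑Q)
    (hz : ∃ z : F, ((x ^ 2 : GL ι F) : Matrix ι ι F) = z • (1 : Matrix ι ι F)) :
    ∃ W : Submodule F (ι → F), (finrank F W = 2 * h ∧ Sep Q W ∧ (Plus Q W ↔ T)) ∧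
      W.map (Matrix.toLin' (x : Matrix ι ι F)) ≤ W := by
  have h2 : (2 : F) = 0 := CharTwo.two_eq_zero
  obtain ⟨z, hz⟩ := hz
  set g := Matrix.toLin' (x : Matrix ι ι F)
  have hg : ∀ v, Q (g v) = Q v := fun v => by rw [Matrix.toLin'_apply]; exact quad_of_mem_omega hx v
  have hxx : ∀ v, g (g v) = z • v := fun v => by
    rw [Matrix.toLin'_apply, Matrix.toLin'_apply, Matrix.mulVec_mulVec, ← pow_two, ← Units.val_pow_eq_pow_val, hz,
      Matrix.smul_mulVec, Matrix.one_mulVec]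
  have hQs := sep_top hQ
  have hV : finrank F (ι → F) = 2 * d := by rw [Module.finrank_fintype_fun_eq_card, hn]
  obtain ⟨u, -, hu⟩ := exists_value hQs (by rw [finrank_top, hV]; omega) 1
  have hzz : z * z = 1 := by
    have h1 : Q (z • u) = Q u := by rw [← hxx, hg, hg]
    rwa [smul_quad, hu, mul_one] at h1
  have hz1 : z = 1 := by
    have h3 : (z - 1) * (z - 1) = 0 := by linear_combination hzz - (z - 1) * h2
    exact sub_eq_zero.mp (mul_self_eq_zero.mp h3)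
  have hgg : ∀ v, g (g v) = v := fun v => by rw [hxx, hz1, one_smul]
  by_cases halt : ∀ u, Q ((g - 1) u) = 0
  · obtain ⟨W, hW, hinv⟩ := fix_singular h2 hg hgg hQs hV halt (h := h) (T := T) (fun s hs hPs => by
      obtain ⟨a, h1, h3, h4, h5, h6⟩ := harith s hs fun e => hPV.mp (hPs e)
      exact ⟨a, h1, h3, h4, h5, fun e => hPV.trans (h6 e)⟩)
    exact ⟨W, hW, hinv.map_le⟩
  · push Not at halt
    obtain ⟨W, hW, hinv⟩ := fix_anisotropic h2 hg hgg hQs hV halt (fun w hw => not_refl hQ (by omega) hx hw) hh hhd T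
    exact ⟨W, hW, hinv.map_le⟩

end CfsgLib.OrthInvolutions
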