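import Cfsg.Agent.LinearElements.OrthStandard
import Cfsg.Agent.OrthPartition.Fix

/-!
Odd `p`, even dimension: an element of order `p` fixing no member of a given class of nondegenerate subspaces of odd
dimension.
-/

set_option autoImplicit false

namespace CfsgLib.OrthOddBlocks

open Module Submodule CfsgLib.LinearElements CfsgLib.QuadType CfsgLib.OrthAtoms CfsgLib.OrthPrimePower CfsgLib.OrthFix
  CfsgLib.OrthEvenDim

variable {F V : Type*} [Field F] [AddCommGroup V] [Module F V] {Q : QuadraticForm F V}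

local notation "𝔅" => QuadraticMap.polarBilin Q

variable [FiniteDimensional F V]

theorem singular_half {W Z : Submodule F V} (hWs : Sep Q W) (hZW : Z ≤ W) (hiso : ∀ u ∈ Z, ∀ v ∈ Z, 𝔅 u v = 0) :
    2 * finrank F Z ≤ finrank F W := by
  let BW : LinearMap.BilinForm F W := LinearMap.BilinForm.restrict (QuadraticMap.polarBilin Q) W
  have hBW : BW.Nondegenerate := by
    refine ⟨fun v hv => ?_, fun v hv => ?_⟩ <;> by_contra hne <;>
      obtain ⟨y, hy, hvy⟩ := hWs v v.2 (fun e => hne (Subtype.ext e))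
    · exact hvy (hv ⟨y, hy⟩)
    · exact hvy (by rw [polar_swap]; exact hv ⟨y, hy⟩)
  have h1 := LinearMap.BilinForm.finrank_orthogonal hBW (Z.comap W.subtype)
  have h2 : Z.comap W.subtype ≤ BW.orthogonal (Z.comap W.subtype) := fun v hv x hx => hiso _ hx _ hv
  have h3 := Submodule.finrank_mono h2
  rw [h1, (Submodule.comapSubtypeEquivOfLe hZW).finrank_eq] at h3
  omega

variable [Fintype F]

/-- The fixed vectors of a square-zero unipotent part with totally singular fixed space. -/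
theorem half_of_square_zero {g : Module.End F V} {W : Submodule F V} (hW : InvBy g W) (hWs : Sep Q W)
    (hN : ∀ v ∈ W, (g - 1) ((g - 1) v) = 0) (hK : ∀ v ∈ fixedIn g W, Q v = 0) :
    2 * finrank F (fixedIn g W) = finrank F W ∧
      ∀ u ∈ W, (g - 1) u ∈ fixedIn g W := by
  have hNW : ∀ u ∈ W, (g - 1) u ∈ fixedIn g W := fun u hu =>
    mem_fixedIn.mpr ⟨W.sub_mem (hW u hu) hu, sub_eq_zero.mp (hN u hu)⟩
  refine ⟨le_antisymm (singular_half hWs inf_le_left fun u hu v hv => polar_singular hK hu hv) ?_, hNW⟩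
  let φ : W →ₗ[F] fixedIn g W := ((g - 1).domRestrict W).codRestrict _ fun u => hNW u u.2
  have h1 := LinearMap.finrank_range_add_finrank_ker φ
  have h2 := Submodule.finrank_le (LinearMap.range φ)
  have h3 : finrank F (LinearMap.ker φ) ≤ finrank F (fixedIn g W) := by
    rw [← Submodule.finrank_map_subtype_eq W (LinearMap.ker φ)]
    refine Submodule.finrank_mono ?_
    rintro _ ⟨u, hu, rfl⟩
    exact mem_fixedIn.mpr ⟨u.2, sub_eq_zero.mp (congrArg Subtype.val (LinearMap.mem_ker.mp hu))⟩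
  omega

/-- An odd dimensional invariant subspace on which the square of `g - 1` vanishes, when the fixed vectors have rank
one. -/
theorem presentation {g : Module.End F V} (hg : ∀ v, Q (g v) = Q v) {α : F} {s : V → F}
    (hH : ∀ u v, g u = u → g v = v → 𝔅 u v = 2 * α * (s u * s v)) (h2 : (2 : F) ≠ 0) {W : Submodule F V}
    (hW : InvBy g W) (hWs : Sep Q W) (hN : ∀ v ∈ W, (g - 1) ((g - 1) v) = 0) (hodd : Odd (finrank F W)) :
    ∃ w ∈ W, ∃ (R : Submodule F V) (t : ℕ), R ≤ W ∧ Sep Q R ∧ finrank F R = 2 * (2 * t) ∧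
      finrank F W = 2 * (2 * t) + 1 ∧ Plus Q R ∧ (∀ y ∈ R, 𝔅 w y = 0) ∧ Q w = α * (s w * s w) ∧ Q w ≠ 0 := by
  have hQs : ∀ v, g v = v → Q v = α * (s v * s v) := fun v hv => mul_left_cancel₀ h2 (by
    rw [← polar_diag, hH v v hv hv]; ring)
  obtain ⟨w, hw, hw0⟩ : ∃ w ∈ fixedIn g W, Q w ≠ 0 := by
    by_contra hall
    push Not at hall
    obtain ⟨h1, -⟩ := half_of_square_zero hW hWs hN hall
    obtain ⟨k, hk⟩ := hodd
    omega
  obtain ⟨hwW, hgw⟩ := mem_fixedIn.mp hw
  have hne : w ≠ 0 := fun e => hw0 (by rw [e, map_zero])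
  have hLs : Sep Q (span F {w}) := by
    intro y hy hy0
    obtain ⟨a, rfl⟩ := mem_span_singleton.mp hy
    refine ⟨w, mem_span_singleton_self w, ?_⟩
    rw [map_smul, LinearMap.smul_apply, polar_diag, smul_eq_mul]
    exact mul_ne_zero (fun e => hy0 (by rw [e, zero_smul])) (mul_ne_zero h2 hw0)
  obtain ⟨R, hRW, hR, horth, -, hd, hmem⟩ := exists_perp hWs hLs ((span_singleton_le_iff_mem _ _).mpr hwW)
  rw [finrank_span_singleton hne] at hd
  have hwR : ∀ y ∈ R, 𝔅 w y = 0 := horth w (mem_span_singleton_self w)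
  have hRi : InvBy g R := fun y hy => hmem _ (hW y (hRW hy)) fun x hx => by
    obtain ⟨a, rfl⟩ := mem_span_singleton.mp hx
    rw [← hgw, ← map_smul, polar_iso hg]
    exact horth _ (smul_mem _ _ (mem_span_singleton_self w)) y hy
  have hK : ∀ v ∈ fixedIn g R, Q v = 0 := fun v hv => by
    obtain ⟨hvR, hgv⟩ := mem_fixedIn.mp hv
    have h1 := hH w v hgw hgv
    rw [hwR v hvR] at h1
    rw [hQs v hgv]
    rw [hQs w hgw] at hw0
    have h3 : 2 * α * s w * s v = 0 := by linear_combination -h1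
    rcases mul_eq_zero.mp h3 with h4 | h4
    · exfalso
      apply hw0
      rcases mul_eq_zero.mp h4 with h5 | h5
      · rw [(mul_eq_zero.mp h5).resolve_left h2, zero_mul]
      · rw [h5, mul_zero, mul_zero]
    · rw [h4, mul_zero, mul_zero]
  obtain ⟨hhalf, hNR⟩ := half_of_square_zero hRi hR (fun v hv => hN v (hRW hv)) hK
  set K := fixedIn g R
  -- the induced alternating form
  let β : LinearMap.BilinForm F V :=
    LinearMap.BilinForm.comp (QuadraticMap.polarBilin Q) (g - 1) LinearMap.id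
  have hβ : ∀ u v, β u v = 𝔅 ((g - 1) u) v := fun u v => by simp [β, LinearMap.BilinForm.comp]
  have hβd : ∀ u ∈ R, β u u = 0 := fun u hu => by
    have h1 := hK _ (hNR u hu)
    rw [LinearMap.sub_apply, Module.End.one_apply, sub_eq_add_neg, QuadType.map_add', QuadraticMap.map_neg, hg,
      map_neg] at h1
    rw [hβ, LinearMap.sub_apply, Module.End.one_apply, map_sub, LinearMap.sub_apply, polar_diag]
    linear_combination -h1
  obtain ⟨T, hT⟩ := Submodule.exists_isCompl K
  set T' := T ⊓ R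
  have hKT : K ⊔ T' = R := by
    rw [← sup_inf_assoc_of_le T (show K ≤ R from inf_le_left), hT.sup_eq_top, top_inf_eq]
  have hTd : finrank F K + finrank F T' = finrank F R := by
    have h1 := Submodule.finrank_sup_add_finrank_inf_eq K T'
    rw [hKT, show K ⊓ T' = ⊥ from le_bot_iff.mp ((inf_le_inf_left _ inf_le_left).trans hT.inf_eq_bot.le),
      finrank_bot, Nat.add_zero] at h1
    omega
  let β' : LinearMap.BilinForm F T' := β.restrict T'
  have hA : β'.IsAlt := fun u => hβd u u.2.2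
  have hs : SepOn β' ⊤ := by
    intro u _ hu0
    have hne : (g - 1) (u : V) ≠ 0 := fun e => hu0 (Subtype.ext ((Submodule.eq_bot_iff _).mp hT.inf_eq_bot _
      ⟨mem_fixedIn.mpr ⟨u.2.2, sub_eq_zero.mp e⟩, u.2.1⟩))
    obtain ⟨y, hy, huy⟩ := hR _ (hNR u u.2.2).1 hne
    rw [← hKT] at hy
    obtain ⟨k, hk, z, hz, rfl⟩ := Submodule.mem_sup.mp hy
    refine ⟨⟨z, hz⟩, trivial, fun e => huy ?_⟩
    have e' : 𝔅 ((g - 1) (u : V)) z = 0 := (hβ _ _).symm.trans e
    rw [map_add, polar_singular hK (hNR u u.2.2) hk, zero_add]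
    exact e'
  obtain ⟨t, ht⟩ := even_finrank_sepOn hA hs
  rw [finrank_top] at ht
  exact ⟨w, hwW, R, t, hRW, hR, by omega, by omega, ⟨K, inf_le_left, hK, hhalf⟩, hwR, hQs w hgw, hw0⟩

omit [FiniteDimensional F V] in
/-- The class of a subspace of odd dimension is determined by the line next to a plus subspace. -/
theorem class_unique [Finite V] [FiniteDimensional F V] {W₁ W₂ R₁ R₂ : Submodule F V} (h2 : (2 : F) ≠ 0) (hW₂ : Sep Q W₂)
    (hiso : Iso Q Q W₁ W₂) {k : ℕ} (hR₁ : Sep Q R₁) (hR₁W : R₁ ≤ W₁) (hR₁d : finrank F R₁ = 2 * k) (hR₁p : Plus Q R₁)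
    (hR₂ : Sep Q R₂) (hR₂W : R₂ ≤ W₂) (hR₂d : finrank F R₂ = 2 * k) (hR₂p : Plus Q R₂)
    (hd : finrank F W₂ = 2 * k + 1) {w₁ w₂ : V} (hw₁ : w₁ ∈ W₁) (hw₁o : ∀ y ∈ R₁, 𝔅 w₁ y = 0) (hw₂ : w₂ ∈ W₂)
    (hw₂o : ∀ y ∈ R₂, 𝔅 w₂ y = 0) (hw₂0 : Q w₂ ≠ 0) : ∃ a : F, Q w₁ = a * a * Q w₂ := by
  obtain ⟨e, he⟩ := hiso
  let f : R₁ →ₗ[F] W₂ := e.toLinearMap ∘ₗ Submodule.inclusion hR₁W
  have hfi : Function.Injective f := e.injective.comp (Submodule.inclusion_injective hR₁W)
  have hf : ∀ y, (Q.comp W₂.subtype) (f y) = (Q.comp R₁.subtype) y := fun y => he _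
  set R' : Submodule F W₂ := LinearMap.range f
  have hR'd : finrank F R' = 2 * k := (LinearMap.finrank_range_of_inj hfi).trans hR₁d
  have hR's : Sep (Q.comp W₂.subtype) R' := by
    rw [show R' = (⊤ : Submodule F R₁).map f from (Submodule.map_top f).symm, sep_map f hfi hf]
    exact sep_comp_top.mpr hR₁
  have hR'p : Plus (Q.comp W₂.subtype) R' := by
    rw [show R' = (⊤ : Submodule F R₁).map f from (Submodule.map_top f).symm, plus_map f hfi hf]
    exact plus_comp_top.mpr hR₁p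
  set R'' : Submodule F W₂ := R₂.comap W₂.subtype
  have hR''m : R''.map W₂.subtype = R₂ := by
    rw [Submodule.map_comap_eq, Submodule.range_subtype, inf_eq_right.mpr hR₂W]
  have hR''s : Sep (Q.comp W₂.subtype) R'' := by
    rw [← sep_map (Q' := Q) W₂.subtype W₂.subtype_injective fun _ => rfl, hR''m]; exact hR₂
  have hR''p : Plus (Q.comp W₂.subtype) R'' := by
    rw [← plus_map (Q' := Q) W₂.subtype W₂.subtype_injective fun _ => rfl, hR''m]; exact hR₂p
  have hR''d : finrank F R'' = 2 * k := by rw [← Submodule.finrank_map_subtype_eq, hR''m, hR₂d]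
  obtain ⟨G, hG, hGR⟩ := exists_isoG_map (sep_comp_top.mpr hW₂)
    (iso_of_type k hR's hR''s hR'd hR''d (iff_of_true hR'p hR''p))
  set u : W₂ := G (e ⟨w₁, hw₁⟩)
  have hQu : Q (u : V) = Q w₁ := (hG (e ⟨w₁, hw₁⟩)).trans (he _)
  have hperp : ∀ y ∈ R₂, 𝔅 (u : V) y = 0 := by
    intro y hy
    have hy' : (⟨y, hR₂W hy⟩ : W₂) ∈ R'.map (G : W₂ →ₗ[F] W₂) := hGR ▸ hy
    obtain ⟨z, hz, hzy⟩ := hy'
    obtain ⟨x, rfl⟩ := hz
    have h1 : QuadraticMap.polarBilin (Q.comp W₂.subtype) (G (e ⟨w₁, hw₁⟩)) (G (f x)) =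
        QuadraticMap.polarBilin (Q.comp W₂.subtype) (e ⟨w₁, hw₁⟩) (f x) :=
      polar_map (Q := Q.comp W₂.subtype) (Q' := Q.comp W₂.subtype) (G : W₂ →ₗ[F] W₂) hG _ _
    have h3 : QuadraticMap.polarBilin (Q.comp W₂.subtype) (e ⟨w₁, hw₁⟩) (f x) = 𝔅 w₁ (x : V) :=
      polar_map (Q := Q.comp W₁.subtype) (Q' := Q.comp W₂.subtype) e.toLinearMap (fun z => he z) _ _
    rw [h3, hw₁o x x.2] at h1
    rw [show y = ((G (f x) : W₂) : V) from congrArg Subtype.val hzy.symm]
    exact h1
  obtain ⟨L, -, -, horthL, -, hdL, hmem⟩ := exists_perp hW₂ hR₂ hR₂W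
  have hL : span F {w₂} = L := Submodule.eq_of_le_of_finrank_eq
    ((span_singleton_le_iff_mem _ _).mpr (hmem _ hw₂ fun y hy => (polar_swap y w₂).trans (hw₂o y hy)))
    (by rw [finrank_span_singleton fun e => hw₂0 (by rw [e, map_zero])]; omega)
  have huL : (u : V) ∈ L := hmem _ u.2 fun y hy => (polar_swap y _).trans (hperp y hy)
  rw [← hL, mem_span_singleton] at huL
  obtain ⟨a, ha⟩ := huL
  exact ⟨a, by rw [← hQu, ← ha, smul_quad]⟩

omit [Fintype F] in
/-- An isometry between subspaces matches their perps. -/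
theorem perp_iso (hQ : Sep Q ⊤) {g : V ≃ₗ[F] V} (hg : g ∈ isoG Q) {W W' Y Y' : Submodule F V}
    (hgW : W.map (g : V →ₗ[F] V) = W') (hWs : Sep Q W) (hWY : ∀ x ∈ W, ∀ y ∈ Y, 𝔅 x y = 0)
    (hY' : ∀ y, (∀ x ∈ W', 𝔅 x y = 0) → y ∈ Y') (hd : finrank F Y = finrank F Y') : Iso Q Q Y Y' := by
  have hle : Y.map (g : V →ₗ[F] V) ≤ Y' := by
    rintro _ ⟨y, hy, rfl⟩
    refine hY' _ fun x hx => ?_
    rw [← hgW] at hx
    obtain ⟨z, hz, rfl⟩ := hx
    rw [polar_map (Q := Q) (Q' := Q) (g : V →ₗ[F] V) hg]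
    exact hWY z hz y hy
  have he : Y.map (g : V →ₗ[F] V) = Y' :=
    Submodule.eq_of_le_of_finrank_eq hle ((finrank_map' _ g.injective Y).trans hd)
  exact ⟨(Submodule.equivMapOfInjective _ g.injective Y).trans (LinearEquiv.ofEq _ _ he), fun w => hg (w : V)⟩

section Matrices

open Matrix

variable {ι : Type} [Fintype ι] [DecidableEq ι] {Q : QuadraticForm F (ι → F)}

/-- For `d` even: a unipotent element with one block of length three and one of length one. -/
theorem exists_three_one {p : ℕ} [Fact p.Prime] [CharP F p] (hp : Odd p)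
    (hQ : (QuadraticMap.polarBilin Q).Nondegenerate) {d : ℕ} (hn : Fintype.card ι = 2 * d) (hde : Even d) (hd : 2 ≤ d) :
    ∃ (g : Module.End F (ι → F)) (α : F) (s : (ι → F) → F) (e : ι → F), (∀ v, Q (g v) = Q v) ∧ g ^ p = 1 ∧ g ≠ 1 ∧
      (∀ v, (g - 1) ((g - 1) v) ∈ span F {e}) ∧
      ∀ u v, g u = u → g v = v → QuadraticMap.polarBilin Q u v = 2 * α * (s u * s v) := by
  classical
  have hp3 : 3 ≤ p := by
    have := (Fact.out : p.Prime).two_le
    obtain ⟨i, rfl⟩ := hp; omega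
  have h2 : (2 : F) ≠ 0 := Ring.two_ne_zero (by rw [ringChar.eq F p]; omega)
  obtain ⟨x, -, hxp, hns, hxQ, hr⟩ := CfsgLib.OrthPartition.exists_element (μ := Multiset.replicate (d - 2) 2 + {3, 1})
    hp hQ (by omega)
    (fun j hj => by
      rcases Multiset.mem_add.1 hj with h | h
      · rw [Multiset.eq_of_mem_replicate h]; omega
      · simp at h; omega)
    (fun e he => by
      have h3 : e ≠ 3 := by rintro rfl; exact absurd he (by decide)
      have h1 : e ≠ 1 := by rintro rfl; exact absurd he (by decide)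
      simp [Multiset.count_replicate, h1, h3]
      split_ifs with h
      · obtain ⟨t, ht⟩ := hde; exact ⟨t - 1, by omega⟩
      · exact Even.zero)
    ⟨1, by simp, odd_one⟩ ⟨3, by simp, by omega⟩ (by simp [hn]; omega)
  set g : Module.End F (ι → F) := Matrix.toLin' (x : Matrix ι ι F) with hgdef
  set N : Module.End F (ι → F) := g - 1 with hNdef
  have hgQ : ∀ v, Q (g v) = Q v := fun v => by rw [hgdef, Matrix.toLin'_apply]; exact hxQ v
  have hNk : ∀ k, finrank F (LinearMap.range (N ^ k)) =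
      ((Multiset.replicate (d - 2) 2 + ({3, 1} : Multiset ℕ)).map fun j => j - k).sum := fun k => by
    have e : N ^ k = Matrix.toLin' (((x : Matrix ι ι F) - 1) ^ k) := by
      show _ = Matrix.toLinAlgEquiv' (((x : Matrix ι ι F) - 1) ^ k)
      rw [map_pow, map_sub, map_one]
      rfl
    rw [← hr k, e]
    rfl
  have hN1 : finrank F (LinearMap.range N) = d := by
    have := hNk 1
    rw [pow_one] at this
    rw [this]
    simp
    omega
  have hN2 : finrank F (LinearMap.range (N ^ 2)) = 1 := by rw [hNk 2]; simp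
  have hker : finrank F (LinearMap.ker N) = d := by
    have := LinearMap.finrank_range_add_finrank_ker N
    rw [hN1, Module.finrank_fintype_fun_eq_card, hn] at this
    omega
  set rad := LinearMap.ker N ⊓ LinearMap.range N
  have hrad : finrank F rad + 1 = d := by
    let φ : LinearMap.range N →ₗ[F] (ι → F) := N.comp (LinearMap.range N).subtype
    have h1 := LinearMap.finrank_range_add_finrank_ker φ
    have h3 : LinearMap.range φ = LinearMap.range (N ^ 2) := by
      rw [LinearMap.range_comp, Submodule.range_subtype, pow_two, Module.End.mul_eq_comp, LinearMap.range_comp]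
    have h4 : (LinearMap.ker φ).map (LinearMap.range N).subtype = rad := by
      ext v
      constructor
      · rintro ⟨u, hu, rfl⟩; exact ⟨hu, u.2⟩
      · rintro ⟨hv, hv'⟩; exact ⟨⟨v, hv'⟩, hv, rfl⟩
    rw [h3, hN2, hN1, ← Submodule.finrank_map_subtype_eq _ (LinearMap.ker φ), h4] at h1
    omega
  have hfix : ∀ v, v ∈ LinearMap.ker N ↔ g v = v := fun v => by
    rw [LinearMap.mem_ker, hNdef, LinearMap.sub_apply, Module.End.one_apply, sub_eq_zero]
  have horth : ∀ u ∈ LinearMap.ker N, ∀ z ∈ LinearMap.range N, QuadraticMap.polarBilin Q u z = 0 := by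
    rintro u hu _ ⟨z, rfl⟩
    rw [hNdef, LinearMap.sub_apply, Module.End.one_apply, map_sub, sub_eq_zero]
    conv_lhs => rw [← (hfix u).mp hu]
    exact polar_iso hgQ u z
  obtain ⟨l, hl, hlr⟩ : ∃ l ∈ LinearMap.ker N, l ∉ rad := by
    by_contra hall
    push Not at hall
    have := Submodule.finrank_mono (show LinearMap.ker N ≤ rad from hall)
    omega
  have hkl : LinearMap.ker N = span F {l} ⊔ rad := by
    refine (Submodule.eq_of_le_of_finrank_eq (sup_le ((span_singleton_le_iff_mem _ _).mpr hl) inf_le_left) ?_).symm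
    show finrank F ↥(span F {l} ⊔ rad) = _
    have h1 := Submodule.finrank_sup_add_finrank_inf_eq (span F {l}) rad
    have h3 : span F {l} ⊓ rad = ⊥ := by
      rw [← disjoint_iff, disjoint_comm]; exact Submodule.disjoint_span_singleton_of_notMem hlr
    rw [h3, finrank_bot, finrank_span_singleton fun e => hlr (by rw [e]; exact rad.zero_mem)] at h1
    omega
  have hcoef : ∀ v, g v = v → ∃ a : F, ∃ z ∈ rad, v = a • l + z := fun v hv => by
    have h1 := (hfix v).mpr hv
    rw [hkl] at h1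
    obtain ⟨y, hy, z, hz, rfl⟩ := Submodule.mem_sup.mp h1
    obtain ⟨a, rfl⟩ := mem_span_singleton.mp hy
    exact ⟨a, z, hz, rfl⟩
  let s : (ι → F) → F := fun v => if hv : g v = v then (hcoef v hv).choose else 0
  obtain ⟨e, -, he⟩ : ∃ e, e ≠ 0 ∧ span F {e} = LinearMap.range (N ^ 2) := by
    obtain ⟨e, he, he0⟩ := (Submodule.ne_bot_iff (LinearMap.range (N ^ 2))).mp fun e => by
      rw [e, finrank_bot] at hN2; omega
    exact ⟨e, he0, Submodule.eq_of_le_of_finrank_eq ((span_singleton_le_iff_mem _ _).mpr he)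
      (by rw [finrank_span_singleton he0, hN2])⟩
  refine ⟨g, Q l, s, e, hgQ, ?_, ?_, fun v => ?_, fun u v hu hv => ?_⟩
  · show Matrix.toLinAlgEquiv' (x : Matrix ι ι F) ^ p = 1
    rw [← map_pow, ← Units.val_pow_eq_pow_val, ← hxp, pow_orderOf_eq_one, Units.val_one, map_one]
  · intro e1
    refine hns 1 ?_
    rw [one_smul]
    exact Matrix.toLin'.injective (e1.trans Matrix.toLin'_one.symm)
  · rw [he, ← Module.End.mul_apply, ← pow_two]
    exact LinearMap.mem_range_self _ v
  · simp only [s, dif_pos hu, dif_pos hv]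
    obtain ⟨z, hz, hz'⟩ := (hcoef u hu).choose_spec
    obtain ⟨z', hz₁, hz₁'⟩ := (hcoef v hv).choose_spec
    set a := (hcoef u hu).choose
    set a' := (hcoef v hv).choose
    rw [hz', hz₁', map_add, map_add, LinearMap.add_apply, LinearMap.add_apply, horth z hz.1 z' hz₁.2,
      polar_swap z (a' • l), horth (a' • l) (smul_mem _ _ hl) z hz.2, horth (a • l) (smul_mem _ _ hl) z' hz₁.2,
      map_smul, map_smul, LinearMap.smul_apply, polar_diag]
    simp only [smul_eq_mul]
    ring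

/-- The counterexample in characteristic `p`. -/
theorem not_all_fix_odd {p : ℕ} [Fact p.Prime] [CharP F p] (hp : Odd p)
    (hQ : (QuadraticMap.polarBilin Q).Nondegenerate) {d : ℕ} (hn : Fintype.card ι = 2 * d) (hd : 4 ≤ d) {m : ℕ}
    (hm : Odd m) (hmd : m < d) {W₀ : Submodule F (ι → F)} (hW₀ : Sep Q W₀) (hW₀d : finrank F W₀ = m)
    {Pr : Submodule F (ι → F) → Prop} (hPr : ∀ W, Pr W ↔ finrank F W = m ∧ Sep Q W ∧ Iso Q Q W W₀) :
    ¬ ∀ x : GL ι F, x ∈ Cfsg.Geo.omegaGL ⇑Q →
      (∃ z : F, ((x ^ p : GL ι F) : Matrix ι ι F) = z • (1 : Matrix ι ι F)) →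
      (∀ z : F, (x : Matrix ι ι F) ≠ z • (1 : Matrix ι ι F)) →
      ∃ W, Pr W ∧ W.map (Matrix.toLin' (x : Matrix ι ι F)) ≤ W := by
  have hp2 : p ≠ 2 := fun h => by rw [h] at hp; exact absurd hp (by decide)
  have hp3 : 3 ≤ p := by have := (Fact.out : p.Prime).two_le; omega
  have h2 : (2 : F) ≠ 0 := Ring.two_ne_zero (by rw [ringChar.eq F p]; exact hp2)
  intro hall
  obtain ⟨u, hu⟩ := hm
  rcases Nat.even_or_odd d with hde | ⟨k, hk⟩
  swap
  · -- `d` odd: avoid the residue of `m` modulo four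
    obtain ⟨l, s, hs, hls, hms⟩ : ∃ l s, (s = 1 ∨ s = 3) ∧ 4 * l + 2 * s = 2 * d ∧ m % 4 ≠ s % 4 := by
      rcases (by omega : m % 4 = 1 ∨ m % 4 = 3) with h | h
      · exact ⟨k - 1, 3, Or.inr rfl, by omega, by omega⟩
      · exact ⟨k, 1, Or.inl rfl, by omega, by omega⟩
    have hso : Odd s := by rcases hs with rfl | rfl <;> decide
    obtain ⟨W, hW, ν, hν, hνs, hνe, -⟩ := CfsgLib.OrthPartition.exists_part_of_fix
      (μ := Multiset.replicate (2 * l) 2 + {s, s}) (m := m) (P := fun W => Pr W) hp hQ (by omega)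
      (fun W hW => ⟨((hPr W).mp hW).1, (frozen_nondeg Q W).mpr ((hPr W).mp hW).2.1⟩)
      (fun x hx hxp hns => hall x hx ⟨1, by rw [← hxp, pow_orderOf_eq_one, one_smul]; rfl⟩ hns)
      (fun e he => by
        rcases Multiset.mem_add.1 he with h | h
        · rw [Multiset.eq_of_mem_replicate h]; omega
        · simp at h; omega)
      (fun e he => by
        have h1 : e ≠ s := by rintro rfl; exact Nat.not_even_iff_odd.mpr hso he
        simp [Multiset.count_replicate, h1]
        split_ifs <;> simp)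
      (by simp [hn]; omega) ⟨s, by simp, hso⟩
      ⟨2, Multiset.mem_add.2 (Or.inl (Multiset.mem_replicate.2 ⟨by omega, rfl⟩)), le_rfl⟩
    obtain ⟨ν₀, hν₀, hsum, htwo⟩ := CfsgLib.OrthPartition.sum_of_le_twos hν
    have h2e := hνe 2 even_two
    have hc : ν.count 2 = (ν - ν₀).card := by
      have hn0 : ν₀.count 2 = 0 :=
        Nat.le_zero.1 ((Multiset.count_le_of_le 2 hν₀).trans (by rcases hs with rfl | rfl <;> simp))
      have := Multiset.count_sub 2 ν ν₀
      rw [hn0, Nat.sub_zero, Multiset.count_eq_card.2 fun j hj => (htwo j hj).symm] at this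
      exact this.symm
    have hsum0 : ν₀.sum = 0 ∨ ν₀.sum = s ∨ ν₀.sum = 2 * s := by
      have hmem := Multiset.mem_powerset.2 hν₀
      rcases hs with rfl | rfl <;>
      · revert hmem
        generalize ν₀ = S
        revert S
        decide
    rw [hc] at h2e
    obtain ⟨c', hc'⟩ := h2e
    omega
  -- `d` even
  have hfix := (psl_iff hQ (by omega) hp2 Pr).mp hall
  obtain ⟨k, hk⟩ := hde
  have hQs := sep_top hQ
  have hV : finrank F (⊤ : Submodule F (ι → F)) = 2 * d := by
    rw [finrank_top, Module.finrank_fintype_fun_eq_card, hn]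
  obtain ⟨g, α, s, e, hg, hgp, hg1, hrk, hH⟩ := exists_three_one hp hQ hn ⟨k, hk⟩ (by omega)
  -- the target class
  obtain ⟨W₀', -, hW₀'s, hW₀W', -, hdW₀, -⟩ := exists_perp hQs hW₀ le_top
  set tgt : Submodule F (ι → F) := if m % 4 = 1 then W₀ else W₀'
  have htgt : Sep Q tgt ∧ ∃ t, finrank F tgt = 2 * t + 1 := by
    by_cases h : m % 4 = 1
    · rw [show tgt = W₀ from if_pos h]
      exact ⟨hW₀, u, by omega⟩
    · rw [show tgt = W₀' from if_neg h]
      rw [hV, hW₀d] at hdW₀
      exact ⟨hW₀'s, d - u - 1, by omega⟩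
  obtain ⟨htgts, t₀, ht₀⟩ := htgt
  obtain ⟨H, hHT, hHs, hHd, hHp⟩ := exists_sub_type t₀ htgts (by omega) True fun _ => trivial
  obtain ⟨L, hLT, hLs, horthL, -, hdL, -⟩ := exists_perp htgts hHs hHT
  obtain ⟨γv, hγv, hγ0⟩ := (Submodule.ne_bot_iff L).mp fun e => by rw [e, finrank_bot] at hdL; omega
  have hγ : Q γv ≠ 0 := fun e0 => by
    obtain ⟨z, hz, hγz⟩ := hLs γv hγv hγ0
    have hL : span F {γv} = L := Submodule.eq_of_le_of_finrank_eq ((span_singleton_le_iff_mem _ _).mpr hγv)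
      (by rw [finrank_span_singleton hγ0]; omega)
    rw [← hL, mem_span_singleton] at hz
    obtain ⟨a, rfl⟩ := hz
    exact hγz (by rw [map_smul, polar_diag, e0]; simp)
  -- any element with these properties has a class equal to the target's
  have key : ∀ (g : Module.End F (ι → F)) (α : F) (s : (ι → F) → F) (e : ι → F), (∀ v, Q (g v) = Q v) →
      g ^ p = 1 → g ≠ 1 → (∀ v, (g - 1) ((g - 1) v) ∈ span F {e}) →
      (∀ u v, g u = u → g v = v → QuadraticMap.polarBilin Q u v = 2 * α * (s u * s v)) →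
      α ≠ 0 ∧ IsSquare (α * Q γv) := by
    intro g α s e hg hgp hg1 hrk hH
    obtain ⟨W, hW, hinv⟩ := hfix g hg hgp hg1
    obtain ⟨hWd, hWs, hWiso⟩ := (hPr W).mp hW
    obtain ⟨W', -, hW's, hWW', hsup, hdW, hmem⟩ := exists_perp hQs hWs le_top
    have hW'inv : InvBy g W' := fun y hy => hmem _ trivial fun x hx => by
      rw [← polar_adjoint hg hgp (Fact.out : p.Prime).pos]
      exact hWW' _ (hinv.pow _ x hx) y hy
    have hone : (∀ v ∈ W, (g - 1) ((g - 1) v) = 0) ∨ ∀ v ∈ W', (g - 1) ((g - 1) v) = 0 := by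
      by_contra hno
      push Not at hno
      obtain ⟨⟨a, ha, ha0⟩, ⟨b, hb, hb0⟩⟩ := hno
      obtain ⟨ca, hca⟩ := mem_span_singleton.mp (hrk a)
      obtain ⟨cb, hcb⟩ := mem_span_singleton.mp (hrk b)
      have hmemW : ∀ {U : Submodule F (ι → F)}, InvBy g U → ∀ x ∈ U, (g - 1) x ∈ U := fun hU x hx =>
        Submodule.sub_mem _ (hU x hx) hx
      have h1 : (g - 1) ((g - 1) b) ∈ W ⊓ W' := ⟨by
        rw [← hcb, show cb • e = (cb / ca) • (ca • e) by
          rw [smul_smul, div_mul_cancel₀ _ fun h0 => ha0 (by rw [← hca, h0, zero_smul])]]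
        rw [hca]
        exact smul_mem _ _ (hmemW hinv _ (hmemW hinv a ha)), hmemW hW'inv _ (hmemW hW'inv b hb)⟩
      rw [orth_inf_bot hWs hWW', Submodule.mem_bot] at h1
      exact hb0 h1
    rw [hV, hWd] at hdW
    rw [hV, hW₀d] at hdW₀
    have hres : ∀ (U U₀ : Submodule F (ι → F)), Sep Q U → InvBy g U → (∀ v ∈ U, (g - 1) ((g - 1) v) = 0) →
        Odd (finrank F U) → finrank F U % 4 = 1 ∧ (Iso Q Q U tgt → α ≠ 0 ∧ IsSquare (α * Q γv)) := by
      intro U _ hU hUi hUN hUo
      obtain ⟨w, hw, R, t, hRU, hR, hRd, hUd, hRp, hwR, hQw, hw0⟩ := presentation hg hH h2 hUi hU hUN hUo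
      refine ⟨by omega, fun hiso => ?_⟩
      have hdt : finrank F tgt = 2 * (2 * t) + 1 := (iso_finrank hiso).symm.trans hUd
      obtain ⟨a, ha⟩ := class_unique h2 htgts hiso hR hRU hRd hRp hHs hHT (by omega) (hHp.mpr trivial) hdt hw hwR
        (hLT hγv) (fun y hy => (polar_swap γv y).trans (horthL y hy γv hγv)) hγ
      rw [hQw] at ha hw0
      have hα : α ≠ 0 := left_ne_zero_of_mul hw0
      have hsw : s w ≠ 0 := left_ne_zero_of_mul (right_ne_zero_of_mul hw0)
      refine ⟨hα, a * Q γv / s w, ?_⟩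
      field_simp
      first | linear_combination ha | linear_combination Q γv * ha
    obtain ⟨G, hG, hGW⟩ := exists_isoG_map hQs hWiso
    rcases hone with h1 | h1
    · obtain ⟨hmod, hfin⟩ := hres W W hWs hinv h1 (hWd ▸ ⟨u, hu⟩)
      refine hfin ?_
      rw [show tgt = W₀ from if_pos (hWd ▸ hmod)]
      exact hWiso
    · obtain ⟨hmod, hfin⟩ := hres W' W' hW's hW'inv h1 ⟨d - u - 1, by omega⟩
      refine hfin ?_
      rw [show tgt = W₀' from if_neg (show ¬ m % 4 = 1 by omega)]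
      obtain ⟨Z, -, -, -, -, -, hmem₀⟩ := exists_perp hQs hW₀ le_top
      refine perp_iso hQs hG hGW hWs hWW' (fun y hy => ?_) (by omega)
      obtain ⟨x, hx, z, hz, rfl⟩ := Submodule.mem_sup.mp
        ((show W₀ ⊔ W₀' = ⊤ from Submodule.eq_top_of_finrank_eq (by
          rw [finrank_orth_sup hW₀ hW₀W', hW₀d, ← finrank_top F (ι → F), hV]; omega)).ge (Submodule.mem_top (x := y)))
      have hx0 : x = 0 := by
        by_contra hne
        obtain ⟨y', hy', hxy'⟩ := hW₀ x hx hne
        refine hxy' ?_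
        have h3 := hy y' hy'
        rw [map_add, hW₀W' y' hy' z hz, add_zero] at h3
        exact (polar_swap x y').trans h3
      rw [hx0, zero_add]
      exact hz
  obtain ⟨hα, hsq⟩ := key g α s e hg hgp hg1 hrk hH
  -- a similitude with nonsquare factor changes the class
  obtain ⟨c, hc⟩ := FiniteField.exists_nonsquare (F := F) (by
    intro h; exact h2 (by
      haveI := ringChar.charP F
      exact_mod_cast (CharP.cast_eq_zero_iff F (ringChar F) 2).2 (by rw [h])))
  have hc0 : c ≠ 0 := fun h => hc (h ▸ IsSquare.zero)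
  have hpol : ∀ u v, QuadraticMap.polarBilin (c • Q) u v = c * QuadraticMap.polarBilin Q u v := fun u v => by
    simp only [QuadraticMap.polarBilin_apply_apply, QuadraticMap.polar, QuadraticMap.smul_apply, smul_eq_mul]
    ring
  obtain ⟨h, hh⟩ : Iso (c • Q) Q ⊤ ⊤ := by
    refine iso_of_type d (fun v hv hv0 => ?_) hQs hV hV ⟨?_, ?_⟩
    · obtain ⟨y, hy, hvy⟩ := hQs v hv hv0
      exact ⟨y, hy, by rw [hpol]; exact mul_ne_zero hc0 hvy⟩
    · rintro ⟨U, hU, hU0, hUd⟩
      exact ⟨U, hU, fun v hv => (mul_eq_zero.mp (by simpa using hU0 v hv)).resolve_left hc0, hUd⟩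
    · rintro ⟨U, hU, hU0, hUd⟩
      exact ⟨U, hU, fun v hv => by simp [hU0 v hv], hUd⟩
  let T : (ι → F) ≃ₗ[F] (ι → F) := Submodule.topEquiv.symm.trans (h.trans Submodule.topEquiv)
  have hT : ∀ v, Q (T v) = c * Q v := fun v => by
    have h1 := hh (Submodule.topEquiv.symm v)
    simpa [T] using h1
  have hTi : ∀ v, Q (T.symm v) = c⁻¹ * Q v := fun v => by
    have h1 := hT (T.symm v)
    rw [T.apply_symm_apply] at h1
    rw [h1, ← mul_assoc, inv_mul_cancel₀ hc0, one_mul]
  set g' : Module.End F (ι → F) := T.conjAlgEquiv F g with hg'def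
  have hg' : ∀ v, g' v = T (g (T.symm v)) := fun v => rfl
  have hfix' : ∀ v, g' v = v → g (T.symm v) = T.symm v := fun v hv => T.injective (by
    rw [← hg', hv, T.apply_symm_apply])
  obtain ⟨-, hsq'⟩ := key g' (c * α) (fun v => s (T.symm v)) (T e)
    (fun v => by rw [hg', hT, hg, hTi, ← mul_assoc, mul_inv_cancel₀ hc0, one_mul])
    (by rw [hg'def, ← map_pow, hgp, map_one])
    (fun e1 => hg1 ((T.conjAlgEquiv F).injective (e1.trans (map_one _).symm)))
    (fun v => by
      have h1 : (g' - 1) ((g' - 1) v) = T ((g - 1) ((g - 1) (T.symm v))) := by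
        simp [hg']
      obtain ⟨a, ha⟩ := mem_span_singleton.mp (hrk (T.symm v))
      rw [h1, ← ha, map_smul]
      exact smul_mem _ _ (mem_span_singleton_self _))
    (fun a b ha hb => by
      have h1 := hH _ _ (hfix' a ha) (hfix' b hb)
      have h3 : QuadraticMap.polarBilin Q a b = c * QuadraticMap.polarBilin Q (T.symm a) (T.symm b) := by
        simp only [QuadraticMap.polarBilin_apply_apply, QuadraticMap.polar, ← map_add, hTi]
        field_simp
      rw [h3, h1]; ring)
  rw [mul_assoc, OrthSquareScalar.isSquare_mul_iff hc0 (mul_ne_zero hα hγ)] at hsq'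
  exact hc (hsq'.mpr hsq)

end Matrices

end CfsgLib.OrthOddBlocks
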