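import Cfsg.Agent.LinearElements.OrthFix
import Cfsg.Agent.Spinor.StdForms
import Cfsg.Prelude.Def_GeometricClasses

/-!
Odd dimension: involutions fix subspaces of every even dimension and type, and the arithmetic condition for odd primes.
-/

set_option autoImplicit false

namespace CfsgLib.OrthOddDim

open Module Submodule CfsgLib.LinearElements CfsgLib.QuadType CfsgLib.OrthAtoms CfsgLib.OrthPrimePower CfsgLib.OrthFix

variable {F V : Type*} [Field F] [AddCommGroup V] [Module F V] {Q : QuadraticForm F V}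

local notation "𝔅" => QuadraticMap.polarBilin Q

theorem invBy_of_eigen {g : Module.End F V} {A X : Submodule F V} {ε : F} (hA : ∀ v ∈ A, g v = ε • v) (hXA : X ≤ A) :
    InvBy g X := fun v hv => by rw [hA v (hXA hv)]; exact X.smul_mem _ hv

variable [Fintype F] [Finite V] [FiniteDimensional F V]

/-- Two perpendicular eigenspaces, the first of odd dimension. -/
theorem exists_fixed_of_eigen (hQ : Sep Q ⊤) {g : Module.End F V} (hg : ∀ v, Q (g v) = Q v) {A B : Submodule F V}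
    {εA εB : F} (hA : Sep Q A) (hB : Sep Q B) (horth : ∀ x ∈ A, ∀ y ∈ B, 𝔅 x y = 0)
    (hεA : ∀ v ∈ A, g v = εA • v) (hεB : ∀ v ∈ B, g v = εB • v) (hεB0 : εB ≠ 0)
    {d : ℕ} (hd : finrank F A + finrank F B = 2 * d + 1) (hn : finrank F V = 2 * d + 1)
    (hodd : Odd (finrank F A)) {h : ℕ} (hh : 0 < h) (hhd : h ≤ d) (T : Prop) :
    ∃ W : Submodule F V, (finrank F W = 2 * h ∧ Sep Q W ∧ (Plus Q W ↔ T)) ∧ InvBy g W := by
  obtain ⟨a', ha'⟩ := hodd
  by_cases hbig : 1 ≤ a'
  · set h₁ := max 1 (h - (finrank F B) / 2)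
    obtain ⟨Y, P₂, hYB, hY, hYd, hYt⟩ : ∃ Y, ∃ P₂ : Prop, Y ≤ B ∧ Sep Q Y ∧ finrank F Y = 2 * (h - h₁) ∧
        (Plus Q Y ↔ P₂) := by
      by_cases hlt : 2 * (h - h₁) < finrank F B
      · obtain ⟨Y, hYB, hY, hYd, hYt⟩ := exists_sub_type (h - h₁) hB hlt True fun _ => trivial
        exact ⟨Y, True, hYB, hY, hYd, hYt⟩
      · exact ⟨B, _, le_rfl, hB, by omega, Iff.rfl⟩
    obtain ⟨X, hXA, hX, hXd, hXt⟩ := exists_sub_type h₁ hA (by omega) (T ↔ P₂) (fun e => by omega)
    have ho : ∀ x ∈ X, ∀ y ∈ Y, 𝔅 x y = 0 := fun x hx y hy => horth x (hXA hx) y (hYB hy)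
    refine ⟨X ⊔ Y, ⟨?_, sep_sup hX hY ho, ?_⟩, (invBy_of_eigen hεA hXA).sup (invBy_of_eigen hεB hYB)⟩
    · rw [finrank_orth_sup hX ho, hXd, hYd]; omega
    · rw [plus_sup_iff hX hY ho (hXd ▸ even_two_mul h₁) (hYd ▸ even_two_mul _), hXt, hYt]
      by_cases h1 : P₂ <;> by_cases h2 : T <;> simp [h1, h2]
  · rcases hhd.lt_or_eq with hlt | rfl
    · obtain ⟨Y, hYB, hY, hYd, hYt⟩ := exists_sub_type h hB (by omega) T (fun e => absurd e hh.ne')
      exact ⟨Y, ⟨hYd, hY, hYt⟩, invBy_of_eigen hεB hYB⟩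
    · -- a hyperplane perpendicular to an eigenvector
      obtain ⟨X, -, hX, hXd, hXt⟩ := exists_sub_type h hQ (by rw [finrank_top, hn]; omega) T (fun e => absurd e hh.ne')
      obtain ⟨L, -, hL, horthL, hsupL, hdL, -⟩ := exists_perp hQ hX le_top
      rw [finrank_top, hn, hXd] at hdL
      obtain ⟨w, hw, hw0⟩ := (Submodule.ne_bot_iff L).mp fun e => by rw [e, finrank_bot] at hdL; omega
      have hLw : L = span F {w} := (Submodule.eq_of_le_of_finrank_eq ((span_singleton_le_iff_mem _ _).mpr hw)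
        (by rw [finrank_span_singleton hw0]; omega)).symm
      have hQw : Q w ≠ 0 := fun e => by
        obtain ⟨z, hz, hwz⟩ := hL w hw hw0
        rw [hLw, mem_span_singleton] at hz
        obtain ⟨t, rfl⟩ := hz
        exact hwz (by rw [map_smul, polar_diag, e]; simp)
      obtain ⟨v, hvB, hv⟩ := exists_value hB (by omega) (Q w)
      have hv0 : v ≠ 0 := fun e => hQw (by rw [← hv, e, map_zero])
      have hiso : Iso Q Q (span F {w}) (span F {v}) := by
        refine ⟨(LinearEquiv.toSpanNonzeroSingleton F V w hw0).symm.trans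
          (LinearEquiv.toSpanNonzeroSingleton F V v hv0), fun z => ?_⟩
        obtain ⟨t, rfl⟩ := (LinearEquiv.toSpanNonzeroSingleton F V w hw0).surjective z
        rw [LinearEquiv.trans_apply, LinearEquiv.symm_apply_apply]
        show Q (t • v) = Q (t • w)
        rw [smul_quad, smul_quad, hv]
      obtain ⟨G, hG, hGw⟩ := exists_isoG_map hQ hiso
      have hperp : ∀ x, x ∈ X.map (G : V →ₗ[F] V) ↔ 𝔅 v x = 0 := by
        have hle : X.map (G : V →ₗ[F] V) ≤ LinearMap.ker (QuadraticMap.polarBilin Q v) := by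
          rintro _ ⟨x, hx, rfl⟩
          have hv' : v ∈ (span F {w}).map (G : V →ₗ[F] V) := hGw ▸ mem_span_singleton_self v
          obtain ⟨u, hu, hu'⟩ := hv'
          rw [LinearMap.mem_ker, ← hu', polar_map (Q := Q) (Q' := Q) (G : V →ₗ[F] V) hG, polar_swap]
          exact horthL x hx u (hLw ▸ hu)
        have heq : X.map (G : V →ₗ[F] V) = LinearMap.ker (QuadraticMap.polarBilin Q v) := by
          refine Submodule.eq_of_le_of_finrank_le hle ?_
          have hne : QuadraticMap.polarBilin Q v ≠ 0 := fun e => by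
            obtain ⟨z, -, hvz⟩ := hQ v trivial hv0
            exact hvz (by rw [e]; rfl)
          have h1 := Module.Dual.finrank_ker_add_one_of_ne_zero hne
          rw [finrank_map' _ G.injective, hXd]
          omega
        exact fun x => by rw [heq]; rfl
      refine ⟨X.map (G : V →ₗ[F] V), ⟨(finrank_map' _ G.injective X).trans hXd, (sep_map _ G.injective hG).mpr hX,
        (plus_map _ G.injective hG).trans hXt⟩, fun x hx => ?_⟩
      rw [hperp] at hx ⊢
      have h1 := polar_iso (Q := Q) hg v x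
      rw [hεB v hvB, map_smul, LinearMap.smul_apply, hx, smul_eq_mul] at h1
      exact (mul_eq_zero.mp h1).resolve_left hεB0

/-- In odd dimension every involution fixes nondegenerate subspaces of every even dimension and type. -/
theorem exists_fixed_involution (h2 : (2 : F) ≠ 0) (hQ : Sep Q ⊤) {g : Module.End F V} (hg : ∀ v, Q (g v) = Q v)
    (hg2 : g ^ 2 = 1) {d : ℕ} (hn : finrank F V = 2 * d + 1) {h : ℕ} (hh : 0 < h) (hhd : h ≤ d) (T : Prop) :
    ∃ W : Submodule F V, (finrank F W = 2 * h ∧ Sep Q W ∧ (Plus Q W ↔ T)) ∧ InvBy g W := by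
  obtain ⟨hfs, M, -, hM, hMs, hM0, horth, -, hd⟩ := exists_split_moved hg hg2 two_pos (by exact_mod_cast h2)
    (invBy_top (g := g)) hQ
  rw [finrank_top, hn] at hd
  have hplus : ∀ v ∈ fixedIn g ⊤, g v = (1 : F) • v := fun v hv => by rw [one_smul]; exact (mem_fixedIn.mp hv).2
  have hminus : ∀ v ∈ M, g v = (-1 : F) • v := fun v hv => by
    have h1 : v + g v ∈ fixedIn g M := mem_fixedIn.mpr ⟨M.add_mem hv (hM v hv), by
      rw [map_add, ← Module.End.mul_apply, ← pow_two, hg2, Module.End.one_apply, add_comm]⟩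
    rw [hM0, Submodule.mem_bot] at h1
    rw [neg_one_smul]
    exact eq_neg_of_add_eq_zero_right h1
  rcases Nat.even_or_odd (finrank F (fixedIn g (⊤ : Submodule F V))) with he | ho
  · have hodd : Odd (finrank F M) := by
      have h1 : Odd (finrank F (fixedIn g (⊤ : Submodule F V)) + finrank F M) := ⟨d, by omega⟩
      exact (Nat.odd_add'.mp h1).mpr he
    exact exists_fixed_of_eigen hQ hg hMs hfs (fun x hx y hy => (polar_swap x y).trans (horth y hy x hx)) hminus hplus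
      one_ne_zero (by omega) hn hodd hh hhd T
  · exact exists_fixed_of_eigen hQ hg hfs hMs horth hplus hminus (neg_ne_zero.mpr one_ne_zero) hd.symm hn ho hh hhd T

omit [Finite V] [FiniteDimensional F V] in
/-- The arithmetic condition in odd dimension. -/
theorem good_all_iff {n c i h : ℕ} (hc : 0 < c) (hce : Even c) (hn : Odd n) (hcn : c ≤ n) (hhn : 2 * h < n)
    {PV T : Prop} :
    (∀ j, 1 ≤ j → j * c ≤ n → (n = j * c → (PV ↔ sgn i j)) → Good n c i j (2 * h) PV T) ↔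
      ((2 * h) % c < n % c ∧ ((2 * h) % c = 0 → (sgn i (2 * h / c) ↔ T))) := by
  have hne : ∀ j, n ≠ j * c := fun j e => Nat.not_even_iff_odd.mpr hn (e ▸ hce.mul_left j)
  have hm := Nat.div_add_mod (2 * h) c
  have hk := Nat.div_add_mod n c
  have hml := Nat.mod_lt (2 * h) hc
  have hkl := Nat.mod_lt n hc
  rw [Nat.mul_comm] at hm hk
  constructor
  · intro hall
    obtain ⟨a, haJ, ham, hgood⟩ := hall (n / c) ((Nat.one_le_div_iff hc).mpr hcn) (by omega) fun e => absurd e (hne _)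
    rcases hgood with ⟨hlt, h0⟩ | ⟨-, he, -⟩
    · have hae : a = 2 * h / c := by
        refine le_antisymm ((Nat.le_div_iff_mul_le hc).mpr ham) ?_
        by_contra hcon
        have := Nat.mul_le_mul_right c (show a + 1 ≤ 2 * h / c by omega)
        rw [add_mul, one_mul] at this
        omega
      subst hae
      exact ⟨by omega, fun e => h0 (by omega)⟩
    · exact absurd he (Nat.not_even_iff_odd.mpr hn)
  · rintro ⟨hlt, h0⟩ j - hjn -
    have hJ : j ≤ n / c := (Nat.le_div_iff_mul_le hc).mpr hjn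
    have := Nat.mul_le_mul_right c hJ
    rcases le_or_gt (2 * h / c) j with ha | ha
    · exact ⟨2 * h / c, ha, by omega, Or.inl ⟨by omega, fun e => h0 (by omega)⟩⟩
    · have := Nat.mul_le_mul_right c (show j + 1 ≤ 2 * h / c by omega)
      rw [add_mul, one_mul] at this
      exact ⟨j, le_rfl, by omega, Or.inl ⟨by omega, fun e => by omega⟩⟩

section Std

variable {d : ℕ}

open Matrix

theorem frozen_iff {W : Submodule F (Unit ⊕ (Fin d ⊕ Fin d) → F)} :
    (Cfsg.Geo.IsNondegenerateOn (QuadraticMap.polar (Cfsg.quadFormOdd d F)) W ↔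
        Sep (CfsgLib.StdForms.oddQ d F) W) ∧
      (Cfsg.Geo.IsPlusTypeOn (Cfsg.quadFormOdd d F) W ↔ Plus (CfsgLib.StdForms.oddQ d F) W) := by
  rw [← CfsgLib.StdForms.coe_oddQ (F := F) d]
  refine ⟨⟨fun h w hw hw0 => (h w hw hw0).2, fun h w hw hw0 => ?_⟩, Iff.rfl⟩
  obtain ⟨y, hy, hwy⟩ := h w hw hw0
  exact ⟨⟨y, hy, by rw [QuadraticMap.polar_comm]; exact hwy⟩, y, hy, hwy⟩

/-- The statement for odd-dimensional orthogonal groups, both types. -/
theorem odd_nondeg_iff {p : ℕ} [Fact p.Prime] [CharP F p] {q : ℕ} (hqF : Fintype.card F = q) (hqodd : Odd q)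
    {m : ℕ} (hd : 3 ≤ d) (hm : 2 ≤ m) (hme : Even m) (hmn : m ≤ 2 * d) {r : ℕ} [Fact r.Prime] (hrp : r ≠ p)
    {T : Prop} {Pr : Submodule F (Unit ⊕ (Fin d ⊕ Fin d) → F) → Prop}
    (hPr : ∀ W, Pr W ↔ finrank F W = m ∧ Sep (CfsgLib.StdForms.oddQ d F) W ∧
      (Plus (CfsgLib.StdForms.oddQ d F) W ↔ T))
    (hdvd : r ∣ Nat.card {W : Submodule F (Unit ⊕ (Fin d ⊕ Fin d) → F) // Pr W})
    {i c : ℕ} (hi : i = orderOf (q : ZMod r)) (hc : c = if Even i then i else 2 * i) :
    (∀ x : GL (Unit ⊕ (Fin d ⊕ Fin d)) F, x ∈ Cfsg.Geo.omegaGL (Cfsg.quadFormOdd d F) → orderOf x = r →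
      ∃ W, Pr W ∧ W.map (Matrix.toLin' (x : Matrix (Unit ⊕ (Fin d ⊕ Fin d)) (Unit ⊕ (Fin d ⊕ Fin d)) F)) ≤ W) ↔
    (r = 2 ∨ (2 < r ∧ c ≤ m ∧ m % c < (2 * d + 1) % c ∧ (m % c = 0 → (sgn i (m / c) ↔ T)))) := by
  have hr := (Fact.out : r.Prime)
  have h2 : (2 : F) ≠ 0 := Ring.two_ne_zero fun e => by
    rw [ringChar.eq F p] at e
    subst e
    obtain ⟨e', -, he'⟩ := FiniteField.card F 2
    rw [← hqF, he'] at hqodd
    exact absurd hqodd (by simp [Nat.not_odd_iff_even, Nat.even_pow])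
  have hnd := CfsgLib.StdForms.oddQ_nondegenerate (F := F) h2 d
  have hQ := sep_top hnd
  have hn : finrank F (Unit ⊕ (Fin d ⊕ Fin d) → F) = 2 * d + 1 := by simp; omega
  obtain ⟨h, rfl⟩ := hme
  rw [← two_mul] at hm hmn hPr ⊢
  rw [← CfsgLib.StdForms.coe_oddQ]
  rcases eq_or_ne r 2 with rfl | hr2
  · refine iff_of_true (fun x hx hx2 => ?_) (Or.inl rfl)
    obtain ⟨W, hW, hinv⟩ := exists_fixed_involution h2 hQ (g := Matrix.toLin' (x : Matrix (Unit ⊕ (Fin d ⊕ Fin d)) (Unit ⊕ (Fin d ⊕ Fin d)) F))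
      (fun v => by rw [Matrix.toLin'_apply]; exact quad_of_mem_omega hx v)
      (by
        show Matrix.toLinAlgEquiv' (x : Matrix (Unit ⊕ (Fin d ⊕ Fin d)) (Unit ⊕ (Fin d ⊕ Fin d)) F) ^ 2 = 1
        rw [← map_pow, ← Units.val_pow_eq_pow_val, ← hx2, pow_orderOf_eq_one, Units.val_one, map_one])
      hn (h := h) (by omega) (by omega) T
    exact ⟨W, (hPr W).mpr hW, hinv.map_le⟩
  have hrF : (r : F) ≠ 0 := fun e0 => by
    rw [CharP.cast_eq_zero_iff F p] at e0
    exact hrp ((Nat.prime_dvd_prime_iff_eq Fact.out hr).mp e0).symm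
  have hq0 : (Fintype.card F : ZMod r) ≠ 0 := cast_card_ne_zero hrp
  rw [hi, ← hqF] at hc
  have hc0 := atom_dim_pos hq0 hc
  obtain ⟨⟨g₀, hg₀, hg₀r, hg₀1⟩, f, j, hfd, -, hf⟩ := exists_pfix_of_dvd hQ hr2 hrF hq0 hc (h := h) (T := T) (by omega)
    (by omega) (by
      rw [Nat.card_congr (Equiv.subtypeEquivRight fun W => (hPr W).symm)]
      exact hdvd)
  have hce := even_c (F := F) (r := r) hc
  have hff : f < 2 * h := by
    rcases hf with h1 | ⟨h1, -⟩
    · exact h1
    · rw [hn, h1] at hfd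
      obtain ⟨t, ht⟩ := hce.mul_left j
      omega
  have hcn : c ≤ 2 * d + 1 := by
    rw [hn] at hfd
    rcases Nat.eq_zero_or_pos j with rfl | hj
    · omega
    · have := Nat.le_mul_of_pos_left c hj; omega
  rw [gl_iff hnd (by simp; omega) hr2]
  simp only [hPr]
  rw [all_fix_iff hQ hr2 hrF hq0 hc hg₀ hg₀r hg₀1, hn,
    ← (hqF.symm ▸ hi : i = orderOf (Fintype.card F : ZMod r)),
    good_all_iff hc0 hce ⟨d, rfl⟩ hcn (by omega)]
  constructor
  · rintro ⟨hlt, h0⟩
    refine Or.inr ⟨lt_of_le_of_ne hr.two_le (Ne.symm hr2), ?_, hlt, h0⟩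
    by_contra hcm
    rw [Nat.mod_eq_of_lt (by omega : 2 * h < c)] at hlt
    rw [hn] at hfd
    rw [hfd, Nat.add_mul_mod_self_right, Nat.mod_eq_of_lt (by omega)] at hlt
    omega
  · rintro (h1 | ⟨-, -, h1⟩)
    · exact absurd h1 hr2
    · exact h1

end Std

end CfsgLib.OrthOddDim
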