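import Cfsg.Agent.LinearElements.OrthAtoms
import Cfsg.Agent.Forms.Witt
import Mathlib.GroupTheory.Sylow

/-!
`r`-groups of isometries fix a large nondegenerate subspace pointwise; families of subspaces permuted transitively by
the isometry group whose size is a multiple of `r`.
-/

set_option autoImplicit false

namespace CfsgLib.OrthPrimePower

open Module Submodule CfsgLib.LinearElements CfsgLib.QuadType CfsgLib.OrthAtoms

variable {F : Type*} [Field F]

section Maps

variable {V V' : Type*} [AddCommGroup V] [Module F V] [AddCommGroup V'] [Module F V']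
  {Q : QuadraticForm F V} {Q' : QuadraticForm F V'}

theorem polar_map (f : V →ₗ[F] V') (hf : ∀ v, Q' (f v) = Q v) (u v : V) :
    QuadraticMap.polarBilin Q' (f u) (f v) = QuadraticMap.polarBilin Q u v := by
  simp only [QuadraticMap.polarBilin_apply_apply, QuadraticMap.polar, ← map_add, hf]

theorem sep_map (f : V →ₗ[F] V') (hfi : Function.Injective f) (hf : ∀ v, Q' (f v) = Q v) {X : Submodule F V} :
    Sep Q' (X.map f) ↔ Sep Q X := by
  constructor
  · intro h w hw hw0
    obtain ⟨_, ⟨y, hy, rfl⟩, hwy⟩ := h (f w) ⟨w, hw, rfl⟩ fun e => hw0 (hfi (e.trans (map_zero f).symm))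
    exact ⟨y, hy, by rwa [polar_map f hf] at hwy⟩
  · rintro h _ ⟨w, hw, rfl⟩ hw0
    obtain ⟨y, hy, hwy⟩ := h w hw fun e => hw0 (by rw [e, map_zero])
    exact ⟨f y, ⟨y, hy, rfl⟩, by rwa [polar_map f hf]⟩

theorem finrank_map' (f : V →ₗ[F] V') (hfi : Function.Injective f) (X : Submodule F V) :
    finrank F (X.map f) = finrank F X :=
  (Submodule.equivMapOfInjective f hfi X).finrank_eq.symm

theorem plus_map (f : V →ₗ[F] V') (hfi : Function.Injective f) (hf : ∀ v, Q' (f v) = Q v) {X : Submodule F V} :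
    Plus Q' (X.map f) ↔ Plus Q X := by
  constructor
  · rintro ⟨U, hUX, hU, hUd⟩
    have hmap : (U.comap f).map f = U :=
      Submodule.map_comap_eq_of_le (hUX.trans LinearMap.map_le_range)
    refine ⟨U.comap f, fun u hu => ?_, fun u hu => (hf u).symm.trans (hU _ hu), ?_⟩
    · obtain ⟨x, hx, e⟩ := hUX hu
      exact hfi e ▸ hx
    · rw [← finrank_map' f hfi, hmap, hUd, finrank_map' f hfi]
  · rintro ⟨U, hUX, hU, hUd⟩
    refine ⟨U.map f, Submodule.map_mono hUX, ?_, by rw [finrank_map' f hfi, finrank_map' f hfi, hUd]⟩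
    rintro _ ⟨u, hu, rfl⟩
    rw [hf, hU u hu]

theorem sep_comp_top {W : Submodule F V} : Sep (Q.comp W.subtype) ⊤ ↔ Sep Q W := by
  rw [← sep_map (Q := Q.comp W.subtype) (Q' := Q) W.subtype W.subtype_injective fun _ => rfl,
    Submodule.map_subtype_top]

theorem plus_comp_top {W : Submodule F V} : Plus (Q.comp W.subtype) ⊤ ↔ Plus Q W := by
  rw [← plus_map (Q := Q.comp W.subtype) (Q' := Q) W.subtype W.subtype_injective fun _ => rfl,
    Submodule.map_subtype_top]

end Maps

variable [Fintype F] {r : ℕ} [Fact r.Prime] {c : ℕ}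

/-- An `r`-group of isometries fixes pointwise a nondegenerate subspace whose codimension is a multiple of `c`, with the
type of the complement. -/
theorem exists_pfix {P : Type*} [Group P] [Finite P] (hP : IsPGroup r P) (hr2 : r ≠ 2) (hrF : (r : F) ≠ 0)
    (hq : (Fintype.card F : ZMod r) ≠ 0)
    (hc : c = if Even (orderOf (Fintype.card F : ZMod r)) then orderOf (Fintype.card F : ZMod r)
      else 2 * orderOf (Fintype.card F : ZMod r)) :
    ∀ (n : ℕ) {V : Type*} [AddCommGroup V] [Module F V] [Finite V] [FiniteDimensional F V] {Q : QuadraticForm F V}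
      (ρ : P →* Module.End F V), finrank F V = n → Sep Q ⊤ → (∀ a v, Q (ρ a v) = Q v) →
      ∃ (C : Submodule F V) (j : ℕ), Sep Q C ∧ n = finrank F C + j * c ∧ (∀ a, ∀ v ∈ C, ρ a v = v) ∧
        (Even n → (Plus Q ⊤ ↔ (Plus Q C ↔ sgn (orderOf (Fintype.card F : ZMod r)) j))) := by
  intro n
  induction n using Nat.strong_induction_on with
  | _ n ih =>
  intro V _ _ _ _ Q ρ hn hQ hρ
  haveI : Finite (Module.End F V) := Finite.of_injective _ (DFunLike.coe_injective (F := Module.End F V))
  by_cases htriv : ∀ a, ρ a = 1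
  · refine ⟨⊤, 0, hQ, by rw [finrank_top, hn, Nat.zero_mul, Nat.add_zero], fun a v _ => by rw [htriv]; rfl,
      fun _ => ?_⟩
    simp [sgn_zero]
  let R := ρ.toHomUnits.range
  have hR : IsPGroup r R := hP.of_surjective ρ.toHomUnits.rangeRestrict ρ.toHomUnits.rangeRestrict_surjective
  haveI : Finite R := Finite.of_surjective _ ρ.toHomUnits.rangeRestrict_surjective
  haveI : Nontrivial R := by
    push Not at htriv
    obtain ⟨a, ha⟩ := htriv
    refine ⟨ρ.toHomUnits.rangeRestrict a, 1, fun e => ha ?_⟩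
    have := congrArg (fun z : R => ((z : (Module.End F V)ˣ) : Module.End F V)) e
    simpa using this
  haveI := hR.center_nontrivial
  obtain ⟨z, hz⟩ : ∃ z : Subgroup.center R, orderOf z = r := by
    refine exists_prime_orderOf_dvd_card' r ?_
    obtain ⟨k, hk⟩ := (hR.to_subgroup (Subgroup.center R)).exists_card_eq
    rcases Nat.eq_zero_or_pos k with rfl | hk0
    · rw [pow_zero] at hk
      have := Finite.one_lt_card (α := Subgroup.center R)
      omega
    · exact hk ▸ dvd_pow_self r hk0.ne'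
  obtain ⟨b, hb⟩ := ρ.toHomUnits.rangeRestrict_surjective (z : R)
  set g := ρ b with hgdef
  have hgz : g = (((z : R) : (Module.End F V)ˣ) : Module.End F V) := by rw [← hb]; rfl
  have hgr : g ^ r = 1 := by
    have h1 : z ^ r = 1 := hz ▸ pow_orderOf_eq_one z
    have := congrArg (fun w : Subgroup.center R => (((w : R) : (Module.End F V)ˣ) : Module.End F V)) h1
    simpa [hgz] using this
  have hg1 : g ≠ 1 := fun e => by
    have h1 : z = 1 := by
      refine Subtype.ext (Subtype.ext (Units.ext ?_))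
      rw [← hgz, e]; rfl
    rw [h1, orderOf_one] at hz
    exact (Fact.out : r.Prime).ne_one hz.symm
  have hcomm : ∀ a, ρ a * g = g * ρ a := fun a => by
    have h1 := (Subgroup.mem_center_iff.mp z.2) (ρ.toHomUnits.rangeRestrict a)
    have := congrArg (fun w : R => (((w : (Module.End F V)ˣ)) : Module.End F V)) h1
    simpa [hgz] using this
  obtain ⟨hfs, M, -, hM, hMs, hM0, horth, hsup, hd⟩ := exists_split_moved (hρ b) hgr (Fact.out : r.Prime).pos hrF
    (invBy_top (g := g)) hQ
  obtain ⟨j₁, hj₁, hjt₁, -⟩ := moved_type (hρ b) hgr hr2 hrF hq hc _ rfl hM hMs hM0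
  set W := fixedIn g (⊤ : Submodule F V)
  have hlt : finrank F W < n := by
    rw [finrank_top, hn] at hd
    rcases Nat.eq_zero_or_pos (finrank F M) with h0 | h0
    · exfalso
      rw [Submodule.finrank_eq_zero.mp h0, sup_bot_eq] at hsup
      exact hg1 (LinearMap.ext fun v => (mem_fixedIn.mp (hsup.ge (Submodule.mem_top (x := v)))).2)
    · omega
  have hWinv : ∀ a, ∀ v ∈ W, ρ a v ∈ W := fun a v hv => mem_fixedIn.mpr ⟨trivial, by
    have h1 := LinearMap.congr_fun (hcomm a) v
    rw [Module.End.mul_apply, Module.End.mul_apply, (mem_fixedIn.mp hv).2] at h1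
    exact h1.symm⟩
  let ρ' : P →* Module.End F W :=
    { toFun := fun a => (ρ a).restrict (hWinv a)
      map_one' := LinearMap.ext fun v => Subtype.ext (by simp [LinearMap.restrict_apply])
      map_mul' := fun a a' => LinearMap.ext fun v => Subtype.ext (by simp [LinearMap.restrict_apply]) }
  obtain ⟨C, j, hC, hCd, hCfix, hCt⟩ := ih _ hlt (Q := Q.comp W.subtype) ρ' rfl (sep_comp_top.mpr hfs)
    fun a v => hρ a v
  rw [finrank_top, hn, hj₁] at hd
  refine ⟨C.map W.subtype, j + j₁, (sep_map _ W.subtype_injective fun _ => rfl).mpr hC, ?_, ?_, fun hne => ?_⟩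
  · rw [Submodule.finrank_map_subtype_eq, add_mul, hd, hCd]; omega
  · rintro a _ ⟨v, hv, rfl⟩
    exact congrArg Subtype.val (hCfix a v hv)
  · have hce : Even c := by
      rw [hc]; split_ifs with he
      exacts [he, even_two_mul _]
    have hMe : Even (finrank F M) := hj₁ ▸ hce.mul_left j₁
    have hWe : Even (finrank F W) := by
      rw [hd, Nat.even_add] at hne
      exact hne.mpr (hce.mul_left j₁)
    have ht := hCt hWe
    rw [plus_comp_top] at ht
    rw [← hsup, plus_sup_iff hfs hMs horth hWe hMe, hjt₁, ht,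
      plus_map (Q := Q.comp W.subtype) (Q' := Q) W.subtype W.subtype_injective (fun _ => rfl), sgn_add]
    by_cases h1 : Plus (Q.comp W.subtype) C <;> by_cases h2 : sgn (orderOf (Fintype.card F : ZMod r)) j <;>
      simp [h1, h2]

variable {V : Type*} [AddCommGroup V] [Module F V] [Finite V] [FiniteDimensional F V] {Q : QuadraticForm F V}

/-- The isometry group. -/
def isoG (Q : QuadraticForm F V) : Subgroup (V ≃ₗ[F] V) where
  carrier := {g | ∀ v, Q (g v) = Q v}
  one_mem' := fun _ => rfl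
  mul_mem' := fun {g h} hg hh v => (hg (h v)).trans (hh v)
  inv_mem' := fun {g} hg v => by
    have := hg (g⁻¹ v)
    rwa [show g (g⁻¹ v) = v from g.apply_symm_apply v, eq_comm] at this

omit [Fact r.Prime] in
/-- A family on which the isometry group is transitive and whose size is divisible by `r`. -/
theorem of_dvd_card [Fact r.Prime] {Pr : Submodule F V → Prop} (hne : ∃ W, Pr W)
    (hinv : ∀ g ∈ isoG Q, ∀ W, Pr W → Pr (W.map (g : V →ₗ[F] V)))
    (htrans : ∀ W W', Pr W → Pr W' → ∃ g ∈ isoG Q, W.map (g : V →ₗ[F] V) = W')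
    (hdvd : r ∣ Nat.card {W : Submodule F V // Pr W}) :
    (∃ g : Module.End F V, (∀ v, Q (g v) = Q v) ∧ g ^ r = 1 ∧ g ≠ 1) ∧
      ∃ (P : Subgroup (isoG Q)) (ρ : P →* Module.End F V), IsPGroup r P ∧
        (∀ a v, Q (ρ a v) = Q v) ∧ ∀ W, Pr W → ∃ a, ¬ W.map (ρ a) ≤ W := by
  classical
  have hr := (Fact.out : r.Prime)
  haveI : Finite (V ≃ₗ[F] V) := Finite.of_injective _ (DFunLike.coe_injective (F := V ≃ₗ[F] V))
  haveI : Finite (Submodule F V) := Finite.of_injective _ (SetLike.coe_injective (A := Submodule F V))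
  let G := ↥(isoG Q)
  letI act : MulAction G {W : Submodule F V // Pr W} :=
    { smul := fun g W => ⟨W.1.map ((g : V ≃ₗ[F] V) : V →ₗ[F] V), hinv _ g.2 _ W.2⟩
      one_smul := fun W => Subtype.ext (Submodule.map_id _)
      mul_smul := fun g g' W => Subtype.ext (by
        show W.1.map _ = (W.1.map _).map _
        rw [← Submodule.map_comp]; rfl) }
  obtain ⟨W₁, hW₁⟩ := hne
  let W₀ : {W : Submodule F V // Pr W} := ⟨W₁, hW₁⟩
  haveI : MulAction.IsPretransitive G {W : Submodule F V // Pr W} :=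
    ⟨fun W W' => by
      obtain ⟨g, hg, he⟩ := htrans W.1 W'.1 W.2 W'.2
      exact ⟨⟨g, hg⟩, Subtype.ext he⟩⟩
  rw [← MulAction.index_stabilizer_of_transitive G W₀] at hdvd
  let toEnd : G →* Module.End F V :=
    { toFun := fun g => ((g : V ≃ₗ[F] V) : V →ₗ[F] V)
      map_one' := rfl
      map_mul' := fun _ _ => rfl }
  refine ⟨?_, ?_⟩
  · obtain ⟨g, hg⟩ := exists_prime_orderOf_dvd_card' (G := G) r (hdvd.trans (Subgroup.index_dvd_card _))
    refine ⟨toEnd g, g.2, by rw [← map_pow, ← hg, pow_orderOf_eq_one, map_one], fun e => hr.ne_one ?_⟩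
    rw [← hg, orderOf_eq_one_iff]
    exact Subtype.ext (LinearEquiv.toLinearMap_injective e)
  · obtain ⟨P⟩ : Nonempty (Sylow r G) := inferInstance
    refine ⟨(P : Subgroup G), toEnd.comp (P : Subgroup G).subtype, P.2,
      fun a v => (a : G).2 v, fun W hW => ?_⟩
    by_contra hall
    push Not at hall
    have hle : (P : Subgroup G) ≤ MulAction.stabilizer G (⟨W, hW⟩ : {W : Submodule F V // Pr W}) := fun a ha => by
      refine Subtype.ext (Submodule.eq_of_le_of_finrank_eq (hall ⟨a, ha⟩) ?_)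
      exact finrank_map' _ (LinearEquiv.injective _) W
    have h1 : r ∣ (MulAction.stabilizer G (⟨W, hW⟩ : {W : Submodule F V // Pr W})).index := by
      rw [MulAction.index_stabilizer_of_transitive] at hdvd ⊢
      exact hdvd
    exact P.not_dvd_index (h1.trans (Subgroup.index_dvd_of_le hle))

omit [Fintype F] in
/-- Witt: isometric subspaces are moved to each other by isometries. -/
theorem exists_isoG_map (hQ : Sep Q ⊤) {W W' : Submodule F V} (h : Iso Q Q W W') :
    ∃ g ∈ isoG Q, W.map (g : V →ₗ[F] V) = W' := by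
  obtain ⟨e, he⟩ := h
  have hnd : (QuadraticMap.polarBilin Q).Nondegenerate := by
    refine ⟨fun x hx => ?_, fun x hx => ?_⟩ <;> by_contra hne <;>
      obtain ⟨y, -, hxy⟩ := hQ x trivial hne
    · exact hxy (hx y)
    · exact hxy (by rw [polar_swap]; exact hx y)
  obtain ⟨g, hg, hgW⟩ := CfsgLib.Forms.witt_quadratic Q hnd W W' e he
  refine ⟨g, hg, le_antisymm ?_ fun y hy => ?_⟩
  · rintro _ ⟨x, hx, rfl⟩
    exact (hgW ⟨x, hx⟩).symm ▸ (e ⟨x, hx⟩).2
  · exact ⟨(e.symm ⟨y, hy⟩ : W), (e.symm ⟨y, hy⟩).2, by simpa using hgW (e.symm ⟨y, hy⟩)⟩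

/-- The family of nondegenerate subspaces of given even dimension and type. -/
theorem exists_pfix_of_dvd (hQ : Sep Q ⊤) (hr2 : r ≠ 2) (hrF : (r : F) ≠ 0)
    (hq : (Fintype.card F : ZMod r) ≠ 0)
    (hc : c = if Even (orderOf (Fintype.card F : ZMod r)) then orderOf (Fintype.card F : ZMod r)
      else 2 * orderOf (Fintype.card F : ZMod r))
    {h : ℕ} (hh : 0 < h) (hhn : 2 * h < finrank F V) {T : Prop}
    (hdvd : r ∣ Nat.card {W : Submodule F V // finrank F W = 2 * h ∧ Sep Q W ∧ (Plus Q W ↔ T)}) :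
    (∃ g : Module.End F V, (∀ v, Q (g v) = Q v) ∧ g ^ r = 1 ∧ g ≠ 1) ∧
      ∃ f j, finrank F V = f + j * c ∧
        (finrank F V = j * c → (Plus Q ⊤ ↔ sgn (orderOf (Fintype.card F : ZMod r)) j)) ∧
        (f < 2 * h ∨ (f = 2 * h ∧
          ¬ ((Plus Q ⊤ ↔ sgn (orderOf (Fintype.card F : ZMod r)) j) ↔ T))) := by
  obtain ⟨hel, P, ρ, hP, hρ, hno⟩ := of_dvd_card (Q := Q)
    (Pr := fun W => finrank F W = 2 * h ∧ Sep Q W ∧ (Plus Q W ↔ T))
    (by
      obtain ⟨X, -, hX, hXd, hXt⟩ := exists_sub_type h hQ (by rw [finrank_top]; exact hhn) T (fun e => absurd e hh.ne')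
      exact ⟨X, hXd, hX, hXt⟩)
    (fun g hg W hW => ⟨(finrank_map' _ g.injective W).trans hW.1, (sep_map _ g.injective hg).mpr hW.2.1,
      (plus_map _ g.injective hg).trans hW.2.2⟩)
    (fun W W' hW hW' => exists_isoG_map hQ (iso_of_type h hW.2.1 hW'.2.1 hW.1 hW'.1 (hW.2.2.trans hW'.2.2.symm)))
    hdvd
  haveI : Finite (V ≃ₗ[F] V) := Finite.of_injective _ (DFunLike.coe_injective (F := V ≃ₗ[F] V))
  obtain ⟨C, j, hC, hd, hfix, htype⟩ := exists_pfix hP hr2 hrF hq hc _ ρ rfl hQ hρ
  have hfixle : ∀ W, W ≤ C → ∀ a, W.map (ρ a) ≤ W := fun W hW a => by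
    rintro _ ⟨v, hv, rfl⟩
    rw [hfix a v (hW hv)]; exact hv
  have hce : Even c := by
    rw [hc]; split_ifs with he
    exacts [he, even_two_mul _]
  refine ⟨hel, finrank F C, j, hd, fun he => ?_, ?_⟩
  · have h0 : C = ⊥ := Submodule.finrank_eq_zero.mp (by omega)
    subst h0
    rw [htype (he ▸ hce.mul_left j), iff_true_left plus_bot]
  · rcases lt_trichotomy (finrank F C) (2 * h) with hlt | heq | hgt
    · exact Or.inl hlt
    · refine Or.inr ⟨heq, fun hT => ?_⟩
      have hne : Even (finrank F V) := by rw [hd, heq]; exact (even_two_mul h).add (hce.mul_left j)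
      obtain ⟨a, ha⟩ := hno C ⟨heq, hC, by
        have := htype hne
        by_cases h1 : Plus Q C <;> by_cases h2 : sgn (orderOf (Fintype.card F : ZMod r)) j <;>
          simp_all⟩
      exact ha (hfixle C le_rfl a)
    · exfalso
      obtain ⟨X, hXC, hX, hXd, hXt⟩ := exists_sub_type h hC hgt T (fun e => absurd e hh.ne')
      obtain ⟨a, ha⟩ := hno X ⟨hXd, hX, hXt⟩
      exact ha (hfixle X hXC a)

end CfsgLib.OrthPrimePower
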