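import Cfsg.Agent.LinearElements.OrthOddBlocks

/-!
The shears `[[1, S], [0, 1]]`, `S` alternating, of the split form: they lie in `Ω`, and for `S` of largest rank every
invariant nondegenerate subspace of even dimension has plus type.
-/

set_option autoImplicit false

namespace CfsgLib.OrthShear

open Module Submodule CfsgLib.LinearElements CfsgLib.QuadType CfsgLib.OrthAtoms CfsgLib.OrthPrimePower CfsgLib.OrthFix

section Invariant

variable {F V : Type*} [Field F] [Fintype F] [AddCommGroup V] [Module F V] [Finite V] [FiniteDimensional F V]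
  {Q : QuadraticForm F V} {g : Module.End F V}

local notation "𝔅" => QuadraticMap.polarBilin Q

omit [Finite V] in
theorem plus_of_isotropic (hNQ : ∀ u, Q ((g - 1) u) = 0) (hNN : ∀ u, (g - 1) ((g - 1) u) = 0) {W : Submodule F V}
    (hW : InvBy g W) (hWs : Sep Q W) (hiso : ∀ u ∈ fixedIn g W, ∀ v ∈ fixedIn g W, 𝔅 u v = 0) :
    Plus Q W := by
  let φ : W →ₗ[F] fixedIn g W := ((g - 1).domRestrict W).codRestrict _ fun u =>
    mem_fixedIn.mpr ⟨W.sub_mem (hW u u.2) u.2, sub_eq_zero.mp (hNN u)⟩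
  have h1 := LinearMap.finrank_range_add_finrank_ker φ
  have h2 := Submodule.finrank_le (LinearMap.range φ)
  have h3 : finrank F (LinearMap.ker φ) ≤ finrank F (fixedIn g W) := by
    rw [← Submodule.finrank_map_subtype_eq W (LinearMap.ker φ)]
    refine Submodule.finrank_mono ?_
    rintro _ ⟨u, hu, rfl⟩
    exact mem_fixedIn.mpr ⟨u.2, sub_eq_zero.mp (congrArg Subtype.val (LinearMap.mem_ker.mp hu))⟩
  have h4 := OrthOddBlocks.singular_half hWs (show fixedIn g W ≤ W from inf_le_left) hiso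
  have h5 : LinearMap.range φ = ⊤ := Submodule.eq_top_of_finrank_eq (by omega)
  refine ⟨fixedIn g W, inf_le_left, fun v hv => ?_, by omega⟩
  obtain ⟨u, hu⟩ := h5.ge (Submodule.mem_top (x := (⟨v, hv⟩ : fixedIn g W)))
  rw [show v = (g - 1) (u : V) from (congrArg Subtype.val hu).symm, hNQ]

/-- If the polar form on the fixed vectors factors through a hyperbolic plane, invariant subspaces of even dimension
have plus type. -/
theorem plus_of_plane (hQ : Sep Q ⊤) (hg : ∀ v, Q (g v) = Q v) (hNQ : ∀ u, Q ((g - 1) u) = 0)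
    (hNN : ∀ u, (g - 1) ((g - 1) u) = 0) (s t : V → F)
    (hφ : ∀ u v, g u = u → g v = v → 𝔅 u v = s u * t v + s v * t u) (hV : Plus Q ⊤) (hVe : Even (finrank F V))
    {W : Submodule F V} (hW : InvBy g W) (hWs : Sep Q W) (hWe : Even (finrank F W)) : Plus Q W := by
  by_contra hWp
  obtain ⟨Y, -, hYs, hWY, hsup, hd, hmem⟩ := exists_perp hQ hWs le_top
  rw [finrank_top] at hd
  have hY : InvBy g Y := fun y hy => hmem _ trivial fun x hx => by
    obtain ⟨z, hz, rfl⟩ : ∃ z ∈ W, g z = x := ⟨(2 : F) • x - g x, W.sub_mem (W.smul_mem _ hx) (hW x hx), by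
      have h1 := hNN x
      simp only [LinearMap.sub_apply, Module.End.one_apply, map_sub] at h1
      rw [map_sub, map_smul, two_smul]
      linear_combination (norm := module) -h1⟩
    rw [polar_iso hg]
    exact hWY z hz y hy
  have hYe : Even (finrank F Y) := by rw [hd, Nat.even_add] at hVe; exact hVe.mp hWe
  have hYp : ¬ Plus Q Y := fun h => hWp (by
    have h1 := plus_sup_iff hWs hYs hWY hWe hYe
    rw [hsup] at h1
    exact (h1.mp hV).mpr h)
  obtain ⟨u, hu, v, hv, huv⟩ : ∃ u ∈ fixedIn g W, ∃ v ∈ fixedIn g W, 𝔅 u v ≠ 0 := by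
    by_contra hall
    push Not at hall
    exact hWp (plus_of_isotropic hNQ hNN hW hWs hall)
  obtain ⟨z, hz, z', hz', hzz⟩ : ∃ z ∈ fixedIn g Y, ∃ z' ∈ fixedIn g Y, 𝔅 z z' ≠ 0 := by
    by_contra hall
    push Not at hall
    exact hYp (plus_of_isotropic hNQ hNN hY hYs hall)
  have hval : ∀ x ∈ fixedIn g W, ∀ y ∈ fixedIn g Y, s x * t y + s y * t x = 0 := fun x hx y hy => by
    rw [← hφ x y (mem_fixedIn.mp hx).2 (mem_fixedIn.mp hy).2]
    exact hWY x hx.1 y hy.1
  -- the images of the fixed vectors lie on one line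
  have hline : ∀ x ∈ fixedIn g W, ∀ y ∈ fixedIn g W, s x * t y = s y * t x := by
    intro x hx y hy
    by_contra hne
    have hD : s x * t y - s y * t x ≠ 0 := sub_ne_zero.mpr hne
    have hzero : ∀ w ∈ fixedIn g Y, s w = 0 ∧ t w = 0 := fun w hw => by
      have h1 := hval x hx w hw
      have h2 := hval y hy w hw
      refine ⟨(mul_eq_zero.mp (show (s x * t y - s y * t x) * s w = 0 by
        linear_combination s x * h2 - s y * h1)).resolve_left hD, (mul_eq_zero.mp
        (show (s x * t y - s y * t x) * t w = 0 by linear_combination t y * h1 - t x * h2)).resolve_left hD⟩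
    apply hzz
    rw [hφ z z' (mem_fixedIn.mp hz).2 (mem_fixedIn.mp hz').2, (hzero z hz).1, (hzero z' hz').1]
    ring
  obtain ⟨w, hw, hww⟩ : ∃ w ∈ fixedIn g W, 𝔅 w w ≠ 0 := by
    refine ⟨u, hu, fun h0 => huv ?_⟩
    have hul := hline u hu v hv
    have hgu := (mem_fixedIn.mp hu).2
    rw [hφ u v hgu (mem_fixedIn.mp hv).2]
    rw [hφ u u hgu hgu] at h0
    rcases eq_or_ne (s u) 0 with h1 | h1
    · rcases eq_or_ne (t u) 0 with h2 | h2
      · rw [h1, h2]; ring
      · rw [h1, zero_mul, eq_comm, mul_eq_zero] at hul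
        rw [h1, hul.resolve_right h2]; ring
    · have h3 : t u * (2 : F) = 0 := (mul_eq_zero.mp (show s u * (t u * 2) = 0 by linear_combination h0)).resolve_left h1
      rcases mul_eq_zero.mp h3 with h4 | h4
      · rw [h4, mul_zero, mul_eq_zero] at hul
        rw [h4, hul.resolve_left h1]; ring
      · linear_combination s u * t v * h4 - hul
  obtain ⟨hwW, hgw⟩ := mem_fixedIn.mp hw
  have hne : w ≠ 0 := fun e => hww (by rw [e]; simp)
  have hLs : Sep Q (span F {w}) := by
    intro y hy hy0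
    obtain ⟨a, rfl⟩ := mem_span_singleton.mp hy
    refine ⟨w, mem_span_singleton_self w, ?_⟩
    rw [map_smul, LinearMap.smul_apply, smul_eq_mul]
    exact mul_ne_zero (fun e => hy0 (by rw [e, zero_smul])) hww
  obtain ⟨R, hRW, hR, horth, -, hdR, hmemR⟩ := exists_perp hWs hLs ((span_singleton_le_iff_mem _ _).mpr hwW)
  rw [finrank_span_singleton hne] at hdR
  have hRi : InvBy g R := fun y hy => hmemR _ (hW y (hRW hy)) fun x hx => by
    obtain ⟨a, rfl⟩ := mem_span_singleton.mp hx
    rw [← hgw, ← map_smul, polar_iso hg]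
    exact horth _ (smul_mem _ _ (mem_span_singleton_self w)) y hy
  obtain ⟨U, -, -, hUd⟩ := plus_of_isotropic hNQ hNN hRi hR fun x hx y hy => by
    obtain ⟨hxR, hgx⟩ := mem_fixedIn.mp hx
    obtain ⟨hyR, hgy⟩ := mem_fixedIn.mp hy
    have hx' : x ∈ fixedIn g W := mem_fixedIn.mpr ⟨hRW hxR, hgx⟩
    have h1 := hφ w x hgw hgx
    rw [horth w (mem_span_singleton_self w) x hxR] at h1
    have h3 := hline w hw x hx'
    rw [hφ w w hgw hgw] at hww
    have h4 : s w ≠ 0 := fun e => hww (by rw [e]; ring)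
    have h5 : t w ≠ 0 := fun e => hww (by rw [e]; ring)
    have h2 : (2 : F) ≠ 0 := fun e => hww (by linear_combination s w * t w * e)
    have h6 : s w * t x * 2 = 0 := by linear_combination h3 - h1
    have htx : t x = 0 := (mul_eq_zero.mp ((mul_eq_zero.mp h6).resolve_right h2)).resolve_left h4
    have hsx : s x = 0 := by
      rw [htx, mul_zero, eq_comm, mul_eq_zero] at h3
      exact h3.resolve_right h5
    rw [hφ x y hgx hgy, hsx, htx]
    ring
  obtain ⟨k, hk⟩ := hWe
  omega

end Invariant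

section Model

open Matrix
open scoped commutatorElement

variable {F : Type*} [Field F] {d : ℕ}

/-- Alternating matrices. -/
def IsAltMat (S : Matrix (Fin d) (Fin d) F) : Prop := Sᵀ = -S ∧ ∀ i, S i i = 0

/-- The elementary alternating matrix. -/
def elem (i j : Fin d) (c : F) : Matrix (Fin d) (Fin d) F := Matrix.single i j c - Matrix.single j i c

theorem elem_alt {i j : Fin d} (hij : i ≠ j) (c : F) : IsAltMat (elem i j c) := by
  refine ⟨by simp [elem], fun a => ?_⟩
  simp only [elem, Matrix.sub_apply, Matrix.single_apply]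
  rw [if_neg fun h => hij (h.1.trans h.2.symm), if_neg fun h => hij (h.2.trans h.1.symm), sub_zero]

theorem dot_alt {S : Matrix (Fin d) (Fin d) F} (hS : IsAltMat S) (b : Fin d → F) : b ⬝ᵥ S *ᵥ b = 0 := by
  simp only [dotProduct, mulVec, Finset.mul_sum, ← Fintype.sum_prod_type']
  refine Finset.sum_involution (fun p _ => p.swap) (fun p _ => ?_) (fun p _ hne hp => hne ?_)
    (fun p _ => Finset.mem_univ _) (fun p _ => p.swap_swap)
  · have h1 := congrFun (congrFun hS.1 p.1) p.2
    simp only [Matrix.transpose_apply, Matrix.neg_apply] at h1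
    simp only [Prod.fst_swap, Prod.snd_swap, h1]
    ring
  · have h1 : p.2 = p.1 := congrArg Prod.fst hp
    rw [h1, hS.2]
    ring

/-- The matrix of a shear. -/
def mat (S : Matrix (Fin d) (Fin d) F) : Matrix (Fin d ⊕ Fin d) (Fin d ⊕ Fin d) F := Matrix.fromBlocks 1 S 0 1

theorem mat_mul (S T : Matrix (Fin d) (Fin d) F) : mat S * mat T = mat (S + T) := by
  rw [mat, mat, mat, Matrix.fromBlocks_multiply]
  simp [add_comm]

theorem mat_zero : mat (0 : Matrix (Fin d) (Fin d) F) = 1 := Matrix.fromBlocks_one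

/-- The shear. -/
def shear (S : Matrix (Fin d) (Fin d) F) : GL (Fin d ⊕ Fin d) F :=
  ⟨mat S, mat (-S), by rw [mat_mul, add_neg_cancel, mat_zero], by rw [mat_mul, neg_add_cancel, mat_zero]⟩

theorem shear_val (S : Matrix (Fin d) (Fin d) F) :
    (shear S : Matrix (Fin d ⊕ Fin d) (Fin d ⊕ Fin d) F) = mat S := rfl

theorem mat_mulVec (S : Matrix (Fin d) (Fin d) F) (v : Fin d ⊕ Fin d → F) :
    mat S *ᵥ v = Sum.elim (v ∘ Sum.inl + S *ᵥ (v ∘ Sum.inr)) (v ∘ Sum.inr) := by
  rw [mat, Matrix.fromBlocks_mulVec]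
  simp

theorem quad_eq (v : Fin d ⊕ Fin d → F) :
    CfsgLib.StdForms.plusQ d F v = (v ∘ Sum.inl) ⬝ᵥ (v ∘ Sum.inr) := by
  rw [CfsgLib.StdForms.plusQ_apply]; rfl

theorem shear_quad {S : Matrix (Fin d) (Fin d) F} (hS : IsAltMat S) (v : Fin d ⊕ Fin d → F) :
    CfsgLib.StdForms.plusQ d F ((shear S : Matrix (Fin d ⊕ Fin d) (Fin d ⊕ Fin d) F) *ᵥ v) =
      CfsgLib.StdForms.plusQ d F v := by
  rw [shear_val, mat_mulVec, quad_eq, quad_eq, Sum.elim_comp_inl, Sum.elim_comp_inr, add_dotProduct,
    dotProduct_comm (S *ᵥ _), dot_alt hS, add_zero]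

theorem shear_mul (S T : Matrix (Fin d) (Fin d) F) : shear S * shear T = shear (S + T) :=
  Units.ext (mat_mul S T)

/-- A block-diagonal element. -/
def diag (A B : Matrix (Fin d) (Fin d) F) (h1 : A * B = 1) (h2 : B * A = 1) : GL (Fin d ⊕ Fin d) F :=
  ⟨Matrix.fromBlocks A 0 0 Bᵀ, Matrix.fromBlocks B 0 0 Aᵀ,
    by rw [Matrix.fromBlocks_multiply, ← Matrix.transpose_mul]; simp [h1, h2],
    by rw [Matrix.fromBlocks_multiply, ← Matrix.transpose_mul]; simp [h1, h2]⟩

theorem diag_quad (A B : Matrix (Fin d) (Fin d) F) (h1 : A * B = 1) (h2 : B * A = 1) (v : Fin d ⊕ Fin d → F) :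
    CfsgLib.StdForms.plusQ d F ((diag A B h1 h2 : Matrix (Fin d ⊕ Fin d) (Fin d ⊕ Fin d) F) *ᵥ v) =
      CfsgLib.StdForms.plusQ d F v := by
  rw [show (diag A B h1 h2 : Matrix (Fin d ⊕ Fin d) (Fin d ⊕ Fin d) F) = Matrix.fromBlocks A 0 0 Bᵀ from rfl,
    Matrix.fromBlocks_mulVec, quad_eq, quad_eq, Sum.elim_comp_inl, Sum.elim_comp_inr]
  simp only [Matrix.zero_mulVec, add_zero, zero_add]
  rw [dotProduct_mulVec, Matrix.vecMul_transpose, Matrix.mulVec_mulVec, h2, Matrix.one_mulVec]

theorem shear_mem_omega (hd : 3 ≤ d) {S : Matrix (Fin d) (Fin d) F} (hS : IsAltMat S) :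
    shear S ∈ Cfsg.Geo.omegaGL ⇑(CfsgLib.StdForms.plusQ d F) := by
  classical
  set O := Cfsg.Geo.omegaGL ⇑(CfsgLib.StdForms.plusQ d F)
  have helem : ∀ (i j : Fin d), i ≠ j → ∀ c, shear (elem i j c) ∈ O := by
    intro i j hij c
    obtain ⟨k, hki, hkj⟩ : ∃ k : Fin d, k ≠ i ∧ k ≠ j := by
      have : 2 < Fintype.card (Fin d) := by simp; omega
      obtain ⟨k, hk⟩ := Finset.exists_mem_notMem_of_card_lt_card (s := {i, j}) (t := Finset.univ)
        (lt_of_le_of_lt Finset.card_le_two (by simpa using this))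
      exact ⟨k, fun e => hk.2 (by simp [e]), fun e => hk.2 (by simp [e])⟩
    set T : Matrix (Fin d) (Fin d) F := 1 + Matrix.single j k 1 with hT
    set T' : Matrix (Fin d) (Fin d) F := 1 - Matrix.single j k 1 with hT'
    have hjk : (Matrix.single j k 1 : Matrix (Fin d) (Fin d) F) * Matrix.single j k 1 = 0 :=
      Matrix.single_mul_single_of_ne _ _ _ _ hkj _
    have hTT : T * T' = 1 := by rw [hT, hT', add_mul, mul_sub, mul_sub, hjk]; simp
    have hTT' : T' * T = 1 := by rw [hT, hT', sub_mul, mul_add, mul_add, hjk]; simp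
    set E := elem i k c
    have hconj : T * E * Tᵀ = E + elem i j c := by
      have hTt : Tᵀ = 1 + Matrix.single k j 1 := by rw [hT]; simp
      rw [hTt, hT]
      simp only [E, elem, add_mul, mul_add, mul_sub, sub_mul, one_mul, mul_one,
        Matrix.single_mul_single_same, Matrix.single_mul_single_of_ne _ _ _ _ hki,
        Matrix.single_mul_single_of_ne _ _ _ _ hkj, Matrix.single_mul_single_of_ne _ _ _ _ hki.symm,
        Matrix.single_mul_single_of_ne _ _ _ _ hkj.symm, Matrix.single_mul_single_of_ne _ _ _ _ hij,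
        Matrix.single_mul_single_of_ne _ _ _ _ hij.symm, one_mul, mul_one, add_zero, zero_add, sub_zero, zero_sub,
        Matrix.zero_mul, Matrix.mul_zero]
      abel
    let hI : ↥(Cfsg.isometryGroup F ⇑(CfsgLib.StdForms.plusQ d F)) := ⟨diag T T' hTT hTT', fun v _ => diag_quad _ _ hTT hTT' v⟩
    let uI : ↥(Cfsg.isometryGroup F ⇑(CfsgLib.StdForms.plusQ d F)) :=
      ⟨shear E, fun v _ => shear_quad (elem_alt hki.symm c) v⟩
    refine ⟨⁅hI, uI⁆, Subgroup.commutator_mem_commutator (Subgroup.mem_top _) (Subgroup.mem_top _), ?_⟩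
    show (diag T T' hTT hTT') * shear E * (diag T T' hTT hTT')⁻¹ * (shear E)⁻¹ = shear (elem i j c)
    rw [mul_inv_eq_iff_eq_mul, shear_mul, add_comm, ← hconj]
    refine Units.ext ?_
    show Matrix.fromBlocks T 0 0 T'ᵀ * mat E * Matrix.fromBlocks T' 0 0 Tᵀ = mat (T * E * Tᵀ)
    simp only [mat, Matrix.fromBlocks_multiply, Matrix.mul_one, Matrix.mul_zero, Matrix.zero_mul, add_zero,
      zero_add, hTT, ← Matrix.transpose_mul, Matrix.transpose_one]
  have hsum : S = ∑ p : Fin d × Fin d, if p.1 < p.2 then elem p.1 p.2 (S p.1 p.2) else 0 := by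
    ext a b
    have hab := congrFun (congrFun hS.1 b) a
    simp only [Matrix.transpose_apply, Matrix.neg_apply] at hab
    rw [Matrix.sum_apply]
    rcases lt_trichotomy a b with h | h | h
    · rw [Finset.sum_eq_single (a, b)]
      · simp [h, elem, Matrix.single_apply, h.ne']
      · rintro ⟨p, p'⟩ - hne
        split_ifs with hp
        · simp only [elem, Matrix.sub_apply, Matrix.single_apply]
          simp only [] at hp
          rw [if_neg (fun e => hne (Prod.ext e.1 e.2)),
            if_neg (fun e => by obtain ⟨rfl, rfl⟩ := e; exact lt_asymm h hp), sub_zero]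
        · rfl
      · simp
    · subst h
      rw [hS.2, eq_comm]
      refine Finset.sum_eq_zero fun p _ => ?_
      split_ifs with hp
      · simp only [elem, Matrix.sub_apply, Matrix.single_apply]
        rw [if_neg (fun e => by obtain ⟨h1, h2⟩ := e; exact hp.ne (h1.trans h2.symm)),
          if_neg (fun e => by obtain ⟨h1, h2⟩ := e; exact hp.ne (h2.trans h1.symm)), sub_zero]
      · rfl
    · rw [Finset.sum_eq_single (b, a)]
      · simp [h, elem, Matrix.single_apply, h.ne, hab]
      · rintro ⟨p, p'⟩ - hne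
        split_ifs with hp
        · simp only [elem, Matrix.sub_apply, Matrix.single_apply]
          simp only [] at hp
          rw [if_neg (fun e => by obtain ⟨rfl, rfl⟩ := e; exact lt_asymm h hp),
            if_neg (fun e => hne (Prod.ext e.2 e.1)), sub_zero]
        · rfl
      · simp
  rw [hsum]
  refine Finset.sum_induction _ (fun T => shear T ∈ O) (fun A B hA hB => ?_) ?_ fun p _ => ?_
  · rw [← shear_mul]; exact mul_mem hA hB
  · rw [show shear (0 : Matrix (Fin d) (Fin d) F) = 1 from Units.ext mat_zero]; exact one_mem _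
  · split_ifs with hp
    · exact helem _ _ hp.ne _
    · rw [show shear (0 : Matrix (Fin d) (Fin d) F) = 1 from Units.ext mat_zero]; exact one_mem _

/-- The alternating matrix of largest rank. -/
def pairs (d : ℕ) : Matrix (Fin d) (Fin d) F := Matrix.of fun i j =>
  if (i : ℕ) + 1 = j ∧ Even (i : ℕ) then 1 else if (j : ℕ) + 1 = i ∧ Even (j : ℕ) then -1 else 0

theorem pairs_alt : IsAltMat (pairs (F := F) d) := by
  refine ⟨?_, fun i => by simp [pairs]⟩
  ext i j
  simp only [Matrix.transpose_apply, Matrix.neg_apply, pairs, Matrix.of_apply]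
  by_cases h1 : (j : ℕ) + 1 = i ∧ Even (j : ℕ) <;> by_cases h2 : (i : ℕ) + 1 = j ∧ Even (i : ℕ) <;>
    simp [h1, h2] <;> omega

theorem pairs_ker {b : Fin d → F} (hb : pairs d *ᵥ b = 0) (j : Fin d) (hj : (j : ℕ) + 1 < d) : b j = 0 := by
  have key : ∀ k : Fin d, (∀ l : Fin d, pairs (F := F) d k l ≠ 0 → l = j) → pairs (F := F) d k j ≠ 0 → b j = 0 := by
    intro k hk hkj
    have h1 := congrFun hb k
    rw [Matrix.mulVec, dotProduct, Pi.zero_apply, Finset.sum_eq_single j (fun l _ hl => by
      by_contra hne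
      exact hl (hk l (left_ne_zero_of_mul hne))) (by simp)] at h1
    exact (mul_eq_zero.mp h1).resolve_left hkj
  rcases Nat.even_or_odd (j : ℕ) with he | ho
  · refine key ⟨(j : ℕ) + 1, hj⟩ (fun l hl => ?_) ?_
    · simp only [pairs, Matrix.of_apply] at hl
      split_ifs at hl with h1 h2
      · exact absurd h1.2 (Nat.not_even_iff_odd.mpr he.add_one)
      · exact Fin.ext (by omega)
      · exact absurd rfl hl
    · simp [pairs, he, Nat.not_even_iff_odd.mpr he.add_one]
  · obtain ⟨t, ht⟩ := ho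
    refine key ⟨2 * t, by omega⟩ (fun l hl => ?_) ?_
    · simp only [pairs, Matrix.of_apply] at hl
      split_ifs at hl with h1 h2
      · exact Fin.ext (by omega)
      · obtain ⟨s, hs⟩ := h2.2; omega
      · exact absurd rfl hl
    · simp [pairs, ht]

/-- An element of order `p` all whose invariant nondegenerate subspaces of even dimension have plus type. -/
theorem exists_plus_only [Fintype F] {p : ℕ} [Fact p.Prime] [CharP F p] (hd : 3 ≤ d) :
    ∃ x : GL (Fin d ⊕ Fin d) F, x ∈ Cfsg.Geo.omegaGL ⇑(CfsgLib.StdForms.plusQ d F) ∧ x ^ p = 1 ∧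
      (∀ z : F, (x : Matrix (Fin d ⊕ Fin d) (Fin d ⊕ Fin d) F) ≠ z • 1) ∧
      ∀ W : Submodule F (Fin d ⊕ Fin d → F), Sep (CfsgLib.StdForms.plusQ d F) W → Even (finrank F W) →
        W.map (Matrix.toLin' (x : Matrix (Fin d ⊕ Fin d) (Fin d ⊕ Fin d) F)) ≤ W →
        Plus (CfsgLib.StdForms.plusQ d F) W := by
  set S : Matrix (Fin d) (Fin d) F := pairs d with hSdef
  have hS : IsAltMat S := pairs_alt
  refine ⟨shear S, shear_mem_omega hd hS, ?_, fun z hz => ?_, fun W hWs hWe hle => ?_⟩
  · have hk : ∀ k : ℕ, shear S ^ k = shear (k • S) := fun k => by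
      induction k with
      | zero => rw [pow_zero, zero_smul]; exact (Units.ext mat_zero).symm
      | succ k ih => rw [pow_succ, ih, shear_mul, succ_nsmul]
    rw [hk, ← Nat.cast_smul_eq_nsmul F, CharP.cast_eq_zero, zero_smul]
    exact Units.ext mat_zero
  · have h1 := congrFun (congrFun hz (Sum.inl ⟨0, by omega⟩)) (Sum.inr ⟨1, by omega⟩)
    simp [shear_val, mat, hSdef, pairs] at h1
  set Q := CfsgLib.StdForms.plusQ d F
  set g : Module.End F (Fin d ⊕ Fin d → F) := Matrix.toLin' (shear S : Matrix (Fin d ⊕ Fin d) (Fin d ⊕ Fin d) F)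
  have hN : ∀ v, (g - 1) v = Sum.elim (S *ᵥ (v ∘ Sum.inr)) 0 := fun v => by
    rw [LinearMap.sub_apply, Module.End.one_apply, Matrix.toLin'_apply, shear_val, mat_mulVec]
    funext w
    rcases w with w | w <;> simp
  refine plus_of_plane (sep_top (CfsgLib.StdForms.plusQ_nondegenerate d)) (g := g)
    (fun v => by rw [Matrix.toLin'_apply]; exact shear_quad hS v) (fun u => ?_) (fun u => ?_)
    (fun v => v (Sum.inl ⟨d - 1, by omega⟩)) (fun v => v (Sum.inr ⟨d - 1, by omega⟩)) (fun u v hu hv => ?_)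
    (CfsgLib.OrthStandard.plus_top_plusQ d) (by simp) (fun v hv => hle ⟨v, hv, rfl⟩) hWs hWe
  · rw [hN, quad_eq]; simp
  · rw [hN, hN]
    funext w
    rcases w with w | w <;> simp
  · have hz : ∀ x, g x = x → ∀ j : Fin d, (j : ℕ) + 1 < d → x (Sum.inr j) = 0 := fun x hx j hj => by
      have h1 : (g - 1) x = 0 := by rw [LinearMap.sub_apply, Module.End.one_apply, hx, sub_self]
      rw [hN] at h1
      exact pairs_ker (b := x ∘ Sum.inr) (funext fun i => congrFun h1 (Sum.inl i)) j hj
    show QuadraticMap.polar (⇑Q) u v = _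
    rw [CfsgLib.StdForms.polar_plus, Finset.sum_eq_single ⟨d - 1, by omega⟩]
    · intro j _ hj
      have : (j : ℕ) + 1 < d := by
        have := j.2
        have : (j : ℕ) ≠ d - 1 := fun e => hj (Fin.ext e)
        omega
      rw [hz u hu j this, hz v hv j this]
      ring
    · simp

end Model

end CfsgLib.OrthShear
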