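import Cfsg.Agent.LinearElements.OrthOddBlocks
import Mathlib.FieldTheory.ChevalleyWarning

/-!
Totally singular subspaces of nondegenerate subspaces; `p`-groups of isometries fix one of every dimension below the
largest; what a prime dividing the number of totally singular subspaces satisfies.
-/

set_option autoImplicit false

namespace CfsgLib.OrthSingular

open Module Submodule CfsgLib.LinearElements CfsgLib.QuadType CfsgLib.OrthAtoms CfsgLib.OrthPrimePower

variable {F V : Type*} [Field F] [AddCommGroup V] [Module F V] {Q : QuadraticForm F V}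

local notation "𝔅" => QuadraticMap.polarBilin Q

/-- There is room for a totally singular subspace of dimension `f`. -/
def Fits (Q : QuadraticForm F V) (f : ℕ) (W : Submodule F V) : Prop :=
  2 * f < finrank F W ∨ (2 * f = finrank F W ∧ Plus Q W)

theorem singular_sup {A B : Submodule F V} (hA : ∀ u ∈ A, Q u = 0) (hB : ∀ u ∈ B, Q u = 0)
    (horth : ∀ a ∈ A, ∀ b ∈ B, 𝔅 a b = 0) : ∀ u ∈ A ⊔ B, Q u = 0 := by
  intro u hu
  obtain ⟨a, ha, b, hb, rfl⟩ := Submodule.mem_sup.mp hu
  rw [QuadType.map_add', hA a ha, hB b hb, horth a ha b hb, add_zero, add_zero]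

theorem fits_of_singular [FiniteDimensional F V] {W Z : Submodule F V} (hW : Sep Q W) (hZW : Z ≤ W)
    (hZ : ∀ u ∈ Z, Q u = 0) : Fits Q (finrank F Z) W := by
  rcases (OrthOddBlocks.singular_half hW hZW fun u hu v hv => polar_singular hZ hu hv).lt_or_eq with h | h
  · exact Or.inl h
  · exact Or.inr ⟨h, Z, hZW, hZ, h⟩

theorem iso_singular [FiniteDimensional F V] {Z Z' : Submodule F V} (hZ : ∀ u ∈ Z, Q u = 0)
    (hZ' : ∀ u ∈ Z', Q u = 0) (hd : finrank F Z = finrank F Z') : Iso Q Q Z Z' := by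
  obtain ⟨e⟩ := FiniteDimensional.nonempty_linearEquiv_of_finrank_eq hd
  exact ⟨e, fun x => by rw [hZ' _ (e x).2, hZ _ x.2]⟩

variable [Fintype F] [Finite V] [FiniteDimensional F V]

theorem exists_singular {W : Submodule F V} (hW : Sep Q W) {f : ℕ} (h : Fits Q f W) :
    ∃ Z, Z ≤ W ∧ finrank F Z = f ∧ ∀ u ∈ Z, Q u = 0 := by
  rcases h with h | ⟨h, U, hU, hU0, hUd⟩
  · obtain ⟨X, hXW, -, hXd, hXt⟩ := exists_sub_type f hW h True fun _ => trivial
    obtain ⟨U, hU, hU0, hUd⟩ := hXt.mpr trivial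
    exact ⟨U, hU.trans hXW, by omega, hU0⟩
  · exact ⟨U, hU, by omega, hU0⟩

omit [Finite V] in
/-- The number of singular vectors of a space of dimension at least three is a multiple of the characteristic. -/
theorem dvd_card_singular {p : ℕ} [Fact p.Prime] [CharP F p] {R : Submodule F V} (hR : 3 ≤ finrank F R) :
    p ∣ Nat.card {x : R // Q (x : V) = 0} := by
  classical
  set n := finrank F R with hn
  let b := Module.finBasis F R
  let B := (Q.comp R.subtype).toBilin b
  have hB : ∀ x : R, B x x = Q (x : V) := fun x =>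
    congrArg (fun Q' : QuadraticForm F R => Q' x) (QuadraticMap.toQuadraticMap_toBilin (Q.comp R.subtype) b)
  let P : MvPolynomial (Fin n) F :=
    ∑ a, ∑ a', MvPolynomial.C (B (b a) (b a')) * (MvPolynomial.X a * MvPolynomial.X a')
  let wv : (Fin n → F) → R := fun x => ∑ a, x a • b a
  have heval : ∀ x, MvPolynomial.eval x P = Q (wv x : V) := fun x => by
    rw [← hB]
    simp only [P, wv, map_sum, map_smul, LinearMap.sum_apply, LinearMap.smul_apply, MvPolynomial.eval_mul,
      MvPolynomial.eval_C, MvPolynomial.eval_X, smul_eq_mul, Finset.mul_sum]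
    rw [Finset.sum_comm]
    exact Finset.sum_congr rfl fun a _ => Finset.sum_congr rfl fun a' _ => by ring
  have hdeg : P.totalDegree < Fintype.card (Fin n) := by
    refine lt_of_le_of_lt (b := 2) ?_ (by rw [Fintype.card_fin]; omega)
    refine MvPolynomial.totalDegree_finsetSum_le fun a _ => MvPolynomial.totalDegree_finsetSum_le fun a' _ => ?_
    refine (MvPolynomial.totalDegree_mul _ _).trans ?_
    rw [MvPolynomial.totalDegree_C, Nat.zero_add]
    exact (MvPolynomial.totalDegree_mul _ _).trans (by simp [MvPolynomial.totalDegree_X])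
  have h := char_dvd_card_solutions p hdeg
  rw [← Nat.card_eq_fintype_card] at h
  refine h.trans (dvd_of_eq (Nat.card_congr (Equiv.subtypeEquiv b.equivFun.symm.toEquiv fun x => ?_)))
  rw [heval]
  simp [wv, Module.Basis.equivFun_symm_apply]
  rfl

/-- A `p`-group of isometries fixes a totally singular subspace of every dimension below half. -/
theorem pgroup_fix {p : ℕ} [Fact p.Prime] [CharP F p] (hQ : Sep Q ⊤) {P : Type*} [Group P] [Finite P]
    (hP : IsPGroup p P) (ρ : P →* Module.End F V) (hρ : ∀ a v, Q (ρ a v) = Q v) :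
    ∀ m, 2 * m < finrank F V →
      ∃ W : Submodule F V, finrank F W = m ∧ (∀ w ∈ W, Q w = 0) ∧ ∀ a, W.map (ρ a) ≤ W := by
  intro m
  induction m with
  | zero => exact fun _ => ⟨⊥, finrank_bot F V, fun w hw => by simp [(Submodule.mem_bot F).mp hw], fun a => by simp⟩
  | succ k ih =>
    intro hm
    obtain ⟨U, hUd, hU, hUinv⟩ := ih (by omega)
    have hUi : ∀ a, ∀ u ∈ U, ρ a u ∈ U := fun a u hu => hUinv a ⟨u, hu, rfl⟩
    have hnd : (QuadraticMap.polarBilin Q).Nondegenerate := by
      refine ⟨fun x hx => ?_, fun x hx => ?_⟩ <;> by_contra hne <;>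
        obtain ⟨y, -, hxy⟩ := hQ x trivial hne
      · exact hxy (hx y)
      · exact hxy (by rw [polar_swap]; exact hx y)
    set O := LinearMap.BilinForm.orthogonal (QuadraticMap.polarBilin Q) U
    have hOd : finrank F O = finrank F V - k := hUd ▸ LinearMap.BilinForm.finrank_orthogonal hnd U
    have hUO : U ≤ O := fun u hu x hx => polar_singular hU hx hu
    have hOi : ∀ a, ∀ x ∈ O, ρ a x ∈ O := fun a x hx u hu => by
      show 𝔅 u (ρ a x) = 0
      have h1 : ρ a (ρ a⁻¹ u) = u := by
        rw [← Module.End.mul_apply, ← map_mul, mul_inv_cancel, map_one, Module.End.one_apply]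
      rw [← h1, polar_iso (hρ a)]
      exact hx _ (hUi _ u hu)
    obtain ⟨R', hc⟩ := Submodule.exists_isCompl U
    set R := R' ⊓ O with hRdef
    have hsup : U ⊔ R = O := by
      rw [hRdef, ← sup_inf_assoc_of_le R' hUO, hc.sup_eq_top, top_inf_eq]
    have hinf : U ⊓ R = ⊥ := le_bot_iff.mp ((inf_le_inf_left U inf_le_left).trans hc.inf_eq_bot.le)
    have hRd : 3 ≤ finrank F R := by
      have h1 := Submodule.finrank_sup_add_finrank_inf_eq U R
      rw [hsup, hinf, finrank_bot, hOd, hUd] at h1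
      omega
    let π : Module.End F V := R'.subtype ∘ₗ R'.projectionOnto U hc.symm
    have hπU : ∀ u ∈ U, π u = 0 := fun u hu => by
      simp only [π, LinearMap.comp_apply, (Submodule.projectionOnto_apply_eq_zero_iff hc.symm).mpr hu, map_zero]
    have hπR : ∀ x ∈ R', π x = x := fun x hx =>
      congrArg Subtype.val (Submodule.projectionOnto_apply_left hc.symm ⟨x, hx⟩)
    have hπ : ∀ x ∈ O, π x ∈ R ∧ x - π x ∈ U ∧ Q (π x) = Q x := fun x hx => by
      rw [← hsup] at hx
      obtain ⟨u, hu, y, hy, rfl⟩ := Submodule.mem_sup.mp hx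
      rw [map_add, hπU u hu, zero_add, hπR y hy.1]
      refine ⟨hy, by rw [add_sub_cancel_right]; exact hu, ?_⟩
      rw [QuadType.map_add', hU u hu, show 𝔅 u y = 0 from hy.2 u hu]
      simp
    let S := {x : R // Q (x : V) = 0}
    letI act : MulAction P S :=
      { smul := fun a x => ⟨⟨π (ρ a x.1), (hπ _ (hOi a _ x.1.2.2)).1⟩,
          ((hπ _ (hOi a _ x.1.2.2)).2.2).trans ((hρ a _).trans x.2)⟩
        one_smul := fun x => Subtype.ext (Subtype.ext (by
          show π (ρ 1 (x.1 : V)) = x.1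
          rw [map_one, Module.End.one_apply, hπR _ x.1.2.1]))
        mul_smul := fun a a' x => Subtype.ext (Subtype.ext (by
          show π (ρ (a * a') (x.1 : V)) = π (ρ a (π (ρ a' (x.1 : V))))
          have h1 := hπU _ (hUi a _ (hπ _ (hOi a' _ x.1.2.2)).2.1)
          rw [map_sub, map_sub, sub_eq_zero] at h1
          rw [map_mul, Module.End.mul_apply]
          exact h1)) }
    let z : S := ⟨0, by simp⟩
    have hz : z ∈ MulAction.fixedPoints P S := fun a => Subtype.ext (Subtype.ext (by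
      show π (ρ a (0 : V)) = 0
      simp))
    obtain ⟨x, hx, hxz⟩ := hP.exists_fixed_point_of_prime_dvd_card_of_fixed_point S (dvd_card_singular hRd) hz
    have hx0 : (x.1 : V) ≠ 0 := fun e => hxz (Subtype.ext (Subtype.ext e.symm))
    refine ⟨U ⊔ span F {(x.1 : V)}, ?_, singular_sup hU ?_ ?_, fun a => ?_⟩
    · have h1 := Submodule.finrank_sup_add_finrank_inf_eq U (span F {(x.1 : V)})
      have h2 : U ⊓ span F {(x.1 : V)} = ⊥ :=
        le_bot_iff.mp ((inf_le_inf_left U ((span_singleton_le_iff_mem _ _).mpr x.1.2)).trans hinf.le)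
      rw [h2, finrank_bot, hUd, finrank_span_singleton hx0] at h1
      omega
    · intro u hu
      obtain ⟨s, rfl⟩ := mem_span_singleton.mp hu
      rw [smul_quad, x.2, mul_zero]
    · intro u hu v hv
      obtain ⟨s, rfl⟩ := mem_span_singleton.mp hv
      rw [map_smul, show 𝔅 u (x.1 : V) = 0 from x.1.2.2 u hu, smul_zero]
    · rw [Submodule.map_sup, Submodule.map_span, Set.image_singleton]
      refine sup_le ((hUinv a).trans le_sup_left) ((span_singleton_le_iff_mem _ _).mpr ?_)
      have h1 : π (ρ a (x.1 : V)) = x.1 := congrArg (fun y : S => (y.1 : V)) (hx a)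
      have h2 := (hπ _ (hOi a _ x.1.2.2)).2.1
      rw [h1] at h2
      rw [show ρ a (x.1 : V) = (ρ a (x.1 : V) - x.1) + x.1 by abel]
      exact Submodule.add_mem_sup h2 (mem_span_singleton_self _)

/-- The family of totally singular subspaces of one dimension. -/
theorem exists_group_of_dvd (hQ : Sep Q ⊤) {r : ℕ} [Fact r.Prime] {m : ℕ} (hm : 2 * m < finrank F V)
    (hdvd : r ∣ Nat.card {W : Submodule F V // finrank F W = m ∧ ∀ w ∈ W, Q w = 0}) :
    (∃ g : Module.End F V, (∀ v, Q (g v) = Q v) ∧ g ^ r = 1 ∧ g ≠ 1) ∧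
      ∃ (P : Subgroup (isoG Q)) (ρ : P →* Module.End F V), IsPGroup r P ∧
        (∀ a v, Q (ρ a v) = Q v) ∧ ∀ W : Submodule F V, (finrank F W = m ∧ ∀ w ∈ W, Q w = 0) → ∃ a, ¬ W.map (ρ a) ≤ W :=
  of_dvd_card (Q := Q)
    (Pr := fun W => finrank F W = m ∧ ∀ w ∈ W, Q w = 0)
    (by
      obtain ⟨Z, -, hZ⟩ := exists_singular hQ (f := m) (Or.inl (by rwa [finrank_top]))
      exact ⟨Z, hZ⟩)
    (fun g hg W hW => ⟨(finrank_map' _ g.injective W).trans hW.1, by
      rintro _ ⟨w, hw, rfl⟩
      exact (hg w).trans (hW.2 w hw)⟩)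
    (fun W W' hW hW' => exists_isoG_map hQ (iso_singular hW.2 hW'.2 (hW.1.trans hW'.1.symm)))
    hdvd

/-- A prime dividing the number of totally singular subspaces is not the characteristic. -/
theorem ne_char_of_dvd {p : ℕ} [Fact p.Prime] [CharP F p] (hQ : Sep Q ⊤) {r : ℕ} [Fact r.Prime] {m : ℕ}
    (hm : 2 * m < finrank F V)
    (hdvd : r ∣ Nat.card {W : Submodule F V // finrank F W = m ∧ ∀ w ∈ W, Q w = 0}) : r ≠ p := by
  rintro rfl
  obtain ⟨-, P, ρ, hP, hρ, hno⟩ := exists_group_of_dvd hQ hm hdvd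
  haveI : Finite (V ≃ₗ[F] V) := Finite.of_injective _ (DFunLike.coe_injective (F := V ≃ₗ[F] V))
  obtain ⟨W, hWd, hW, hle⟩ := pgroup_fix hQ hP ρ hρ m hm
  obtain ⟨a, ha⟩ := hno W ⟨hWd, hW⟩
  exact ha (hle a)

/-- The same for other odd primes: an element exists, and some number of blocks leaves no room. -/
theorem exists_pfix_singular (hQ : Sep Q ⊤) {r : ℕ} [Fact r.Prime] {c : ℕ} (hr2 : r ≠ 2) (hrF : (r : F) ≠ 0)
    (hq : (Fintype.card F : ZMod r) ≠ 0)
    (hc : c = if Even (orderOf (Fintype.card F : ZMod r)) then orderOf (Fintype.card F : ZMod r)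
      else 2 * orderOf (Fintype.card F : ZMod r))
    {m : ℕ} (hm : 2 * m < finrank F V)
    (hdvd : r ∣ Nat.card {W : Submodule F V // finrank F W = m ∧ ∀ w ∈ W, Q w = 0}) :
    (∃ g : Module.End F V, (∀ v, Q (g v) = Q v) ∧ g ^ r = 1 ∧ g ≠ 1) ∧
      ∃ j, j * c ≤ finrank F V ∧
        (finrank F V = j * c → (Plus Q ⊤ ↔ sgn (orderOf (Fintype.card F : ZMod r)) j)) ∧
        ¬ (2 * m + j * c < finrank F V ∨
          (2 * m + j * c = finrank F V ∧ (Plus Q ⊤ ↔ sgn (orderOf (Fintype.card F : ZMod r)) j))) := by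
  obtain ⟨hel, P, ρ, hP, hρ, hno⟩ := exists_group_of_dvd hQ hm hdvd
  haveI : Finite (V ≃ₗ[F] V) := Finite.of_injective _ (DFunLike.coe_injective (F := V ≃ₗ[F] V))
  obtain ⟨C, j, hC, hd, hfix, htype⟩ := exists_pfix hP hr2 hrF hq hc _ ρ rfl hQ hρ
  have hce : Even c := OrthFix.even_c hc
  refine ⟨hel, j, by omega, fun he => ?_, fun hfits => ?_⟩
  · have h0 : C = ⊥ := Submodule.finrank_eq_zero.mp (by omega)
    subst h0
    rw [htype (he ▸ hce.mul_left j), iff_true_left plus_bot]
  · obtain ⟨Z, hZC, hZd, hZ⟩ := exists_singular hC (f := m) (by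
      rcases hfits with h | ⟨h, ht⟩
      · exact Or.inl (by omega)
      · refine Or.inr ⟨by omega, ?_⟩
        have := htype (h ▸ (even_two_mul m).add (hce.mul_left j))
        by_cases h1 : Plus Q C <;> by_cases h2 : sgn (orderOf (Fintype.card F : ZMod r)) j <;> simp_all)
    obtain ⟨a, ha⟩ := hno Z ⟨hZd, hZ⟩
    refine ha ?_
    rintro _ ⟨v, hv, rfl⟩
    rw [hfix a v (hZC hv)]; exact hv

end CfsgLib.OrthSingular
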