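import Cfsg.Agent.LinearElements.OrthOddBlocks
import Cfsg.Agent.LinearElements.SympIsotropic
import Mathlib.FieldTheory.Finite.Extension

/-!
Elements of odd prime order `r` of orthogonal groups, for even order `i` of `q` modulo `r`, built from blocks of pairwise
coprime types: their invariant totally singular subspaces are small.
-/

set_option autoImplicit false

namespace CfsgLib.OrthTypedBlocks

open Module Submodule Polynomial CfsgLib.LinearElements CfsgLib.QuadType CfsgLib.OrthAtoms CfsgLib.OrthPrimePower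
  CfsgLib.OrthFix

variable {F V : Type*} [Field F] [AddCommGroup V] [Module F V] {Q : QuadraticForm F V}

local notation "𝔅" => QuadraticMap.polarBilin Q

theorem aeval_mem {g : Module.End F V} {Z : Submodule F V} (hZ : InvBy g Z) (P : F[X]) {z : V} (hz : z ∈ Z) :
    aeval g P z ∈ Z := by
  induction P using Polynomial.induction_on' with
  | add P P' hP hP' => rw [map_add, LinearMap.add_apply]; exact Z.add_mem hP hP'
  | monomial n a =>
    rw [aeval_monomial, Module.End.mul_apply, Module.algebraMap_end_apply]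
    exact Z.smul_mem _ (hZ.pow n z hz)

theorem aeval_fixed {g : Module.End F V} {v : V} (h : g v = v) (P : F[X]) : aeval g P v = P.eval 1 • v := by
  induction P using Polynomial.induction_on' with
  | add P P' hP hP' => simp [hP, hP', add_smul]
  | monomial n a =>
    have hn : ∀ n : ℕ, (g ^ n) v = v := fun n => by
      induction n with
      | zero => rfl
      | succ n ih => rw [pow_succ, Module.End.mul_apply, h, ih]
    simp [aeval_monomial, hn]

theorem aeval_agree {g g' : Module.End F V} {X : Submodule F V} (hX : InvBy g' X) (h : ∀ x ∈ X, g x = g' x) (P : F[X])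
    {x : V} (hx : x ∈ X) : aeval g P x = aeval g' P x :=
  (aeval_intertwine X.subtype (g := g'.restrict hX) (g' := g) (fun v => (h v v.2).symm) P ⟨x, hx⟩).symm.trans
    (aeval_intertwine X.subtype (g := g'.restrict hX) (g' := g') (fun _ => rfl) P ⟨x, hx⟩)

/-- A vector killed by two coprime polynomials is zero. -/
theorem eq_zero_of_coprime {g : Module.End F V} {P P' : F[X]} (h : IsCoprime P P') {v : V} (h1 : aeval g P v = 0)
    (h2 : aeval g P' v = 0) : v = 0 := by
  obtain ⟨a, b, hab⟩ := h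
  have h3 := congrArg (fun R => aeval g R v) hab
  simpa [h1, h2] using h3.symm

/-- An element of order `r` living on `Y`. -/
def Pack (Q : QuadraticForm F V) (r : ℕ) (Y : Submodule F V) (g : Module.End F V) : Prop :=
  (∀ v, Q (g v) = Q v) ∧ g ^ r = 1 ∧ InvBy g Y ∧ ∀ z, (∀ y ∈ Y, QuadraticMap.polarBilin Q y z = 0) → g z = z

theorem pack_bot (Q : QuadraticForm F V) (r : ℕ) : Pack Q r ⊥ 1 :=
  ⟨fun _ => rfl, one_pow r, invBy_bot, fun _ _ => rfl⟩

variable [FiniteDimensional F V] (hQ : Sep Q ⊤) {r : ℕ}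

include hQ

/-- Two elements on perpendicular subspaces. -/
theorem combine {X Y : Submodule F V} (hX : Sep Q X) (hY : Sep Q Y) (horth : ∀ x ∈ X, ∀ y ∈ Y, 𝔅 x y = 0)
    {g₁ g₂ : Module.End F V} (h₁ : Pack Q r X g₁) (h₂ : Pack Q r Y g₂) :
    ∃ g, Pack Q r (X ⊔ Y) g ∧ (∀ P : F[X], ∀ x ∈ X, aeval g P x = aeval g₁ P x) ∧
      ∀ P : F[X], ∀ y ∈ Y, aeval g P y = aeval g₂ P y := by
  obtain ⟨hg₁, hg₁r, hg₁X, hg₁Z⟩ := h₁
  obtain ⟨hg₂, hg₂r, hg₂Y, hg₂Z⟩ := h₂
  have h12 : ∀ x ∈ X, g₂ x = x := fun x hx => hg₂Z x fun y hy => (polar_swap y x).trans (horth x hx y hy)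
  have h21 : ∀ y ∈ Y, g₁ y = y := fun y hy => hg₁Z y fun x hx => horth x hx y hy
  have hgx : ∀ x ∈ X, (g₁ * g₂) x = g₁ x := fun x hx => by rw [Module.End.mul_apply, h12 x hx]
  have hgy : ∀ y ∈ Y, (g₁ * g₂) y = g₂ y := fun y hy => by rw [Module.End.mul_apply, h21 _ (hg₂Y y hy)]
  refine ⟨g₁ * g₂, ⟨fun v => by rw [Module.End.mul_apply, hg₁, hg₂], ?_, ?_, fun z hz => ?_⟩,
    fun P x hx => aeval_agree hg₁X hgx P hx, fun P y hy => aeval_agree hg₂Y hgy P hy⟩
  · obtain ⟨Z, -, -, horthZ, hsupZ, -, -⟩ := exists_perp hQ (sep_sup hX hY horth) le_top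
    have hcomm : Commute g₁ g₂ := LinearMap.ext fun v => by
      obtain ⟨w, hw, z, hz, rfl⟩ := Submodule.mem_sup.mp (hsupZ.ge (Submodule.mem_top (x := v)))
      obtain ⟨x, hx, y, hy, rfl⟩ := Submodule.mem_sup.mp hw
      have hz1 : g₁ z = z := hg₁Z z fun x hx => horthZ x (Submodule.mem_sup_left hx) z hz
      have hz2 : g₂ z = z := hg₂Z z fun y hy => horthZ y (Submodule.mem_sup_right hy) z hz
      simp only [Module.End.mul_apply, map_add, h12 x hx, h21 y hy, h21 _ (hg₂Y y hy), h12 _ (hg₁X x hx), hz1, hz2]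
    rw [hcomm.mul_pow, hg₁r, hg₂r, one_mul]
  · intro v hv
    obtain ⟨x, hx, y, hy, rfl⟩ := Submodule.mem_sup.mp hv
    rw [map_add, hgx x hx, hgy y hy]
    exact Submodule.add_mem_sup (hg₁X x hx) (hg₂Y y hy)
  · rw [Module.End.mul_apply, hg₂Z z fun y hy => hz y (Submodule.mem_sup_right hy),
      hg₁Z z fun x hx => hz x (Submodule.mem_sup_left hx)]

variable [Fintype F] [Finite V] [Fact r.Prime] (hr2 : r ≠ 2) (hrF : (r : F) ≠ 0)
  (hq : (Fintype.card F : ZMod r) ≠ 0) (he : Even (orderOf (Fintype.card F : ZMod r)))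

include hr2 hrF hq he

/-- As many pairwise coprime types of smallest blocks as there are cosets of `⟨q⟩`. -/
theorem exists_types {g₀ : Module.End F V} (hg₀ : ∀ v, Q (g₀ v) = Q v) (hg₀r : g₀ ^ r = 1) (hg₀1 : g₀ ≠ 1) :
    ∃ φ : Fin ((r - 1) / orderOf (Fintype.card F : ZMod r)) → F[X], (∀ a, (φ a).eval 1 ≠ 0) ∧
      (∀ a b, a ≠ b → IsCoprime (φ a) (φ b)) ∧
      ∀ a, ∀ X : Submodule F V, Sep Q X → finrank F X = orderOf (Fintype.card F : ZMod r) → ¬ Plus Q X →
        ∃ g, Pack Q r X g ∧ ∀ x ∈ X, aeval g (φ a) x = 0 := by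
  classical
  have hr := (Fact.out : r.Prime)
  set i := orderOf (Fintype.card F : ZMod r) with hi
  set c := if Even i then i else 2 * i with hc
  have hci : c = i := if_pos he
  obtain ⟨-, M, -, hM, hMs, hM0, -, hsup, -⟩ := exists_split_moved hg₀ hg₀r hr.pos hrF (invBy_top (g := g₀)) hQ
  have hne : M ≠ ⊥ := fun e => by
    rw [e, sup_bot_eq] at hsup
    exact hg₀1 (LinearMap.ext fun v => (mem_fixedIn.mp (hsup.ge (Submodule.mem_top (x := v)))).2)
  obtain ⟨X₀, -, hX₀, hX₀s, hX₀0, hX₀d, hX₀t⟩ := exists_orth_atom hg₀ hg₀r hr2 hrF hq hc hM hMs hM0 hne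
  rw [hci] at hX₀d
  rw [← Nat.not_even_iff_odd, iff_false_intro (not_not.mpr he)] at hX₀t
  have hi0 : 0 < i := by have := atom_pos hr2 hq hc; omega
  let T : Module.End F X₀ := g₀.restrict hX₀
  have hT : ∀ (k : ℕ) (x : X₀), ((T ^ k) x : V) = (g₀ ^ k) (x : V) := fun k => by
    induction k with
    | zero => intro x; rfl
    | succ k ih =>
      intro x
      rw [pow_succ', pow_succ', Module.End.mul_apply, Module.End.mul_apply, ← ih]
      rfl
  have hTr : T ^ r = 1 := LinearMap.ext fun x => Subtype.ext (by rw [hT, hg₀r]; rfl)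
  -- the eigenvalues lie in the extension of degree `i`
  obtain ⟨p, hp⟩ := CharP.exists F
  haveI : Fact p.Prime := ⟨CharP.char_is_prime F p⟩
  haveI : NeZero i := ⟨hi0.ne'⟩
  let L := FiniteField.Extension F p i
  haveI : Finite L := Module.finite_of_finite F
  haveI := Fintype.ofFinite L
  have hdvdL : r ∣ Fintype.card L - 1 := by
    rw [Module.card_eq_pow_finrank (K := F), FiniteField.finrank_extension F p i, ← ZMod.natCast_eq_zero_iff,
      Nat.cast_sub (Nat.one_le_pow _ _ Fintype.card_pos), Nat.cast_pow, Nat.cast_one, hi, pow_orderOf_eq_one, sub_self]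
  obtain ⟨u, hu⟩ := exists_prime_orderOf_dvd_card (G := Lˣ) r (by rwa [Fintype.card_units])
  have hζ : IsPrimitiveRoot (u : L) r := by
    rw [← hu, ← orderOf_units]; exact IsPrimitiveRoot.orderOf _
  set P := minpoly F T with hP
  have hP0 : P.natDegree ≠ 0 := by
    intro h0
    have hX0ne : Nontrivial X₀ := Module.nontrivial_of_finrank_pos (R := F) (by omega)
    exact absurd h0 (minpoly.natDegree_pos (IsIntegral.of_finite F T)).ne'
  have hPdvd : P ∣ X ^ r - 1 := minpoly.dvd F T (by simp [hTr])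
  obtain ⟨ρ, hρ⟩ : ∃ ρ : L, aeval ρ P = 0 := by
    have hs : ((X ^ r - 1 : F[X]).map (algebraMap F L)).Splits := by
      rw [Polynomial.map_sub, Polynomial.map_pow, Polynomial.map_X, Polynomial.map_one]
      exact X_pow_sub_one_splits hζ
    have hne0 : (X ^ r - 1 : F[X]).map (algebraMap F L) ≠ 0 := by
      rw [Polynomial.map_sub, Polynomial.map_pow, Polynomial.map_X, Polynomial.map_one]
      exact X_pow_sub_C_ne_zero hr.pos 1
    obtain ⟨ρ, hρ⟩ := Splits.exists_eval_eq_zero (Splits.of_dvd hs hne0 (Polynomial.map_dvd _ hPdvd)) (by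
      rw [degree_map]; exact fun e => hP0 (natDegree_eq_of_degree_eq_some e))
    exact ⟨ρ, by rwa [aeval_def, ← eval_map]⟩
  -- the minimal polynomial of `ρ` kills `T`
  have hρT : aeval T (minpoly F ρ) = 0 := by
    obtain ⟨P', hP'⟩ := minpoly.dvd F ρ hρ
    set f := minpoly F ρ
    let K := LinearMap.ker (aeval T f)
    have hK : InvBy T K := fun v hv => by
      rw [LinearMap.mem_ker] at hv ⊢
      rw [show aeval T f (T v) = (aeval T f * T) v from rfl, show aeval T f * T = T * aeval T f by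
        conv_lhs => arg 2; rw [← aeval_X (R := F) T]
        conv_rhs => arg 1; rw [← aeval_X (R := F) T]
        rw [← map_mul, ← map_mul, mul_comm], Module.End.mul_apply, hv, map_zero]
    by_cases hK0 : K = ⊥
    · exfalso
      have hinj : Function.Injective (aeval T f) := LinearMap.ker_eq_bot.mp hK0
      have h1 : aeval T P' = 0 := LinearMap.ext fun v => hinj (by
        rw [← Module.End.mul_apply, ← map_mul, ← hP', hP, minpoly.aeval]
        simp)
      have hP'0 : P' ≠ 0 := fun e => minpoly.ne_zero (IsIntegral.of_finite F T) (by rw [← hP, hP', e, mul_zero])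
      have h2 := natDegree_le_of_dvd (minpoly.dvd F T h1) hP'0
      rw [← hP, hP', natDegree_mul (minpoly.ne_zero (IsIntegral.of_finite F ρ)) hP'0] at h2
      have := minpoly.natDegree_pos (A := F) (IsIntegral.of_finite F ρ)
      omega
    · have hK0' : fixedIn T K = ⊥ := (Submodule.eq_bot_iff _).mpr fun v hv => Subtype.ext
        ((Submodule.eq_bot_iff _).mp hX₀0 _
          (mem_fixedIn.mpr ⟨v.2, congrArg Subtype.val (mem_fixedIn.mp hv).2⟩))
      have h1 := orderOf_dvd_finrank_sub hTr hq hK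
      rw [hK0', finrank_bot, Nat.sub_zero] at h1
      have h2 : K = ⊤ := Submodule.eq_top_of_finrank_eq (le_antisymm (Submodule.finrank_le _)
        (hX₀d.trans_le (Nat.le_of_dvd (Nat.pos_of_ne_zero fun e => hK0 (Submodule.finrank_eq_zero.mp e)) h1)))
      exact LinearMap.ker_eq_top.mp h2
  have hρr : ρ ^ r = 1 := by
    obtain ⟨R, hR⟩ := hPdvd
    have h1 : aeval ρ (X ^ r - 1 : F[X]) = 0 := by rw [hR, map_mul, hρ, zero_mul]
    simpa [sub_eq_zero] using h1
  have hρ1 : ρ ≠ 1 := fun e => by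
    rw [e, minpoly.one, map_sub, map_one, aeval_X, sub_eq_zero] at hρT
    have h1 : X₀ ≤ fixedIn g₀ X₀ := fun x hx =>
      mem_fixedIn.mpr ⟨hx, congrArg Subtype.val (LinearMap.congr_fun hρT ⟨x, hx⟩)⟩
    rw [hX₀0, le_bot_iff] at h1
    rw [h1, finrank_bot] at hX₀d
    omega
  have hord : orderOf ρ = r := orderOf_eq_prime hρr hρ1
  -- exponents: one for each coset of `⟨q⟩`
  let H : Subgroup (ZMod r)ˣ := Subgroup.zpowers (Units.mk0 _ hq)
  have hH : Fintype.card ((ZMod r)ˣ ⧸ H) = (r - 1) / i := by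
    have h1 := H.index_mul_card
    rw [Nat.card_zpowers, ← orderOf_units, Units.val_mk0, Nat.card_units, Nat.card_zmod, Subgroup.index,
      Nat.card_eq_fintype_card] at h1
    rw [← h1, Nat.mul_div_cancel _ hi0]
  let ex : Fin ((r - 1) / i) → ℕ := fun a => ((((Fintype.equivFinOfCardEq hH).symm a).out : (ZMod r)ˣ) : ZMod r).val
  have hex : ∀ a, ((ex a : ℕ) : ZMod r) = (((Fintype.equivFinOfCardEq hH).symm a).out : (ZMod r)ˣ) := fun a =>
    ZMod.natCast_zmod_val _
  let φ : Fin ((r - 1) / i) → F[X] := fun a => minpoly F (ρ ^ ex a)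
  have hint : ∀ a, IsIntegral F (ρ ^ ex a) := fun a => IsIntegral.of_finite F _
  refine ⟨φ, fun a e => ?_, fun a b hab => ?_, fun a X hX hXd hXp => ?_⟩
  · have hroot := minpoly.root (hint a) (show (φ a).IsRoot 1 from e)
    rw [map_one] at hroot
    have h1 := orderOf_dvd_of_pow_eq_one hroot.symm
    rw [hord, ← ZMod.natCast_eq_zero_iff, hex] at h1
    exact Units.ne_zero _ h1
  · refine ((minpoly.irreducible (hint a)).coprime_iff_not_dvd).mpr fun hd => hab ?_
    have hroot : aeval (ρ ^ ex a) (minpoly F (ρ ^ ex b)) = 0 := by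
      obtain ⟨R, hR⟩ := hd
      rw [show minpoly F (ρ ^ ex b) = φ a * R from hR, map_mul, show aeval (ρ ^ ex a) (φ a) = 0 from minpoly.aeval F _,
        zero_mul]
    obtain ⟨σ, hσ⟩ := minpoly.exists_algEquiv_of_root' (K := F) (hint b).isAlgebraic hroot
    obtain ⟨k, hk⟩ := (FiniteField.bijective_frobeniusAlgHom_pow F L).2 (σ : L →ₐ[F] L)
    have hfrob : ∀ (k : ℕ) (z : L), (FiniteField.frobeniusAlgHom F L ^ k) z = z ^ Fintype.card F ^ k := fun k => by
      induction k with
      | zero => intro z; simp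
      | succ k ih =>
        intro z
        rw [pow_succ', AlgHom.mul_apply, ih, pow_succ, pow_mul]
        rfl
    have h2 : (ρ ^ ex b) ^ Fintype.card F ^ (k : ℕ) = ρ ^ ex a := by
      rw [← hfrob]
      exact (DFunLike.congr_fun hk _).trans hσ
    rw [← pow_mul, (orderOf_pos_iff.mp (hord.symm ▸ hr.pos)).pow_inj_mod, hord] at h2
    have h3 := (ZMod.natCast_eq_natCast_iff' _ _ _).mpr h2
    push_cast at h3
    rw [hex, hex] at h3
    refine (Fintype.equivFinOfCardEq hH).symm.injective ?_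
    rw [← Quotient.out_eq' ((Fintype.equivFinOfCardEq hH).symm a), ← Quotient.out_eq' ((Fintype.equivFinOfCardEq hH).symm b)]
    refine QuotientGroup.eq.mpr (Subgroup.mem_zpowers_iff.mpr ⟨-((k : ℕ) : ℤ), ?_⟩)
    have h4 : ((Fintype.equivFinOfCardEq hH).symm a).out =
        Units.mk0 _ hq ^ (k : ℕ) * ((Fintype.equivFinOfCardEq hH).symm b).out := Units.ext (by
      rw [Units.val_mul, Units.val_pow_eq_pow_val, Units.val_mk0, ← h3, mul_comm])
    rw [h4, _root_.zpow_neg, zpow_natCast, _root_.mul_inv_rev, mul_comm (Quotient.out ((Fintype.equivFinOfCardEq hH).symm b))⁻¹,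
      mul_assoc, inv_mul_cancel, mul_one]
  · obtain ⟨h, hh⟩ := he
    obtain ⟨e, he'⟩ := iso_of_type h hX₀s hX (by omega) (by omega) (hX₀t.trans (iff_false_intro hXp).symm)
    obtain ⟨g, hg, hgX, hgZ⟩ := exists_extend hQ hX (e.toLinearMap ∘ₗ (T ^ ex a) ∘ₗ e.symm.toLinearMap) fun x => by
      show Q (e ((T ^ ex a) (e.symm x)) : V) = Q (x : V)
      rw [he', hT]
      have hk : ∀ (k : ℕ) v, Q ((g₀ ^ k) v) = Q v := fun k => by
        induction k with
        | zero => exact fun _ => rfl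
        | succ k ih => intro v; rw [pow_succ', Module.End.mul_apply, hg₀, ih]
      rw [hk, ← he' (e.symm x), LinearEquiv.apply_symm_apply]
    let π : X₀ →ₗ[F] V := X.subtype ∘ₗ e.toLinearMap
    have hπ : ∀ v, π ((T ^ ex a) v) = g (π v) := fun v => by
      show (e _ : V) = g ((e v : X) : V)
      rw [hgX]
      show _ = ((e ((T ^ ex a) (e.symm (e v))) : X) : V)
      rw [LinearEquiv.symm_apply_apply]
    have hX' : ∀ P : F[X], aeval (T ^ ex a) P = 0 → ∀ x ∈ X, aeval g P x = 0 := fun P hP x hx => by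
      obtain ⟨x₀, hx₀⟩ := e.surjective ⟨x, hx⟩
      have h1 := aeval_intertwine π hπ P x₀
      rw [hP, LinearMap.zero_apply, map_zero, show π x₀ = x from congrArg Subtype.val hx₀] at h1
      exact h1.symm
    have hgXinv : InvBy g X := fun v hv => by rw [hgX ⟨v, hv⟩]; exact Subtype.coe_prop _
    refine ⟨g, ⟨hg, LinearMap.ext fun v => ?_, hgXinv, hgZ⟩, hX' _ ?_⟩
    · obtain ⟨Z, -, -, horth, hsupX, -, -⟩ := exists_perp hQ hX le_top
      obtain ⟨x, hx, z, hz, rfl⟩ := Submodule.mem_sup.mp (hsupX.ge (Submodule.mem_top (x := v)))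
      have hzk : ∀ k : ℕ, (g ^ k) z = z := fun k => by
        induction k with
        | zero => simp
        | succ k ih => rw [pow_succ', Module.End.mul_apply, ih, hgZ z fun x hx => horth x hx z hz]
      have h1 := hX' (Polynomial.X ^ r - 1) (by rw [map_sub, map_pow, aeval_X, map_one, ← pow_mul, mul_comm, pow_mul, hTr, one_pow, sub_self]) x hx
      simp only [map_sub, map_pow, aeval_X, map_one, LinearMap.sub_apply, Module.End.one_apply, sub_eq_zero] at h1
      rw [map_add, hzk, h1, Module.End.one_apply]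
    · have h1 : aeval (T ^ ex a) (φ a) = aeval T (expand F (ex a) (φ a)) := (expand_aeval (ex a) (φ a) T).symm
      obtain ⟨R, hR⟩ : minpoly F ρ ∣ expand F (ex a) (φ a) :=
        minpoly.dvd F ρ (by rw [expand_aeval]; exact minpoly.aeval F _)
      rw [h1, hR, map_mul, hρT, zero_mul]

/-- An element with `j` blocks on `Y`, all of whose invariant totally singular subspaces without fixed vectors are small. -/
theorem exists_bounded {g₀ : Module.End F V} (hg₀ : ∀ v, Q (g₀ v) = Q v) (hg₀r : g₀ ^ r = 1) (hg₀1 : g₀ ≠ 1)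
    {j : ℕ} (hj : 1 ≤ j) {Y : Submodule F V} (hY : Sep Q Y)
    (hd : finrank F Y = j * orderOf (Fintype.card F : ZMod r)) (ht : Plus Q Y ↔ Even j) :
    ∃ g, Pack Q r Y g ∧ fixedIn g Y = ⊥ ∧ ∀ Z, Z ≤ Y → InvBy g Z → (∀ u ∈ Z, Q u = 0) →
      finrank F Z ≤ (j + 1 - (r - 1) / orderOf (Fintype.card F : ZMod r)) / 2 *
        orderOf (Fintype.card F : ZMod r) := by
  classical
  set i := orderOf (Fintype.card F : ZMod r) with hi
  have hi0 : 0 < i := orderOf_pos_iff.mpr (isOfFinOrder_iff_pow_eq_one.mpr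
    ⟨r - 1, by have := (Fact.out : r.Prime).two_le; omega, ZMod.pow_card_sub_one_eq_one hq⟩)
  set t := (r - 1) / i with htdef
  have ht1 : 1 ≤ t := (Nat.one_le_div_iff hi0).mpr
    (Nat.le_of_dvd (by have := (Fact.out : r.Prime).two_le; omega)
      (orderOf_dvd_of_pow_eq_one (ZMod.pow_card_sub_one_eq_one hq)))
  obtain ⟨φ, hφ1, hφco, hblock⟩ : ∃ φ : Fin t → F[X], (∀ a, (φ a).eval 1 ≠ 0) ∧
      (∀ a b, a ≠ b → IsCoprime (φ a) (φ b)) ∧
      ∀ a, ∀ X : Submodule F V, Sep Q X → finrank F X = i → ¬ Plus Q X →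
        ∃ g, Pack Q r X g ∧ ∀ x ∈ X, aeval g (φ a) x = 0 := exists_types hQ hr2 hrF hq he hg₀ hg₀r hg₀1
  have hcomb : ∀ (a : Fin t) (P : F[X]) (J : ℕ), 1 ≤ J → ∀ Y : Submodule F V, Sep Q Y →
      finrank F Y = (J + 1) * i → (Plus Q Y ↔ Even (J + 1)) →
      (∀ Y' : Submodule F V, Sep Q Y' → finrank F Y' = J * i → (Plus Q Y' ↔ Even J) →
        ∃ g, Pack Q r Y' g ∧ ∀ y ∈ Y', aeval g P y = 0) →
      ∃ X Y' g₁ g₂ g, X ⊔ Y' = Y ∧ Sep Q X ∧ finrank F X = i ∧ (∀ x ∈ X, ∀ y ∈ Y', 𝔅 x y = 0) ∧ Sep Q Y' ∧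
        finrank F Y' = J * i ∧ (Plus Q Y' ↔ Even J) ∧ Pack Q r X g₁ ∧ Pack Q r Y' g₂ ∧ Pack Q r Y g ∧
        (∀ P : F[X], ∀ x ∈ X, aeval g P x = aeval g₁ P x) ∧ (∀ P : F[X], ∀ y ∈ Y', aeval g P y = aeval g₂ P y) ∧
        (∀ x ∈ X, aeval g₁ (φ a) x = 0) := by
    intro a P J hJ Y hY hd ht hrec
    obtain ⟨h, hh⟩ := he
    have hJi : i ≤ J * i := Nat.le_mul_of_pos_left i hJ
    rw [add_mul, one_mul] at hd
    obtain ⟨X, hXY, hX, hXd, hXt⟩ := exists_sub_type h hY (by omega) False (fun e => by omega)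
    obtain ⟨Y', hY'Y, hY's, horth, hsup, hd', -⟩ := exists_perp hY hX hXY
    have hY't : Plus Q Y' ↔ Even J := by
      rw [← hsup, plus_sup_iff hX hY's horth (hXd ▸ even_two_mul h)
        (by rw [show finrank F Y' = J * i by omega]; exact Even.mul_left ⟨h, by omega⟩ J),
        hXt, Nat.even_add_one] at ht
      by_cases h1 : Plus Q Y' <;> simp_all
    obtain ⟨g₂, hg₂, -⟩ := hrec Y' hY's (by omega) hY't
    obtain ⟨g₁, hg₁, hg₁φ⟩ := hblock a X hX (by omega) (by rw [hXt]; exact not_false)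
    obtain ⟨g, hg, hgX, hgY⟩ := combine hQ hX hY's horth hg₁ hg₂
    exact ⟨X, Y', g₁, g₂, g, hsup, hX, by omega, horth, hY's, by omega, hY't, hg₁, hg₂, hsup ▸ hg, hgX, hgY, hg₁φ⟩
  have hrep : ∀ J, 1 ≤ J → ∀ Y : Submodule F V, Sep Q Y → finrank F Y = J * i → (Plus Q Y ↔ Even J) →
      ∃ g, Pack Q r Y g ∧ ∀ y ∈ Y, aeval g (φ ⟨0, ht1⟩) y = 0 := by
    intro J hJ
    induction J, hJ using Nat.le_induction with
    | base =>
      intro Y hY hd ht
      exact hblock _ Y hY (by omega) (by rw [ht]; decide)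
    | succ J hJ ih =>
      intro Y hY hd ht
      obtain ⟨h, hh⟩ := he
      obtain ⟨X, Y', -, -, -, hsup, hX, hXd, horth, hY's, hY'd, hY't, -, -, -, -, -, -⟩ :=
        hcomb ⟨0, ht1⟩ (φ ⟨0, ht1⟩) J hJ Y hY hd ht ih
      obtain ⟨g₂, hg₂, hg₂φ⟩ := ih Y' hY's hY'd hY't
      obtain ⟨g₁, hg₁, hg₁φ⟩ := hblock ⟨0, ht1⟩ X hX hXd (fun hp => by
        rw [← hsup, plus_sup_iff hX hY's horth (hXd ▸ ⟨h, hh⟩) (hY'd ▸ Even.mul_left ⟨h, hh⟩ J), Nat.even_add_one,
          iff_true_left hp, hY't] at ht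
        exact iff_not_self ht)
      obtain ⟨g, hg, hgX, hgY⟩ := combine hQ hX hY's horth hg₁ hg₂
      refine ⟨g, hsup ▸ hg, fun y hy => ?_⟩
      rw [← hsup] at hy
      obtain ⟨x, hx, y', hy', rfl⟩ := Submodule.mem_sup.mp hy
      rw [map_add, hgX _ x hx, hgY _ y' hy', hg₁φ x hx, hg₂φ y' hy', add_zero]
  have hfree : ∀ (g : Module.End F V) (Y : Submodule F V) (P : F[X]), P.eval 1 ≠ 0 → (∀ y ∈ Y, aeval g P y = 0) →
      fixedIn g Y = ⊥ := fun g Y P hP hY0 => (Submodule.eq_bot_iff _).mpr fun v hv => by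
    obtain ⟨hvY, hgv⟩ := mem_fixedIn.mp hv
    have h1 := hY0 v hvY
    rw [aeval_fixed hgv] at h1
    exact (smul_eq_zero.mp h1).resolve_left hP
  have hbig : ∀ J, 1 ≤ J → ∀ D, D < t → ∀ Y : Submodule F V, Sep Q Y → finrank F Y = (J + D) * i →
      (Plus Q Y ↔ Even (J + D)) →
      ∃ g, Pack Q r Y g ∧ (∀ y ∈ Y, aeval g (∏ a ∈ Finset.univ.filter (fun a : Fin t => (a : ℕ) ≤ D), φ a) y = 0) ∧
        ∀ Z, Z ≤ Y → InvBy g Z → (∀ u ∈ Z, Q u = 0) → finrank F Z ≤ J / 2 * i := by
    intro J hJ D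
    induction D with
    | zero =>
      intro _ Y hY hd ht
      obtain ⟨g, hg, hgφ⟩ := hrep J hJ Y hY hd ht
      have hS : Finset.univ.filter (fun a : Fin t => (a : ℕ) ≤ 0) = {⟨0, ht1⟩} := by ext a; simp [Fin.ext_iff]
      refine ⟨g, hg, by rw [hS, Finset.prod_singleton]; exact hgφ, fun Z hZY hZ hZ0 => ?_⟩
      have h1 := OrthOddBlocks.singular_half hY hZY fun u hu v hv => polar_singular hZ0 hu hv
      have h2 := orderOf_dvd_finrank_sub hg.2.1 hq hZ
      have hz0 : fixedIn g Z = ⊥ := le_bot_iff.mp ((inf_le_inf_right _ hZY).trans (hfree g Y _ (hφ1 _) hgφ).le)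
      rw [hz0, finrank_bot, Nat.sub_zero] at h2
      obtain ⟨s, hs⟩ := h2
      rw [← hi, mul_comm] at hs
      rw [hs] at h1 ⊢
      rw [hd, ← mul_assoc] at h1
      refine Nat.mul_le_mul_right i ((Nat.le_div_iff_mul_le two_pos).mpr ?_)
      have := Nat.le_of_mul_le_mul_right h1 hi0
      omega
    | succ D ih =>
      intro hD Y hY hd ht
      obtain ⟨X, Y', g₁, -, -, hsup, hX, hXd, horth, hY's, hY'd, hY't, hg₁, -, -, -, -, hg₁φ⟩ :=
        hcomb ⟨D + 1, hD⟩ (∏ a ∈ Finset.univ.filter (fun a : Fin t => (a : ℕ) ≤ D), φ a) (J + D) (by omega) Y hY hd ht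
          fun Y' h1 h2 h3 => by
            obtain ⟨g, h4, h5, -⟩ := ih (by omega) Y' h1 h2 h3
            exact ⟨g, h4, h5⟩
      obtain ⟨g₂, hg₂, hg₂φ, hg₂b⟩ := ih (by omega) Y' hY's hY'd hY't
      obtain ⟨g, hg, hgX, hgY⟩ := combine hQ hX hY's horth hg₁ hg₂
      set a' : Fin t := ⟨D + 1, hD⟩
      set P := ∏ a ∈ Finset.univ.filter (fun a : Fin t => (a : ℕ) ≤ D), φ a
      have hco : IsCoprime P (φ a') := IsCoprime.prod_left fun a ha => hφco _ _ fun e => by
        simp [a', e] at ha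
      have hS : Finset.univ.filter (fun a : Fin t => (a : ℕ) ≤ D + 1) =
          insert a' (Finset.univ.filter (fun a : Fin t => (a : ℕ) ≤ D)) := by
        ext a; simp [a', Fin.ext_iff]; omega
      have hkill : ∀ y ∈ Y, aeval g (φ a' * P) y = 0 := fun y hy => by
        rw [← hsup] at hy
        obtain ⟨x, hx, y', hy', rfl⟩ := Submodule.mem_sup.mp hy
        rw [map_add, hgX _ x hx, hgY _ y' hy', mul_comm (φ a'), map_mul, Module.End.mul_apply, hg₁φ x hx, map_zero,
          zero_add, mul_comm P, map_mul, Module.End.mul_apply, hg₂φ y' hy', map_zero]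
      refine ⟨g, hsup ▸ hg, by rw [hS, Finset.prod_insert (by simp [a'])]; exact hkill, fun Z hZY hZ hZ0 => ?_⟩
      -- the component of the new type is zero
      have hZY' : Z ≤ Y' := fun z hz => by
        obtain ⟨α, β, hαβ⟩ := id hco
        have hmemX : ∀ w ∈ Y, aeval g (φ a') w = 0 → w ∈ X := fun w hw hw0 => by
          rw [← hsup] at hw
          obtain ⟨x, hx, y', hy', rfl⟩ := Submodule.mem_sup.mp hw
          rw [map_add, hgX _ x hx, hg₁φ x hx, zero_add, hgY _ y' hy'] at hw0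
          rw [eq_zero_of_coprime hco (hg₂φ y' hy') hw0, add_zero]
          exact hx
        have hY'mem : ∀ w ∈ Y, aeval g P w = 0 → w ∈ Y' := fun w hw hw0 => by
          rw [← hsup] at hw
          obtain ⟨x, hx, y', hy', rfl⟩ := Submodule.mem_sup.mp hw
          rw [map_add, hgY _ y' hy', hg₂φ y' hy', add_zero, hgX _ x hx] at hw0
          rw [eq_zero_of_coprime hco hw0 (hg₁φ x hx), zero_add]
          exact hy'
        have hsum : aeval g (α * P) z + aeval g (β * φ a') z = z := by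
          rw [← LinearMap.add_apply, ← map_add, hαβ, map_one, Module.End.one_apply]
        have hu : aeval g (α * P) z ∈ X ⊓ Z := by
          refine ⟨hmemX _ (hZY (aeval_mem hZ _ hz)) ?_, aeval_mem hZ _ hz⟩
          rw [← Module.End.mul_apply, ← map_mul, show φ a' * (α * P) = α * (φ a' * P) by ring, map_mul,
            Module.End.mul_apply, hkill z (hZY hz), map_zero]
        have hXZ : X ⊓ Z = ⊥ := by
          have hXinv : InvBy g X := fun x hx => by
            have h1 := hgX Polynomial.X x hx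
            rw [aeval_X, aeval_X] at h1
            rw [h1]
            exact hg₁.2.2.1 x hx
          have h1 := OrthOddBlocks.singular_half hX (inf_le_left : X ⊓ Z ≤ X)
            fun u hu v hv => polar_singular hZ0 hu.2 hv.2
          have h2 := orderOf_dvd_finrank_sub hg.2.1 hq (hXinv.inf hZ)
          have hz0 : fixedIn g (X ⊓ Z) = ⊥ := le_bot_iff.mp ((inf_le_inf_right _ (inf_le_left : X ⊓ Z ≤ X)).trans
            (hfree g X (φ a') (hφ1 _) (fun x hx => by rw [hgX _ x hx]; exact hg₁φ x hx)).le)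
          rw [hz0, finrank_bot, Nat.sub_zero, ← hi] at h2
          exact Submodule.finrank_eq_zero.mp (Nat.eq_zero_of_dvd_of_lt h2 (by omega))
        rw [hXZ, Submodule.mem_bot] at hu
        rw [hu, zero_add] at hsum
        rw [← hsum]
        refine hY'mem _ (hZY (aeval_mem hZ _ hz)) ?_
        rw [← Module.End.mul_apply, ← map_mul, show P * (β * φ a') = β * (φ a' * P) by ring, map_mul,
          Module.End.mul_apply, hkill z (hZY hz), map_zero]
      refine hg₂b Z hZY' (fun z hz => ?_) hZ0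
      have h1 := hgY Polynomial.X z (hZY' hz)
      rw [aeval_X, aeval_X] at h1
      rw [← h1]
      exact hZ z hz
  -- one type gets what is left when every other type has one block
  set D := min j t - 1
  obtain ⟨g, hg, hgφ, hgb⟩ := hbig (j - D) (by omega) D (by omega) Y hY
    (by rw [Nat.sub_add_cancel (by omega)]; exact hd) (by rw [Nat.sub_add_cancel (by omega)]; exact ht)
  refine ⟨g, hg, hfree g Y _ ?_ hgφ, fun Z hZY hZ hZ0 => (hgb Z hZY hZ hZ0).trans (Nat.mul_le_mul_right i ?_)⟩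
  · rw [eval_prod]
    exact Finset.prod_ne_zero_iff.mpr fun a _ => hφ1 a
  · rcases le_total j t with h | h
    · rw [show j - D = 1 by omega]; exact Nat.zero_le _
    · rw [show j - D = j + 1 - t by omega]

end CfsgLib.OrthTypedBlocks
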