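import Cfsg.Agent.LinearElements.OrthSingular
import Cfsg.Agent.LinearElements.OrthTypedBlocks

/-!
Elements of odd prime order `r` of orthogonal groups and totally singular subspaces: which dimensions every element fixes,
with the arithmetic.
-/

set_option autoImplicit false

namespace CfsgLib.OrthSingularFix

open Module Submodule CfsgLib.LinearElements CfsgLib.QuadType CfsgLib.OrthAtoms CfsgLib.OrthPrimePower CfsgLib.OrthFix
  CfsgLib.OrthSingular

/-- The arithmetic condition for a fixed totally singular subspace of dimension `m`, for an element with `j` blocks whose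
moved part has invariant totally singular subspaces as small as possible. -/
def GoodS (n c i t j m : ℕ) (PV : Prop) : Prop :=
  ∃ s, s ≤ (if Odd i then j else (j + 1 - t) / 2) ∧ s * i ≤ m ∧
    (2 * (m - s * i) + j * c < n ∨ (2 * (m - s * i) + j * c = n ∧ (PV ↔ sgn i j)))

/-- The condition for all possible numbers of blocks, `i` odd. -/
theorem goodS_odd_iff {n i t m j₀ : ℕ} {PV : Prop} (hi : Odd i) (hmn : 2 * m < n) (hj₀n : j₀ * (2 * i) ≤ n)
    (hj₀ : n = j₀ * (2 * i) → (PV ↔ sgn i j₀))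
    (hno : ¬ (2 * m + j₀ * (2 * i) < n ∨ (2 * m + j₀ * (2 * i) = n ∧ (PV ↔ sgn i j₀)))) :
    (∀ j, 1 ≤ j → j * (2 * i) ≤ n → (n = j * (2 * i) → (PV ↔ sgn i j)) → GoodS n (2 * i) i t j m PV) ↔
      (i ≤ m ∧ (2 * (m % i) < n % (2 * i) ∨ (2 * (m % i) = n % (2 * i) ∧ PV) ∨ (n % (2 * i) = 0 ∧ ¬ PV))) := by
  have hi0 : 0 < i := hi.pos
  have hsgn : ∀ j, sgn i j := fun j => Or.inl hi
  simp only [GoodS, if_pos hi, hsgn, iff_true] at hno hj₀ ⊢
  have hm := Nat.div_add_mod m i
  have hk := Nat.div_add_mod n (2 * i)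
  rw [mul_comm] at hm hk
  have hml := Nat.mod_lt m hi0
  have hkl := Nat.mod_lt n (show 0 < 2 * i by omega)
  simp only [mul_left_comm _ 2 i] at hj₀n hj₀ hno hk ⊢
  have hjJ : ∀ j, 2 * (j * i) ≤ n → j ≤ n / (2 * i) := fun j h =>
    (Nat.le_div_iff_mul_le (by omega)).mpr (by rw [mul_left_comm]; exact h)
  constructor
  · intro hall
    have hex : ∃ jm, j₀ ≤ jm ∧ ((jm = n / (2 * i) ∧ ¬ (n % (2 * i) = 0 ∧ ¬ PV)) ∨
        (jm + 1 = n / (2 * i) ∧ n % (2 * i) = 0 ∧ ¬ PV)) := by
      have h0 := hjJ j₀ hj₀n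
      by_cases h : n % (2 * i) = 0 ∧ ¬ PV
      · have hne : j₀ ≠ n / (2 * i) := fun e => h.2 (hj₀ (by rw [e]; omega))
        exact ⟨n / (2 * i) - 1, by omega, Or.inr ⟨by omega, h⟩⟩
      · exact ⟨_, h0, Or.inl ⟨rfl, h⟩⟩
    obtain ⟨jm, hj₀m, hjm⟩ := hex
    have hjm1 : 1 ≤ jm := by
      rcases Nat.eq_zero_or_pos jm with rfl | h
      · exfalso
        obtain rfl : j₀ = 0 := by omega
        simp only [Nat.zero_mul, Nat.mul_zero, Nat.add_zero] at hno
        exact hno (Or.inl hmn)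
      · exact h
    have hjmn : 2 * (jm * i) ≤ n := by
      rcases hjm with ⟨h, -⟩ | ⟨h, -⟩
      · rw [h]; omega
      · have := Nat.mul_le_mul_right i (show jm ≤ n / (2 * i) by omega)
        omega
    obtain ⟨s, -, hsm, hgood⟩ := hall jm hjm1 hjmn (by
      intro e
      rcases hjm with ⟨h, hn⟩ | ⟨h, hk0, -⟩
      · subst h
        by_contra hPV
        exact hn ⟨by omega, hPV⟩
      · rw [← h, add_mul, one_mul] at hk
        omega)
    have hs : s * i ≤ m / i * i := Nat.mul_le_mul_right i ((Nat.le_div_iff_mul_le hi0).mpr hsm)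
    refine ⟨?_, ?_⟩
    · by_contra hlt
      rw [Nat.div_eq_of_lt (by omega), Nat.zero_mul] at hs
      rcases hj₀m.lt_or_eq with h | h
      · have h2 := Nat.mul_le_mul_right i (show j₀ + 1 ≤ jm by omega)
        rw [add_mul, one_mul] at h2
        exact hno (Or.inl (by omega))
      · subst h
        rcases hgood with h | ⟨h, hP⟩
        · exact hno (Or.inl (by omega))
        · exact hno (Or.inr ⟨by omega, hP⟩)
    · rcases hjm with ⟨rfl, hn⟩ | ⟨-, h⟩
      · rcases hgood with h | ⟨h, hP⟩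
        · exact Or.inl (by omega)
        · rcases Nat.lt_or_ge (2 * (m % i)) (n % (2 * i)) with h' | h'
          · exact Or.inl h'
          · exact Or.inr (Or.inl ⟨by omega, hP⟩)
      · exact Or.inr (Or.inr h)
  · rintro ⟨-, hcond⟩ j - hjn hj
    rcases le_or_gt j (m / i) with h | h
    · have := Nat.mul_le_mul_right i h
      exact ⟨j, le_rfl, by omega, Or.inl (by omega)⟩
    · refine ⟨m / i, h.le, by omega, ?_⟩
      have h0 := hjJ j hjn
      have h1 := Nat.mul_le_mul_right i h0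
      rcases hcond with hc | ⟨hc, hP⟩ | ⟨hc, hP⟩
      · exact Or.inl (by omega)
      · rcases Nat.lt_or_ge (2 * (m - m / i * i) + 2 * (j * i)) n with h' | h'
        · exact Or.inl h'
        · exact Or.inr ⟨by omega, hP⟩
      · have hne : j ≠ n / (2 * i) := fun e => hP (hj (by rw [e]; omega))
        have h2 := Nat.mul_le_mul_right i (show j + 1 ≤ n / (2 * i) by omega)
        rw [add_mul, one_mul] at h2
        exact Or.inl (by omega)

/-- The condition for all possible numbers of blocks, `i` even. -/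
theorem goodS_even_iff {n i t m j₀ : ℕ} {PV : Prop} (hi : Even i) (hi0 : 0 < i) (ht : 1 ≤ t) (hmn : 2 * m < n)
    (hj₀n : j₀ * i ≤ n) (hj₀ : n = j₀ * i → (PV ↔ sgn i j₀))
    (hno : ¬ (2 * m + j₀ * i < n ∨ (2 * m + j₀ * i = n ∧ (PV ↔ sgn i j₀)))) :
    (∀ j, 1 ≤ j → j * i ≤ n → (n = j * i → (PV ↔ sgn i j)) → GoodS n i i t j m PV) ↔
      (i ≤ m ∧ t + 2 * (m / i) ≤ n / i ∧
        ((n % i = 0 ∧ ¬ (PV ↔ Even (n / i)) ∧ 2 * (m % i) ≤ i ∧ t + 2 * (m / i) < n / i) ∨
          2 * (m % i) < n % i ∨ (2 * (m % i) = n % i ∧ (PV ↔ Even (n / i))))) := by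
  have hno' : ¬ Odd i := Nat.not_odd_iff_even.mpr hi
  have hsgn : ∀ j, sgn i j ↔ Even j := fun j => ⟨fun h => h.resolve_left hno', Or.inr⟩
  simp only [GoodS, if_neg hno', hsgn] at hno hj₀ ⊢
  have hm := Nat.div_add_mod m i
  have hk := Nat.div_add_mod n i
  rw [mul_comm] at hm hk
  have hml := Nat.mod_lt m hi0
  have hkl := Nat.mod_lt n hi0
  have hjJ : ∀ j, j * i ≤ n → j ≤ n / i := fun j h => (Nat.le_div_iff_mul_le hi0).mpr h
  -- the sum in terms of `X = 2 (m / i - s) + j`
  have hval : ∀ s j, s ≤ m / i → 2 * (m - s * i) + j * i = 2 * (m % i) + (2 * (m / i - s) + j) * i := fun s j h => by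
    obtain ⟨u, hu⟩ : ∃ u, m / i = s + u := ⟨_, (Nat.add_sub_cancel' h).symm⟩
    rw [hu, Nat.add_sub_cancel_left]
    rw [hu, add_mul] at hm
    rw [add_mul, mul_assoc]
    omega
  constructor
  · intro hall
    -- any good pair bounds `X`
    have hX : ∀ j, 1 ≤ j → j * i ≤ n → (n = j * i → (PV ↔ Even j)) →
        ∃ s, s ≤ (j + 1 - t) / 2 ∧ s ≤ m / i ∧ (2 * (m % i) + (2 * (m / i - s) + j) * i < n ∨
          (2 * (m % i) + (2 * (m / i - s) + j) * i = n ∧ (PV ↔ Even j))) := fun j h1 h2 h3 => by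
      obtain ⟨s, hs, hsm, hgood⟩ := hall j h1 h2 h3
      have hs' := (Nat.le_div_iff_mul_le hi0).mpr hsm
      exact ⟨s, hs, hs', hval s j hs' ▸ hgood⟩
    have hXJ : ∀ X, 2 * (m % i) + X * i ≤ n → X ≤ n / i := fun X h => hjJ X (by omega)
    -- no room without moved part
    have hroom : ∀ jm, j₀ ≤ jm → (2 * m + jm * i < n ∨ (2 * m + jm * i = n ∧ (PV ↔ Even jm))) → False :=
      fun jm h hg => by
        rcases h.lt_or_eq with h | h
        · have h2 := Nat.mul_le_mul_right i (show j₀ + 1 ≤ jm by omega)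
          rw [add_mul, one_mul] at h2
          exact hno (Or.inl (by rcases hg with hg | ⟨hg, -⟩ <;> omega))
        · subst h; exact hno hg
    by_cases hspecial : n % i = 0 ∧ ¬ (PV ↔ Even (n / i))
    · obtain ⟨hk0, hT⟩ := hspecial
      have hj₀J : j₀ < n / i := lt_of_le_of_ne (hjJ j₀ hj₀n) fun e => hT (e ▸ hj₀ (by rw [e]; omega))
      obtain ⟨jm, hjm⟩ : ∃ jm, n / i = jm + 1 := ⟨n / i - 1, by omega⟩
      have hjm1 : 1 ≤ jm := by
        rcases Nat.eq_zero_or_pos jm with rfl | h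
        · exfalso
          obtain rfl : j₀ = 0 := by omega
          simp only [Nat.zero_mul, Nat.add_zero] at hno
          exact hno (Or.inl hmn)
        · exact h
      rw [hjm, add_mul, one_mul] at hk
      obtain ⟨s, hs, hs', hg⟩ := hX jm hjm1 (by omega) (fun e => by omega)
      have hle : 2 * (m % i) + (2 * (m / i - s) + jm) * i ≤ n := by rcases hg with h | ⟨h, -⟩ <;> omega
      have h1 := hXJ _ hle
      obtain rfl : s = m / i := by omega
      rw [Nat.sub_self, Nat.mul_zero, Nat.zero_add] at hle hg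
      have him : i ≤ m := by
        by_contra hlt
        rw [Nat.mod_eq_of_lt (by omega : m < i)] at hg
        exact hroom jm (by omega) hg
      have hm1 : 1 ≤ m / i := Nat.div_pos him hi0
      have hlt : t + 2 * (m / i) < n / i := by
        by_contra hge
        obtain ⟨j', hj'⟩ : ∃ j', jm = j' + 1 := ⟨jm - 1, by omega⟩
        obtain ⟨s', hs1, hs2, hg'⟩ := hX j' (by omega)
          ((Nat.mul_le_mul_right i (show j' ≤ n / i by omega)).trans (Nat.div_mul_le_self n i))
          (fun e => by rw [hj', add_mul, one_mul] at hk; omega)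
        have h3 := hXJ (2 * (m / i - s') + j') (by rcases hg' with h | ⟨h, -⟩ <;> omega)
        have hX' : 2 * (m / i - s') + j' = jm + 1 := by omega
        rw [hX', add_mul, one_mul] at hg'
        rcases hg' with h | ⟨-, h⟩
        · omega
        · rw [hjm, hj', Nat.even_add_one, Nat.even_add_one, not_not] at hT
          exact hT h
      exact ⟨him, hlt.le, Or.inl ⟨hk0, hT, by omega, hlt⟩⟩
    · have hJ1 : 1 ≤ n / i := by
        rcases Nat.eq_zero_or_pos j₀ with rfl | h
        · exfalso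
          simp only [Nat.zero_mul, Nat.add_zero] at hno
          exact hno (Or.inl hmn)
        · have := hjJ j₀ hj₀n; omega
      obtain ⟨s, hs, hs', hg⟩ := hX (n / i) hJ1 (by omega) (fun e => by
        by_contra hT; exact hspecial ⟨by omega, hT⟩)
      have hle : 2 * (m % i) + (2 * (m / i - s) + n / i) * i ≤ n := by rcases hg with h | ⟨h, -⟩ <;> omega
      have h1 := hXJ _ hle
      obtain rfl : s = m / i := by omega
      rw [Nat.sub_self, Nat.mul_zero, Nat.zero_add] at hle hg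
      have him : i ≤ m := by
        by_contra hlt
        rw [Nat.mod_eq_of_lt (by omega : m < i)] at hg
        exact hroom (n / i) (hjJ j₀ hj₀n) hg
      have hm1 : 1 ≤ m / i := Nat.div_pos him hi0
      have hlt : t + 2 * (m / i) ≤ n / i := by
        by_contra hgt
        obtain ⟨j', hj'⟩ : ∃ j', n / i = j' + 1 := ⟨n / i - 1, by omega⟩
        rw [hj', add_mul, one_mul] at hk
        obtain ⟨s', hs1, hs2, hg'⟩ := hX j' (by omega) (by omega) (fun e => by omega)
        have h3 := hXJ (2 * (m / i - s') + j') (by rcases hg' with h | ⟨h, -⟩ <;> omega)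
        omega
      refine ⟨him, hlt, Or.inr ?_⟩
      rcases hg with h | ⟨h, hP⟩
      · exact Or.inl (by omega)
      · exact Or.inr ⟨by omega, hP⟩
  · rintro ⟨him, htJ, hcond⟩ j - hjn hj
    have hjJ' := hjJ j hjn
    set s := min ((j + 1 - t) / 2) (m / i) with hs
    have hsm : s * i ≤ m := (Nat.mul_le_mul_right i (Nat.min_le_right _ _)).trans (Nat.div_mul_le_self m i)
    refine ⟨s, Nat.min_le_left _ _, hsm, ?_⟩
    rw [hval s j (Nat.min_le_right _ _)]
    set X := 2 * (m / i - s) + j with hXdef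
    have hpar : Even X ↔ Even j := by rw [hXdef, Nat.even_add]; simp
    have hXJ : X ≤ n / i := by omega
    rcases hcond with ⟨hk0, hT, hl, hlt⟩ | hl | ⟨hl, hT⟩
    · have hne : j ≠ n / i := fun e => hT (e ▸ hj (by rw [e]; omega))
      have hX1 : X + 1 ≤ n / i := by omega
      have h2 := Nat.mul_le_mul_right i hX1
      rw [add_mul, one_mul] at h2
      rcases Nat.lt_or_ge (2 * (m % i) + X * i) n with h | h
      · exact Or.inl h
      · refine Or.inr ⟨by omega, ?_⟩
        have hXe : X + 1 = n / i := by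
          rcases hX1.lt_or_eq with h3 | h3
          · exfalso
            have h4 := Nat.mul_le_mul_right i (show X + 1 + 1 ≤ n / i by omega)
            rw [add_mul, add_mul, one_mul] at h4
            omega
          · exact h3
        rw [← hXe, Nat.even_add_one, hpar] at hT
        tauto
    · have h2 := Nat.mul_le_mul_right i hXJ
      exact Or.inl (by omega)
    · rcases hXJ.lt_or_eq with h | h
      · have h2 := Nat.mul_le_mul_right i (show X + 1 ≤ n / i by omega)
        rw [add_mul, one_mul] at h2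
        exact Or.inl (by omega)
      · refine Or.inr ⟨by rw [h]; omega, ?_⟩
        rw [← hpar, h]; exact hT

variable {F V : Type*} [Field F] [Fintype F] [AddCommGroup V] [Module F V] [Finite V] [FiniteDimensional F V]
  {Q : QuadraticForm F V} {r : ℕ} [Fact r.Prime] {c : ℕ} (hQ : Sep Q ⊤) (hr2 : r ≠ 2) (hrF : (r : F) ≠ 0)
  (hq : (Fintype.card F : ZMod r) ≠ 0)
  (hc : c = if Even (orderOf (Fintype.card F : ZMod r)) then orderOf (Fintype.card F : ZMod r)
    else 2 * orderOf (Fintype.card F : ZMod r))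

local notation "𝔅" => QuadraticMap.polarBilin Q

include hQ hr2 hrF hq hc

/-- Enough moved blocks give an invariant totally singular subspace. -/
theorem fix_of_goodS {g : Module.End F V} (hg : ∀ v, Q (g v) = Q v) (hgr : g ^ r = 1) {j : ℕ}
    (hd : finrank F V = finrank F (fixedIn g ⊤) + j * c) {m : ℕ}
    (hgood : GoodS (finrank F V) c (orderOf (Fintype.card F : ZMod r))
      ((r - 1) / orderOf (Fintype.card F : ZMod r)) j m (Plus Q ⊤)) :
    ∃ W : Submodule F V, (finrank F W = m ∧ ∀ w ∈ W, Q w = 0) ∧ InvBy g W := by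
  have hr := (Fact.out : r.Prime)
  obtain ⟨hfs, M, -, hM, hMs, hM0, horth, hsup, hd'⟩ := exists_split_moved hg hgr hr.pos hrF (invBy_top (g := g)) hQ
  set C := fixedIn g (⊤ : Submodule F V)
  have hce := even_c (F := F) (r := r) hc
  obtain ⟨j', hj', hjt, -⟩ := moved_type hg hgr hr2 hrF hq hc _ rfl hM hMs hM0
  rw [finrank_top, hj'] at hd'
  have hc0 := atom_dim_pos hq hc
  obtain rfl : j' = j := Nat.eq_of_mul_eq_mul_right hc0 (by omega)
  obtain ⟨s, hs, hsm, hfit⟩ := hgood
  set i := orderOf (Fintype.card F : ZMod r) with hi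
  obtain ⟨Z, hZM, hZ, hZd, hZiso⟩ := exists_isotropic_sum (twist_isAlt hg hgr hr.pos) (twist_iso hg hgr hr.pos) hgr hq
    hr2 hrF s M hM ((sepOn_twist_iff hgr hr2 hM hM0).mpr hMs) hM0 (by
      rcases Nat.even_or_odd i with hev | hodd
      · rw [if_neg (Nat.not_odd_iff_even.mpr hev)] at hs
        rcases Nat.eq_zero_or_pos s with h0 | h0
        · exact Or.inr (Or.inl h0)
        refine Or.inr (Or.inr ?_)
        have hTr : (r - 1) / i * i = r - 1 :=
          Nat.div_mul_cancel (orderOf_dvd_of_pow_eq_one (ZMod.pow_card_sub_one_eq_one hq))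
        rw [hj', hc, if_pos hev, ← hTr, ← Nat.add_mul]
        exact Nat.mul_lt_mul_of_pos_right (by omega) (by rw [hc, if_pos hev] at hc0; exact hc0)
      · rw [if_pos hodd] at hs
        refine Or.inl ⟨hodd, ?_⟩
        rw [hj', hc, if_neg (Nat.not_even_iff_odd.mpr hodd), mul_left_comm, mul_assoc]
        exact Nat.mul_le_mul_left 2 (Nat.mul_le_mul_right i hs))
  have hZ0 : fixedIn g Z = ⊥ := le_bot_iff.mp ((inf_le_inf_right _ hZM).trans hM0.le)
  have hZs := singular_of_isotropic hg hZ hZ0 (orth_of_twist hgr hr2 hZ hZ0 hZiso)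
  obtain ⟨Z', hZ'C, hZ'd, hZ's⟩ := exists_singular hfs (f := m - s * i) (by
    rcases hfit with h | ⟨h, ht⟩
    · exact Or.inl (by omega)
    · refine Or.inr ⟨by omega, ?_⟩
      have hne : Even (finrank F C) := ⟨m - s * i, by omega⟩
      have h1 : Plus Q ⊤ ↔ (Plus Q C ↔ sgn i j') := by
        rw [← hsup, plus_sup_iff hfs hMs horth hne (hj' ▸ hce.mul_left j'), hjt]
      by_cases h2 : Plus Q C <;> by_cases h3 : sgn i j' <;> simp_all)
  have hZ'inv : InvBy g Z' := fun v hv => by rw [(mem_fixedIn.mp (hZ'C hv)).2]; exact hv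
  refine ⟨Z' ⊔ Z, ⟨?_, singular_sup hZ's hZs fun a ha b hb => horth a (hZ'C ha) b (hZM hb)⟩, hZ'inv.sup hZ⟩
  have h1 := Submodule.finrank_sup_add_finrank_inf_eq Z' Z
  rw [le_bot_iff.mp ((inf_le_inf hZ'C hZM).trans (orth_inf_bot hfs horth).le), finrank_bot, hZ'd, hZd, ← hi] at h1
  omega

omit hr2 in
/-- An invariant totally singular subspace and a bound on its moved part. -/
theorem goodS_of_fix {g : Module.End F V} (hg : ∀ v, Q (g v) = Q v) (hgr : g ^ r = 1) {Y : Submodule F V}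
    (hY : Sep Q Y) (hgY : ∀ z, (∀ y ∈ Y, 𝔅 y z = 0) → g z = z) (hgYi : InvBy g Y) (hY0 : fixedIn g Y = ⊥) {j : ℕ}
    (hYd : finrank F Y = j * c) (hYt : Plus Q Y ↔ sgn (orderOf (Fintype.card F : ZMod r)) j) {σ m : ℕ}
    (hbound : ∀ Z, Z ≤ Y → InvBy g Z → (∀ u ∈ Z, Q u = 0) →
      finrank F Z ≤ σ * orderOf (Fintype.card F : ZMod r))
    {W : Submodule F V} (hWd : finrank F W = m) (hW : ∀ w ∈ W, Q w = 0) (hWi : InvBy g W) :
    ∃ s, s ≤ σ ∧ s * orderOf (Fintype.card F : ZMod r) ≤ m ∧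
      (2 * (m - s * orderOf (Fintype.card F : ZMod r)) + j * c < finrank F V ∨
        (2 * (m - s * orderOf (Fintype.card F : ZMod r)) + j * c = finrank F V ∧
          (Plus Q ⊤ ↔ sgn (orderOf (Fintype.card F : ZMod r)) j))) := by
  have hr := (Fact.out : r.Prime)
  set i := orderOf (Fintype.card F : ZMod r) with hi
  obtain ⟨C, -, hC, horth, hsup, hd, hmem⟩ := exists_perp hQ hY le_top
  rw [finrank_top] at hd
  have hgC : ∀ z ∈ C, g z = z := fun z hz => hgY z fun y hy => horth y hy z hz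
  have hWf : InvBy g (fixedIn g W) := fun v hv => by rw [(mem_fixedIn.mp hv).2]; exact hv
  obtain ⟨Z, hZ, hZW, hinf, hsupW⟩ :=
    exists_invBy_compl hr.pos hrF one_ne_zero (by rw [hgr, one_smul]) hWi hWf inf_le_left
  have hfC : fixedIn g W ≤ C := fun v hv => by
    obtain ⟨hvW, hgv⟩ := mem_fixedIn.mp hv
    obtain ⟨y, hy, z, hz, rfl⟩ := Submodule.mem_sup.mp (hsup.ge (Submodule.mem_top (x := v)))
    rw [map_add, hgC z hz, add_left_inj] at hgv
    rw [(Submodule.eq_bot_iff _).mp hY0 y (mem_fixedIn.mpr ⟨hy, hgv⟩), zero_add]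
    exact hz
  let ψ : Z →ₗ[F] Z := ((g - 1).restrict (p := Z) (q := Z) fun v hv => Z.sub_mem (hZ v hv) hv)
  have hZ0 : fixedIn g Z = ⊥ := le_bot_iff.mp (by
    rw [← hinf]; exact le_inf (inf_le_inf_right _ hZW) inf_le_left)
  have hψ : Function.Surjective ψ := LinearMap.surjective_of_injective (fun a b e => Subtype.ext (by
    have h1 : g ((a : V) - b) = (a : V) - b := by
      have h2 := congrArg Subtype.val e
      simp [ψ, LinearMap.restrict_apply] at h2
      rw [map_sub]
      linear_combination (norm := module) h2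
    exact sub_eq_zero.mp ((Submodule.eq_bot_iff _).mp hZ0 _ (mem_fixedIn.mpr ⟨Z.sub_mem a.2 b.2, h1⟩))))
  have hZY : Z ≤ Y := fun z hz => by
    obtain ⟨z', hz'⟩ := hψ ⟨z, hz⟩
    have hz'' : g (z' : V) - z' = z := congrArg Subtype.val hz'
    obtain ⟨y, hy, x, hx, hyx⟩ := Submodule.mem_sup.mp (hsup.ge (Submodule.mem_top (x := (z' : V))))
    rw [← hz'', ← hyx, map_add, hgC x hx, add_sub_add_right_eq_sub]
    exact Y.sub_mem (hgYi y hy) hy
  obtain ⟨s, hs⟩ := orderOf_dvd_finrank_sub hgr hq hZ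
  rw [hZ0, finrank_bot, Nat.sub_zero, ← hi, mul_comm] at hs
  have hσ := hbound Z hZY hZ fun u hu => hW u (hZW hu)
  rw [hs] at hσ
  have hi0 : 0 < i := orderOf_pos_iff.mpr (isOfFinOrder_iff_pow_eq_one.mpr
    ⟨r - 1, by have := hr.two_le; omega, ZMod.pow_card_sub_one_eq_one hq⟩)
  have hWd' := Submodule.finrank_sup_add_finrank_inf_eq (fixedIn g W) Z
  rw [hsupW, hinf, finrank_bot, hWd, hs] at hWd'
  refine ⟨s, Nat.le_of_mul_le_mul_right hσ hi0, by omega, ?_⟩
  rcases fits_of_singular hC hfC (fun u hu => hW u hu.1) with h | ⟨h, hP⟩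
  · exact Or.inl (by omega)
  · refine Or.inr ⟨by omega, ?_⟩
    have hne : Even (finrank F C) := h ▸ even_two_mul _
    rw [← hsup, plus_sup_iff hY hC horth (hYd ▸ (even_c hc).mul_left j) hne, iff_true_right hP, hYt]

/-- Every element fixes a totally singular subspace iff every possible number of blocks is good. -/
theorem all_fix_iff {g₀ : Module.End F V} (hg₀ : ∀ v, Q (g₀ v) = Q v) (hg₀r : g₀ ^ r = 1) (hg₀1 : g₀ ≠ 1) {m : ℕ} :
    (∀ g : Module.End F V, (∀ v, Q (g v) = Q v) → g ^ r = 1 → g ≠ 1 →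
      ∃ W : Submodule F V, (finrank F W = m ∧ ∀ w ∈ W, Q w = 0) ∧ InvBy g W) ↔
    ∀ j, 1 ≤ j → j * c ≤ finrank F V →
      (finrank F V = j * c → (Plus Q ⊤ ↔ sgn (orderOf (Fintype.card F : ZMod r)) j)) →
      GoodS (finrank F V) c (orderOf (Fintype.card F : ZMod r)) ((r - 1) / orderOf (Fintype.card F : ZMod r)) j m
        (Plus Q ⊤) := by
  have hr := (Fact.out : r.Prime)
  have hc0 := atom_dim_pos hq hc
  have hce := even_c (F := F) (r := r) hc
  constructor
  · intro hall j hj1 hjn hjt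
    set i := orderOf (Fintype.card F : ZMod r) with hi
    obtain ⟨h', hh'⟩ := hce.mul_left j
    have hjc := Nat.le_mul_of_pos_left c hj1
    obtain ⟨Y, hY, hYd, hYt⟩ : ∃ Y, Sep Q Y ∧ finrank F Y = j * c ∧ (Plus Q Y ↔ sgn i j) := by
      rcases hjn.lt_or_eq with hlt | heq
      · obtain ⟨Y, -, hY, hYd, hYt⟩ := exists_sub_type h' hQ (by rw [finrank_top]; omega) (sgn i j) (fun e => by omega)
        exact ⟨Y, hY, by omega, hYt⟩
      · exact ⟨⊤, hQ, by rw [finrank_top]; exact heq.symm, hjt heq.symm⟩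
    obtain ⟨g, hg, hgr, hgY, hg0, hgZ, hbound⟩ : ∃ g : Module.End F V, (∀ v, Q (g v) = Q v) ∧ g ^ r = 1 ∧
        InvBy g Y ∧ fixedIn g Y = ⊥ ∧ (∀ z, (∀ y ∈ Y, 𝔅 y z = 0) → g z = z) ∧
        ∀ Z, Z ≤ Y → InvBy g Z → (∀ u ∈ Z, Q u = 0) →
          finrank F Z ≤ (if Odd i then j else (j + 1 - (r - 1) / i) / 2) * i := by
      rcases Nat.even_or_odd i with hev | hodd
      · rw [if_neg (Nat.not_odd_iff_even.mpr hev)]
        obtain ⟨g, ⟨h1, h2, h3, h4⟩, h5, h6⟩ := OrthTypedBlocks.exists_bounded hQ hr2 hrF hq hev hg₀ hg₀r hg₀1 hj1 hY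
          (by rw [hYd, hc, if_pos hev])
          (hYt.trans ⟨fun h => h.resolve_left (Nat.not_odd_iff_even.mpr hev), Or.inr⟩)
        exact ⟨g, h1, h2, h3, h5, h4, h6⟩
      · rw [if_pos hodd]
        obtain ⟨g, h1, h2, h3, h5, h4⟩ := exists_model hQ hr2 hrF hq hc hg₀ hg₀r hg₀1 j hY hYd hYt
        refine ⟨g, h1, h2, h3, h5, h4, fun Z hZY _ hZ0 => ?_⟩
        have h6 := OrthOddBlocks.singular_half hY hZY fun u hu v hv => polar_singular hZ0 hu hv
        rw [hYd, hc, if_neg (Nat.not_even_iff_odd.mpr hodd), mul_left_comm] at h6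
        omega
    obtain ⟨W, ⟨hWd, hW⟩, hWi⟩ := hall g hg hgr fun e => by
      have : Y ≤ fixedIn g Y := fun y hy => mem_fixedIn.mpr ⟨hy, by rw [e]; rfl⟩
      rw [hg0, le_bot_iff] at this
      rw [this, finrank_bot] at hYd
      omega
    exact goodS_of_fix hQ hrF hq hc hg hgr hY hgZ hgY hg0 hYd hYt hbound hWd hW hWi
  · intro hall g hg hgr hg1
    obtain ⟨hfs, M, -, hM, hMs, hM0, -, hsup, hd⟩ := exists_split_moved hg hgr hr.pos hrF (invBy_top (g := g)) hQ
    obtain ⟨j, hj, hjt, -⟩ := moved_type hg hgr hr2 hrF hq hc _ rfl hM hMs hM0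
    rw [finrank_top, hj] at hd
    have hj1 : 1 ≤ j := by
      rcases Nat.eq_zero_or_pos j with rfl | h0
      · exfalso
        rw [Nat.zero_mul] at hj
        rw [Submodule.finrank_eq_zero.mp hj, sup_bot_eq] at hsup
        exact hg1 (LinearMap.ext fun v => (mem_fixedIn.mp (hsup.ge (Submodule.mem_top (x := v)))).2)
      · exact h0
    refine fix_of_goodS hQ hr2 hrF hq hc hg hgr hd (hall j hj1 (by omega) fun e => ?_)
    have h0 : fixedIn g ⊤ = ⊥ := Submodule.finrank_eq_zero.mp (by omega)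
    rw [h0, bot_sup_eq] at hsup
    rw [← hsup, hjt]

end CfsgLib.OrthSingularFix
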