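import Cfsg.Agent.LinearElements.RModels
import Cfsg.Agent.LinearElements.SubspaceCount

/-! Which dimensions of invariant subspaces occur for all maps of determinant one and projective prime order `r`
prime to the characteristic. -/

set_option autoImplicit false

namespace CfsgLib.LinearElements

open Module

variable {F V : Type*} [Field F] [Fintype F] [AddCommGroup V] [Module F V] [FiniteDimensional F V]

/-- `g` has determinant one, `g ^ r` is scalar and `g` is not. -/
def ProjOrder (g : Module.End F V) (r : ℕ) : Prop :=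
  LinearMap.det g = 1 ∧ (∃ c : F, g ^ r = c • 1) ∧ ∀ c : F, g ≠ c • 1

/-- The condition for a prime `r ∣ q - 1`. -/
def CritOne (q r n m : ℕ) : Prop :=
  r ∣ m ∨ (padicValNat r n ≤ padicValNat r (q - 1) ∧ (r = 2 → Even n → q % 4 = 1))

omit [Fintype F] in
theorem ProjOrder.scalar_ne_zero {g : Module.End F V} {r : ℕ} (h : ProjOrder g r) {c : F} (hc : g ^ r = c • 1) :
    c ≠ 0 := by
  intro h0
  have h1 := congrArg LinearMap.det hc
  rw [map_pow, h.1, one_pow, LinearMap.det_smul, map_one, mul_one, h0] at h1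
  rcases Nat.eq_zero_or_pos (finrank F V) with e | e
  · haveI := (Module.finrank_eq_zero_iff_of_free F V).mp e
    exact h.2.2 0 (Subsingleton.elim _ _)
  · rw [zero_pow e.ne'] at h1
    exact one_ne_zero h1

omit [FiniteDimensional F V] [AddCommGroup V] [Module F V] in
theorem cast_card_ne_zero {p : ℕ} [Fact p.Prime] [CharP F p] {r : ℕ} [Fact r.Prime] (hrp : r ≠ p) :
    (Fintype.card F : ZMod r) ≠ 0 := by
  intro h
  rw [ZMod.natCast_eq_zero_iff] at h
  obtain ⟨f, -, hf⟩ := FiniteField.card F p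
  rw [hf] at h
  exact hrp ((Nat.prime_dvd_prime_iff_eq Fact.out Fact.out).mp ((Fact.out : r.Prime).dvd_of_dvd_pow h))

omit [Fintype F] [FiniteDimensional F V] [AddCommGroup V] [Module F V] in
theorem natCast_ne_zero {p : ℕ} [Fact p.Prime] [CharP F p] {r : ℕ} [Fact r.Prime] (hrp : r ≠ p) :
    (r : F) ≠ 0 := by
  rw [Ne, CharP.cast_eq_zero_iff F p]
  exact fun h => hrp ((Nat.prime_dvd_prime_iff_eq Fact.out Fact.out).mp h).symm

omit [FiniteDimensional F V] [AddCommGroup V] [Module F V] in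
theorem dvd_card_sub_one_iff {r : ℕ} [Fact r.Prime] :
    r ∣ Fintype.card F - 1 ↔ orderOf (Fintype.card F : ZMod r) = 1 := by
  rw [orderOf_eq_one_iff, ← ZMod.natCast_eq_zero_iff, Nat.cast_sub Fintype.card_pos, Nat.cast_one, sub_eq_zero]

omit [FiniteDimensional F V] [AddCommGroup V] [Module F V] in
theorem exists_root_of_order_ne_one {r : ℕ} [Fact r.Prime] (hi : orderOf (Fintype.card F : ZMod r) ≠ 1) (c : F) :
    ∃ μ : F, μ ^ r = c := by
  refine (Finite.surjective_of_injective (f := fun μ : F => μ ^ r) fun a b hab => ?_) c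
  simp only at hab
  rcases eq_or_ne b 0 with rfl | hb
  · rw [zero_pow (Fact.out : r.Prime).ne_zero] at hab
    exact pow_eq_zero_iff (Fact.out : r.Prime).ne_zero |>.mp hab
  · have h : (a / b) ^ r = 1 := by rw [div_pow, hab, div_self (pow_ne_zero _ hb)]
    exact (div_eq_one_iff_eq hb).mp (eq_one_of_pow_of_not_dvd hi h)

omit [FiniteDimensional F V] [AddCommGroup V] [Module F V] in
theorem neg_one_eq_sq_of_mod_four (hq : Fintype.card F % 4 = 1) : IsSquare (-1 : F) :=
  FiniteField.isSquare_neg_one_iff.mpr (by omega)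

/-- For `r ∣ q - 1` the scalar is an `r`-th power unless `r ∣ m`. -/
theorem exists_root_of_critOne {r m : ℕ} [Fact r.Prime]
    (hc1 : CritOne (Fintype.card F) r (finrank F V) m) (hm : ¬ r ∣ m) {g : Module.End F V} (hdet : LinearMap.det g = 1)
    {c : F} (hg : g ^ r = c • 1) (hV : 0 < finrank F V) : ∃ μ : F, μ ^ r = c := by
  by_contra hno
  push Not at hno
  obtain ⟨hval, h4⟩ := hc1.resolve_left hm
  obtain ⟨t, hn, hd⟩ := det_of_nonpower hno hg
  rw [hdet] at hd
  have hy : ∀ μ : F, μ ^ r ≠ (-1) ^ (r - 1) * c := by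
    rcases (Fact.out : r.Prime).eq_two_or_odd' with rfl | hodd
    · obtain ⟨s, hs⟩ := neg_one_eq_sq_of_mod_four (F := F) (h4 rfl (hn ▸ (even_two.mul_left t)))
      intro μ hμ
      refine hno (μ * s) ?_
      rw [mul_pow, hμ, sq s, ← hs]
      ring
    · rw [Even.neg_one_pow (by obtain ⟨k, rfl⟩ := hodd; exact ⟨k, by omega⟩), one_mul]
      exact hno
  have ht : t ≠ 0 := by rintro rfl; simp [hn] at hV
  have h1 := padicValNat_le_of_nonpower hy ht hd.symm
  rw [hn, padicValNat.mul ht (Fact.out : r.Prime).ne_zero, padicValNat_self] at hval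
  omega

omit [Fintype F] [FiniteDimensional F V] in
theorem InvBy.restrict_pow {g : Module.End F V} {r : ℕ} {c : F} {S : Submodule F V} (hS : InvBy g S)
    (hg : g ^ r = c • 1) : (g.restrict hS : Module.End F S) ^ r = c • 1 := by
  refine LinearMap.ext fun w => Subtype.ext ?_
  rw [Module.End.pow_restrict r hS]
  simp [hg]

omit [Fintype F] in
theorem exists_invBy_nonpower_in {g : Module.End F V} {r : ℕ} [Fact r.Prime] {c : F} (hno : ∀ μ : F, μ ^ r ≠ c)
    (hg : g ^ r = c • 1) {S : Submodule F V} (hS : InvBy g S) {m : ℕ} (hrm : r ∣ m) (hm : m ≤ finrank F S) :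
    ∃ U, U ≤ S ∧ InvBy g U ∧ finrank F U = m := by
  obtain ⟨U, U', hU, -, -, -, hd⟩ := exists_invBy_nonpower hno (hS.restrict_pow hg) (m / r)
    (by rw [Nat.div_mul_cancel hrm]; exact hm)
  refine ⟨U.map S.subtype, Submodule.map_subtype_le _ _, ?_, ?_⟩
  · rintro _ ⟨u, hu, rfl⟩
    exact ⟨_, hU u hu, rfl⟩
  · rw [Submodule.finrank_map_subtype_eq, hd, Nat.div_mul_cancel hrm]

/-- When the scalar is an `r`-th power, each large enough invariant subspace has one of dimension `m`. -/
theorem exists_invBy_dim_of_root {p : ℕ} [Fact p.Prime] [CharP F p] {r : ℕ} [Fact r.Prime] (hrp : r ≠ p) {m : ℕ}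
    {g : Module.End F V} {c μ : F} (hc : g ^ r = c • 1) (hc0 : c ≠ 0) (hμ : μ ^ r = c)
    {S : Submodule F V} (hS : InvBy g S) (hm : m ≤ finrank F S)
    (hmod : m % orderOf (Fintype.card F : ZMod r) ≤ finrank F S % orderOf (Fintype.card F : ZMod r)) :
    ∃ U, U ≤ S ∧ InvBy g U ∧ finrank F U = m := by
  have hq := cast_card_ne_zero (F := F) hrp
  set i := orderOf (Fintype.card F : ZMod r) with hi
  have hμ0 : μ ≠ 0 := fun h => hc0 (by rw [← hμ, h, zero_pow (Fact.out : r.Prime).ne_zero])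
  have hh : (μ⁻¹ • g) ^ r = 1 := by
    rw [smul_pow, hc, inv_pow, hμ, smul_smul, inv_mul_cancel₀ hc0, one_smul]
  have hS' : InvBy (μ⁻¹ • g) S := (InvBy.smul_iff (inv_ne_zero hμ0)).mpr hS
  obtain ⟨e, J, he, hJ⟩ := finrank_invBy_eq hh hq hS'
  rw [← hi] at hJ
  have hipos : 0 < i := orderOf_pos_iff.mpr (isOfFinOrder_iff_pow_eq_one.mpr
    ⟨r - 1, by have := (Fact.out : r.Prime).two_le; omega, ZMod.pow_card_sub_one_eq_one hq⟩)
  have he' : m % i ≤ e := hmod.trans (by rw [hJ, Nat.add_mul_mod_self_right]; exact Nat.mod_le e i)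
  obtain ⟨d, j, hd, hj, hdj⟩ : ∃ d j : ℕ, d ≤ e ∧ j ≤ J ∧ m = d + j * i := by
    have h0 := Nat.mod_add_div m i
    rw [mul_comm] at h0
    rcases le_or_gt (m / i) J with h | h
    · exact ⟨m % i, m / i, he', h, h0.symm⟩
    · have h2 : J * i ≤ m / i * i := Nat.mul_le_mul_right _ h.le
      exact ⟨m - J * i, J, by omega, le_rfl, by omega⟩
  have h3 : j * i ≤ J * i := Nat.mul_le_mul_right _ hj
  obtain ⟨U, hUS, hU, hUd⟩ := exists_invBy_finrank (natCast_ne_zero hrp) hh hq hS' d j (he ▸ hd)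
    (by rw [← he, ← hi]; omega)
  exact ⟨U, hUS, (InvBy.smul_iff (inv_ne_zero hμ0)).mp hU, by rw [hUd, ← hi]; omega⟩

/-- The criterion: each invariant subspace which is large enough has an invariant subspace of dimension `m`. -/
theorem exists_invBy_dim {p : ℕ} [Fact p.Prime] [CharP F p] {r : ℕ} [Fact r.Prime] (hrp : r ≠ p) {m : ℕ}
    {g : Module.End F V} (hg : ProjOrder g r)
    (hcrit : orderOf (Fintype.card F : ZMod r) = 1 → CritOne (Fintype.card F) r (finrank F V) m)
    {S : Submodule F V} (hS : InvBy g S) (hm : m ≤ finrank F S)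
    (hmod : m % orderOf (Fintype.card F : ZMod r) ≤ finrank F S % orderOf (Fintype.card F : ZMod r)) :
    ∃ U, U ≤ S ∧ InvBy g U ∧ finrank F U = m := by
  obtain ⟨hdet, ⟨c, hc⟩, hns⟩ := hg
  have hc0 : c ≠ 0 := ProjOrder.scalar_ne_zero ⟨hdet, ⟨c, hc⟩, hns⟩ hc
  have hq := cast_card_ne_zero (F := F) hrp
  set i := orderOf (Fintype.card F : ZMod r) with hi
  by_cases hroot : ∃ μ : F, μ ^ r = c
  · obtain ⟨μ, hμ⟩ := hroot
    exact exists_invBy_dim_of_root hrp hc hc0 hμ hS hm hmod
  · push Not at hroot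
    have hi1 : i = 1 := by
      by_contra h
      obtain ⟨μ, hμ⟩ := exists_root_of_order_ne_one h c
      exact hroot μ hμ
    have hrm : r ∣ m := by
      by_contra h
      have hV : 0 < finrank F V := by
        rw [Nat.pos_iff_ne_zero]
        intro e
        haveI := (Module.finrank_eq_zero_iff_of_free F V).mp e
        exact hns 0 (Subsingleton.elim _ _)
      obtain ⟨μ, hμ⟩ := exists_root_of_critOne (hcrit hi1) h hdet hc hV
      exact hroot μ hμ
    exact exists_invBy_nonpower_in hroot hc hS hrm hm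

/-- The counterexample when `r ∣ q - 1`. -/
theorem exists_counter_one {p : ℕ} [Fact p.Prime] [CharP F p] {r : ℕ} [Fact r.Prime] (hrp : r ≠ p) {m : ℕ}
    (hV : 0 < finrank F V) (hi : orderOf (Fintype.card F : ZMod r) = 1)
    (hc1 : ¬ CritOne (Fintype.card F) r (finrank F V) m) :
    ∃ g : Module.End F V, ProjOrder g r ∧ ∀ U, InvBy g U → finrank F U ≠ m := by
  have hdvd : r ∣ Fintype.card F - 1 := dvd_card_sub_one_iff.mpr hi
  have hN : Fintype.card F - 1 ≠ 0 := by have := Fintype.one_lt_card (α := F); omega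
  simp only [CritOne, not_or, not_and_or, Classical.not_imp, not_le] at hc1
  obtain ⟨hrm, hc1⟩ := hc1
  obtain ⟨c, t, hno, hn, hd⟩ : ∃ (c : F) (t : ℕ), (∀ μ : F, μ ^ r ≠ c) ∧ finrank F V = t * r ∧
      ((-1) ^ (r - 1) * c) ^ t = 1 := by
    by_cases hsp : r = 2 ∧ Even (finrank F V) ∧ Fintype.card F % 4 ≠ 1
    · obtain ⟨rfl, ⟨t, ht⟩, h4⟩ := hsp
      refine ⟨-1, t, fun μ hμ => ?_, by omega, by simp⟩
      have hsq : IsSquare (-1 : F) := ⟨μ, by rw [← hμ, sq]⟩
      have := FiniteField.isSquare_neg_one_iff.mp hsq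
      omega
    · have hlt : padicValNat r (Fintype.card F - 1) < padicValNat r (finrank F V) :=
        hc1.resolve_right (fun h => hsp ⟨h.1, h.2.1, h.2.2⟩)
      obtain ⟨t, ht⟩ : r ∣ finrank F V := dvd_of_one_le_padicValNat (by omega)
      have ht0 : t ≠ 0 := by rintro rfl; rw [ht] at hV; simp at hV
      rw [ht, padicValNat.mul (Fact.out : r.Prime).ne_zero ht0, padicValNat_self] at hlt
      obtain ⟨y, hy, hyN⟩ := exists_nonpower (F := F) hdvd
      obtain ⟨u, hu⟩ : r ^ padicValNat r (Fintype.card F - 1) ∣ t :=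
        (pow_dvd_pow r (by omega)).trans pow_padicValNat_dvd
      refine ⟨(-1) ^ (r - 1) * y, t, ?_, by rw [ht, mul_comm], ?_⟩
      · rcases (Fact.out : r.Prime).eq_two_or_odd' with rfl | hodd
        · have h4 : Fintype.card F % 4 = 1 := by
            by_contra h
            exact hsp ⟨rfl, ⟨t, by omega⟩, h⟩
          obtain ⟨s, hs⟩ := neg_one_eq_sq_of_mod_four (F := F) h4
          intro μ hμ
          refine hy (μ * s) ?_
          rw [mul_pow, hμ, sq s, ← hs]
          ring
        · rw [Even.neg_one_pow (by obtain ⟨k, rfl⟩ := hodd; exact ⟨k, by omega⟩), one_mul]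
          exact hy
      · rw [← mul_assoc, ← mul_pow, neg_one_mul, neg_neg, one_pow, one_mul, hu, pow_mul, hyN, one_pow]
  obtain ⟨g, hg, hdet, hns⟩ := exists_nonpower_model hno hn hd
  exact ⟨g, ⟨hdet, ⟨c, hg⟩, fun c' => hns c' hV⟩, fun U hU h => hrm (h ▸ dvd_finrank_of_nonpower hno hg hU)⟩

/-- The model when `r ∤ q - 1`. -/
theorem exists_counter_high {r : ℕ} [Fact r.Prime] (hi : 2 ≤ orderOf (Fintype.card F : ZMod r))
    (hin : orderOf (Fintype.card F : ZMod r) ≤ finrank F V) :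
    ∃ g : Module.End F V, ProjOrder g r ∧
      finrank F (fixedIn g ⊤) = finrank F V % orderOf (Fintype.card F : ZMod r) ∧
      ∀ U, InvBy g U → finrank F (fixedIn g U) ≤ finrank F U ∧
        finrank F U % orderOf (Fintype.card F : ZMod r) = finrank F (fixedIn g U) % orderOf (Fintype.card F : ZMod r) := by
  obtain ⟨g, hg, hdet, hfix, hns⟩ := exists_fixed_model (F := F) (V := V) hi
    (s := finrank F V / orderOf (Fintype.card F : ZMod r)) (k := finrank F V % orderOf (Fintype.card F : ZMod r))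
    ((Nat.one_le_div_iff (by omega)).mpr hin) (by rw [mul_comm, Nat.div_add_mod])
  refine ⟨g, ⟨hdet, ⟨1, by rw [hg, one_smul]⟩, hns⟩, hfix, fun U hU => ?_⟩
  have hq : (Fintype.card F : ZMod r) ≠ 0 := by
    intro h0
    rw [h0, orderOf_zero] at hi
    omega
  obtain ⟨e, j, he, hj⟩ := finrank_invBy_eq hg hq hU
  refine ⟨by omega, ?_⟩
  rw [hj, Nat.add_mul_mod_self_right, he]

omit [Fintype F] in
theorem InvBy.exists_compl {p : ℕ} [Fact p.Prime] [CharP F p] {r : ℕ} [Fact r.Prime] (hrp : r ≠ p)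
    {g : Module.End F V} (hg : ProjOrder g r) {S U : Submodule F V} (hS : InvBy g S) (hU : InvBy g U) (hUS : U ≤ S) :
    ∃ U', InvBy g U' ∧ U' ≤ S ∧ U ⊓ U' = ⊥ ∧ U ⊔ U' = S := by
  obtain ⟨hdet, ⟨c, hc⟩, hns⟩ := hg
  exact exists_invBy_compl (Fact.out : r.Prime).pos (natCast_ne_zero hrp)
    (ProjOrder.scalar_ne_zero ⟨hdet, ⟨c, hc⟩, hns⟩ hc) hc hS hU hUS

/-- The number of subspaces only depends on the dimension. -/
theorem numSub_eq_of_finrank {V' : Type*} [AddCommGroup V'] [Module F V'] [FiniteDimensional F V']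
    (h : finrank F V = finrank F V') {k : ℕ} (hk : k ≤ finrank F V) : numSub F V k = numSub F V' k := by
  refine Nat.eq_of_mul_eq_mul_right (qProd_pos (Fintype.one_lt_card (α := F)) (le_refl k)) ?_
  rw [numSub_mul_qProd hk, numSub_mul_qProd (h ▸ hk), h]

/-- Conversion from special linear matrices. -/
theorem forall_sl_iff {n r : ℕ} (P : Module.End F (Fin n → F) → Prop) :
    (∀ x : Matrix.SpecialLinearGroup (Fin n) F,
      (∃ c : F, ((x ^ r : Matrix.SpecialLinearGroup (Fin n) F) : Matrix (Fin n) (Fin n) F) = c • (1 : Matrix (Fin n) (Fin n) F)) →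
      (∀ c : F, (x : Matrix (Fin n) (Fin n) F) ≠ c • (1 : Matrix (Fin n) (Fin n) F)) →
      P (Matrix.toLin' (x : Matrix (Fin n) (Fin n) F))) ↔
    ∀ g : Module.End F (Fin n → F), ProjOrder g r → P g := by
  let φ : Matrix (Fin n) (Fin n) F ≃ₐ[F] Module.End F (Fin n → F) := Matrix.toLinAlgEquiv'
  have hφ : ∀ A, φ A = Matrix.toLin' A := fun A => rfl
  constructor
  · intro h g ⟨hdet, ⟨c, hc⟩, hns⟩
    have hd : (φ.symm g).det = 1 := by
      rw [← LinearMap.det_toLin', ← hφ, AlgEquiv.apply_symm_apply, hdet]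
    have := h ⟨φ.symm g, hd⟩ ⟨c, ?_⟩ ?_
    · rwa [show Matrix.toLin' (φ.symm g) = g from φ.apply_symm_apply g] at this
    · show φ.symm g ^ r = c • 1
      rw [← map_pow, hc, map_smul, map_one]
    · intro c' hc'
      refine hns c' (φ.symm.injective ?_)
      rw [map_smul, map_one]
      exact hc'
  · intro h x ⟨c, hc⟩ hns
    refine h _ ⟨by rw [LinearMap.det_toLin', x.2], ⟨c, ?_⟩, fun c' hc' => hns c' (φ.injective ?_)⟩
    · rw [Matrix.SpecialLinearGroup.coe_pow] at hc
      rw [← hφ, ← map_pow, hc, map_smul, map_one]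
    · rw [hφ, hc', map_smul, map_one]

end CfsgLib.LinearElements
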