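import Cfsg.Agent.LinearElements.OrthSquareScalar
import Cfsg.Agent.LinearElements.RClassify
import Cfsg.Agent.Spinor.StdForms

/-!
The statements for the standard forms in even dimension: types of the whole spaces and the assembled criteria.
-/

set_option autoImplicit false

namespace CfsgLib.OrthStandard

open Module Submodule CfsgLib.LinearElements CfsgLib.QuadType CfsgLib.OrthAtoms CfsgLib.OrthPrimePower CfsgLib.OrthFix
  CfsgLib.OrthEvenDim

variable {F : Type*} [Field F]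

theorem plus_top_plusQ (k : ℕ) : Plus (CfsgLib.StdForms.plusQ k F) ⊤ := by
  let f : (Fin k → F) →ₗ[F] (Fin k ⊕ Fin k → F) :=
    { toFun := fun z => Sum.elim z 0
      map_add' := fun z z' => funext fun w => by rcases w with w | w <;> simp
      map_smul' := fun a z => funext fun w => by rcases w with w | w <;> simp }
  refine ⟨LinearMap.range f, le_top, ?_, ?_⟩
  · rintro _ ⟨z, rfl⟩
    simp [CfsgLib.StdForms.plusQ_apply, Cfsg.quadFormPlus, f]
  · rw [LinearMap.finrank_range_of_inj fun z z' e => funext fun w => congrFun e (Sum.inl w), finrank_top,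
      Module.finrank_fintype_fun_eq_card, Module.finrank_fintype_fun_eq_card]
    simp; omega

theorem minus_disc [Fintype F] {a b : F} (hab : ∀ x y : F, x ^ 2 + a * x * y + b * y ^ 2 = 0 → x = 0 ∧ y = 0) :
    a ^ 2 - 4 * b ≠ 0 := by
  rcases two_cases (F := F) with h2 | hsq
  · exact CfsgLib.StdForms.disc_ne_zero_of_anisotropic h2 hab
  · intro h
    rcases eq_or_ne (2 : F) 0 with h2 | h2
    · obtain ⟨s, hs⟩ := hsq b
      have ha : a = 0 := pow_eq_zero_iff two_ne_zero |>.mp (by linear_combination h + 2 * b * h2)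
      exact one_ne_zero (hab s 1 (by rw [ha]; linear_combination b * h2 - hs)).2
    · exact CfsgLib.StdForms.disc_ne_zero_of_anisotropic h2 hab h

theorem not_plus_top_minusQ [Fintype F] (k : ℕ) {a b : F}
    (hab : ∀ x y : F, x ^ 2 + a * x * y + b * y ^ 2 = 0 → x = 0 ∧ y = 0) :
    ¬ Plus (CfsgLib.StdForms.minusQ k F a b) ⊤ := by
  set Q := CfsgLib.StdForms.minusQ k F a b
  let f : (Fin k ⊕ Fin k → F) →ₗ[F] ((Fin k ⊕ Fin k) ⊕ Fin 2 → F) :=
    { toFun := fun z => Sum.elim z 0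
      map_add' := fun z z' => funext fun w => by rcases w with w | w <;> simp
      map_smul' := fun s z => funext fun w => by rcases w with w | w <;> simp }
  have hfi : Function.Injective f := fun z z' e => funext fun w => congrFun e (Sum.inl w)
  have hf : ∀ z, Q (f z) = CfsgLib.StdForms.plusQ k F z := fun z => by
    simp [Q, f, CfsgLib.StdForms.minusQ_apply, CfsgLib.StdForms.plusQ_apply, Cfsg.quadFormMinus, Cfsg.quadFormPlus]
  have hXs : Sep Q (LinearMap.range f) := by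
    rw [← Submodule.map_top, sep_map f hfi hf]
    exact sep_top (CfsgLib.StdForms.plusQ_nondegenerate k)
  have hXp : Plus Q (LinearMap.range f) := by
    rw [← Submodule.map_top, plus_map f hfi hf]
    exact plus_top_plusQ k
  set u : (Fin k ⊕ Fin k) ⊕ Fin 2 → F := Sum.elim 0 ![1, 0]
  set v : (Fin k ⊕ Fin k) ⊕ Fin 2 → F := Sum.elim 0 ![0, 1]
  have hval : ∀ s t : F, Q (s • u + t • v) = s ^ 2 + a * s * t + b * t ^ 2 := fun s t => by
    simp [Q, u, v, CfsgLib.StdForms.minusQ_apply, Cfsg.quadFormMinus, mul_assoc]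
  have hu : Q u = 1 := by simpa using hval 1 0
  have hv : Q v = b := by simpa using hval 0 1
  have huv : QuadraticMap.polarBilin Q u v = a := by
    have h1 := hval 1 1
    rw [one_smul, one_smul, QuadType.map_add', hu, hv] at h1
    linear_combination h1
  obtain ⟨hYs, hli, hYd⟩ := sep_span_pair (Q := Q) (u := u) (v := v) (by
    rw [hu, hv, huv, one_mul]; simpa [sq] using minus_disc hab)
  have hYp : ¬ Plus Q (span F {u, v}) := by
    rw [plus_plane_iff hYd]
    rintro ⟨e, he, he0, hQe⟩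
    obtain ⟨s, t, rfl⟩ := mem_span_pair.mp he
    rw [hval] at hQe
    obtain ⟨rfl, rfl⟩ := hab s t hQe
    simp at he0
  have horth : ∀ x ∈ LinearMap.range f, ∀ y ∈ span F {u, v}, QuadraticMap.polarBilin Q x y = 0 := by
    rintro _ ⟨z, rfl⟩ y hy
    obtain ⟨s, t, rfl⟩ := mem_span_pair.mp hy
    rw [map_add, map_smul, map_smul, QuadraticMap.polarBilin_apply_apply, QuadraticMap.polarBilin_apply_apply]
    simp [Q, f, u, v, CfsgLib.StdForms.polar_minus]
  have hXd : finrank F (LinearMap.range f) = 2 * k := by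
    rw [LinearMap.finrank_range_of_inj hfi, Module.finrank_fintype_fun_eq_card]; simp; omega
  have htop : LinearMap.range f ⊔ span F {u, v} = ⊤ := by
    refine Submodule.eq_top_of_finrank_eq ?_
    rw [finrank_orth_sup hXs horth, hXd, hYd, Module.finrank_fintype_fun_eq_card]
    simp; omega
  rw [← htop, plus_sup_iff hXs hYs horth (by rw [hXd]; exact even_two_mul k) (by rw [hYd]; exact even_two), iff_true_left hXp]
  exact hYp

variable [Fintype F] {ι : Type} [Fintype ι] [DecidableEq ι] {Q : QuadraticForm F (ι → F)}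
  {d : ℕ} (hQ : (QuadraticMap.polarBilin Q).Nondegenerate) (hn : Fintype.card ι = 2 * d) (hd : 4 ≤ d)
  {PV : Prop} (hPV : Plus Q ⊤ ↔ PV)

include hQ hn hd hPV

/-- Odd primes other than the characteristic, even subspaces. -/
theorem even_iff {p : ℕ} [Fact p.Prime] [CharP F p] {q : ℕ} (hqF : Fintype.card F = q) {r : ℕ} [Fact r.Prime]
    (hr2 : r ≠ 2) (hrp : r ≠ p) {h : ℕ} (hh : 0 < h) (hhd : h < d) {T : Prop}
    {Pr : Submodule F (ι → F) → Prop} (hPr : ∀ W, Pr W ↔ finrank F W = 2 * h ∧ Sep Q W ∧ (Plus Q W ↔ T))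
    (hdvd : r ∣ Nat.card {W : Submodule F (ι → F) // Pr W})
    {i c : ℕ} (hi : i = orderOf (q : ZMod r)) (hc : c = if Even i then i else 2 * i) :
    (∀ x : GL ι F, x ∈ Cfsg.Geo.omegaGL ⇑Q →
      (∃ z : F, ((x ^ r : GL ι F) : Matrix ι ι F) = z • (1 : Matrix ι ι F)) →
      (∀ z : F, (x : Matrix ι ι F) ≠ z • (1 : Matrix ι ι F)) →
      ∃ W, Pr W ∧ W.map (Matrix.toLin' (x : Matrix ι ι F)) ≤ W) ↔
    (((2 * d) % c = 0 ∧ ((PV ↔ sgn i (2 * d / c)) → (2 * h) % c = 0 ∧ (sgn i (2 * h / c) ↔ T))) ∨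
     (0 < (2 * d) % c ∧ c ≤ 2 * h ∧ (((2 * h) % c < (2 * d) % c ∧ ((2 * h) % c = 0 → (sgn i (2 * h / c) ↔ T))) ∨
       ((2 * h) % c = (2 * d) % c ∧ (((PV ↔ sgn i (2 * d / c)) ↔ sgn i (2 * h / c)) ↔ T))))) := by
  have hr := (Fact.out : r.Prime)
  have hrF : (r : F) ≠ 0 := fun e0 => by
    rw [CharP.cast_eq_zero_iff F p] at e0
    exact hrp ((Nat.prime_dvd_prime_iff_eq Fact.out hr).mp e0).symm
  have hq0 : (Fintype.card F : ZMod r) ≠ 0 := cast_card_ne_zero hrp
  subst hqF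
  subst hi
  have hV : finrank F (ι → F) = 2 * d := by rw [Module.finrank_fintype_fun_eq_card, hn]
  have hc0 := atom_dim_pos hq0 hc
  obtain ⟨⟨g₀, hg₀, hg₀r, hg₀1⟩, f, j, hfd, hmatch, hf⟩ :=
    exists_pfix_of_dvd (sep_top hQ) hr2 hrF hq0 hc hh (by omega) (T := T) (by
      rw [Nat.card_congr (Equiv.subtypeEquivRight fun W => (hPr W).symm)]
      exact hdvd)
  rw [psl_iff hQ (by omega) hr2]
  simp only [hPr]
  rw [all_fix_iff (sep_top hQ) hr2 hrF hq0 hc hg₀ hg₀r hg₀1, hV, hPV]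
  rw [hV] at hfd hmatch
  rw [hPV] at hmatch hf
  refine good_even_iff hc0 (even_two_mul d) ?_ hh (by omega)
    ⟨j, by omega, hmatch, by rw [show 2 * d - j * c = f by omega]; exact hf⟩
  rcases Nat.eq_zero_or_pos j with rfl | hj
  · omega
  · have := Nat.le_mul_of_pos_left c hj; omega

/-- Odd primes other than the characteristic, odd subspaces. -/
theorem odd_iff {p : ℕ} [Fact p.Prime] [CharP F p] {q : ℕ} (hqF : Fintype.card F = q) {r : ℕ} [Fact r.Prime]
    (hr2 : r ≠ 2) (hrp : r ≠ p) {m : ℕ} (hm : Odd m) (hmd : m < d) {W₀ : Submodule F (ι → F)} (hW₀ : Sep Q W₀)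
    (hW₀d : finrank F W₀ = m) {Pr : Submodule F (ι → F) → Prop}
    (hPr : ∀ W, Pr W ↔ finrank F W = m ∧ Sep Q W ∧ Iso Q Q W W₀)
    (hdvd : r ∣ Nat.card {W : Submodule F (ι → F) // Pr W})
    {i c : ℕ} (hi : i = orderOf (q : ZMod r)) (hc : c = if Even i then i else 2 * i) :
    (∀ x : GL ι F, x ∈ Cfsg.Geo.omegaGL ⇑Q →
      (∃ z : F, ((x ^ r : GL ι F) : Matrix ι ι F) = z • (1 : Matrix ι ι F)) →
      (∀ z : F, (x : Matrix ι ι F) ≠ z • (1 : Matrix ι ι F)) →
      ∃ W, Pr W ∧ W.map (Matrix.toLin' (x : Matrix ι ι F)) ≤ W) ↔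
    (((2 * d) % c = 0 ∧ ¬ (PV ↔ sgn i (2 * d / c))) ∨ (0 < (2 * d) % c ∧ c ≤ m ∧ m % c < (2 * d) % c)) := by
  have hr := (Fact.out : r.Prime)
  have hrF : (r : F) ≠ 0 := fun e0 => by
    rw [CharP.cast_eq_zero_iff F p] at e0
    exact hrp ((Nat.prime_dvd_prime_iff_eq Fact.out hr).mp e0).symm
  have hq0 : (Fintype.card F : ZMod r) ≠ 0 := cast_card_ne_zero hrp
  subst hqF
  subst hi
  have hV : finrank F (ι → F) = 2 * d := by rw [Module.finrank_fintype_fun_eq_card, hn]
  have hc0 := atom_dim_pos hq0 hc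
  have hne : Even (finrank F (ι → F)) := hV ▸ even_two_mul d
  obtain ⟨⟨g₀, hg₀, hg₀r, hg₀1⟩, j, hjn, hmatch, hf⟩ :=
    exists_pfix_of_dvd_odd (sep_top hQ) hr2 hrF hq0 hc hne hm hW₀ hW₀d (by
      rw [Nat.card_congr (Equiv.subtypeEquivRight fun W => (hPr W).symm)]
      exact hdvd)
  rw [psl_iff hQ (by omega) hr2]
  simp only [hPr]
  rw [all_iff_blocks (sep_top hQ) hr2 hrF hq0 hc hg₀ hg₀r hg₀1 _ _ fun _ hg hgr _ hd =>
    fix_odd_iff (sep_top hQ) hr2 hrF hq0 hc hne hg hgr hd hm hW₀ hW₀d, hV, hPV]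
  rw [hV] at hjn hmatch hf
  rw [hPV] at hmatch
  refine good_odd_iff hc0 ?_ (by omega) ⟨j, hjn, hmatch, hf⟩
  rcases Nat.eq_zero_or_pos j with rfl | hj
  · omega
  · have := Nat.le_mul_of_pos_left c hj; omega

/-- `r = 2` in odd characteristic, even subspaces. -/
theorem two_even_iff (h2 : (2 : F) ≠ 0) {h : ℕ} (hh : 0 < h) (hhd : h < d) {T : Prop}
    {Pr : Submodule F (ι → F) → Prop} (hPr : ∀ W, Pr W ↔ finrank F W = 2 * h ∧ Sep Q W ∧ (Plus Q W ↔ T)) :
    (∀ x : GL ι F, x ∈ Cfsg.Geo.omegaGL ⇑Q →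
      (∃ z : F, ((x ^ 2 : GL ι F) : Matrix ι ι F) = z • (1 : Matrix ι ι F)) →
      (∀ z : F, (x : Matrix ι ι F) ≠ z • (1 : Matrix ι ι F)) →
      ∃ W, Pr W ∧ W.map (Matrix.toLin' (x : Matrix ι ι F)) ≤ W) ↔
    (((PV ↔ (IsSquare (-1 : F) ∨ Even d)) ∧ (Even d ∨ IsSquare (2 : F))) →
      (T ↔ (IsSquare (-1 : F) ∨ Even h))) := by
  have hV : finrank F (ι → F) = 2 * d := by rw [Module.finrank_fintype_fun_eq_card, hn]
  rw [OrthSquareScalar.psl_two_iff h2 hQ hn (by omega) Pr (T ↔ (IsSquare (-1 : F) ∨ Even h)), hPV]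
  · intro g hg hg2
    obtain ⟨A, B, εA, εB, hA, hB, horth, hεA, hεB, hdim, hle⟩ := OrthSquareScalar.exists_eigen h2 (sep_top hQ) hg hg2
    simp only [hPr]
    exact OrthSquareScalar.exists_fixed_even_aux hA hB horth hεA hεB (hdim.trans hV) (by omega) hh hhd T
  · intro g hg hsq
    simp only [hPr]
    constructor
    · rintro ⟨W, ⟨hWd, hWs, hWt⟩, hW⟩
      obtain ⟨h', hh', ht⟩ := OrthSquareScalar.quarter_type h2 hg _ hWd hW hWs fun v _ => hsq v
      obtain rfl : h' = h := by omega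
      exact hWt.symm.trans ht
    · intro hC
      have hstep : ∀ k, k ≤ d → ∃ W : Submodule F (ι → F), finrank F W = 2 * k ∧ InvBy g W ∧ Sep Q W := fun k => by
        induction k with
        | zero => exact fun _ => ⟨⊥, by simp, invBy_bot, sep_bot⟩
        | succ k ih =>
          intro hk
          obtain ⟨W, hWd, hW, hWs⟩ := ih (by omega)
          obtain ⟨Y, -, hYs, hWY, -, hdY, hmem⟩ := exists_perp (sep_top hQ) hWs le_top
          have hY : InvBy g Y := fun y hy => hmem _ trivial fun x hx => by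
            have h1 := polar_iso (Q := Q) hg (g x) y
            rw [hsq x, map_neg, LinearMap.neg_apply, hWY _ (hW x hx) y hy, neg_eq_zero] at h1
            exact h1
          rw [finrank_top, hV, hWd] at hdY
          obtain ⟨v, hv, R, -, -, hPinv, -, -, -, hPs, horthR, hsup, hdR, -⟩ :=
            OrthSquareScalar.quarter_step h2 hg hY hYs (fun v _ => hsq v) (fun e => by
              rw [e, finrank_bot] at hdY; omega)
          have hPY : span F {v, g v} ≤ Y := span_le.mpr (by simp [Set.insert_subset_iff, hv, hY v hv])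
          have ho : ∀ x ∈ W, ∀ y ∈ span F {v, g v}, QuadraticMap.polarBilin Q x y = 0 :=
            fun x hx y hy => hWY x hx y (hPY hy)
          refine ⟨W ⊔ span F {v, g v}, ?_, hW.sup hPinv, sep_sup hWs hPs ho⟩
          rw [finrank_orth_sup hWs ho, hWd]
          have hd2 : finrank F (span F {v, g v}) = 2 := by
            have h1 := finrank_orth_sup hPs horthR
            rw [hsup] at h1
            omega
          omega
      obtain ⟨W, hWd, hW, hWs⟩ := hstep h hhd.le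
      obtain ⟨h', hh', ht⟩ := OrthSquareScalar.quarter_type h2 hg _ hWd hW hWs fun v _ => hsq v
      obtain rfl : h' = h := by omega
      exact ⟨W, ⟨hWd, hWs, ht.trans hC.symm⟩, hW⟩

/-- `r = 2` in odd characteristic, odd subspaces. -/
theorem two_odd_iff (h2 : (2 : F) ≠ 0) {m : ℕ} (hm : Odd m) (hmd : m < d) {W₀ : Submodule F (ι → F)} (hW₀ : Sep Q W₀)
    (hW₀d : finrank F W₀ = m) {Pr : Submodule F (ι → F) → Prop}
    (hPr : ∀ W, Pr W ↔ finrank F W = m ∧ Sep Q W ∧ Iso Q Q W W₀) :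
    (∀ x : GL ι F, x ∈ Cfsg.Geo.omegaGL ⇑Q →
      (∃ z : F, ((x ^ 2 : GL ι F) : Matrix ι ι F) = z • (1 : Matrix ι ι F)) →
      (∀ z : F, (x : Matrix ι ι F) ≠ z • (1 : Matrix ι ι F)) →
      ∃ W, Pr W ∧ W.map (Matrix.toLin' (x : Matrix ι ι F)) ≤ W) ↔
    ¬ ((PV ↔ (IsSquare (-1 : F) ∨ Even d)) ∧ (Even d ∨ IsSquare (2 : F))) := by
  have hV : finrank F (ι → F) = 2 * d := by rw [Module.finrank_fintype_fun_eq_card, hn]
  rw [OrthSquareScalar.psl_two_iff h2 hQ hn (by omega) Pr False, hPV]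
  · intro g hg hg2
    obtain ⟨A, B, εA, εB, hA, hB, horth, hεA, hεB, hdim, hle⟩ := OrthSquareScalar.exists_eigen h2 (sep_top hQ) hg hg2
    simp only [hPr]
    exact OrthSquareScalar.exists_fixed_odd_aux hA hB horth hεA hεB (hdim.trans hV) (by omega) hm hmd hW₀ hW₀d
  · intro g hg hsq
    simp only [hPr, iff_false]
    rintro ⟨W, ⟨hWd, hWs, -⟩, hW⟩
    obtain ⟨h', hh', -⟩ := OrthSquareScalar.quarter_type h2 hg _ hWd hW hWs fun v _ => hsq v
    obtain ⟨t, ht⟩ := hm
    omega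

end CfsgLib.OrthStandard
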