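import Cfsg.Agent.LinearElements.OrthSingular
import Cfsg.Agent.LinearElements.OrthStandard

/-!
Elements with scalar square in odd characteristic and totally singular subspaces.
-/

set_option autoImplicit false

namespace CfsgLib.OrthSingularTwo

open Module Submodule CfsgLib.LinearElements CfsgLib.QuadType CfsgLib.OrthAtoms CfsgLib.OrthSingular
  CfsgLib.OrthSquareScalar CfsgLib.OrthFix Matrix

variable {F V : Type*} [Field F] [AddCommGroup V] [Module F V] {Q : QuadraticForm F V}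

local notation "𝔅" => QuadraticMap.polarBilin Q

variable [Fintype F] [Finite V] [FiniteDimensional F V]

/-- Totally singular subspaces from both eigenspaces. -/
theorem fix_of_eigen {g : Module.End F V} {A B : Submodule F V} {εA εB : F} (hA : Sep Q A) (hB : Sep Q B)
    (horth : ∀ x ∈ A, ∀ y ∈ B, 𝔅 x y = 0) (hεA : ∀ v ∈ A, g v = εA • v) (hεB : ∀ v ∈ B, g v = εB • v)
    {n m : ℕ} (hn : finrank F A + finrank F B = n) (hmn : 2 * m < n)
    (hcase : (Odd (finrank F A) ∧ Odd (finrank F B)) ∨ (Even (finrank F B) ∧ Plus Q B) ∨ 2 * m + 3 ≤ n) :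
    ∃ W : Submodule F V, (finrank F W = m ∧ ∀ w ∈ W, Q w = 0) ∧ InvBy g W := by
  obtain ⟨fA, fB, hsum, hfA, hfB⟩ : ∃ fA fB, fA + fB = m ∧ Fits Q fA A ∧ Fits Q fB B := by
    have hbot : ∀ W : Submodule F V, finrank F W = 0 → Fits Q 0 W := fun W h =>
      Or.inr ⟨by omega, by rw [Submodule.finrank_eq_zero.mp h]; exact plus_bot⟩
    rcases hcase with ⟨⟨a, ha⟩, ⟨b, hb⟩⟩ | ⟨⟨b, hb⟩, hP⟩ | h
    · exact ⟨min m a, m - min m a, by omega, Or.inl (by omega), Or.inl (by omega)⟩
    · refine ⟨m - min m b, min m b, by omega, ?_, ?_⟩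
      · rcases Nat.eq_zero_or_pos (finrank F A) with h0 | h0
        · rw [show m - min m b = 0 by omega]; exact hbot A h0
        · exact Or.inl (by omega)
      · rcases (show min m b ≤ b from Nat.min_le_right _ _).lt_or_eq with h | h
        · exact Or.inl (by omega)
        · exact Or.inr ⟨by omega, hP⟩
    · refine ⟨m - min m ((finrank F B - 1) / 2), min m ((finrank F B - 1) / 2), by omega, ?_, ?_⟩
      · rcases Nat.eq_zero_or_pos (finrank F A) with h0 | h0
        · rw [show m - min m ((finrank F B - 1) / 2) = 0 by omega]; exact hbot A h0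
        · exact Or.inl (by omega)
      · rcases Nat.eq_zero_or_pos (finrank F B) with h0 | h0
        · rw [show min m ((finrank F B - 1) / 2) = 0 by omega]; exact hbot B h0
        · exact Or.inl (by omega)
  obtain ⟨Z, hZA, hZd, hZ⟩ := exists_singular hA hfA
  obtain ⟨Z', hZ'B, hZ'd, hZ'⟩ := exists_singular hB hfB
  refine ⟨Z ⊔ Z', ⟨?_, singular_sup hZ hZ' fun a ha b hb => horth a (hZA ha) b (hZ'B hb)⟩,
    (invBy_of_eigen hεA hZA).sup (invBy_of_eigen hεB hZ'B)⟩
  have h1 := Submodule.finrank_sup_add_finrank_inf_eq Z Z'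
  rw [le_bot_iff.mp ((inf_le_inf hZA hZ'B).trans (orth_inf_bot hA horth).le), finrank_bot, hZd, hZ'd] at h1
  omega

omit [Finite V] in
/-- The eigenspaces of an involution, the fixed vectors first. -/
theorem exists_signed_eigen (h2 : (2 : F) ≠ 0) (hQ : Sep Q ⊤) {g : Module.End F V} (hg : ∀ v, Q (g v) = Q v)
    (hg2 : g ^ 2 = 1) :
    ∃ A B : Submodule F V, Sep Q A ∧ Sep Q B ∧ (∀ x ∈ A, ∀ y ∈ B, 𝔅 x y = 0) ∧ (∀ v ∈ A, g v = (1 : F) • v) ∧
      (∀ v ∈ B, g v = (-1 : F) • v) ∧ A ⊔ B = ⊤ ∧ finrank F A + finrank F B = finrank F V := by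
  obtain ⟨hfs, M, -, hM, hMs, hM0, horth, hsup, hd⟩ := exists_split_moved hg hg2 two_pos (by exact_mod_cast h2)
    (invBy_top (g := g)) hQ
  rw [finrank_top] at hd
  refine ⟨_, M, hfs, hMs, horth, fun v hv => by rw [one_smul]; exact (mem_fixedIn.mp hv).2, fun v hv => ?_, hsup,
    hd.symm⟩
  have h1 : v + g v ∈ fixedIn g M := mem_fixedIn.mpr ⟨M.add_mem hv (hM v hv), by
    rw [map_add, ← Module.End.mul_apply, ← pow_two, hg2, Module.End.one_apply, add_comm]⟩
  rw [hM0, Submodule.mem_bot] at h1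
  rw [neg_one_smul]
  exact eq_neg_of_add_eq_zero_right h1

omit [Finite V] [Fintype F] in
/-- An invariant subspace on which `g` squares to minus one has even dimension, unless minus one is a square. -/
theorem even_of_quarter (hns : ¬ IsSquare (-1 : F)) {g : Module.End F V} (hsq : ∀ v, g (g v) = -v)
    {W : Submodule F V} (hW : InvBy g W) : Even (finrank F W) := by
  let gW : Module.End F W := g.restrict hW
  have hgW : gW * gW = (-1 : F) • 1 := LinearMap.ext fun v => Subtype.ext (by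
    show g (g (v : V)) = (-1 : F) • (v : V)
    rw [hsq, neg_one_smul])
  have h1 := congrArg LinearMap.det hgW
  rw [map_mul, LinearMap.det_smul, map_one, mul_one] at h1
  by_contra hodd
  rw [(Nat.not_even_iff_odd.mp hodd).neg_one_pow] at h1
  exact hns ⟨_, h1.symm⟩

/-- Planes of totally singular vectors for a quarter turn. -/
theorem exists_quarter_singular (h2 : (2 : F) ≠ 0) {g : Module.End F V} (hg : ∀ v, Q (g v) = Q v)
    (hns : ¬ IsSquare (-1 : F)) :
    ∀ (k : ℕ) {R : Submodule F V}, InvBy g R → Sep Q R → (∀ v ∈ R, g (g v) = -v) → 4 * k ≤ finrank F R →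
      ∃ Z, Z ≤ R ∧ InvBy g Z ∧ finrank F Z = 2 * k ∧ ∀ u ∈ Z, Q u = 0 := by
  intro k
  induction k with
  | zero =>
    intro R _ _ _ _
    exact ⟨⊥, bot_le, invBy_bot, by simp, fun u hu => by simp [(Submodule.mem_bot F).mp hu]⟩
  | succ k ih =>
    intro R hR hRs hsq hd
    obtain ⟨v₁, hv₁, R₁, hQ₁, hp₁, hP₁, hR₁R, hR₁, hR₁s, hP₁s, horth₁, hsup₁, hd₁, -⟩ :=
      quarter_step h2 hg hR hRs hsq (fun e => by rw [e, finrank_bot] at hd; omega)
    obtain ⟨v₂, hv₂, R₂, hQ₂, hp₂, hP₂, hR₂R, hR₂, hR₂s, hP₂s, horth₂, hsup₂, hd₂, -⟩ :=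
      quarter_step h2 hg hR₁ hR₁s (fun v hv => hsq v (hR₁R hv)) (fun e => by rw [e, finrank_bot] at hd₁; omega)
    obtain ⟨c, e, hce⟩ := CfsgLib.Forms.exists_diag_binary h2 hQ₂ hQ₂ (-Q v₁)
    have hgg₁ : g (g v₁) = -v₁ := hsq _ hv₁
    have hgg₂ : g (g v₂) = -v₂ := hsq _ (hR₁R hv₂)
    have m₁ : v₁ ∈ span F {v₁, g v₁} := subset_span (by simp)
    have m₁' : g v₁ ∈ span F {v₁, g v₁} := subset_span (by simp)
    have m₂ : v₂ ∈ span F {v₂, g v₂} := subset_span (by simp)
    have m₂' : g v₂ ∈ span F {v₂, g v₂} := subset_span (by simp)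
    obtain ⟨w, hw⟩ : ∃ w, w = v₁ + (c • v₂ + e • g v₂) := ⟨_, rfl⟩
    have hmid : c • v₂ + e • g v₂ ∈ span F {v₂, g v₂} := add_mem (smul_mem _ _ m₂) (smul_mem _ _ m₂')
    have hmidR : c • v₂ + e • g v₂ ∈ R₁ := R₁.add_mem (R₁.smul_mem _ hv₂) (R₁.smul_mem _ (hR₁ _ hv₂))
    have hQw : Q w = 0 := by
      rw [hw, QuadType.map_add', horth₁ _ m₁ _ hmidR, QuadType.map_add', smul_quad, smul_quad, hg, map_smul, map_smul,
        LinearMap.smul_apply, hp₂, smul_zero, smul_zero, add_zero, add_zero]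
      linear_combination hce
    have hwR : w ∈ R := hw ▸ R.add_mem hv₁ (hR₁R hmidR)
    have hggw : g (g w) = -w := hsq w hwR
    have hwperp : 𝔅 w (g w) = 0 := by
      have h1 := polar_iso (Q := Q) hg w (g w)
      rw [hggw, map_neg, polar_swap (g w) w] at h1
      have h3 : 2 * 𝔅 w (g w) = 0 := by linear_combination -h1
      exact (mul_eq_zero.mp h3).resolve_left h2
    have hw0 : w ≠ 0 := fun e0 => by
      have h1 : v₁ ∈ span F {v₁, g v₁} ⊓ R₁ := ⟨m₁, by
        rw [show v₁ = -(c • v₂ + e • g v₂) from eq_neg_of_add_eq_zero_left (hw ▸ e0)]; exact R₁.neg_mem hmidR⟩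
      rw [orth_inf_bot hP₁s horth₁, Submodule.mem_bot] at h1
      exact hQ₁ (by rw [h1, map_zero])
    have hli : LinearIndependent F ![w, g w] := LinearIndependent.pair_iff.mpr fun s u hsu => by
      by_cases hu : u = 0
      · rw [hu, zero_smul, add_zero, smul_eq_zero] at hsu
        exact ⟨hsu.resolve_right hw0, hu⟩
      · exfalso
        have hgw : g w = (-(s / u)) • w := by
          have h1 := congrArg (fun z => u⁻¹ • z) hsu
          simp only [smul_add, smul_smul, smul_zero, inv_mul_cancel₀ hu, one_smul] at h1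
          rw [neg_smul, div_eq_inv_mul]
          exact eq_neg_of_add_eq_zero_right h1
        have h1 := hggw
        rw [hgw, map_smul, hgw, smul_smul] at h1
        refine hns ⟨-(s / u), (smul_left_injective F hw0 ?_).symm⟩
        show (-(s / u) * -(s / u)) • w = (-1 : F) • w
        rw [h1, neg_one_smul]
    have hLinv : InvBy g (span F {w, g w}) := by
      intro x hx
      obtain ⟨s, u, rfl⟩ := mem_span_pair.mp hx
      rw [map_add, map_smul, map_smul, hggw]
      exact add_mem (smul_mem _ _ (subset_span (by simp))) (smul_mem _ _ (neg_mem (subset_span (by simp))))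
    have hLs : ∀ u ∈ span F {w, g w}, Q u = 0 := fun x hx => by
      obtain ⟨s, u, rfl⟩ := mem_span_pair.mp hx
      rw [QuadType.map_add', smul_quad, smul_quad, hg, hQw, map_smul, map_smul, LinearMap.smul_apply, hwperp]
      simp
    obtain ⟨Z, hZR, hZ, hZd, hZs⟩ := ih hR₂ hR₂s (fun v hv => hsq v (hR₁R (hR₂R hv))) (by omega)
    have hPR₁ : span F {v₂, g v₂} ≤ R₁ := hsup₂ ▸ le_sup_left
    have ho : ∀ a ∈ span F {w, g w}, ∀ z ∈ R₂, 𝔅 a z = 0 := by
      have h1 : ∀ z ∈ R₂, 𝔅 w z = 0 := fun z hz => by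
        rw [hw, map_add, LinearMap.add_apply, horth₁ _ m₁ z (hR₂R hz), horth₂ _ hmid z hz, add_zero]
      intro a ha z hz
      obtain ⟨s, u, rfl⟩ := mem_span_pair.mp ha
      have h3 : 𝔅 (g w) z = 0 := by
        have h4 := polar_iso (Q := Q) hg (g w) z
        rw [hggw, map_neg, LinearMap.neg_apply, h1 _ (hR₂ z hz), neg_zero] at h4
        exact h4.symm
      rw [map_add, map_smul, map_smul, LinearMap.add_apply, LinearMap.smul_apply, LinearMap.smul_apply, h1 z hz, h3,
        smul_zero, smul_zero, add_zero]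
    refine ⟨span F {w, g w} ⊔ Z, sup_le (span_le.mpr (by simp [Set.insert_subset_iff, hwR, hR w hwR]))
      (hZR.trans (hR₂R.trans hR₁R)), hLinv.sup hZ, ?_, singular_sup hLs hZs fun a ha z hz => ho a ha z (hZR hz)⟩
    have hdis : span F {w, g w} ⊓ Z = ⊥ := by
      rw [Submodule.eq_bot_iff]
      rintro x ⟨hx, hxZ⟩
      by_contra hx0
      obtain ⟨y, hy, hxy⟩ := hR₂s x (hZR hxZ) hx0
      exact hxy (ho x hx y hy)
    have h1 := Submodule.finrank_sup_add_finrank_inf_eq (span F {w, g w}) Z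
    have h5 : finrank F (span F {w, g w}) = 2 := by
      rw [← Matrix.range_cons_cons_empty w (g w) ![], finrank_span_eq_card hli, Fintype.card_fin]
    rw [hdis, finrank_bot, hZd, h5] at h1
    omega

/-- Which dimensions a quarter turn fixes. -/
theorem quarter_fix_iff (h2 : (2 : F) ≠ 0) (hQ : Sep Q ⊤) {g : Module.End F V} (hg : ∀ v, Q (g v) = Q v)
    (hsq : ∀ v, g (g v) = -v) {m : ℕ} (hm : 2 * m ≤ finrank F V) :
    (∃ W : Submodule F V, (finrank F W = m ∧ ∀ w ∈ W, Q w = 0) ∧ InvBy g W) ↔ (IsSquare (-1 : F) ∨ Even m) := by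
  constructor
  · rintro ⟨W, ⟨hWd, -⟩, hW⟩
    by_cases h : IsSquare (-1 : F)
    · exact Or.inl h
    · exact Or.inr (hWd ▸ even_of_quarter h hsq hW)
  · intro h
    by_cases hns : IsSquare (-1 : F)
    · obtain ⟨μ, hμ⟩ := hns
      have hμ0 : μ ≠ 0 := fun e => by rw [e, mul_zero, neg_eq_zero] at hμ; exact one_ne_zero hμ
      let E : F → Submodule F V := fun z => LinearMap.ker (g - z • 1)
      have hE : ∀ z, ∀ v ∈ E z, g v = z • v := fun z v hv => by
        have h1 := LinearMap.mem_ker.mp hv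
        rwa [LinearMap.sub_apply, LinearMap.smul_apply, Module.End.one_apply, sub_eq_zero] at h1
      have hEs : ∀ z : F, z * z = -1 → ∀ v ∈ E z, Q v = 0 := fun z hz v hv => by
        have h1 := hg v
        rw [hE z v hv, smul_quad, hz] at h1
        have h3 : 2 * Q v = 0 := by linear_combination -h1
        exact (mul_eq_zero.mp h3).resolve_left h2
      have hsup : E μ ⊔ E (-μ) = ⊤ := by
        refine eq_top_iff.mpr fun v _ => ?_
        have hh : v = (2⁻¹ : F) • (v - μ • g v) + (2⁻¹ : F) • (v + μ • g v) := by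
          rw [← smul_add, sub_add_add_cancel, ← two_smul F v, smul_smul, inv_mul_cancel₀ h2, one_smul]
        rw [hh]
        refine Submodule.add_mem_sup (smul_mem _ _ ?_) (smul_mem _ _ ?_) <;>
          rw [LinearMap.mem_ker, LinearMap.sub_apply, LinearMap.smul_apply, Module.End.one_apply] <;>
          simp only [map_sub, map_add, map_smul, hsq,
            smul_neg, smul_sub, smul_add, smul_smul, ← hμ, neg_mul, mul_neg, neg_smul, one_smul, neg_neg] <;> abel
      have h1 := Submodule.finrank_sup_add_finrank_inf_eq (E μ) (E (-μ))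
      rw [hsup, finrank_top] at h1
      have h3 := OrthOddBlocks.singular_half hQ le_top fun u hu v hv =>
        polar_singular (hEs μ hμ.symm) hu hv
      have h4 := OrthOddBlocks.singular_half hQ le_top fun u hu v hv =>
        polar_singular (hEs (-μ) (by rw [neg_mul_neg]; exact hμ.symm)) hu hv
      rw [finrank_top] at h3 h4
      have h5 : (∃ W, W ≤ E μ ∧ finrank F W = m) := by
        obtain ⟨b⟩ := (inferInstance : Nonempty (Unit))
        let bs := Module.finBasis F (E μ)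
        refine ⟨(span F (Set.range fun k : Fin m => bs ⟨k, by omega⟩)).map (E μ).subtype, Submodule.map_subtype_le _ _, ?_⟩
        rw [Submodule.finrank_map_subtype_eq, finrank_span_eq_card, Fintype.card_fin]
        exact bs.linearIndependent.comp _ fun a b e => Fin.ext (congrArg Fin.val e :)
      obtain ⟨W, hWE, hWd⟩ := h5
      exact ⟨W, ⟨hWd, fun w hw => hEs μ hμ.symm w (hWE hw)⟩, invBy_of_eigen (hE μ) hWE⟩
    · obtain ⟨k, hk⟩ := h.resolve_left hns
      obtain ⟨Z, -, hZ, hZd, hZs⟩ := exists_quarter_singular h2 hg hns k invBy_top hQ (fun v _ => hsq v)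
        (by rw [finrank_top]; omega)
      exact ⟨Z, ⟨by omega, hZs⟩, hZ⟩

end CfsgLib.OrthSingularTwo

namespace CfsgLib.OrthSingularTwo

open Module Submodule CfsgLib.LinearElements CfsgLib.QuadType CfsgLib.OrthAtoms CfsgLib.OrthSingular
  CfsgLib.OrthSquareScalar CfsgLib.OrthFix Matrix CfsgLib.Spinor

variable {F : Type*} [Field F] [Fintype F] {ι : Type} [Fintype ι] [DecidableEq ι] {Q : QuadraticForm F (ι → F)}

local notation "𝔅" => QuadraticMap.polarBilin Q

/-- Minus one on a nondegenerate subspace, as reflections. -/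
theorem neg_refl (h2 : (2 : F) ≠ 0) :
    ∀ (n : ℕ) {M : Submodule F (ι → F)}, finrank F M = n → Sep Q M →
      ∃ vs : List (ι → F), (∀ v ∈ vs, Q v ≠ 0) ∧ vs.length = n ∧ (∀ x ∈ M, (vs.map (refl Q)).prod x = -x) ∧
        (∀ z, (∀ x ∈ M, 𝔅 x z = 0) → (vs.map (refl Q)).prod z = z) ∧
        (Even n → IsSquare (-1 : F) → (IsSquare (vs.map fun v => Q v).prod ↔ Plus Q M)) := by
  intro n
  induction n using Nat.strong_induction_on with
  | _ n ih =>
  intro M hn hM
  have hline : ∀ {M : Submodule F (ι → F)}, Sep Q M → M ≠ ⊥ → ∃ v ∈ M, Q v ≠ 0 ∧ Sep Q (span F {v}) ∧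
      refl Q v v = -v := fun {M} hM hne => by
    obtain ⟨v, hv, hv0⟩ : ∃ v ∈ M, Q v ≠ 0 := by
      by_contra hall
      push Not at hall
      obtain ⟨w, hw, hw0⟩ := (Submodule.ne_bot_iff _).mp hne
      obtain ⟨y, hy, hwy⟩ := hM w hw hw0
      exact hwy (polar_singular hall hw hy)
    refine ⟨v, hv, hv0, fun y hy hy0 => ?_, ?_⟩
    · obtain ⟨s, rfl⟩ := mem_span_singleton.mp hy
      refine ⟨v, mem_span_singleton_self v, ?_⟩
      rw [map_smul, LinearMap.smul_apply, polar_diag, smul_eq_mul]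
      exact mul_ne_zero (fun e => hy0 (by rw [e, zero_smul])) (mul_ne_zero h2 hv0)
    · rw [refl_apply, show QuadraticMap.polar (⇑Q) v v = 2 * Q v from Spinor.polar_self' Q v,
        show (Q v)⁻¹ * (2 * Q v) = 2 by field_simp]
      module
  rcases eq_or_ne M ⊥ with rfl | hne
  · refine ⟨[], by simp, by rw [← hn, finrank_bot, List.length_nil], fun x hx => by simp [(Submodule.mem_bot F).mp hx],
      fun z _ => rfl, fun _ _ => iff_of_true ⟨1, by simp⟩ plus_bot⟩
  obtain ⟨v, hv, hv0, hLs, hrv⟩ := hline hM hne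
  have hvne : v ≠ 0 := fun e => hv0 (by rw [e, map_zero])
  obtain ⟨R₁, hR₁M, hR₁, horth₁, hsup₁, hd₁, -⟩ := exists_perp hM hLs ((span_singleton_le_iff_mem _ _).mpr hv)
  rw [finrank_span_singleton hvne, hn] at hd₁
  have hvR₁ : ∀ y ∈ R₁, 𝔅 v y = 0 := fun y hy => horth₁ v (mem_span_singleton_self v) y hy
  rcases eq_or_ne R₁ ⊥ with rfl | hne₁
  · rw [finrank_bot] at hd₁
    rw [sup_bot_eq] at hsup₁
    refine ⟨[v], by simpa using hv0, by simp; omega, fun x hx => ?_, fun z hz => ?_, fun he => ?_⟩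
    · rw [← hsup₁] at hx
      obtain ⟨s, rfl⟩ := mem_span_singleton.mp hx
      simp [hrv]
    · simpa using refl_fix (hz v hv)
    · exact absurd he (by rw [hd₁]; decide)
  obtain ⟨w, hw, hw0, hLw, hrw⟩ := hline hR₁ hne₁
  have hvw : 𝔅 v w = 0 := hvR₁ w hw
  obtain ⟨hPs, hPd, hPt⟩ := plane_type (Q := Q) hv0 hw0 h2 hvw
  have hPM : span F {v, w} ≤ M := span_le.mpr (by simp [Set.insert_subset_iff, hv, hR₁M hw])
  obtain ⟨R, hRM, hR, horth, hsup, hd, -⟩ := exists_perp hM hPs hPM
  obtain ⟨vs, hvs, hlen, hvsR, hvsZ, hvst⟩ := ih (finrank F R) (by omega) rfl hR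
  have hcomp : ∀ z, ((v :: w :: vs).map (refl Q)).prod z = refl Q v (refl Q w ((vs.map (refl Q)).prod z)) := fun z => by
    simp only [List.map_cons, List.prod_cons, Module.End.mul_apply]
  refine ⟨v :: w :: vs, by simpa [hv0, hw0] using hvs, by simp only [List.length_cons]; omega, fun x hx => ?_,
    fun z hz => ?_, fun he hsq => ?_⟩
  · rw [← hsup] at hx
    obtain ⟨x₁, hx₁, x₂, hx₂, rfl⟩ := Submodule.mem_sup.mp hx
    obtain ⟨s, t, rfl⟩ := mem_span_pair.mp hx₁
    rw [hcomp, map_add, hvsZ _ fun y hy => (polar_swap y _).trans (horth _ hx₁ y hy), hvsR x₂ hx₂]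
    simp only [map_add, map_smul, map_neg, refl_fix ((polar_swap w v).trans hvw), hrw,
      refl_fix (horth w (subset_span (by simp)) x₂ hx₂)]
    simp only [map_neg, map_smul, refl_fix hvw, hrv, refl_fix (horth v (subset_span (by simp)) x₂ hx₂)]
    module
  · rw [hcomp, hvsZ z fun y hy => hz y (hRM hy), refl_fix (hz w (hR₁M hw)), refl_fix (hz v hv)]
  · have hRe : Even (finrank F R) := by
      rw [hn, hPd] at hd
      rw [hd, Nat.even_add] at he
      exact he.mp even_two
    have hne0 : (vs.map fun v => Q v).prod ≠ 0 := Spinor.prod_quad_ne_zero hvs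
    rw [← hsup, plus_sup_iff hPs hR horth (hPd ▸ even_two) hRe, hPt, ← hvst hRe hsq, List.map_cons, List.map_cons,
      List.prod_cons, List.prod_cons, ← mul_assoc, isSquare_mul_iff (mul_ne_zero hv0 hw0) hne0, ← neg_one_mul (Q v * Q w),
      isSquare_mul_iff (neg_ne_zero.mpr one_ne_zero) (mul_ne_zero hv0 hw0), iff_true_left hsq]

/-- The minus space of an involution of `Ω` when minus one is a square. -/
theorem moved_of_mem_omega (h2 : (2 : F) ≠ 0) (hQ : (QuadraticMap.polarBilin Q).Nondegenerate) {x : GL ι F}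
    (hx : x ∈ Cfsg.Geo.omegaGL ⇑Q) {A B : Submodule F (ι → F)} (hB : Sep Q B)
    (horth : ∀ a ∈ A, ∀ b ∈ B, 𝔅 a b = 0) (hA : ∀ v ∈ A, (x : Matrix ι ι F) *ᵥ v = (1 : F) • v)
    (hB' : ∀ v ∈ B, (x : Matrix ι ι F) *ᵥ v = (-1 : F) • v) (hsup : A ⊔ B = ⊤) :
    Even (finrank F B) ∧ (IsSquare (-1 : F) → Plus Q B) := by
  obtain ⟨g, hg, rfl⟩ := hx
  obtain ⟨vs, hvs, hlen, hvsB, hvsZ, hvst⟩ := neg_refl h2 _ rfl hB
  have hrp : IsReflProd Q g vs := ⟨hvs, Matrix.toLin'.injective (LinearMap.ext fun v => by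
    rw [Spinor.toLin'_prod, Matrix.toLin'_apply]
    obtain ⟨a, ha, b, hb, rfl⟩ := Submodule.mem_sup.mp (hsup.ge (Submodule.mem_top (x := v)))
    rw [Matrix.mulVec_add, map_add, hvsZ a fun y hy => (polar_swap y a).trans (horth a ha y hy), hvsB b hb]
    have e1 := hA a ha
    have e2 := hB' b hb
    rw [one_smul] at e1
    rw [neg_one_smul] at e2
    rw [show Spinor.mat Q g *ᵥ a = a from e1, show Spinor.mat Q g *ᵥ b = -b from e2])⟩
  obtain ⟨he, hsq⟩ := (Spinor.mem_omega_iff h2 hQ hrp).mp hg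
  rw [hlen] at he
  exact ⟨he, fun h => (hvst he h).mp hsq⟩

/-- An involution of `Ω` that is minus one on an anisotropic plane, when minus one is not a square. -/
theorem exists_plane_involution (h2 : (2 : F) ≠ 0) (hQ : (QuadraticMap.polarBilin Q).Nondegenerate)
    (hn : 4 ≤ Fintype.card ι) (hns : ¬ IsSquare (-1 : F)) :
    ∃ x : GL ι F, x ∈ Cfsg.Geo.omegaGL ⇑Q ∧ orderOf x = 2 ∧ (∀ z : F, (x : Matrix ι ι F) ≠ z • 1) ∧
      ∃ P C : Submodule F (ι → F), Sep Q C ∧ Fintype.card ι = finrank F C + 2 ∧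
        (Even (finrank F C) → (Plus Q C ↔ ¬ Plus Q ⊤)) ∧
        ∀ W : Submodule F (ι → F), (∀ w ∈ W, Q w = 0) →
          W.map (Matrix.toLin' (x : Matrix ι ι F)) ≤ W → W ≤ C := by
  have hQs := sep_top hQ
  obtain ⟨v, -, hv⟩ := exists_value hQs (by rw [finrank_top, Module.finrank_fintype_fun_eq_card]; omega) 1
  have hvne : v ≠ 0 := fun e => by rw [e, map_zero] at hv; exact zero_ne_one hv
  have hLs : Sep Q (span F {v}) := fun y hy hy0 => by
    obtain ⟨s, rfl⟩ := mem_span_singleton.mp hy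
    refine ⟨v, mem_span_singleton_self v, ?_⟩
    rw [map_smul, LinearMap.smul_apply, polar_diag, hv, smul_eq_mul, mul_one]
    exact mul_ne_zero (fun e => hy0 (by rw [e, zero_smul])) h2
  obtain ⟨R, -, hR, horthv, -, hdv, -⟩ := exists_perp hQs hLs le_top
  rw [finrank_top, finrank_span_singleton hvne, Module.finrank_fintype_fun_eq_card] at hdv
  obtain ⟨w, hwR, hw⟩ := exists_value hR (by omega) 1
  have hvw : 𝔅 v w = 0 := horthv v (mem_span_singleton_self v) w hwR
  have hv0 : Q v ≠ 0 := by rw [hv]; exact one_ne_zero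
  have hw0 : Q w ≠ 0 := by rw [hw]; exact one_ne_zero
  obtain ⟨hPs, hPd, hPt⟩ := plane_type (Q := Q) hv0 hw0 h2 hvw
  rw [hv, hw, one_mul] at hPt
  obtain ⟨C, -, hC, horth, hsup, hd, -⟩ := exists_perp hQs hPs le_top
  rw [finrank_top, Module.finrank_fintype_fun_eq_card, hPd] at hd
  let g : ↥(Cfsg.isometryGroup F ⇑Q) := reflIso Q v hv0 * reflIso Q w hw0
  have hrp : IsReflProd Q g [v, w] := (IsReflProd.reflIso v hv0).mul (IsReflProd.reflIso w hw0)
  have hgv : ∀ z, Spinor.mat Q g *ᵥ z = refl Q v (refl Q w z) := fun z => by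
    rw [hrp.2, ← Matrix.toLin'_apply, Spinor.toLin'_prod]
    simp
  have hrr : ∀ u, Q u ≠ 0 → refl Q u u = -u := fun u hu => by
    rw [refl_apply, show QuadraticMap.polar (⇑Q) u u = 2 * Q u from Spinor.polar_self' Q u,
      show (Q u)⁻¹ * (2 * Q u) = 2 by field_simp]
    module
  have hgP : ∀ p ∈ span F {v, w}, Spinor.mat Q g *ᵥ p = -p := fun p hp => by
    obtain ⟨s, t, rfl⟩ := mem_span_pair.mp hp
    rw [hgv, map_add, map_smul, map_smul, refl_fix ((polar_swap w v).trans hvw), hrr w hw0, map_add, map_smul, map_smul,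
      map_neg, refl_fix hvw, hrr v hv0]
    module
  have hgC : ∀ z ∈ C, Spinor.mat Q g *ᵥ z = z := fun z hz => by
    rw [hgv, refl_fix (horth w (subset_span (by simp)) z hz), refl_fix (horth v (subset_span (by simp)) z hz)]
  have hg2 : (g : GL ι F) * (g : GL ι F) = 1 := by
    refine Units.ext (Matrix.toLin'.injective (LinearMap.ext fun z => ?_))
    rw [Matrix.toLin'_apply, Matrix.toLin'_apply, Units.val_mul, Units.val_one, Matrix.one_mulVec, ← Matrix.mulVec_mulVec]
    obtain ⟨p, hp, c, hc, rfl⟩ := Submodule.mem_sup.mp (hsup.ge (Submodule.mem_top (x := z)))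
    show Spinor.mat Q g *ᵥ (Spinor.mat Q g *ᵥ (p + c)) = p + c
    rw [Matrix.mulVec_add, hgP p hp, hgC c hc, Matrix.mulVec_add, Matrix.mulVec_neg, hgP p hp, hgC c hc, neg_neg]
  have hne : ∀ z : F, Spinor.mat Q g ≠ z • 1 := fun z hz => by
    have e1 := hgP v (subset_span (by simp))
    rw [hz, Matrix.smul_mulVec, Matrix.one_mulVec] at e1
    obtain ⟨c, hc, hc0⟩ := (Submodule.ne_bot_iff C).mp fun e => by rw [e, finrank_bot] at hd; omega
    have e2 := hgC c hc
    rw [hz, Matrix.smul_mulVec, Matrix.one_mulVec] at e2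
    have h3 : z = 1 := smul_left_injective F hc0 (e2.trans (one_smul F c).symm)
    rw [h3, one_smul] at e1
    have h4 : (2 : F) • v = 0 := by rw [two_smul]; nth_rw 2 [e1]; exact add_neg_cancel v
    exact hvne ((smul_eq_zero.mp h4).resolve_left h2)
  refine ⟨g, ⟨g, (Spinor.mem_omega_iff h2 hQ hrp).mpr ⟨even_two, ⟨1, by simp [hv, hw]⟩⟩, rfl⟩,
    orderOf_eq_prime (by rw [pow_two, hg2]) (fun e => hne 1 (by rw [one_smul]; exact congrArg Units.val e)), hne,
    span F {v, w}, C, hC, by omega, fun he => ?_, fun W hW hle => ?_⟩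
  · rw [← hsup, plus_sup_iff hPs hC horth (hPd ▸ even_two) he, hPt]
    by_cases h : Plus Q C <;> simp [h, hns]
  · intro u hu
    obtain ⟨p, hp, c, hc, rfl⟩ := Submodule.mem_sup.mp (hsup.ge (Submodule.mem_top (x := u)))
    have h1 : -p + c ∈ W := hle ⟨p + c, hu, by
      rw [Matrix.toLin'_apply]
      show Spinor.mat Q g *ᵥ (p + c) = -p + c
      rw [Matrix.mulVec_add, hgP p hp, hgC c hc]⟩
    have h3 : p ∈ W := by
      rw [show p = (2⁻¹ : F) • ((p + c) - (-p + c)) by
        rw [add_sub_add_right_eq_sub, sub_neg_eq_add, ← two_smul F p, smul_smul, inv_mul_cancel₀ h2, one_smul]]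
      exact W.smul_mem _ (W.sub_mem hu h1)
    have h4 : p = 0 := by
      by_contra hne'
      exact hns (hPt.mp ((plus_plane_iff hPd).mpr ⟨p, hp, hne', hW p h3⟩))
    rw [h4, zero_add]; exact hc

/-- The statement for elements with scalar square, the involutions needing `Ω`. -/
theorem psl_two (h2 : (2 : F) ≠ 0) (hQ : (QuadraticMap.polarBilin Q).Nondegenerate) {d : ℕ}
    (hn : Fintype.card ι = 2 * d) (hd : 4 ≤ d) {m : ℕ} (hm : 2 * m < 2 * d) {PV : Prop} (hPV : Plus Q ⊤ ↔ PV) :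
    (∀ x : GL ι F, x ∈ Cfsg.Geo.omegaGL ⇑Q →
      (∃ z : F, ((x ^ 2 : GL ι F) : Matrix ι ι F) = z • (1 : Matrix ι ι F)) →
      (∀ z : F, (x : Matrix ι ι F) ≠ z • (1 : Matrix ι ι F)) →
      ∃ W : Submodule F (ι → F), (finrank F W = m ∧ ∀ w ∈ W, Q w = 0) ∧
        W.map (Matrix.toLin' (x : Matrix ι ι F)) ≤ W) ↔
    ((PV → IsSquare (-1 : F) ∨ m + 2 ≤ d) ∧
      ((PV ↔ (IsSquare (-1 : F) ∨ Even d)) ∧ (Even d ∨ IsSquare (2 : F)) → IsSquare (-1 : F) ∨ Even m)) := by
  have hQs := sep_top hQ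
  have hV : finrank F (ι → F) = 2 * d := by rw [Module.finrank_fintype_fun_eq_card, hn]
  obtain ⟨u, -, hu⟩ := exists_value hQs (by rw [finrank_top, hV]; omega) 1
  have hu0 : u ≠ 0 := fun e => by rw [e, map_zero] at hu; exact zero_ne_one hu
  rw [← hPV, ← exists_quarter_omega h2 hQ hn]
  constructor
  · intro hall
    refine ⟨fun hP => ?_, fun ⟨x, hx, hsq⟩ => ?_⟩
    · by_contra hcon
      push Not at hcon
      obtain ⟨hns, hmd⟩ := hcon
      obtain ⟨x, hx, hord, hne, P, C, hC, hCd, hCt, hW'⟩ := exists_plane_involution h2 hQ (by omega) hns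
      obtain ⟨W, ⟨hWd, hW⟩, hle⟩ := hall x hx ⟨1, by rw [← hord, pow_orderOf_eq_one, one_smul]; rfl⟩ hne
      rcases fits_of_singular hC (hW' W hW hle) hW with h | ⟨h, hCp⟩
      · omega
      · exact (hCt (h ▸ even_two_mul _)).mp hCp hP
    · refine (quarter_fix_iff h2 hQs (g := Matrix.toLin' (x : Matrix ι ι F))
        (fun v => by rw [Matrix.toLin'_apply]; exact quad_of_mem_omega hx v)
        (fun v => by rw [Matrix.toLin'_apply, Matrix.toLin'_apply]; exact hsq v) (m := m) (by omega)).mp ?_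
      have hx2 : ((x ^ 2 : GL ι F) : Matrix ι ι F) = (-1 : F) • 1 := by
        refine Matrix.toLin'.injective (LinearMap.ext fun v => ?_)
        rw [Matrix.toLin'_apply, Matrix.toLin'_apply, Units.val_pow_eq_pow_val, pow_two, ← Matrix.mulVec_mulVec, hsq,
          Matrix.smul_mulVec, Matrix.one_mulVec, neg_one_smul]
      have hns : ∀ z : F, (x : Matrix ι ι F) ≠ z • (1 : Matrix ι ι F) := by
        intro z hz
        have h1 := hsq u
        rw [hz] at h1
        simp only [Matrix.smul_mulVec, Matrix.one_mulVec, smul_smul] at h1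
        have hzz : z * z = -1 := smul_left_injective F hu0 (h1.trans (neg_one_smul F u).symm)
        have h3 := quad_of_mem_omega hx u
        rw [hz, Matrix.smul_mulVec, Matrix.one_mulVec, smul_quad, hzz, hu] at h3
        exact h2 (by linear_combination -h3)
      obtain ⟨W, hW, hle⟩ := hall x hx ⟨-1, hx2⟩ hns
      exact ⟨W, hW, fun v hv => hle ⟨v, hv, rfl⟩⟩
  · rintro ⟨hinvol, hquarter⟩ x hx ⟨z, hz⟩ -
    set g := Matrix.toLin' (x : Matrix ι ι F)
    have hgQ : ∀ v, Q (g v) = Q v := fun v => by rw [Matrix.toLin'_apply]; exact quad_of_mem_omega hx v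
    have hxx : ∀ v, g (g v) = z • v := fun v => by
      rw [Matrix.toLin'_apply, Matrix.toLin'_apply, Matrix.mulVec_mulVec, ← pow_two, ← Units.val_pow_eq_pow_val, hz,
        Matrix.smul_mulVec, Matrix.one_mulVec]
    have hzz : z * z = 1 := by
      have h1 : Q (z • u) = Q u := by rw [← hxx, hgQ, hgQ]
      rwa [smul_quad, hu, mul_one] at h1
    rcases mul_self_eq_one_iff.mp hzz with rfl | rfl
    · obtain ⟨A, B, hA, hB, horth, hA1, hB1, hsup, hdim⟩ := exists_signed_eigen h2 hQs hgQ (LinearMap.ext fun v => by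
        rw [pow_two, Module.End.mul_apply, hxx, one_smul, Module.End.one_apply])
      obtain ⟨hBe, hBp⟩ := moved_of_mem_omega h2 hQ hx hB horth (fun v hv => by rw [← Matrix.toLin'_apply]; exact hA1 v hv)
        (fun v hv => by rw [← Matrix.toLin'_apply]; exact hB1 v hv) hsup
      rw [hV] at hdim
      have hAe : Even (finrank F A) := by
        have h := even_two_mul d
        rw [← hdim, Nat.even_add] at h
        exact h.mpr hBe
      have ht := plus_sup_iff hA hB horth hAe hBe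
      rw [hsup] at ht
      obtain ⟨W, hW, hinv⟩ : ∃ W : Submodule F (ι → F), (finrank F W = m ∧ ∀ w ∈ W, Q w = 0) ∧ InvBy g W := by
        by_cases hBplus : Plus Q B
        · exact fix_of_eigen hA hB horth hA1 hB1 hdim hm (Or.inr (Or.inl ⟨hBe, hBplus⟩))
        by_cases hAplus : Plus Q A
        · exact fix_of_eigen hB hA (fun a ha b hb => (polar_swap a b).trans (horth b hb a ha)) hB1 hA1
            ((Nat.add_comm _ _).trans hdim) hm (Or.inr (Or.inl ⟨hAe, hAplus⟩))
        · have hP : Plus Q ⊤ := ht.mpr (iff_of_false hAplus hBplus)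
          rcases hinvol hP with h | h
          · exact absurd (hBp h) hBplus
          · exact fix_of_eigen hA hB horth hA1 hB1 hdim hm (Or.inr (Or.inr (by omega)))
      exact ⟨W, hW, hinv.map_le⟩
    · obtain ⟨W, hW, hinv⟩ := (quarter_fix_iff h2 hQs hgQ (fun v => by rw [hxx, neg_one_smul]) (m := m) (by omega)).mpr
        (hquarter ⟨x, hx, fun v => by rw [← Matrix.toLin'_apply, ← Matrix.toLin'_apply]; exact (hxx v).trans (neg_one_smul F v)⟩)
      exact ⟨W, hW, hinv.map_le⟩

/-- The statement for involutions in odd dimension. -/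
theorem gl_two (h2 : (2 : F) ≠ 0) (hQ : (QuadraticMap.polarBilin Q).Nondegenerate) {d : ℕ}
    (hn : Fintype.card ι = 2 * d + 1) (hd : 3 ≤ d) {m : ℕ} (hm : m ≤ d) :
    (∀ x : GL ι F, x ∈ Cfsg.Geo.omegaGL ⇑Q → orderOf x = 2 →
      ∃ W : Submodule F (ι → F), (finrank F W = m ∧ ∀ w ∈ W, Q w = 0) ∧
        W.map (Matrix.toLin' (x : Matrix ι ι F)) ≤ W) ↔
    (m < d ∨ IsSquare (-1 : F)) := by
  have hQs := sep_top hQ
  constructor
  · intro hall
    by_contra hcon
    push Not at hcon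
    obtain ⟨hmd, hns⟩ := hcon
    obtain ⟨x, hx, hord, -, P, C, hC, hCd, -, hW'⟩ := exists_plane_involution h2 hQ (by omega) hns
    obtain ⟨W, ⟨hWd, hW⟩, hle⟩ := hall x hx hord
    rcases fits_of_singular hC (hW' W hW hle) hW with h | ⟨h, -⟩ <;> omega
  · intro hcase x hx hord
    set g := Matrix.toLin' (x : Matrix ι ι F)
    have hgQ : ∀ v, Q (g v) = Q v := fun v => by rw [Matrix.toLin'_apply]; exact quad_of_mem_omega hx v
    obtain ⟨A, B, hA, hB, horth, hA1, hB1, hsup, hdim⟩ := exists_signed_eigen h2 hQs hgQ (by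
      show Matrix.toLinAlgEquiv' (x : Matrix ι ι F) ^ 2 = 1
      rw [← map_pow, ← Units.val_pow_eq_pow_val, ← hord, pow_orderOf_eq_one, Units.val_one, map_one])
    obtain ⟨hBe, hBp⟩ := moved_of_mem_omega h2 hQ hx hB horth (fun v hv => by rw [← Matrix.toLin'_apply]; exact hA1 v hv)
      (fun v hv => by rw [← Matrix.toLin'_apply]; exact hB1 v hv) hsup
    rw [Module.finrank_fintype_fun_eq_card, hn] at hdim
    obtain ⟨W, hW, hinv⟩ := fix_of_eigen hA hB horth hA1 hB1 hdim (m := m) (by omega) (by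
      rcases hcase with h | h
      · exact Or.inr (Or.inr (by omega))
      · exact Or.inr (Or.inl ⟨hBe, hBp h⟩))
    exact ⟨W, hW, hinv.map_le⟩

end CfsgLib.OrthSingularTwo
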