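import Cfsg.Agent.LinearElements.OrthEvenDim
import Cfsg.Agent.Spinor.Omega

/-!
Even dimension, odd characteristic, elements with scalar square: involutions fix subspaces of every dimension and
isometry type, elements with `x * x = -1` fix only sums of their invariant planes.
-/

set_option autoImplicit false

namespace CfsgLib.OrthSquareScalar

open Module Submodule CfsgLib.LinearElements CfsgLib.QuadType CfsgLib.OrthAtoms CfsgLib.OrthPrimePower CfsgLib.OrthFix
  CfsgLib.OrthEvenDim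

theorem isSquare_mul_iff {F : Type*} [Field F] [Finite F] {a b : F} (ha : a ≠ 0) (hb : b ≠ 0) :
    IsSquare (a * b) ↔ (IsSquare a ↔ IsSquare b) := by
  classical
  haveI := Fintype.ofFinite F
  rw [← quadraticChar_one_iff_isSquare (mul_ne_zero ha hb), ← quadraticChar_one_iff_isSquare ha,
    ← quadraticChar_one_iff_isSquare hb, map_mul]
  rcases quadraticChar_dichotomy ha with h1 | h1 <;> rcases quadraticChar_dichotomy hb with h2 | h2 <;>
    simp [h1, h2]

theorem invBy_of_eigen {F V : Type*} [Field F] [AddCommGroup V] [Module F V] {g : Module.End F V}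
    {A X : Submodule F V} {ε : F} (hA : ∀ v ∈ A, g v = ε • v) (hXA : X ≤ A) :
    InvBy g X := fun v hv => by rw [hA v (hXA hv)]; exact X.smul_mem _ hv

variable {F V : Type*} [Field F] [AddCommGroup V] [Module F V] {Q : QuadraticForm F V}

local notation "𝔅" => QuadraticMap.polarBilin Q

section Involutions

variable [Fintype F] [Finite V] [FiniteDimensional F V]

/-- Two perpendicular eigenspaces, the first of dimension at least three. -/
theorem exists_fixed_even_aux {g : Module.End F V} {A B : Submodule F V} {εA εB : F} (hA : Sep Q A) (hB : Sep Q B)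
    (horth : ∀ x ∈ A, ∀ y ∈ B, 𝔅 x y = 0) (hεA : ∀ v ∈ A, g v = εA • v) (hεB : ∀ v ∈ B, g v = εB • v)
    {d : ℕ} (hd : finrank F A + finrank F B = 2 * d) (ha : 3 ≤ finrank F A) {h : ℕ} (hh : 0 < h) (hhd : h < d)
    (T : Prop) : ∃ W : Submodule F V, (finrank F W = 2 * h ∧ Sep Q W ∧ (Plus Q W ↔ T)) ∧ InvBy g W := by
  set h₁ := max 1 (h - (finrank F B) / 2)
  obtain ⟨Y, P₂, hYB, hY, hYd, hYt⟩ : ∃ Y, ∃ P₂ : Prop, Y ≤ B ∧ Sep Q Y ∧ finrank F Y = 2 * (h - h₁) ∧
      (Plus Q Y ↔ P₂) := by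
    by_cases hlt : 2 * (h - h₁) < finrank F B
    · obtain ⟨Y, hYB, hY, hYd, hYt⟩ := exists_sub_type (h - h₁) hB hlt True fun _ => trivial
      exact ⟨Y, True, hYB, hY, hYd, hYt⟩
    · exact ⟨B, _, le_rfl, hB, by omega, Iff.rfl⟩
  obtain ⟨X, hXA, hX, hXd, hXt⟩ := exists_sub_type h₁ hA (by omega) (T ↔ P₂) (fun e => by omega)
  have ho : ∀ x ∈ X, ∀ y ∈ Y, 𝔅 x y = 0 := fun x hx y hy => horth x (hXA hx) y (hYB hy)
  refine ⟨X ⊔ Y, ⟨?_, sep_sup hX hY ho, ?_⟩, (invBy_of_eigen hεA hXA).sup (invBy_of_eigen hεB hYB)⟩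
  · rw [finrank_orth_sup hX ho, hXd, hYd]; omega
  · rw [plus_sup_iff hX hY ho (hXd ▸ even_two_mul h₁) (hYd ▸ even_two_mul _), hXt, hYt]
    by_cases h1 : P₂ <;> by_cases h2 : T <;> simp [h1, h2]

/-- The same for odd dimensions. -/
theorem exists_fixed_odd_aux {g : Module.End F V} {A B : Submodule F V} {εA εB : F} (hA : Sep Q A) (hB : Sep Q B)
    (horth : ∀ x ∈ A, ∀ y ∈ B, 𝔅 x y = 0) (hεA : ∀ v ∈ A, g v = εA • v) (hεB : ∀ v ∈ B, g v = εB • v)
    {d : ℕ} (hd : finrank F A + finrank F B = 2 * d) (ha : 3 ≤ finrank F A) {m : ℕ} (hm : Odd m) (hmd : m < d)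
    {W₀ : Submodule F V} (hW₀ : Sep Q W₀) (hW₀d : finrank F W₀ = m) :
    ∃ W : Submodule F V, (finrank F W = m ∧ Sep Q W ∧ Iso Q Q W W₀) ∧ InvBy g W := by
  obtain ⟨u, hu⟩ := hm
  set t := (m + 2 - finrank F A) / 2
  obtain ⟨Y, P₂, hYB, hY, hYd, hYt, ht0⟩ : ∃ Y, ∃ P₂ : Prop, Y ≤ B ∧ Sep Q Y ∧ finrank F Y = 2 * t ∧
      (Plus Q Y ↔ P₂) ∧ (t = 0 → P₂) := by
    by_cases hlt : 2 * t < finrank F B
    · obtain ⟨Y, hYB, hY, hYd, hYt⟩ := exists_sub_type t hB hlt True fun _ => trivial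
      exact ⟨Y, True, hYB, hY, hYd, hYt, fun _ => trivial⟩
    · refine ⟨B, _, le_rfl, hB, by omega, Iff.rfl, fun e => ?_⟩
      have : B = ⊥ := Submodule.finrank_eq_zero.mp (by omega)
      rw [this]
      exact plus_bot
  obtain ⟨H, hHW, hH, hHd, hHt⟩ := exists_sub_type t hW₀ (by omega) P₂ ht0
  obtain ⟨E, -, hE, horthE, hsupE, hdE, -⟩ := exists_perp hW₀ hH hHW
  obtain ⟨E', hE'A, hE', hiso⟩ := exists_iso_sub hE hA ⟨u - t, by omega⟩ (by omega)
  have ho : ∀ x ∈ Y, ∀ y ∈ E', 𝔅 x y = 0 := fun x hx y hy =>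
    (polar_swap x y).trans (horth y (hE'A hy) x (hYB hx))
  have hWiso : Iso Q Q (Y ⊔ E') W₀ :=
    hsupE ▸ Iso.sup hY ho hH horthE (iso_of_type t hY hH hYd hHd (hYt.trans hHt.symm)) hiso
  exact ⟨Y ⊔ E', ⟨(iso_finrank hWiso).trans hW₀d, sep_sup hY hE' ho, hWiso⟩,
    (invBy_of_eigen hεB hYB).sup (invBy_of_eigen hεA hE'A)⟩

/-- The two eigenspaces of an involution. -/
theorem exists_eigen (h2 : (2 : F) ≠ 0) (hQ : Sep Q ⊤) {g : Module.End F V} (hg : ∀ v, Q (g v) = Q v)
    (hg2 : g ^ 2 = 1) :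
    ∃ (A B : Submodule F V) (εA εB : F), Sep Q A ∧ Sep Q B ∧ (∀ x ∈ A, ∀ y ∈ B, 𝔅 x y = 0) ∧
      (∀ v ∈ A, g v = εA • v) ∧ (∀ v ∈ B, g v = εB • v) ∧ finrank F A + finrank F B = finrank F V ∧
      finrank F B ≤ finrank F A := by
  obtain ⟨hfs, M, -, hM, hMs, hM0, horth, -, hd⟩ := exists_split_moved hg hg2 two_pos (by exact_mod_cast h2)
    (invBy_top (g := g)) hQ
  rw [finrank_top] at hd
  have hplus : ∀ v ∈ fixedIn g ⊤, g v = (1 : F) • v := fun v hv => by rw [one_smul]; exact (mem_fixedIn.mp hv).2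
  have hminus : ∀ v ∈ M, g v = (-1 : F) • v := fun v hv => by
    have h1 : v + g v ∈ fixedIn g M := mem_fixedIn.mpr ⟨M.add_mem hv (hM v hv), by
      rw [map_add, ← Module.End.mul_apply, ← pow_two, hg2, Module.End.one_apply, add_comm]⟩
    rw [hM0, Submodule.mem_bot] at h1
    rw [neg_one_smul]
    exact eq_neg_of_add_eq_zero_right h1
  rcases le_total (finrank F M) (finrank F (fixedIn g (⊤ : Submodule F V))) with h1 | h1
  · exact ⟨_, _, _, _, hfs, hMs, horth, hplus, hminus, hd.symm, h1⟩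
  · exact ⟨_, _, _, _, hMs, hfs, fun x hx y hy => (polar_swap x y).trans (horth y hy x hx), hminus, hplus,
      by omega, h1⟩

end Involutions

section Quarter

variable [FiniteDimensional F V]

/-- A pair of orthogonal vectors. -/
theorem plane_type {v w : V} (hv : Q v ≠ 0) (hw : Q w ≠ 0) (h2 : (2 : F) ≠ 0) (hvw : 𝔅 v w = 0) :
    Sep Q (span F {v, w}) ∧ finrank F (span F {v, w}) = 2 ∧
      (Plus Q (span F {v, w}) ↔ IsSquare (-(Q v * Q w))) := by
  have h4 : (4 : F) ≠ 0 := by rw [show (4 : F) = 2 * 2 by norm_num]; exact mul_ne_zero h2 h2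
  obtain ⟨hs, hli, hd⟩ := sep_span_pair (Q := Q) (u := v) (v := w) (by
    rw [hvw, mul_zero, zero_sub, neg_ne_zero]; exact mul_ne_zero h4 (mul_ne_zero hv hw))
  refine ⟨hs, hd, ?_⟩
  have hval : ∀ s t : F, Q (s • v + t • w) = s * s * Q v + t * t * Q w := fun s t => by
    rw [QuadType.map_add', smul_quad, smul_quad, map_smul, map_smul, LinearMap.smul_apply, hvw]
    simp
  rw [plus_plane_iff hd]
  constructor
  · rintro ⟨e, he, he0, hQe⟩
    obtain ⟨s, t, rfl⟩ := mem_span_pair.mp he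
    rw [hval] at hQe
    have ht : t ≠ 0 := by
      rintro rfl
      simp only [mul_zero, zero_mul, add_zero, mul_eq_zero, or_self, hv, or_false] at hQe
      exact he0 (by rw [hQe]; simp)
    exact ⟨s * Q v / t, by field_simp; first | linear_combination (-Q v) * hQe | linear_combination -hQe⟩
  · rintro ⟨a, ha⟩
    refine ⟨a • v + Q v • w, mem_span_pair.mpr ⟨_, _, rfl⟩, fun e => hv ?_,
      by rw [hval]; linear_combination (-Q v) * ha⟩
    exact (LinearIndependent.pair_iff.mp hli _ _ e).2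

variable {g : Module.End F V} (h2 : (2 : F) ≠ 0) (hg : ∀ v, Q (g v) = Q v)

include h2 hg

/-- An invariant plane. -/
theorem quarter_step {W : Submodule F V} (hW : InvBy g W) (hWs : Sep Q W) (hsq : ∀ v ∈ W, g (g v) = -v)
    (hne : W ≠ ⊥) :
    ∃ v ∈ W, ∃ R, Q v ≠ 0 ∧ 𝔅 v (g v) = 0 ∧ InvBy g (span F {v, g v}) ∧ R ≤ W ∧ InvBy g R ∧ Sep Q R ∧
      Sep Q (span F {v, g v}) ∧ (∀ x ∈ span F {v, g v}, ∀ y ∈ R, 𝔅 x y = 0) ∧ span F {v, g v} ⊔ R = W ∧
      finrank F W = finrank F R + 2 ∧ (Plus Q (span F {v, g v}) ↔ IsSquare (-1 : F)) := by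
  obtain ⟨v, hv, hv0⟩ : ∃ v ∈ W, Q v ≠ 0 := by
    by_contra hall
    push Not at hall
    obtain ⟨w, hw, hw0⟩ := (Submodule.ne_bot_iff _).mp hne
    obtain ⟨y, hy, hwy⟩ := hWs w hw hw0
    exact hwy (polar_singular hall hw hy)
  have hperp : 𝔅 v (g v) = 0 := by
    have h1 := polar_iso (Q := Q) hg v (g v)
    rw [hsq v hv, map_neg, polar_swap (g v) v] at h1
    have h3 : 2 * 𝔅 v (g v) = 0 := by linear_combination -h1
    exact (mul_eq_zero.mp h3).resolve_left h2
  obtain ⟨hs, hd, hP⟩ := plane_type (Q := Q) hv0 (hg v ▸ hv0) h2 hperp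
  have hinv : InvBy g (span F {v, g v}) := by
    intro x hx
    obtain ⟨s, t, rfl⟩ := mem_span_pair.mp hx
    rw [map_add, map_smul, map_smul, hsq v hv]
    exact add_mem (smul_mem _ _ (subset_span (by simp))) (smul_mem _ _ (neg_mem (subset_span (by simp))))
  have hle : span F {v, g v} ≤ W := span_le.mpr (by simp [Set.insert_subset_iff, hv, hW v hv])
  obtain ⟨R, hRW, hR, horth, hsup, hdR, hmem⟩ := exists_perp hWs hs hle
  refine ⟨v, hv, R, hv0, hperp, hinv, hRW, fun y hy => hmem _ (hW y (hRW hy)) fun x hx => ?_, hR, hs, horth, hsup,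
    by omega, ?_⟩
  · have h1 := horth _ (hinv x hx) y hy
    have h3 := polar_iso (Q := Q) hg (g x) y
    rw [hsq x (hle hx), map_neg, LinearMap.neg_apply, h1, neg_eq_zero] at h3
    exact h3
  · rw [hP, hg]
    constructor
    · rintro ⟨a, ha⟩
      exact ⟨a / Q v, by field_simp; linear_combination ha⟩
    · rintro ⟨a, ha⟩
      exact ⟨a * Q v, by linear_combination (Q v * Q v) * ha⟩

/-- The invariant subspaces and their types. -/
theorem quarter_type [Fintype F] [Finite V] : ∀ (n : ℕ) {W : Submodule F V}, finrank F W = n → InvBy g W → Sep Q W →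
    (∀ v ∈ W, g (g v) = -v) → ∃ h, n = 2 * h ∧ (Plus Q W ↔ (IsSquare (-1 : F) ∨ Even h)) := by
  intro n
  induction n using Nat.strong_induction_on with
  | _ n ih =>
  intro W hn hW hWs hsq
  rcases eq_or_ne W ⊥ with rfl | hne
  · exact ⟨0, by rw [← hn, finrank_bot], iff_of_true plus_bot (Or.inr Even.zero)⟩
  obtain ⟨v, -, R, -, -, -, hRW, hR, hRs, hPs, horth, hsup, hd, hP⟩ := quarter_step h2 hg hW hWs hsq hne
  obtain ⟨h, hh, hRt⟩ := ih _ (by omega) rfl hR hRs fun x hx => hsq x (hRW hx)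
  refine ⟨h + 1, by omega, ?_⟩
  have hPd : finrank F (span F {v, g v}) = 2 := by
    have := finrank_orth_sup hPs horth
    rw [hsup] at this
    omega
  rw [← hsup, plus_sup_iff hPs hRs horth (hPd ▸ even_two) (hh ▸ even_two_mul h), hP, hRt, Nat.even_add_one]
  by_cases h1 : IsSquare (-1 : F) <;> by_cases h3 : Even h <;> simp [h1, h3]

end Quarter

section Matrices

open Matrix CfsgLib.Spinor

variable {ι : Type} [Fintype ι] [DecidableEq ι] {Q : QuadraticForm F (ι → F)}

local notation "𝔅ι" => QuadraticMap.polarBilin Q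

theorem refl_fix {u z : ι → F} (h : 𝔅ι u z = 0) : refl Q u z = z := by
  rw [refl_apply, show QuadraticMap.polar (⇑Q) u z = 0 from h, mul_zero, zero_smul, sub_zero]

/-- The quarter turn in the plane of two orthogonal vectors of equal value. -/
theorem refl_pair (h2 : (2 : F) ≠ 0) {v w : ι → F} (hv : Q v ≠ 0) (hw : Q w = Q v) (hvw : 𝔅ι v w = 0) :
    refl Q (v + w) (refl Q v v) = w ∧ refl Q (v + w) (refl Q v w) = -v ∧ Q (v + w) = 2 * Q v := by
  have hQ : Q (v + w) = 2 * Q v := by rw [QuadType.map_add', hvw, hw]; ring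
  have hvv : QuadraticMap.polar (⇑Q) v v = 2 * Q v := Spinor.polar_self' Q v
  have hww : QuadraticMap.polar (⇑Q) w w = 2 * Q v := by rw [Spinor.polar_self' Q w, hw]
  have hvw' : QuadraticMap.polar (⇑Q) v w = 0 := hvw
  have h2v : 2 * Q v ≠ 0 := mul_ne_zero h2 hv
  refine ⟨?_, ?_, hQ⟩
  · rw [refl_apply Q v v, hvv, show (Q v)⁻¹ * (2 * Q v) = 2 by field_simp, refl_apply, hQ,
      QuadraticMap.polar_sub_right, QuadraticMap.polar_smul_right, QuadraticMap.polar_add_left, hvv,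
      QuadraticMap.polar_comm (⇑Q) w v, hvw', add_zero, smul_eq_mul]
    rw [show (2 * Q v)⁻¹ * (2 * Q v - 2 * (2 * Q v)) = -1 by field_simp; ring]
    module
  · rw [refl_fix hvw, refl_apply, hQ, QuadraticMap.polar_add_left, hvw', hww, zero_add,
      inv_mul_cancel₀ h2v, one_smul]
    abel

/-- An element with square minus one as a product of reflections. -/
theorem quarter_refl (h2 : (2 : F) ≠ 0) {g : Module.End F (ι → F)} (hg : ∀ v, Q (g v) = Q v) :
    ∀ (n : ℕ) {R : Submodule F (ι → F)}, finrank F R = n → InvBy g R → Sep Q R → (∀ v ∈ R, g (g v) = -v) →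
      ∃ vs : List (ι → F), (∀ u ∈ vs, Q u ≠ 0) ∧ Even vs.length ∧
        (∀ x ∈ R, (vs.map (refl Q)).prod x = g x) ∧ (∀ z, (∀ x ∈ R, 𝔅ι x z = 0) → (vs.map (refl Q)).prod z = z) ∧
        ∃ a : F, a ≠ 0 ∧ (vs.map fun u => Q u).prod = 2 ^ (n / 2) * (a * a) := by
  intro n
  induction n using Nat.strong_induction_on with
  | _ n ih =>
  intro R hn hR hRs hsq
  rcases eq_or_ne R ⊥ with rfl | hne
  · refine ⟨[], by simp, ⟨0, rfl⟩, fun x hx => ?_, fun z _ => rfl, 1, one_ne_zero, ?_⟩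
    · simp [(Submodule.mem_bot F).mp hx]
    · rw [← hn, finrank_bot]; simp
  obtain ⟨v, hv, R', hv0, hperp, hPinv, hR'R, hR', hR's, -, horth, hsup, hd, -⟩ := quarter_step h2 hg hR hRs hsq hne
  obtain ⟨vs, hvs, hev, hvsR, hvsZ, a, ha, hprod⟩ := ih _ (by omega) rfl hR' hR's fun x hx => hsq x (hR'R hx)
  obtain ⟨h1, h1', hQu⟩ := refl_pair h2 hv0 (hg v) hperp
  have huP : v + g v ∈ span F {v, g v} := add_mem (subset_span (by simp)) (subset_span (by simp))
  have hvP : v ∈ span F {v, g v} := subset_span (by simp)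
  have hcomp : ∀ z, (((v + g v) :: v :: vs).map (refl Q)).prod z =
      refl Q (v + g v) (refl Q v ((vs.map (refl Q)).prod z)) := fun z => by
    simp only [List.map_cons, List.prod_cons, Module.End.mul_apply]
  refine ⟨(v + g v) :: v :: vs, ?_, by simpa [Nat.even_add_one] using hev, fun x hx => ?_, fun z hz => ?_,
    a * Q v, mul_ne_zero ha hv0, ?_⟩
  · simpa [hQu, h2, hv0] using hvs
  · rw [← hsup] at hx
    obtain ⟨x₁, hx₁, x₂, hx₂, rfl⟩ := Submodule.mem_sup.mp hx
    obtain ⟨s, t, rfl⟩ := mem_span_pair.mp hx₁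
    rw [hcomp, map_add, hvsZ _ fun y hy => (polar_swap y _).trans (horth _ hx₁ y hy), hvsR x₂ hx₂, map_add, map_add,
      refl_fix (horth _ hvP _ (hR' x₂ hx₂)), refl_fix (horth _ huP _ (hR' x₂ hx₂))]
    simp only [map_add, map_smul, h1, h1', hsq v hv]
  · have hle : span F {v, g v} ≤ R := hsup ▸ le_sup_left
    rw [hcomp, hvsZ z fun y hy => hz y (hR'R hy), refl_fix (hz v hv), refl_fix (hz _ (hle huP))]
  · rw [List.map_cons, List.map_cons, List.prod_cons, List.prod_cons, hprod, hQu,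
      show n / 2 = finrank F R' / 2 + 1 by omega, pow_succ]
    ring

/-- Membership in `Ω` of an element with square minus one. -/
theorem mem_omega_quarter [Fintype F] (h2 : (2 : F) ≠ 0) (hQ : (QuadraticMap.polarBilin Q).Nondegenerate)
    {d : ℕ} (hn : Fintype.card ι = 2 * d) {x : GL ι F} (hx : ∀ v, Q ((x : Matrix ι ι F) *ᵥ v) = Q v)
    (hsq : ∀ v, (x : Matrix ι ι F) *ᵥ ((x : Matrix ι ι F) *ᵥ v) = -v) :
    x ∈ Cfsg.Geo.omegaGL ⇑Q ↔ (Even d ∨ IsSquare (2 : F)) := by
  obtain ⟨vs, hvs, hev, hvsR, -, a, ha, hprod⟩ := quarter_refl h2 (g := Matrix.toLin' (x : Matrix ι ι F))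
    (fun v => by rw [Matrix.toLin'_apply]; exact hx v) _ rfl invBy_top (sep_top hQ)
    (fun v _ => by rw [Matrix.toLin'_apply, Matrix.toLin'_apply]; exact hsq v)
  rw [finrank_top, Module.finrank_fintype_fun_eq_card, hn, Nat.mul_div_cancel_left _ two_pos] at hprod
  let g : ↥(Cfsg.isometryGroup F ⇑Q) := ⟨x, fun u _ => hx u⟩
  have hrp : IsReflProd Q g vs := ⟨hvs, Matrix.toLin'.injective (LinearMap.ext fun v => by
    rw [Spinor.toLin'_prod, hvsR v trivial])⟩
  have hmem : x ∈ Cfsg.Geo.omegaGL ⇑Q ↔ g ∈ Cfsg.Omega F ⇑Q := by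
    refine ⟨fun ⟨g', hg', e⟩ => ?_, fun h => ⟨g, h, rfl⟩⟩
    rwa [show g = g' from Subtype.ext e.symm]
  rw [hmem, Spinor.mem_omega_iff h2 hQ hrp, and_iff_right hev, hprod,
    isSquare_mul_iff (pow_ne_zero _ h2) (mul_ne_zero ha ha)]
  simp only [show IsSquare (a * a) from ⟨a, rfl⟩, iff_true]
  rcases Nat.even_or_odd d with ⟨t, ht⟩ | ⟨t, ht⟩
  · exact iff_of_true ⟨2 ^ t, by rw [ht, pow_add]⟩ (Or.inl ⟨t, ht⟩)
  · have hsq : IsSquare ((2 : F) ^ (2 * t)) := ⟨2 ^ t, by rw [two_mul, pow_add]⟩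
    rw [or_iff_right (Nat.not_even_iff_odd.mpr ⟨t, ht⟩), ht, pow_succ, isSquare_mul_iff (pow_ne_zero _ h2) h2]
    simp only [hsq, true_iff]

/-- An element with square minus one on a subspace of the right type. -/
theorem exists_quarter [Fintype F] (h2 : (2 : F) ≠ 0) : ∀ (h : ℕ) {R : Submodule F (ι → F)}, Sep Q R →
    finrank F R = 2 * h → (Plus Q R ↔ (IsSquare (-1 : F) ∨ Even h)) →
    ∃ g : Module.End F (ι → F), (∀ v, Q (g v) = Q v) ∧ InvBy g R ∧ (∀ v ∈ R, g (g v) = -v) ∧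
      ∀ z, (∀ x ∈ R, 𝔅ι x z = 0) → g z = z := by
  intro h
  induction h with
  | zero =>
    intro R _ hd _
    obtain rfl : R = ⊥ := Submodule.finrank_eq_zero.mp (by omega)
    exact ⟨1, fun _ => rfl, invBy_bot, fun v hv => by simp [(Submodule.mem_bot F).mp hv], fun _ _ => rfl⟩
  | succ h ih =>
    intro R hR hd ht
    obtain ⟨v, hvR, hv⟩ := exists_value hR (by omega) 1
    have hv0 : v ≠ 0 := fun e => by rw [e, map_zero] at hv; exact zero_ne_one hv
    have hLs : Sep Q (span F {v}) := by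
      intro y hy hy0
      obtain ⟨s, rfl⟩ := mem_span_singleton.mp hy
      refine ⟨v, mem_span_singleton_self v, ?_⟩
      rw [map_smul, LinearMap.smul_apply, polar_diag, hv, smul_eq_mul, mul_one]
      exact mul_ne_zero (fun e => hy0 (by rw [e, zero_smul])) h2
    obtain ⟨Rv, hRvR, hRv, horthv, -, hdv, -⟩ := exists_perp hR hLs ((span_singleton_le_iff_mem _ _).mpr hvR)
    rw [finrank_span_singleton hv0] at hdv
    obtain ⟨w, hwR, hw⟩ : ∃ w ∈ Rv, Q w = 1 := by
      rcases Nat.eq_zero_or_pos h with rfl | hh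
      swap
      · exact exists_value hRv (by omega) 1
      obtain ⟨w, hw, hw0⟩ := (Submodule.ne_bot_iff Rv).mp fun e => by rw [e, finrank_bot] at hdv; omega
      have hRw : span F {w} = Rv := Submodule.eq_of_le_of_finrank_eq ((span_singleton_le_iff_mem _ _).mpr hw)
        (by rw [finrank_span_singleton hw0]; omega)
      have hQw : Q w ≠ 0 := fun e => by
        obtain ⟨z, hz, hwz⟩ := hRv w hw hw0
        rw [← hRw, mem_span_singleton] at hz
        obtain ⟨s, rfl⟩ := hz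
        exact hwz (by rw [map_smul, polar_diag, e]; simp)
      obtain ⟨-, hd2, hP⟩ := plane_type (Q := Q) (by rw [hv]; exact one_ne_zero) hQw h2
        (horthv v (mem_span_singleton_self v) w hw)
      have hPR : span F {v, w} = R := Submodule.eq_of_le_of_finrank_eq
        (span_le.mpr (by simp [Set.insert_subset_iff, hvR, hRvR hw])) (by omega)
      rw [hPR, ht, or_iff_left (by decide), hv, one_mul, ← neg_one_mul (Q w),
        isSquare_mul_iff (neg_ne_zero.mpr one_ne_zero) hQw] at hP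
      have hsq : IsSquare (Q w) := by
        by_cases h1 : IsSquare (-1 : F)
        · exact (hP.mp h1).mp h1
        · by_contra h3
          exact h1 (hP.mpr (iff_of_false h1 h3))
      obtain ⟨b, hb⟩ := hsq
      have hb0 : b ≠ 0 := fun e => hQw (by rw [hb, e, mul_zero])
      exact ⟨b⁻¹ • w, smul_mem _ _ hw, by rw [smul_quad, hb]; field_simp⟩
    have hvw : 𝔅ι v w = 0 := horthv v (mem_span_singleton_self v) w hwR
    obtain ⟨hPs, hPd, hPt⟩ := plane_type (Q := Q) (by rw [hv]; exact one_ne_zero) (by rw [hw]; exact one_ne_zero)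
      h2 hvw
    rw [hv, hw, one_mul] at hPt
    have hPR : span F {v, w} ≤ R := span_le.mpr (by simp [Set.insert_subset_iff, hvR, hRvR hwR])
    obtain ⟨R', hR'R, hR', horth, hsup, hd', -⟩ := exists_perp hR hPs hPR
    rw [← hsup, plus_sup_iff hPs hR' horth (hPd ▸ even_two) ⟨h, by omega⟩, hPt, Nat.even_add_one] at ht
    obtain ⟨g₂, hg₂, hg₂R, hg₂sq, hg₂Z⟩ := ih hR' (by omega) (by
      by_cases h1 : IsSquare (-1 : F) <;> by_cases h3 : Even h <;> simp_all)
    obtain ⟨h1, h1', hQu⟩ := refl_pair (Q := Q) h2 (by rw [hv]; exact one_ne_zero) (hw.trans hv.symm) hvw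
    have huP : v + w ∈ span F {v, w} := add_mem (subset_span (by simp)) (subset_span (by simp))
    have hvP : v ∈ span F {v, w} := subset_span (by simp)
    set g₁ : Module.End F (ι → F) := refl Q (v + w) * refl Q v
    have h1P : ∀ s t : F, g₁ (s • v + t • w) = s • w + t • (-v) := fun s t => by
      simp only [g₁, Module.End.mul_apply, map_add, map_smul, h1, h1']
    have hfix₁ : ∀ z, (∀ x ∈ span F {v, w}, 𝔅ι x z = 0) → g₁ z = z := fun z hz => by
      simp only [g₁, Module.End.mul_apply, refl_fix (hz v hvP), refl_fix (hz _ huP)]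
    have hcomb : ∀ x ∈ span F {v, w}, ∀ y ∈ R', (g₁ * g₂) (x + y) = g₁ x + g₂ y := fun x hx y hy => by
      rw [Module.End.mul_apply, map_add, hg₂Z x fun u hu => (polar_swap u x).trans (horth x hx u hu), map_add,
        hfix₁ _ fun u hu => horth u hu _ (hg₂R y hy)]
    have hPinv : ∀ x ∈ span F {v, w}, g₁ x ∈ span F {v, w} := fun x hx => by
      obtain ⟨s, t, rfl⟩ := mem_span_pair.mp hx
      rw [h1P]
      exact add_mem (smul_mem _ _ (subset_span (by simp))) (smul_mem _ _ (neg_mem hvP))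
    refine ⟨g₁ * g₂, fun u => ?_, fun u hu => ?_, fun u hu => ?_, fun z hz => ?_⟩
    · simp only [g₁, Module.End.mul_apply]
      rw [Spinor.quad_refl Q (by rw [hQu, hv, mul_one]; exact h2), Spinor.quad_refl Q (by rw [hv]; exact one_ne_zero), hg₂]
    · rw [← hsup] at hu ⊢
      obtain ⟨x, hx, y, hy, rfl⟩ := Submodule.mem_sup.mp hu
      rw [hcomb x hx y hy]
      exact Submodule.add_mem_sup (hPinv x hx) (hg₂R y hy)
    · rw [← hsup] at hu
      obtain ⟨x, hx, y, hy, rfl⟩ := Submodule.mem_sup.mp hu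
      rw [hcomb x hx y hy, hcomb _ (hPinv x hx) _ (hg₂R y hy), hg₂sq y hy]
      obtain ⟨s, t, rfl⟩ := mem_span_pair.mp hx
      rw [h1P, show s • w + t • (-v) = (-t) • v + s • w by module, h1P]
      module
    · rw [Module.End.mul_apply, hg₂Z z fun x hx => hz x (hR'R hx), hfix₁ z fun x hx => hz x (hPR hx)]

/-- The elements with square minus one that lie in `Ω` exist exactly under these conditions. -/
theorem exists_quarter_omega [Fintype F] (h2 : (2 : F) ≠ 0) (hQ : (QuadraticMap.polarBilin Q).Nondegenerate)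
    {d : ℕ} (hn : Fintype.card ι = 2 * d) :
    (∃ x : GL ι F, x ∈ Cfsg.Geo.omegaGL ⇑Q ∧ ∀ v, (x : Matrix ι ι F) *ᵥ ((x : Matrix ι ι F) *ᵥ v) = -v) ↔
      ((Plus Q ⊤ ↔ (IsSquare (-1 : F) ∨ Even d)) ∧ (Even d ∨ IsSquare (2 : F))) := by
  have hd : finrank F (⊤ : Submodule F (ι → F)) = 2 * d := by
    rw [finrank_top, Module.finrank_fintype_fun_eq_card, hn]
  constructor
  · rintro ⟨x, hx, hsq⟩
    refine ⟨?_, (mem_omega_quarter h2 hQ hn (quad_of_mem_omega hx) hsq).mp hx⟩
    obtain ⟨h, hh, ht⟩ := quarter_type h2 (g := Matrix.toLin' (x : Matrix ι ι F))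
      (fun v => by rw [Matrix.toLin'_apply]; exact quad_of_mem_omega hx v) _ rfl invBy_top (sep_top hQ)
      (fun v _ => by rw [Matrix.toLin'_apply, Matrix.toLin'_apply]; exact hsq v)
    rw [show d = h by omega]
    exact ht
  · rintro ⟨htype, hsp⟩
    obtain ⟨g, hg, -, hsq, -⟩ := exists_quarter h2 d (sep_top hQ) hd htype
    have hgg : g * g = -1 := LinearMap.ext fun v => by
      rw [Module.End.mul_apply, hsq v trivial, LinearMap.neg_apply, Module.End.one_apply]
    let X := LinearMap.toMatrixAlgEquiv' g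
    have hXX : X * X = -1 := by rw [← map_mul, hgg, map_neg, map_one]
    let x : GL ι F := ⟨X, -X, by rw [mul_neg, hXX, neg_neg], by rw [neg_mul, hXX, neg_neg]⟩
    have hxv : ∀ v, (x : Matrix ι ι F) *ᵥ v = g v := fun v => LinearMap.toMatrix'_mulVec g v
    exact ⟨x, (mem_omega_quarter h2 hQ hn (fun v => by rw [hxv, hg]) (fun v => by rw [hxv, hxv, hsq v trivial])).mpr hsp,
      fun v => by rw [hxv, hxv, hsq v trivial]⟩

/-- The fixing statement for elements with scalar square, in terms of a property `G` of the involutions' and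
`C` of the other elements. -/
theorem psl_two_iff [Fintype F] (h2 : (2 : F) ≠ 0) (hQ : (QuadraticMap.polarBilin Q).Nondegenerate)
    {d : ℕ} (hn : Fintype.card ι = 2 * d) (hd : 0 < d) (Pr : Submodule F (ι → F) → Prop) (C : Prop)
    (hone : ∀ g : Module.End F (ι → F), (∀ v, Q (g v) = Q v) → g ^ 2 = 1 → ∃ W, Pr W ∧ InvBy g W)
    (hminus : ∀ g : Module.End F (ι → F), (∀ v, Q (g v) = Q v) → (∀ v, g (g v) = -v) →
      ((∃ W, Pr W ∧ InvBy g W) ↔ C)) :
    (∀ x : GL ι F, x ∈ Cfsg.Geo.omegaGL ⇑Q →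
      (∃ z : F, ((x ^ 2 : GL ι F) : Matrix ι ι F) = z • (1 : Matrix ι ι F)) →
      (∀ z : F, (x : Matrix ι ι F) ≠ z • (1 : Matrix ι ι F)) →
      ∃ W, Pr W ∧ W.map (Matrix.toLin' (x : Matrix ι ι F)) ≤ W) ↔
    (((Plus Q ⊤ ↔ (IsSquare (-1 : F) ∨ Even d)) ∧ (Even d ∨ IsSquare (2 : F))) → C) := by
  obtain ⟨u, -, hu⟩ := exists_value (sep_top hQ) (by
    rw [finrank_top, Module.finrank_fintype_fun_eq_card, hn]; omega) 1
  rw [← exists_quarter_omega h2 hQ hn]
  constructor
  · rintro hall ⟨x, hx, hsq⟩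
    refine (hminus _ (fun v => by rw [Matrix.toLin'_apply]; exact quad_of_mem_omega hx v)
      (fun v => by rw [Matrix.toLin'_apply, Matrix.toLin'_apply]; exact hsq v)).mp ?_
    have hx2 : ((x ^ 2 : GL ι F) : Matrix ι ι F) = (-1 : F) • 1 := by
      refine Matrix.toLin'.injective (LinearMap.ext fun v => ?_)
      rw [Matrix.toLin'_apply, Matrix.toLin'_apply, Units.val_pow_eq_pow_val, pow_two, ← Matrix.mulVec_mulVec, hsq,
        Matrix.smul_mulVec, Matrix.one_mulVec, neg_one_smul]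
    have hns : ∀ z : F, (x : Matrix ι ι F) ≠ z • (1 : Matrix ι ι F) := by
      intro z hz
      have h1 := hsq u
      rw [hz] at h1
      simp only [Matrix.smul_mulVec, Matrix.one_mulVec, smul_smul] at h1
      have hzz : z * z = -1 := by
        have h3 : (z * z + 1) • u = 0 := by rw [add_smul, h1, one_smul, neg_add_cancel]
        exact eq_neg_of_add_eq_zero_left ((smul_eq_zero.mp h3).resolve_right fun e => by
          rw [e, map_zero] at hu; exact zero_ne_one hu)
      have h3 := quad_of_mem_omega hx u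
      rw [hz, Matrix.smul_mulVec, Matrix.one_mulVec, smul_quad, hzz, hu] at h3
      exact h2 (by linear_combination -h3)
    obtain ⟨W, hW, hinv⟩ := hall x hx ⟨-1, hx2⟩ hns
    exact ⟨W, hW, fun v hv => hinv ⟨v, hv, rfl⟩⟩
  · intro hC x hx ⟨z, hz⟩ _
    have hgQ : ∀ v, Q (Matrix.toLin' (x : Matrix ι ι F) v) = Q v := fun v => by
      rw [Matrix.toLin'_apply]; exact quad_of_mem_omega hx v
    have hxx : ∀ v, (x : Matrix ι ι F) *ᵥ ((x : Matrix ι ι F) *ᵥ v) = z • v := fun v => by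
      rw [Matrix.mulVec_mulVec, ← pow_two, ← Units.val_pow_eq_pow_val, hz, Matrix.smul_mulVec, Matrix.one_mulVec]
    have hzz : z * z = 1 := by
      have h1 : Q (z • u) = Q u := by rw [← hxx, quad_of_mem_omega hx, quad_of_mem_omega hx]
      rwa [smul_quad, hu, mul_one] at h1
    rcases mul_self_eq_one_iff.mp hzz with rfl | rfl
    · obtain ⟨W, hW, hinv⟩ := hone _ hgQ (LinearMap.ext fun v => by
        rw [pow_two, Module.End.mul_apply, Matrix.toLin'_apply, Matrix.toLin'_apply, hxx, one_smul,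
          Module.End.one_apply])
      exact ⟨W, hW, hinv.map_le⟩
    · obtain ⟨W, hW, hinv⟩ := (hminus _ hgQ fun v => by
        rw [Matrix.toLin'_apply, Matrix.toLin'_apply, hxx, neg_one_smul]).mpr
        (hC ⟨x, hx, fun v => by rw [hxx, neg_one_smul]⟩)
      exact ⟨W, hW, hinv.map_le⟩

end Matrices

end CfsgLib.OrthSquareScalar
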