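import Cfsg.Prelude.Def_GeometricClasses
import Cfsg.Agent.FormDiscr.Basic
import Cfsg.Agent.Forms4.OrthogonalOrders
import Cfsg.Agent.RootClasses.Embed
import Cfsg.Agent.Linear.Basic
import Cfsg.Agent.Forms.Diagonal

/-! Types of non-degenerate quadratic forms on `F^n` for odd `q`, the numbers of their singular vectors, and the
primes dividing the index of their similarity groups in `SL`. -/

set_option autoImplicit false

namespace CfsgLib.OrthType

open Matrix CfsgLib.StdForms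

variable {F : Type*} [Field F] {n : ℕ}

/-- Similar forms have isometry groups of one order and as many singular vectors. -/
theorem data_of_similar [Finite F] {κ : Type} [Fintype κ] [DecidableEq κ] (Q : (Fin n → F) → F) (S : (κ → F) → F)
    (e : (Fin n → F) ≃ₗ[F] (κ → F)) {c : F} (hc : c ≠ 0) (h : ∀ v, c * S (e v) = Q v) :
    Nat.card (Cfsg.isometryGroup F Q) = Nat.card (Cfsg.isometryGroup F S) ∧
      Nat.card {v // Q v = 0} = Nat.card {v // S v = 0} := by
  constructor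
  · have hiso : Cfsg.isometryGroup F (fun v => c * S v) = Cfsg.isometryGroup F S := by
      ext g
      simp only [CfsgLib.FieldEmb.mem_isometryGroup]
      exact forall_congr' fun v => mul_right_inj' hc
    obtain ⟨φ, hφ⟩ := CfsgLib.FieldEmb.exists_hom_of_equiv Q (fun v => c * S v) e h
    obtain ⟨χ, hχ⟩ := CfsgLib.FieldEmb.exists_hom_of_equiv (fun v => c * S v) Q e.symm
      (fun v => by rw [← h, e.apply_symm_apply])
    rw [← hiso]
    exact le_antisymm (Nat.card_le_card_of_injective φ hφ) (Nat.card_le_card_of_injective χ hχ)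
  · refine Nat.card_congr (e.toEquiv.subtypeEquiv fun v => ?_)
    rw [← h, mul_eq_zero, or_iff_right hc]
    rfl

/-- The scaled transport of a form to `F^n`. -/
theorem exists_transported {κ : Type} [Fintype κ] [DecidableEq κ] (hκ : Fintype.card κ = n)
    (S : QuadraticForm F (κ → F)) (hS : S.polarBilin.Nondegenerate) :
    ∃ (S' : QuadraticForm F (Fin n → F)) (e : (Fin n → F) ≃ₗ[F] (κ → F)),
      (∀ v, S' v = S (e v)) ∧ ∀ c : F, c ≠ 0 → (c • S').polarBilin.Nondegenerate := by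
  let e : (Fin n → F) ≃ₗ[F] (κ → F) := LinearEquiv.funCongrLeft F F (Fintype.equivFinOfCardEq hκ)
  refine ⟨S.comp (e : (Fin n → F) →ₗ[F] (κ → F)), e, fun v => rfl, fun c hc => ?_⟩
  refine CfsgLib.StdForms.nondegenerate_of_sep _ fun u hu => e.map_eq_zero_iff.mp (hS.1 _ fun w => ?_)
  have := hu (e.symm w)
  simp only [QuadraticMap.polar, _root_.smul_apply, QuadraticMap.comp_apply, LinearEquiv.coe_coe,
    map_add, e.apply_symm_apply, smul_eq_mul, ← mul_sub, mul_eq_zero, hc, false_or] at this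
  exact this

/-- The gram determinant of a multiple. -/
theorem gram_det_smul (S : QuadraticForm F (Fin n → F)) (c : F) :
    (FormDiscr.gram (c • S)).det = c ^ n * (FormDiscr.gram S).det := by
  rw [show FormDiscr.gram (c • S) = c • FormDiscr.gram S from Matrix.ext fun i j => by
    simp [FormDiscr.gram, QuadraticMap.polar, mul_sub], Matrix.det_smul, Fintype.card_fin]

/-- The three types. -/
theorem classify [Fintype F] {q : ℕ} (hF : Fintype.card F = q) (hodd : Odd q) (hn : 0 < n)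
    (Q : QuadraticForm F (Fin n → F)) (hQ : Q.polarBilin.Nondegenerate) :
    (∃ m, n = 2 * m + 1 ∧ Nat.card (Cfsg.isometryGroup F ⇑Q) =
        2 * q ^ (m ^ 2) * ∏ i ∈ Finset.range m, (q ^ (2 * (i + 1)) - 1)) ∨
      ∃ m, 1 ≤ m ∧ n = 2 * m ∧
        ((Nat.card (Cfsg.isometryGroup F ⇑Q) =
            2 * q ^ (m * (m - 1)) * (q ^ m - 1) * ∏ i ∈ Finset.range (m - 1), (q ^ (2 * (i + 1)) - 1) ∧
          Nat.card {v // Q v = 0} = q ^ (2 * m - 1) + q ^ m - q ^ (m - 1)) ∨
        (Nat.card (Cfsg.isometryGroup F ⇑Q) =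
            2 * q ^ (m * (m - 1)) * (q ^ m + 1) * ∏ i ∈ Finset.range (m - 1), (q ^ (2 * (i + 1)) - 1) ∧
          Nat.card {v // Q v = 0} = q ^ (2 * m - 1) + q ^ (m - 1) - q ^ m)) := by
  classical
  have h2 : (2 : F) ≠ 0 := Ring.two_ne_zero fun hc => (Nat.not_even_iff_odd.2 hodd) (Nat.even_iff.2 (hF ▸ FiniteField.even_card_of_char_two hc))
  set G := (FormDiscr.gram Q).det with hG
  have hG0 : G ≠ 0 := FormDiscr.gram_det_ne_zero Q hQ
  rcases Nat.even_or_odd' n with ⟨m, rfl | rfl⟩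
  · refine Or.inr ⟨m, by omega, rfl, ?_⟩
    obtain ⟨a, b, hab⟩ := CfsgLib.RootClasses.exists_anisoBin (F := F)
    obtain ⟨P, eP, hP, hPn⟩ := exists_transported (n := 2 * m) (by simp [two_mul]) (plusQ m F) (plusQ_nondegenerate m)
    obtain ⟨M, eM, hM, hMn⟩ := exists_transported (n := 2 * m)
      (show Fintype.card ((Fin (m - 1) ⊕ Fin (m - 1)) ⊕ Fin 2) = 2 * m by simp; omega) (minusQ (m - 1) F a b)
      (minusQ_nondegenerate (m - 1) hab.disc_ne_zero)
    have hPn' : P.polarBilin.Nondegenerate := by simpa using hPn 1 one_ne_zero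
    have hMn' : M.polarBilin.Nondegenerate := by simpa using hMn 1 one_ne_zero
    have hcP : Nat.card {v // P v = 0} = q ^ (2 * m - 1) + q ^ m - q ^ (m - 1) := by
      rw [(data_of_similar ⇑P ⇑(plusQ m F) eP one_ne_zero (fun v => by rw [one_mul, hP])).2, coe_plusQ,
        CfsgLib.Forms4.card_zero_quadFormPlus hF m (by omega)]
    have hcM : Nat.card {v // M v = 0} = q ^ (2 * m - 1) + q ^ (m - 1) - q ^ m := by
      rw [(data_of_similar ⇑M ⇑(minusQ (m - 1) F a b) eM one_ne_zero (fun v => by rw [one_mul, hM])).2,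
        coe_minusQ, CfsgLib.Forms4.card_zero_quadFormMinus hF m (by omega) a b hab]
    have hne : ¬ IsSquare ((FormDiscr.gram P).det * (FormDiscr.gram M).det) := by
      intro hsq
      obtain ⟨g, hg⟩ := (FormDiscr.equivalent_iff h2 P M hPn' hMn').mpr hsq
      have hc : Nat.card {v // P v = 0} = Nat.card {v // M v = 0} :=
        Nat.card_congr (g.toEquiv.subtypeEquiv fun v => by show _ ↔ M (g v) = 0; rw [hg])
      rw [hcP, hcM] at hc
      have hq : 1 < q := hF ▸ Fintype.one_lt_card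
      have h1 : q ^ (m - 1) < q ^ m := Nat.pow_lt_pow_right hq (by omega)
      have h3 : q ^ m ≤ q ^ (2 * m - 1) := Nat.pow_le_pow_right (by omega) (by omega)
      omega
    have hP0 := FormDiscr.gram_det_ne_zero P hPn'
    by_cases hsq : IsSquare (G * (FormDiscr.gram P).det)
    · obtain ⟨g, hg⟩ := (FormDiscr.equivalent_iff h2 Q P hQ hPn').mpr hsq
      obtain ⟨d1, d2⟩ := data_of_similar ⇑Q ⇑(plusQ m F) (g.trans eP) one_ne_zero
        (fun v => by rw [one_mul, ← hg, hP]; rfl)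
      rw [coe_plusQ, CfsgLib.Forms4.card_isometryGroup_quadFormPlus hF m (by omega)] at d1
      rw [coe_plusQ, CfsgLib.Forms4.card_zero_quadFormPlus hF m (by omega)] at d2
      exact Or.inl ⟨d1, d2⟩
    · have hsqM : IsSquare (G * (FormDiscr.gram M).det) := by
        obtain ⟨s, hs⟩ := CfsgLib.Forms.isSquare_mul_of_not_isSquare hsq hne
        exact ⟨s / (FormDiscr.gram P).det, by field_simp; linear_combination hs⟩
      obtain ⟨g, hg⟩ := (FormDiscr.equivalent_iff h2 Q M hQ hMn').mpr hsqM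
      obtain ⟨d1, d2⟩ := data_of_similar ⇑Q ⇑(minusQ (m - 1) F a b) (g.trans eM) one_ne_zero
        (fun v => by rw [one_mul, ← hg, hM]; rfl)
      rw [coe_minusQ, CfsgLib.Forms4.card_isometryGroup_quadFormMinus hF m (by omega) a b hab] at d1
      rw [coe_minusQ, CfsgLib.Forms4.card_zero_quadFormMinus hF m (by omega) a b hab] at d2
      exact Or.inr ⟨d1, d2⟩
  · refine Or.inl ⟨m, rfl, ?_⟩
    obtain ⟨S, eS, hS, hSn⟩ := exists_transported (n := 2 * m + 1) (by simp; omega) (oddQ m F)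
      (oddQ_nondegenerate h2 m)
    have hS0 : (FormDiscr.gram S).det ≠ 0 :=
      FormDiscr.gram_det_ne_zero S (by simpa using hSn 1 one_ne_zero)
    set c := G * (FormDiscr.gram S).det with hcdef
    have hc : c ≠ 0 := mul_ne_zero hG0 hS0
    obtain ⟨g, hg⟩ := (FormDiscr.equivalent_iff h2 Q (c • S) hQ (hSn c hc)).mpr (by
      rw [gram_det_smul, show G * (c ^ (2 * m + 1) * (FormDiscr.gram S).det) = c ^ (2 * m + 2) by
        rw [pow_succ _ (2 * m + 1), hcdef]; ring]
      exact ⟨c ^ (m + 1), by ring⟩)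
    obtain ⟨d1, -⟩ := data_of_similar ⇑Q ⇑(oddQ m F) (g.trans eS) hc
      (fun v => by rw [← hg, _root_.smul_apply, smul_eq_mul, hS]; rfl)
    rw [coe_oddQ, CfsgLib.Forms4.card_isometryGroup_quadFormOdd hF hodd m] at d1
    exact d1

/-- Twice the isometry group order times the index divides twice the order of `SL`. -/
theorem index_mul_card_dvd [Fintype F] {q : ℕ} (hF : Fintype.card F = q) (hn : 0 < n)
    (Q : QuadraticForm F (Fin n → F)) (hQ : Q.polarBilin.Nondegenerate) :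
    (Cfsg.Geo.quadSimilarityGroup ⇑Q).relIndex (Cfsg.Geo.specialLinear (Fin n) F) *
        Nat.card (Cfsg.isometryGroup F ⇑Q) * (q - 1) ∣
      2 * (q ^ (n * (n - 1) / 2) * ∏ i ∈ Finset.range n, (q ^ (i + 1) - 1)) := by
  classical
  haveI : Nonempty (Fin n) := ⟨⟨0, hn⟩⟩
  have hG0 : (FormDiscr.gram Q).det ≠ 0 := FormDiscr.gram_det_ne_zero Q hQ
  let φ := (Matrix.GeneralLinearGroup.det : GL (Fin n) F →* Fˣ).comp (Cfsg.isometryGroup F ⇑Q).subtype
  let K := (Cfsg.Geo.quadSimilarityGroup ⇑Q).subgroupOf (Cfsg.Geo.specialLinear (Fin n) F)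
  have hdet : ∀ g, φ g ^ 2 = 1 := fun g => Units.ext (by
    have hg := CfsgLib.FieldEmb.mem_isometryGroup.mp g.2
    have := FormDiscr.gram_det_comp Q Q (Matrix.toLin' (g.1 : Matrix (Fin n) (Fin n) F)) 1
      (fun v => by rw [one_mul]; exact hg v)
    rw [one_pow, one_mul, LinearMap.det_toLin'] at this
    show ((φ g : Fˣ) : F) ^ 2 = 1
    exact mul_right_cancel₀ hG0 (this.trans (one_mul _).symm))
  have hrange : Nat.card φ.range ∣ 2 := by
    have h1 : φ.range ≤ rootsOfUnity 2 F := by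
      rintro _ ⟨g, rfl⟩
      exact (mem_rootsOfUnity 2 _).mpr (hdet g)
    refine (Subgroup.card_dvd_of_le h1).trans ?_
    have h3 : Nat.card (rootsOfUnity 2 F) ≤ 2 := by
      exact card_rootsOfUnity F 2
    have h4 : 0 < Nat.card (rootsOfUnity 2 F) := Nat.card_pos
    interval_cases (Nat.card (rootsOfUnity 2 F)) <;> norm_num
  have hker : Nat.card φ.ker ∣ Nat.card K := by
    let ψ : φ.ker →* K :=
      { toFun := fun g => ⟨⟨g.1.1, g.2⟩, Subgroup.mem_subgroupOf.mpr
          ⟨1, fun v => by rw [Units.val_one, one_mul]; exact CfsgLib.FieldEmb.mem_isometryGroup.mp g.1.2 v⟩⟩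
        map_one' := rfl
        map_mul' := fun _ _ => rfl }
    exact Subgroup.card_dvd_of_injective ψ fun g h e => Subtype.ext (Subtype.ext (congrArg (fun z => z.1.1) e))
  have hiso : Nat.card (Cfsg.isometryGroup F ⇑Q) ∣ Nat.card K * 2 := by
    rw [← Subgroup.index_mul_card φ.ker, Subgroup.index_ker, mul_comm]
    exact mul_dvd_mul hker hrange
  have hSL : (Cfsg.Geo.quadSimilarityGroup ⇑Q).relIndex (Cfsg.Geo.specialLinear (Fin n) F) * Nat.card K * (q - 1) =
      q ^ (n * (n - 1) / 2) * ∏ i ∈ Finset.range n, (q ^ (i + 1) - 1) := by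
    have e := CfsgLib.Linear.card_SL_mul (n := Fin n) (F := F)
    rw [Matrix.card_GL_field, CfsgLib.Linear.prod_pow_sub_pow, hF,
      Nat.card_congr (CfsgLib.Linear.slEquivDetKer (n := Fin n) (F := F)).toEquiv] at e
    rw [show (Cfsg.Geo.quadSimilarityGroup ⇑Q).relIndex (Cfsg.Geo.specialLinear (Fin n) F) = K.index from rfl,
      Subgroup.index_mul_card, mul_comm]
    exact e
  rw [← hSL]
  obtain ⟨s, hs⟩ := hiso
  exact ⟨s, by linear_combination ((Cfsg.Geo.quadSimilarityGroup ⇑Q).relIndex (Cfsg.Geo.specialLinear (Fin n) F) *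
    (q - 1)) * hs⟩

theorem prod_range_pairs {M : Type*} [CommMonoid M] (h : ℕ → M) : ∀ m : ℕ,
    ∏ i ∈ Finset.range (2 * m), h i =
      (∏ i ∈ Finset.range m, h (2 * i)) * ∏ i ∈ Finset.range m, h (2 * i + 1)
  | 0 => by simp
  | m + 1 => by
    rw [show 2 * (m + 1) = 2 * m + 1 + 1 by ring, Finset.prod_range_succ, Finset.prod_range_succ,
      prod_range_pairs h m, Finset.prod_range_succ, Finset.prod_range_succ]
    ac_rfl

/-- The primes dividing the index. -/
theorem prime_dvd_index [Fintype F] {q : ℕ} (hF : Fintype.card F = q) (hodd : Odd q) (hn : 3 ≤ n)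
    (Q : QuadraticForm F (Fin n → F)) (hQ : Q.polarBilin.Nondegenerate) {r : ℕ} (hr : r.Prime)
    (h : r ∣ (Cfsg.Geo.quadSimilarityGroup ⇑Q).relIndex (Cfsg.Geo.specialLinear (Fin n) F)) :
    r ∣ q ∨ (∃ j, Odd j ∧ 3 ≤ j ∧ j ≤ n ∧ r ∣ q ^ j - 1) ∨
      ∃ m, 1 ≤ m ∧ n = 2 * m ∧
        ((r ∣ q ^ m + 1 ∧ Nat.card {v // Q v = 0} = q ^ (2 * m - 1) + q ^ m - q ^ (m - 1)) ∨
          (r ∣ q ^ m - 1 ∧ Nat.card {v // Q v = 0} = q ^ (2 * m - 1) + q ^ (m - 1) - q ^ m)) := by
  have hq : 1 < q := hF ▸ Fintype.one_lt_card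
  have hd := ((mul_dvd_mul_right (mul_dvd_mul_right h _) _).trans (index_mul_card_dvd hF (by omega) Q hQ))
  have hpowpos : ∀ i, 0 < i → 0 < q ^ i - 1 := fun i hi => by
    have := Nat.one_lt_pow hi.ne' hq; omega
  have hE : ∀ m, 0 < (q - 1) * ∏ i ∈ Finset.range m, (q ^ (2 * (i + 1)) - 1) := fun m =>
    Nat.mul_pos (by omega) (Finset.prod_pos fun i _ => hpowpos _ (by omega))
  have hodds : ∀ m, 2 * m + 1 ≤ n →
      ∀ X, r ∣ q ^ X * ∏ i ∈ Finset.range m, (q ^ (2 * (i + 1) + 1) - 1) →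
        r ∣ q ∨ ∃ j, Odd j ∧ 3 ≤ j ∧ j ≤ n ∧ r ∣ q ^ j - 1 := by
    intro m hm X hX
    rcases hr.prime.dvd_mul.mp hX with h3 | h3
    · exact Or.inl (hr.dvd_of_dvd_pow h3)
    · obtain ⟨i, hi, h4⟩ := hr.prime.exists_mem_finset_dvd h3
      exact Or.inr ⟨2 * (i + 1) + 1, odd_two_mul_add_one _, by omega,
        by rw [Finset.mem_range] at hi; omega, h4⟩
  rcases classify hF hodd (by omega) Q hQ with ⟨m, rfl, hc⟩ | ⟨m, hm, rfl, htype⟩
  · set X := (2 * m + 1) * (2 * m + 1 - 1) / 2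
    have key : r * q ^ (m ^ 2) ∣ q ^ X * ∏ i ∈ Finset.range m, (q ^ (2 * (i + 1) + 1) - 1) := by
      refine (Nat.mul_dvd_mul_iff_left (show 0 < 2 * ((q - 1) * ∏ i ∈ Finset.range m, (q ^ (2 * (i + 1)) - 1)) by
        have := hE m; omega)).mp ?_
      refine (dvd_of_eq ?_).trans (hd.trans (dvd_of_eq ?_))
      · rw [hc]; ring
      · rw [Finset.prod_range_succ', prod_range_pairs (fun i => q ^ (i + 1 + 1) - 1) m]
        rw [show (fun i => q ^ (2 * i + 1 + 1) - 1) = fun i => q ^ (2 * (i + 1)) - 1 by funext i; ring_nf,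
          show (fun i => q ^ (2 * i + 1 + 1 + 1) - 1) = fun i => q ^ (2 * (i + 1) + 1) - 1 by funext i; ring_nf,
          zero_add, pow_one]
        ring
    rcases hodds m le_rfl _ ((Dvd.intro _ rfl).trans key) with h' | h'
    · exact Or.inl h'
    · exact Or.inr (Or.inl h')
  · obtain ⟨m', rfl⟩ : ∃ m', m = m' + 1 := ⟨m - 1, by omega⟩
    simp only [Nat.add_sub_cancel] at htype
    set X := 2 * (m' + 1) * (2 * (m' + 1) - 1) / 2
    have hsplit : ∏ i ∈ Finset.range (2 * (m' + 1)), (q ^ (i + 1) - 1) =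
        (q - 1) * (∏ i ∈ Finset.range m', (q ^ (2 * (i + 1) + 1) - 1)) *
          ((∏ i ∈ Finset.range m', (q ^ (2 * (i + 1)) - 1)) * ((q ^ (m' + 1) + 1) * (q ^ (m' + 1) - 1))) := by
      rw [prod_range_pairs, Finset.prod_range_succ' (fun i => q ^ (2 * i + 1) - 1),
        Finset.prod_range_succ (fun i => q ^ (2 * i + 1 + 1) - 1),
        show (fun i => q ^ (2 * i + 1 + 1) - 1) = fun i => q ^ (2 * (i + 1)) - 1 by funext i; ring_nf,
        show 2 * m' + 1 + 1 = (m' + 1) * 2 by ring, pow_mul q (m' + 1) 2, ← Nat.sq_sub_sq, one_pow,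
        show 2 * 0 + 1 = 1 from rfl, pow_one]
      ring
    rw [hsplit] at hd
    have hpp : 0 < q ^ (m' + 1) - 1 := hpowpos _ (by omega)
    rcases htype with ⟨hc, hz⟩ | ⟨hc, hz⟩
    · have key : r * q ^ ((m' + 1) * m') ∣ q ^ X * (∏ i ∈ Finset.range m', (q ^ (2 * (i + 1) + 1) - 1)) *
          (q ^ (m' + 1) + 1) := by
        refine (Nat.mul_dvd_mul_iff_left (show 0 < 2 * (((q - 1) * ∏ i ∈ Finset.range m', (q ^ (2 * (i + 1)) - 1)) *
          (q ^ (m' + 1) - 1)) from Nat.mul_pos two_pos (Nat.mul_pos (hE m') hpp))).mp ?_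
        refine (dvd_of_eq ?_).trans (hd.trans (dvd_of_eq ?_))
        · rw [hc]; ring
        · ring
      rcases hr.prime.dvd_mul.mp ((Dvd.intro _ rfl).trans key) with h' | h'
      · rcases hodds m' (by omega) _ h' with h'' | h''
        · exact Or.inl h''
        · exact Or.inr (Or.inl h'')
      · exact Or.inr (Or.inr ⟨m' + 1, hm, rfl, Or.inl ⟨h', by simpa using hz⟩⟩)
    · have key : r * q ^ ((m' + 1) * m') ∣ q ^ X * (∏ i ∈ Finset.range m', (q ^ (2 * (i + 1) + 1) - 1)) *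
          (q ^ (m' + 1) - 1) := by
        refine (Nat.mul_dvd_mul_iff_left (show 0 < 2 * (((q - 1) * ∏ i ∈ Finset.range m', (q ^ (2 * (i + 1)) - 1)) *
          (q ^ (m' + 1) + 1)) from Nat.mul_pos two_pos (Nat.mul_pos (hE m') (by omega)))).mp ?_
        refine (dvd_of_eq ?_).trans (hd.trans (dvd_of_eq ?_))
        · rw [hc]; ring
        · ring
      rcases hr.prime.dvd_mul.mp ((Dvd.intro _ rfl).trans key) with h' | h'
      · rcases hodds m' (by omega) _ h' with h'' | h''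
        · exact Or.inl h''
        · exact Or.inr (Or.inl h'')
      · exact Or.inr (Or.inr ⟨m' + 1, hm, rfl, Or.inr ⟨h', by simpa using hz⟩⟩)

end CfsgLib.OrthType
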