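import Cfsg.Agent.LinearElements.RClassify
import Cfsg.Agent.LinearElements.JordanModels

/-! Maps of order `p` fixing a pair of complementary subspaces, and the number of complements. -/

set_option autoImplicit false

namespace CfsgLib.LinearElements

open Module

variable {F V : Type*} [Field F] [Fintype F] [AddCommGroup V] [Module F V] [FiniteDimensional F V]

/-- The number of complements of `W`. -/
theorem card_isCompl (W : Submodule F V) :
    Nat.card {C : Submodule F V // IsCompl W C} =
      Fintype.card F ^ ((finrank F V - finrank F W) * finrank F W) := by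
  obtain ⟨C₀, hC₀⟩ := Submodule.exists_isCompl W
  let π₀ := W.projectionOnto C₀ hC₀
  have hπ : ∀ x : W, π₀ x = x := fun x => Submodule.projectionOnto_apply_left hC₀ x
  have e : {f : V →ₗ[F] W // ∀ x : W, f x = x} ≃ ((V ⧸ W) →ₗ[F] W) :=
    { toFun := fun f => W.liftQ (f.1 - π₀) (fun x hx => by
        rw [LinearMap.mem_ker, LinearMap.sub_apply, f.2 ⟨x, hx⟩, hπ ⟨x, hx⟩, sub_self])
      invFun := fun h => ⟨π₀ + h ∘ₗ W.mkQ, fun x => by
        simp [hπ x, (Submodule.Quotient.mk_eq_zero W).mpr x.2]⟩
      left_inv := fun f => Subtype.ext (by show π₀ + _ ∘ₗ _ = f.1; rw [Submodule.liftQ_mkQ, add_sub_cancel])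
      right_inv := fun h => Submodule.linearMap_qext _ (by
        show (W.liftQ _ _) ∘ₗ W.mkQ = _
        rw [Submodule.liftQ_mkQ, add_sub_cancel_left]) }
  rw [Nat.card_congr (Submodule.isComplEquivProj W), Nat.card_congr e,
    Module.natCard_eq_pow_finrank (K := F), Nat.card_eq_fintype_card, Module.finrank_linearMap,
    Submodule.finrank_quotient]

/-- The number of complementary pairs. -/
theorem card_complPairs (m : ℕ) :
    Nat.card {P : Submodule F V × Submodule F V // IsCompl P.1 P.2 ∧ finrank F P.1 = m} =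
      numSub F V m * Fintype.card F ^ ((finrank F V - m) * m) := by
  classical
  haveI : Finite V := Module.finite_of_finite F
  haveI : Finite (Submodule F V) := Finite.of_injective (fun W => (W : Set V)) SetLike.coe_injective
  haveI := Fintype.ofFinite {W : Submodule F V // finrank F W = m}
  have e : {P : Submodule F V × Submodule F V // IsCompl P.1 P.2 ∧ finrank F P.1 = m} ≃
      Σ W : {W : Submodule F V // finrank F W = m}, {C : Submodule F V // IsCompl (W : Submodule F V) C} :=
    { toFun := fun P => ⟨⟨P.1.1, P.2.2⟩, ⟨P.1.2, P.2.1⟩⟩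
      invFun := fun x => ⟨(x.1.1, x.2.1), x.2.2, x.1.2⟩
      left_inv := fun P => rfl
      right_inv := fun x => rfl }
  have h1 : ∀ W : {W : Submodule F V // finrank F W = m},
      Nat.card {C : Submodule F V // IsCompl (W : Submodule F V) C} =
        Fintype.card F ^ ((finrank F V - m) * m) := fun W => by rw [card_isCompl, W.2]
  rw [Nat.card_congr e, Nat.card_sigma, Finset.sum_congr rfl (fun W _ => h1 W), Finset.sum_const, Finset.card_univ,
    smul_eq_mul, ← Nat.card_eq_fintype_card]
  rfl

omit [Fintype F] [AddCommGroup V] [Module F V] [FiniteDimensional F V] in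
/-- A sub-multiset of the image of a family comes from a subfamily. -/
theorem exists_subfamily {ι : Type*} [Fintype ι] (f : ι → ℕ) {ν : Multiset ℕ}
    (h : ν ≤ (Finset.univ : Finset ι).val.map f) : ∃ s : Finset ι, ∑ i ∈ s, f i = ν.sum := by
  classical
  have hc : ∀ v, ν.count v ≤ (Finset.univ.filter fun i => f i = v).card := by
    intro v
    refine (Multiset.le_iff_count.mp h v).trans (le_of_eq ?_)
    rw [Multiset.count_map]
    simp only [eq_comm (a := v)]
    rfl
  choose t ht hcard using fun v => Finset.exists_subset_card_eq (hc v)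
  refine ⟨ν.toFinset.biUnion t, ?_⟩
  rw [Finset.sum_biUnion (fun a _ b _ hab => Finset.disjoint_left.mpr fun i hi hi' =>
    hab ((Finset.mem_filter.mp (ht a hi)).2.symm.trans (Finset.mem_filter.mp (ht b hi')).2))]
  rw [Finset.sum_multiset_count]
  refine Finset.sum_congr rfl fun v _ => ?_
  rw [Finset.sum_congr rfl (fun i hi => (Finset.mem_filter.mp (ht v hi)).2), Finset.sum_const, hcard, smul_eq_mul]

variable {p : ℕ} [Fact p.Prime] [CharP F p]

/-- All maps of order `p` fix a complementary pair of the given dimension iff the partition condition holds. -/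
theorem forall_fix_pair_iff (m : ℕ) (hm : m ≤ finrank F V) :
    (∀ g : Module.End F V, ProjOrder g p →
      ∃ U W : Submodule F V, IsCompl U W ∧ finrank F U = m ∧ U.map g ≤ U ∧ W.map g ≤ W) ↔
    ∀ μ : Multiset ℕ, (∀ a ∈ μ, 0 < a ∧ a ≤ p) → μ.sum = finrank F V → ∃ ν : Multiset ℕ, ν ≤ μ ∧ ν.sum = m := by
  constructor
  · intro h μ hμ hsum
    by_cases hone : ∀ b ∈ μ, b = 1
    · refine ⟨Multiset.replicate m 1, ?_, by simp⟩
      rw [Multiset.eq_replicate_card.mpr hone]
      refine Multiset.replicate_le_replicate 1 |>.mpr ?_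
      have : μ.sum = μ.card := by rw [Multiset.eq_replicate_card.mpr hone]; simp
      omega
    push Not at hone
    obtain ⟨b, hb, hb1⟩ := hone
    obtain ⟨N, C, hC⟩ := exists_chain_model (F := F) (V := V) μ (fun s hs => (hμ s hs).1) hsum
    have hszp : ∀ i, C.sz i ≤ p := fun i => by
      refine (hμ _ ?_).2
      rw [← hC]; exact Multiset.mem_map.mpr ⟨i, by simp, rfl⟩
    obtain ⟨i₀, hi₀⟩ : ∃ i, 2 ≤ C.sz i := by
      rw [← hC] at hb
      obtain ⟨i, -, rfl⟩ := Multiset.mem_map.mp hb
      exact ⟨i, by have := C.sz_pos i; omega⟩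
    have hNp := C.pow_eq_zero hszp
    obtain ⟨hgp, hdet, hns⟩ := one_add_nilpotent p hNp
    obtain ⟨U, W, hUW, hUd, hU, hW⟩ :=
      h (1 + N) ⟨hdet, ⟨1, by rw [hgp, one_smul]⟩, hns (C.ne_zero_of_two_le hi₀)⟩
    have hinv : ∀ S : Submodule F V, S.map (1 + N) ≤ S → S.map N ≤ S := by
      rintro S hS _ ⟨v, hv, rfl⟩
      have h1 : (1 + N) v ∈ S := hS (Submodule.mem_map_of_mem hv)
      have h2 : N v = (1 + N) v - v := by simp
      rw [h2]
      exact S.sub_mem h1 hv
    let D : Fin 2 → Submodule F V := ![U, W]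
    have hD : iSupIndep D := by
      rw [iSupIndep_pair (i := (0 : Fin 2)) (j := 1) (by decide) (by decide)]
      exact hUW.disjoint
    have htop : ⨆ i, D i = ⊤ := by
      refine eq_top_iff.mpr (hUW.sup_eq_top.ge.trans (sup_le (le_iSup D 0) (le_iSup D 1)))
    refine ⟨blockMultiset N U p, ?_, ?_⟩
    · rw [← hC]
      exact blockMultiset_le_sizes C hD htop (Fin.forall_fin_two.mpr ⟨hinv U hU, hinv W hW⟩) p 0
    · rw [sum_blockMultiset (hinv U hU)]
      · exact hUd
      · rw [hNp, Submodule.eq_bot_iff]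
        rintro _ ⟨v, -, rfl⟩
        rfl
  · intro h g hg
    obtain ⟨hdet, ⟨c, hc⟩, hns⟩ := hg
    have hc0 : c ≠ 0 := ProjOrder.scalar_ne_zero ⟨hdet, ⟨c, hc⟩, hns⟩ hc
    obtain ⟨μ, hμ⟩ := (Finite.surjective_of_injective (frobenius_inj F p)) c
    rw [frobenius_def] at hμ
    have hμ0 : μ ≠ 0 := fun e => hc0 (by rw [← hμ, e, zero_pow (Fact.out : p.Prime).ne_zero])
    haveI : Nontrivial V := by
      by_contra hV
      rw [not_nontrivial_iff_subsingleton] at hV
      exact hns 0 (LinearMap.ext fun x => Subsingleton.elim _ _)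
    haveI : CharP (Module.End F V) p := charP_of_injective_algebraMap' F p
    set N : Module.End F V := μ⁻¹ • g - 1 with hN
    have hNp : N ^ p = 0 := by
      rw [hN, sub_pow_char_of_commute _ (Commute.one_right _), one_pow, smul_pow, hc, inv_pow, hμ, smul_smul,
        inv_mul_cancel₀ hc0, one_smul, sub_self]
    have hbot : (⊤ : Submodule F V).map (N ^ p) = ⊥ := by
      rw [hNp, Submodule.eq_bot_iff]
      rintro _ ⟨v, -, rfl⟩
      rfl
    obtain ⟨C⟩ := exists_chainBasis (N := N) (W := (⊤ : Submodule F V)) le_top hbot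
    have hsz : ∀ i, C.sz i ≤ p := by
      intro i
      by_contra hlt
      have := C.indep.ne_zero (⟨i, ⟨p, by omega⟩⟩ : Σ i, Fin (C.sz i))
      simp [hNp] at this
    have hsum : C.sizes.sum = finrank F V := by
      rw [← finrank_top F V, ← rankOn_zero (N := N) (W := (⊤ : Submodule F V)), C.rankOn_eq]
      rfl
    obtain ⟨ν, hν, hνsum⟩ := h C.sizes (fun a ha => by
      obtain ⟨i, -, rfl⟩ := Multiset.mem_map.mp ha
      exact ⟨C.sz_pos i, hsz i⟩) hsum
    obtain ⟨s, hs⟩ := exists_subfamily C.sz hν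
    let b : (Σ i, Fin (C.sz i)) → V := fun x => (N ^ (x.2 : ℕ)) (C.gen x.1)
    have hNinv : ∀ A : Set (Fin C.L), InvBy N (Submodule.span F (b '' {x | x.1 ∈ A})) := by
      intro A x hx
      induction hx using Submodule.span_induction with
      | mem y hy =>
        obtain ⟨⟨i, j⟩, hi, rfl⟩ := hy
        show N ((N ^ (j : ℕ)) (C.gen i)) ∈ _
        rw [← Module.End.mul_apply, ← pow_succ']
        by_cases hj : (j : ℕ) + 1 < C.sz i
        · exact Submodule.subset_span ⟨⟨i, ⟨_, hj⟩⟩, hi, rfl⟩
        · rw [show (j : ℕ) + 1 = C.sz i by omega, C.kill]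
          exact zero_mem _
      | zero => simp
      | add y z _ _ hy hz => rw [map_add]; exact Submodule.add_mem _ hy hz
      | smul a y _ hy => rw [map_smul]; exact Submodule.smul_mem _ a hy
    have hginv : ∀ S : Submodule F V, InvBy N S → S.map g ≤ S := by
      rintro S hS _ ⟨v, hv, rfl⟩
      have : g v = μ • (N v + v) := by simp [hN, smul_smul, hμ0]
      rw [this]
      exact S.smul_mem _ (S.add_mem (hS v hv) hv)
    refine ⟨Submodule.span F (b '' {x | x.1 ∈ (s : Set (Fin C.L))}),
      Submodule.span F (b '' {x | x.1 ∈ (s : Set (Fin C.L))ᶜ}), ⟨?_, ?_⟩, ?_, hginv _ (hNinv _), hginv _ (hNinv _)⟩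
    · exact C.indep.disjoint_span_image (Set.disjoint_left.mpr fun x hx hx' => hx' hx)
    · rw [codisjoint_iff, ← Submodule.span_union, ← Set.image_union]
      refine eq_top_iff.mpr (C.span_eq.ge.trans (Submodule.span_mono ?_))
      rintro _ ⟨x, rfl⟩
      exact ⟨x, em _, rfl⟩
    · rw [show b '' {x | x.1 ∈ (s : Set (Fin C.L))} =
          Set.range (fun x : Σ i : s, Fin (C.sz i) => b ⟨x.1, x.2⟩) from Set.ext fun v => by
        constructor
        · rintro ⟨⟨i, j⟩, hi, rfl⟩; exact ⟨⟨⟨i, hi⟩, j⟩, rfl⟩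
        · rintro ⟨⟨i, j⟩, rfl⟩; exact ⟨_, i.2, rfl⟩,
        finrank_span_eq_card]
      · rw [Fintype.card_sigma, ← hνsum, ← hs]
        simp only [Fintype.card_fin]
        exact Finset.sum_coe_sort s C.sz
      · exact C.indep.comp _ fun x y hxy => by
          obtain ⟨⟨i, hi⟩, j⟩ := x
          obtain ⟨⟨k, hk⟩, l⟩ := y
          cases hxy
          rfl

omit [Fintype F] [AddCommGroup V] [Module F V] [FiniteDimensional F V] in
theorem partition_two_iff {n m : ℕ} (hm : m ≤ n) :
    (∀ μ : Multiset ℕ, (∀ a ∈ μ, 0 < a ∧ a ≤ 2) → μ.sum = n → ∃ ν : Multiset ℕ, ν ≤ μ ∧ ν.sum = m) ↔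
      (Odd n ∨ Even m) := by
  constructor
  · intro h
    by_contra hno
    simp only [not_or, Nat.not_odd_iff_even] at hno
    obtain ⟨⟨k, hk⟩, hodd⟩ := hno
    obtain ⟨ν, hν, hs⟩ := h (Multiset.replicate k 2) (fun a ha => by
      obtain rfl := Multiset.eq_of_mem_replicate ha; omega) (by simp; omega)
    rw [Multiset.eq_replicate_card.mpr fun a ha => Multiset.eq_of_mem_replicate (Multiset.mem_of_le hν ha)] at hs
    exact hodd ⟨ν.card, by simp at hs; omega⟩
  · intro h μ hμ hsum
    have hμ' : μ = Multiset.replicate (μ.count 2) 2 + Multiset.replicate (μ.count 1) 1 := by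
      ext a
      simp only [Multiset.count_add, Multiset.count_replicate]
      by_cases ha : a ∈ μ
      · obtain ⟨h1, h2⟩ := hμ a ha
        interval_cases a <;> simp
      · have h0 := Multiset.count_eq_zero.mpr ha
        by_cases h1 : a = 1
        · subst h1; simp [h0]
        · by_cases h2 : a = 2
          · subst h2; simp [h0]
          · simp [h0, Ne.symm h1, Ne.symm h2]
    rw [hμ', Multiset.sum_add, Multiset.sum_replicate, Multiset.sum_replicate, smul_eq_mul, smul_eq_mul, mul_one] at hsum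
    have hpar : Odd n → 1 ≤ μ.count 1 := fun ⟨k, hk⟩ => by omega
    obtain ⟨a, b, ha, hb, hab⟩ : ∃ a b, a ≤ μ.count 2 ∧ b ≤ μ.count 1 ∧ a * 2 + b = m := by
      rcases le_or_gt (m / 2) (μ.count 2) with h' | h'
      · refine ⟨m / 2, m % 2, h', ?_, by omega⟩
        rcases h with ho | ⟨k, hk⟩
        · have := hpar ho; omega
        · omega
      · exact ⟨μ.count 2, m - μ.count 2 * 2, le_rfl, by omega, by omega⟩
    refine ⟨Multiset.replicate a 2 + Multiset.replicate b 1, ?_, by simp [hab]⟩
    rw [hμ']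
    exact add_le_add ((Multiset.replicate_le_replicate 2).mpr ha) ((Multiset.replicate_le_replicate 1).mpr hb)

end CfsgLib.LinearElements
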