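import Mathlib
import Cfsg.Agent.LinearElements.BlockLayout

/-! An isometry `g` of an alternating non-degenerate form with scalar square splits the space into pairwise orthogonal
hyperbolic planes, each fixed or exchanged with another one by `g` (any characteristic). -/

set_option autoImplicit false

namespace CfsgLib.LinearElements

open Module

/-- The index of the image plane. -/
def partnerIdx {b c : ℕ} : PairIdx b c → PairIdx b c
  | .inl (i, s) => .inl (i, Equiv.swap 0 1 s)
  | .inr j => .inr j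

/-- Concatenation of index sets. -/
def glueIdx (k b l c : ℕ) : PairIdx (k + b) (l + c) ≃ PairIdx k l ⊕ PairIdx b c :=
  (((finSumFinEquiv.symm.prodCongr (Equiv.refl (Fin 2))).trans (Equiv.sumProdDistrib _ _ _)).sumCongr
    finSumFinEquiv.symm).trans (Equiv.sumSumSumComm _ _ _ _)

theorem glueIdx_partner {k b l c : ℕ} (i : PairIdx (k + b) (l + c)) :
    glueIdx k b l c (partnerIdx i) = Sum.map partnerIdx partnerIdx (glueIdx k b l c i) := by
  rcases i with ⟨i, s⟩ | j
  · obtain ⟨i, rfl⟩ := finSumFinEquiv.surjective i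
    cases i <;> simp [glueIdx, partnerIdx, -finSumFinEquiv_apply_left, -finSumFinEquiv_apply_right]
  · obtain ⟨j, rfl⟩ := finSumFinEquiv.surjective j
    cases j <;> simp [glueIdx, partnerIdx, -finSumFinEquiv_apply_left, -finSumFinEquiv_apply_right]

variable {F V : Type*} [Field F] [AddCommGroup V] [Module F V]

/-- Orthogonal hyperbolic planes spanning `S` and permuted by `g`. -/
structure PlaneData (B : V →ₗ[F] V →ₗ[F] F) (g : V →ₗ[F] V) (S : Submodule F V) where
  b : ℕ
  c : ℕ
  v : PairIdx b c → Fin 2 → V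
  span_eq : Submodule.span F (Set.range fun p : PairIdx b c × Fin 2 => v p.1 p.2) = S
  hyp : ∀ i, B (v i 0) (v i 1) = 1
  orth : ∀ i j, i ≠ j → ∀ s s', B (v i s) (v j s') = 0
  move : ∀ i s, g (v i s) ∈ Submodule.span F (Set.range (v (partnerIdx i)))

/-- Gluing data on orthogonal subspaces. -/
def PlaneData.glue {B : V →ₗ[F] V →ₗ[F] F} {g : V →ₗ[F] V} {S T U : Submodule F V} (D : PlaneData B g S)
    (E : PlaneData B g T) (hU : S ⊔ T = U) (h1 : ∀ x ∈ S, ∀ y ∈ T, B x y = 0 ∧ B y x = 0) : PlaneData B g U where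
  b := D.b + E.b
  c := D.c + E.c
  v i := Sum.elim D.v E.v (glueIdx _ _ _ _ i)
  span_eq := by
    refine Eq.trans ?_ ((congrArg₂ (· ⊔ ·) D.span_eq E.span_eq).trans hU)
    rw [← Submodule.span_union]
    refine congrArg _ (Set.ext fun x => ⟨?_, ?_⟩)
    · rintro ⟨⟨i, s⟩, rfl⟩
      rcases h : glueIdx D.b E.b D.c E.c i with j | j
      · exact Or.inl ⟨(j, s), by simp [h]⟩
      · exact Or.inr ⟨(j, s), by simp [h]⟩
    · rintro (⟨⟨j, s⟩, rfl⟩ | ⟨⟨j, s⟩, rfl⟩)
      · exact ⟨((glueIdx D.b E.b D.c E.c).symm (.inl j), s), by simp⟩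
      · exact ⟨((glueIdx D.b E.b D.c E.c).symm (.inr j), s), by simp⟩
  hyp i := by
    rcases h : glueIdx D.b E.b D.c E.c i with j | j
    · simpa using D.hyp j
    · simpa using E.hyp j
  orth i i' hne s s' := by
    have hm : ∀ j s, D.v j s ∈ S := fun j s => D.span_eq.le (Submodule.subset_span ⟨(j, s), rfl⟩)
    have hm' : ∀ j s, E.v j s ∈ T := fun j s => E.span_eq.le (Submodule.subset_span ⟨(j, s), rfl⟩)
    have hne' : glueIdx D.b E.b D.c E.c i ≠ glueIdx D.b E.b D.c E.c i' := fun e => hne (Equiv.injective _ e)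
    rcases h : glueIdx D.b E.b D.c E.c i with j | j <;> rcases h' : glueIdx D.b E.b D.c E.c i' with j' | j' <;>
      rw [h, h'] at hne' <;> simp only [Sum.elim_inl, Sum.elim_inr]
    · exact D.orth _ _ (fun e => hne' (by rw [e])) s s'
    · exact (h1 _ (hm j s) _ (hm' j' s')).1
    · exact (h1 _ (hm j' s') _ (hm' j s)).2
    · exact E.orth _ _ (fun e => hne' (by rw [e])) s s'
  move i s := by
    rcases h : glueIdx D.b E.b D.c E.c i with j | j
    · simpa [glueIdx_partner, h] using D.move j s
    · simpa [glueIdx_partner, h] using E.move j s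

theorem PlaneData.linearIndependent {B : V →ₗ[F] V →ₗ[F] F} {g : V →ₗ[F] V} {S : Submodule F V}
    (D : PlaneData B g S) (halt : ∀ v, B v v = 0) :
    LinearIndependent F (fun p : PairIdx D.b D.c × Fin 2 => D.v p.1 p.2) := by
  rw [Fintype.linearIndependent_iff]
  intro c hc ⟨i, s⟩
  have h10 : B (D.v i 1) (D.v i 0) = -1 := by
    have := halt (D.v i 0 + D.v i 1)
    simp only [map_add, LinearMap.add_apply, halt, D.hyp] at this
    linear_combination this
  have h0 := congrArg (B (D.v i (Equiv.swap 0 1 s))) hc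
  rw [map_sum, map_zero, Finset.sum_eq_single (i, s)] at h0
  · fin_cases s
    · simpa [h10] using h0
    · simpa [D.hyp] using h0
  · rintro ⟨j, u⟩ - hne
    rw [map_smul]
    by_cases hji : i = j
    · subst hji
      have : u ≠ s := fun e => hne (by rw [e])
      have hu : u = Equiv.swap 0 1 s := by fin_cases u <;> fin_cases s <;> simp_all
      rw [hu, halt, smul_zero]
    · rw [D.orth i j hji, smul_zero]
  · simp

variable [FiniteDimensional F V]

theorem exists_planeData {B : V →ₗ[F] V →ₗ[F] F} {g : V →ₗ[F] V} {z : F} (halt : ∀ v, B v v = 0)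
    (hg : ∀ u v, B (g u) (g v) = B u v) (hz : ∀ v, g (g v) = z • v) (hz0 : z ≠ 0) :
    ∀ n, ∀ S : Submodule F V, finrank F S = n → (∀ v ∈ S, g v ∈ S) →
      (∀ v ∈ S, (∀ w ∈ S, B v w = 0) → v = 0) → Nonempty (PlaneData B g S) := by
  have hskew : ∀ u v, B v u = - B u v := fun u v => by
    have := halt (u + v)
    simp only [map_add, LinearMap.add_apply, halt] at this
    linear_combination this
  intro n
  induction n using Nat.strong_induction_on with
  | _ n ih =>
  intro S hn hSg hnd
  by_cases hS : S = ⊥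
  · subst hS
    exact ⟨⟨0, 0, fun i => isEmptyElim i, by simp, fun i => isEmptyElim i, fun i => isEmptyElim i, fun i => isEmptyElim i⟩⟩
  -- a first piece
  obtain ⟨P, hPS, hPne, hPg⟩ : ∃ P : Submodule F V, P ≤ S ∧ Nonempty (PlaneData B g P) ∧ P ≠ ⊥ := by
    have plane : ∀ e f, e ∈ S → f ∈ S → B e f = 1 → g e ∈ Submodule.span F {e, f} → g f ∈ Submodule.span F {e, f} →
        ∃ P : Submodule F V, P ≤ S ∧ Nonempty (PlaneData B g P) ∧ P ≠ ⊥ := by
      intro e f he hf hef hge hgf
      have hr : Set.range ![e, f] = {e, f} := by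
        rw [Matrix.range_cons, Matrix.range_cons, Matrix.range_empty, Set.union_empty, Set.singleton_union]
      refine ⟨Submodule.span F {e, f}, Submodule.span_le.mpr (by simp [Set.insert_subset_iff, he, hf]),
        ⟨⟨0, 1, fun _ => ![e, f], ?_, fun _ => by simpa using hef,
          fun i j h => absurd ((by decide +kernel : ∀ i j : PairIdx 0 1, i = j) i j) h, ?_⟩⟩, ?_⟩
      · rw [← hr]
        refine congrArg _ (Set.ext fun x => ⟨?_, ?_⟩)
        · rintro ⟨p, rfl⟩; exact ⟨p.2, rfl⟩
        · rintro ⟨s, rfl⟩; exact ⟨(.inr 0, s), rfl⟩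
      · intro i s
        rw [hr]
        fin_cases s
        · exact hge
        · exact hgf
      · intro h
        rw [Submodule.span_eq_bot] at h
        have he0 := h e (by simp)
        simp [he0] at hef
    by_cases h1 : ∃ e ∈ S, B e (g e) ≠ 0
    · obtain ⟨e, he, hee⟩ := h1
      refine plane e ((B e (g e))⁻¹ • g e) he (S.smul_mem _ (hSg e he)) (by simp [hee]) ?_ ?_
      · exact Submodule.mem_span_pair.mpr ⟨0, B e (g e), by simp [smul_smul, hee]⟩
      · exact Submodule.mem_span_pair.mpr ⟨(B e (g e))⁻¹ * z, 0, by simp [hz, smul_smul]⟩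
    push Not at h1
    by_cases h2 : ∀ v ∈ S, ∃ ν : F, g v = ν • v
    · obtain ⟨e, he, he0⟩ := S.ne_bot_iff.mp hS
      obtain ⟨w, hw, hew⟩ : ∃ w ∈ S, B e w ≠ 0 := by
        by_contra hall
        push Not at hall
        exact he0 (hnd e he hall)
      refine plane e ((B e w)⁻¹ • w) he (S.smul_mem _ hw) (by simp [hew]) ?_ ?_
      · obtain ⟨ν, hν⟩ := h2 e he
        exact Submodule.mem_span_pair.mpr ⟨ν, 0, by simp [hν]⟩
      · obtain ⟨ν, hν⟩ := h2 w hw
        exact Submodule.mem_span_pair.mpr ⟨0, ν, by simp [hν, smul_smul, mul_comm]⟩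
    push Not at h2
    obtain ⟨v, hv, hveig⟩ := h2
    -- a pair of exchanged planes
    obtain ⟨u, hu, hvu, hgvu⟩ : ∃ u ∈ S, B v u = 1 ∧ B (g v) u = 0 := by
      let φ : S →ₗ[F] F := (B v).comp S.subtype
      let ψ : S →ₗ[F] F := (B (g v)).comp S.subtype
      by_contra hall
      push Not at hall
      have hker : LinearMap.ker ψ ≤ LinearMap.ker φ := by
        intro y hy
        by_contra hy'
        exact hall _ (S.smul_mem (B v y)⁻¹ y.2) (by simp [φ] at hy'; simp [hy'])
          (by simp [ψ] at hy; simp [hy])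
      obtain ⟨y, hy⟩ : ∃ y : S, ψ y ≠ 0 := by
        by_contra hall'
        push Not at hall'
        have := hnd (g v) (hSg v hv) fun w hw => hall' ⟨w, hw⟩
        exact hveig 0 (by rw [this, zero_smul])
      set c := φ y / ψ y
      have hv0 : v - c • g v = 0 := by
        refine hnd _ (S.sub_mem hv (S.smul_mem _ (hSg v hv))) fun w hw => ?_
        have hmem : (⟨w, hw⟩ : S) - (ψ ⟨w, hw⟩ / ψ y) • y ∈ LinearMap.ker ψ := by
          rw [LinearMap.mem_ker, map_sub, map_smul, smul_eq_mul, div_mul_cancel₀ _ hy, sub_self]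
        have := hker hmem
        rw [LinearMap.mem_ker, map_sub, map_smul, smul_eq_mul, sub_eq_zero] at this
        have e1 : φ ⟨w, hw⟩ = B v w := rfl
        have e2 : ψ ⟨w, hw⟩ = B (g v) w := rfl
        rw [map_sub, map_smul, LinearMap.sub_apply, LinearMap.smul_apply, smul_eq_mul, ← e1, ← e2, this]
        simp only [c]; field_simp; ring
      have hc : c ≠ 0 := fun h => by
        rw [h, zero_smul, sub_zero] at hv0
        exact hveig 0 (by rw [hv0, map_zero, smul_zero])
      exact hveig c⁻¹ (by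
        have h3 : c • g v = v := (sub_eq_zero.mp hv0).symm
        calc g v = c⁻¹ • (c • g v) := by rw [smul_smul, inv_mul_cancel₀ hc, one_smul]
          _ = c⁻¹ • v := by rw [h3])
    refine ⟨Submodule.span F {v, u, g v, g u}, Submodule.span_le.mpr
      (by simp [Set.insert_subset_iff, hv, hu, hSg v hv, hSg u hu]),
      ⟨⟨1, 0, Sum.elim (fun p => if p.2 = 0 then ![v, u] else ![g v, g u]) (fun j => j.elim0), ?_, ?_, ?_, ?_⟩⟩, ?_⟩
    · refine congrArg _ (Set.ext fun x => ⟨?_, ?_⟩)
      · rintro ⟨⟨(⟨i, k⟩ | j), s⟩, rfl⟩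
        · fin_cases k <;> fin_cases s <;> simp
        · exact j.elim0
      · simp only [Set.mem_insert_iff, Set.mem_singleton_iff]
        rintro (rfl | rfl | rfl | rfl)
        · exact ⟨(.inl (0, 0), 0), by simp⟩
        · exact ⟨(.inl (0, 0), 1), by simp⟩
        · exact ⟨(.inl (0, 1), 0), by simp⟩
        · exact ⟨(.inl (0, 1), 1), by simp⟩
    · rintro (⟨i, k⟩ | j)
      · fin_cases k <;> simp [hvu, hg]
      · exact j.elim0
    · have hvgu : B v (g u) = 0 := by
        have e := hg v (g u)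
        rw [hz, map_smul, smul_eq_mul, hgvu, mul_zero] at e
        exact e.symm
      have hgvv : B (g v) v = 0 := by rw [hskew v (g v), h1 v hv, neg_zero]
      have hguu : B (g u) u = 0 := by rw [hskew u (g u), h1 u hu, neg_zero]
      have hguv : B (g u) v = 0 := by rw [hskew v (g u), hvgu, neg_zero]
      have hugv : B u (g v) = 0 := by rw [hskew (g v) u, hgvu, neg_zero]
      rintro (⟨i, k⟩ | j) (⟨i', k'⟩ | j') hne s s'
      · have hk : k ≠ k' := fun e => hne (by rw [e, Subsingleton.elim i i'])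
        fin_cases k <;> fin_cases k' <;> (try exact absurd rfl hk) <;> fin_cases s <;> fin_cases s' <;>
          simp [h1 v hv, h1 u hu, hgvu, hvgu, hgvv, hguu, hguv, hugv]
      all_goals first | exact j.elim0 | exact j'.elim0
    · rintro (⟨i, k⟩ | j) s
      · have hr : ∀ a b : V, Set.range ![a, b] = {a, b} := fun a b => by
          rw [Matrix.range_cons, Matrix.range_cons, Matrix.range_empty, Set.union_empty, Set.singleton_union]
        fin_cases k <;> simp only [partnerIdx, Sum.elim_inl]
        · simp only [Equiv.swap_apply_left, Fin.reduceEq, if_false, Fin.zero_eta, Fin.isValue]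
          rw [hr]
          fin_cases s <;> exact Submodule.subset_span (by simp)
        · simp only [Equiv.swap_apply_right, Fin.mk_one, Fin.isValue, if_true]
          rw [hr]
          fin_cases s <;> simp only [Fin.reduceEq, if_false, Fin.zero_eta, Fin.mk_one, Fin.isValue,
            Matrix.cons_val_zero, Matrix.cons_val_one, hz] <;>
            exact Submodule.smul_mem _ _ (Submodule.subset_span (by simp))
      · exact j.elim0
    · intro h
      rw [Submodule.span_eq_bot] at h
      have hv0 := h v (by simp)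
      simp [hv0] at hvu
  obtain ⟨⟨D⟩, hPbot⟩ := And.intro hPne hPg
  -- its orthogonal complement
  set T := S ⊓ ⨅ p : PairIdx D.b D.c × Fin 2, LinearMap.ker (B (D.v p.1 p.2)) with hT
  have hTP : ∀ x ∈ T, ∀ p ∈ P, B p x = 0 := by
    intro x hx p hp
    rw [← D.span_eq] at hp
    induction hp using Submodule.span_induction with
    | mem y hy => obtain ⟨i, rfl⟩ := hy; exact LinearMap.mem_ker.mp ((Submodule.mem_iInf _).mp hx.2 i)
    | zero => simp
    | add y z _ _ hy hz => simp [hy, hz]
    | smul a y _ hy => simp [hy]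
  have hPinv : ∀ p ∈ P, g p ∈ P := by
    intro p hp
    rw [← D.span_eq] at hp
    induction hp using Submodule.span_induction with
    | mem y hy =>
      obtain ⟨⟨i, s⟩, rfl⟩ := hy
      refine Submodule.span_le.mpr ?_ (D.move i s)
      rintro _ ⟨u, rfl⟩
      exact D.span_eq.le (Submodule.subset_span ⟨(partnerIdx i, u), rfl⟩)
    | zero => simp
    | add y z _ _ hy hz => rw [map_add]; exact P.add_mem hy hz
    | smul a y _ hy => rw [map_smul]; exact P.smul_mem a hy
  have hTg : ∀ x ∈ T, g x ∈ T := by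
    intro x hx
    refine ⟨hSg x hx.1, (Submodule.mem_iInf _).mpr fun i => LinearMap.mem_ker.mpr ?_⟩
    have h1 : B (g (D.v i.1 i.2)) x = 0 :=
      hTP x hx _ (hPinv _ (D.span_eq.le (Submodule.subset_span ⟨i, rfl⟩)))
    have h2 := hg (g (D.v i.1 i.2)) x
    rw [h1, hz, map_smul, LinearMap.smul_apply, smul_eq_mul] at h2
    exact (mul_eq_zero.mp h2).resolve_left hz0
  have hproj : ∀ x ∈ S, ∃ p ∈ P, x - p ∈ T := by
    intro x hx
    let p := ∑ i : PairIdx D.b D.c, (B x (D.v i 1) • D.v i 0 - B x (D.v i 0) • D.v i 1)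
    have hp : p ∈ P := Submodule.sum_mem _ fun i _ => P.sub_mem
      (P.smul_mem _ (D.span_eq.le (Submodule.subset_span ⟨(i, 0), rfl⟩)))
      (P.smul_mem _ (D.span_eq.le (Submodule.subset_span ⟨(i, 1), rfl⟩)))
    refine ⟨p, hp, S.sub_mem hx (hPS hp), (Submodule.mem_iInf _).mpr fun ⟨j, s⟩ => LinearMap.mem_ker.mpr ?_⟩
    simp only [map_sub, p, map_sum, map_smul, smul_eq_mul]
    rw [Finset.sum_eq_single j (fun i _ hij => by simp [D.orth j i (Ne.symm hij)]) (by simp)]
    fin_cases s
    · show B (D.v j 0) x - _ = 0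
      simp only [Fin.zero_eta, halt, D.hyp, hskew x (D.v j 0)]; ring
    · show B (D.v j 1) x - _ = 0
      simp only [Fin.mk_one, halt, hskew (D.v j 0) (D.v j 1), D.hyp, hskew x (D.v j 1)]; ring
  have hTnd : ∀ x ∈ T, (∀ w ∈ T, B x w = 0) → x = 0 := by
    intro x hx hxx
    refine hnd x hx.1 fun w hw => ?_
    obtain ⟨p, hp, hwp⟩ := hproj w hw
    have := hxx _ hwp
    rw [map_sub, hskew p x, hTP x hx p hp, neg_zero, sub_zero] at this
    exact this
  have hlt : finrank F T < n := by
    rw [← hn]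
    refine Submodule.finrank_lt_finrank_of_lt (lt_of_le_of_ne inf_le_left fun h => ?_)
    obtain ⟨x, hxP, hx0⟩ := P.ne_bot_iff.mp hPbot
    refine hx0 (hnd x (hPS hxP) fun w hw => ?_)
    exact hTP w (h ▸ hw) x hxP
  obtain ⟨E⟩ := ih _ hlt T rfl hTg hTnd
  refine ⟨D.glue E ?_ fun x hx y hy => ⟨hTP y hy x hx, by rw [hskew, hTP y hy x hx, neg_zero]⟩⟩
  refine le_antisymm (sup_le hPS inf_le_left) fun x hx => ?_
  obtain ⟨p, hp, hxp⟩ := hproj x hx
  exact Submodule.mem_sup.mpr ⟨p, hp, _, hxp, add_sub_cancel _ _⟩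

end CfsgLib.LinearElements
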