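import Cfsg.Agent.LinearElements.SubfieldModels
import Cfsg.Agent.Aschbacher57.OrthRational

/-! Maps of order `r` over a field of degree `r` over a subfield have rational bases, with any determinant. -/

set_option autoImplicit false

namespace CfsgLib.LinearElements

open Module Polynomial

variable {F : Type*} [Field F] [Fintype F] {F₀ : Subfield F}

theorem pow_eq_pow_of_cast_eq {M : Type*} [Monoid M] {g : M} {r a b : ℕ} (hg : g ^ r = 1)
    (h : (a : ZMod r) = (b : ZMod r)) : g ^ a = g ^ b := by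
  rw [pow_eq_pow_mod a hg, pow_eq_pow_mod b hg, (ZMod.natCast_eq_natCast_iff' _ _ _).mp h]

section

variable {V : Type*} [AddCommGroup V] [Module F V]

/-- A vector killed by `f(g)` is killed by `f(g ^ q)`. -/
theorem aeval_pow_card_apply {g : Module.End F V} {f : F[X]} {v : V} (h : aeval g f v = 0) :
    aeval (g ^ Fintype.card F) f v = 0 := by
  rw [← expand_aeval, FiniteField.expand_card, map_pow,
    show Fintype.card F = Fintype.card F - 1 + 1 by have := Fintype.card_pos (α := F); omega, pow_succ,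
    Module.End.mul_apply, h, map_zero]

/-- If `q ^ (r - 1) ≡ 1` and `q ≡ q₀` mod `r`, the kernel of evaluation at `v` is stable under `a ↦ a ^ q₀`. -/
theorem aeval_map_frobenius_apply {p : ℕ} [Fact p.Prime] [CharP F p] {e r : ℕ} [Fact r.Prime] {g : Module.End F V}
    (hg : g ^ r = 1) (hr : (Fintype.card F : ZMod r) = ((p ^ e : ℕ) : ZMod r))
    (hr0 : (Fintype.card F : ZMod r) ≠ 0) {f : F[X]} {v : V} (h : aeval g f v = 0) :
    aeval g (f.map (iterateFrobenius F p e)) v = 0 := by
  have hit : ∀ i, aeval (g ^ (Fintype.card F ^ i)) f v = 0 := fun i => by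
    induction i with
    | zero => simpa using h
    | succ i ih => rw [pow_succ, pow_mul]; exact aeval_pow_card_apply ih
  set i := r - 2
  set s := Fintype.card F ^ i with hs
  have hh := hit i
  rw [← hs] at hh
  have e1 : (g ^ s) ^ p ^ e = g := by
    rw [← pow_mul]
    conv_rhs => rw [← pow_one g]
    refine pow_eq_pow_of_cast_eq hg ?_
    rw [Nat.cast_mul, ← hr, hs, Nat.cast_pow, ← pow_succ, Nat.cast_one,
      show r - 2 + 1 = r - 1 by have := (Fact.out : r.Prime).two_le; omega]
    exact ZMod.pow_card_sub_one_eq_one hr0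
  have hpos : 0 < p ^ e := pow_pos (Fact.out : p.Prime).pos _
  have h1 := congrArg (fun P : F[X] => aeval (g ^ s) P v) (map_iterateFrobenius_expand (p := p) f e)
  simp only [Polynomial.map_expand, expand_aeval, e1, map_pow] at h1
  rw [h1, show p ^ e = p ^ e - 1 + 1 by omega, pow_succ, Module.End.mul_apply, hh, map_zero]

/-- A cyclic invariant subspace has a rational basis. -/
theorem exists_rational_cyclic [FiniteDimensional F V] {p : ℕ} [Fact p.Prime] [CharP F p] {e r : ℕ} [Fact r.Prime]
    {g : Module.End F V} (hg : g ^ r = 1) (hF₀ : Nat.card F₀ = p ^ e)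
    (hr : (Fintype.card F : ZMod r) = ((p ^ e : ℕ) : ZMod r)) (hr0 : (Fintype.card F : ZMod r) ≠ 0)
    {W : Submodule F V} (hW : InvBy g W) {v : V} (hv : v ∈ W) :
    ∃ (m : ℕ) (w : Fin m → V), LinearIndependent F w ∧ Submodule.span F (Set.range w) ≤ W ∧
      v ∈ Submodule.span F (Set.range w) ∧ ∀ j, g (w j) ∈ Submodule.span F₀ (Set.range w) := by
  classical
  have hex : ∃ m, (g ^ m) v ∈ Submodule.span F (Set.range fun l : Fin m => (g ^ (l : ℕ)) v) := by
    by_contra hno
    push Not at hno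
    have hli : ∀ m, LinearIndependent F fun l : Fin m => (g ^ (l : ℕ)) v := by
      intro m
      induction m with
      | zero => exact linearIndependent_empty_type
      | succ m ih =>
        rw [linearIndependent_finSucc']
        exact ⟨ih, by simpa [Function.comp_def, Fin.init_def] using hno m⟩
    have := (hli (Module.finrank F V + 1)).fintype_card_le_finrank
    simp at this
  let m := Nat.find hex
  have hm := Nat.find_spec hex
  have hmin : ∀ j < m, (g ^ j) v ∉ Submodule.span F (Set.range fun l : Fin j => (g ^ (l : ℕ)) v) :=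
    fun j hj => Nat.find_min hex hj
  have hli : ∀ j ≤ m, LinearIndependent F fun l : Fin j => (g ^ (l : ℕ)) v := by
    intro j
    induction j with
    | zero => exact fun _ => linearIndependent_empty_type
    | succ j ih =>
      intro hj
      rw [linearIndependent_finSucc']
      exact ⟨ih (by omega), by simpa [Function.comp_def, Fin.init_def] using hmin j (by omega)⟩
  set w : Fin m → V := fun l => (g ^ (l : ℕ)) v with hw
  obtain ⟨c, hc⟩ := (Submodule.mem_span_range_iff_exists_fun F).mp hm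
  let f : F[X] := X ^ m - ∑ l : Fin m, C (c l) * X ^ (l : ℕ)
  have haev : ∀ d : Fin m → F, aeval g (X ^ m - ∑ l : Fin m, C (d l) * X ^ (l : ℕ)) v =
      (g ^ m) v - ∑ l, d l • w l := fun d => by
    simp [hw, map_sub, map_sum, LinearMap.sum_apply, Module.algebraMap_end_apply]
  have hf : aeval g f v = 0 := by rw [haev, ← hc, sub_self]
  have hσ := aeval_map_frobenius_apply hg hr hr0 hf
  simp only [f, Polynomial.map_sub, Polynomial.map_pow, map_X, Polynomial.map_sum, Polynomial.map_mul, map_C] at hσ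
  rw [haev, sub_eq_zero, ← hc] at hσ
  have hfix : ∀ l, c l ∈ F₀ := fun l => OrthRational57.mem_of_pow_card (by
    have h0 : ∑ l, (c l - iterateFrobenius F p e (c l)) • w l = 0 := by
      simp only [sub_smul, Finset.sum_sub_distrib, sub_eq_zero]; exact hσ
    rw [hF₀, ← iterateFrobenius_def p e (c l)]
    exact (sub_eq_zero.mp (Fintype.linearIndependent_iff.mp (hli m le_rfl) _ h0 l)).symm)
  refine ⟨m, w, hli m le_rfl, Submodule.span_le.mpr ?_, ?_, fun j => ?_⟩
  · rintro _ ⟨l, rfl⟩; exact hW.pow _ v hv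
  · rcases Nat.eq_zero_or_pos m with h0 | h0
    · have hsum : (g ^ m) v ∈ Submodule.span F (Set.range w) := hm
      rwa [show (g ^ m) v = v by rw [h0]; rfl] at hsum
    · exact Submodule.subset_span ⟨⟨0, h0⟩, by simp [hw]⟩
  · have e1 : g (w j) = (g ^ ((j : ℕ) + 1)) v := by rw [pow_succ', Module.End.mul_apply]
    rw [e1]
    by_cases h : (j : ℕ) + 1 < m
    · exact Submodule.subset_span ⟨⟨_, h⟩, rfl⟩
    · have h2 : (j : ℕ) + 1 = m := by have := j.2; omega
      rw [h2, ← hc]
      exact Submodule.sum_mem _ fun l _ =>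
        Submodule.smul_mem _ (⟨c l, hfix l⟩ : F₀) (Submodule.subset_span ⟨l, rfl⟩)

/-- Every invariant subspace has a rational basis. -/
theorem exists_rational [FiniteDimensional F V] {p : ℕ} [Fact p.Prime] [CharP F p] {e r : ℕ} [Fact r.Prime]
    {g : Module.End F V} (hg : g ^ r = 1) (hrF : (r : F) ≠ 0) (hF₀ : Nat.card F₀ = p ^ e)
    (hr : (Fintype.card F : ZMod r) = ((p ^ e : ℕ) : ZMod r)) (hr0 : (Fintype.card F : ZMod r) ≠ 0)
    (W : Submodule F V) (hW : InvBy g W) :
    ∃ (m : ℕ) (w : Fin m → V), LinearIndependent F w ∧ Submodule.span F (Set.range w) = W ∧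
      ∀ j, g (w j) ∈ Submodule.span F₀ (Set.range w) := by
  induction hd : finrank F W using Nat.strong_induction_on generalizing W with
  | _ d ih =>
  by_cases h0 : W = ⊥
  · exact ⟨0, ![], linearIndependent_empty_type, by simp [h0], fun j => j.elim0⟩
  obtain ⟨v, hv, hv0⟩ := Submodule.exists_mem_ne_zero_of_ne_bot h0
  obtain ⟨m, w, hli, hle, hvw, hrat⟩ := exists_rational_cyclic hg hF₀ hr hr0 hW hv
  set U := Submodule.span F (Set.range w)
  have hU : InvBy g U := invBy_iff_map_le.mpr (by
    rw [Submodule.map_span, Submodule.span_le]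
    rintro _ ⟨_, ⟨j, rfl⟩, rfl⟩
    exact Submodule.span_le_restrictScalars F₀ F _ (hrat j))
  obtain ⟨W', hW', hle', hinf, hsup⟩ := exists_invBy_compl (r := r) (lam := 1) (Fact.out : r.Prime).pos hrF
    one_ne_zero (by rw [hg, one_smul]) hW hU hle
  have hlt : finrank F W' < d := by
    have h1 := finrank_sup_of_disjoint hinf
    rw [hsup, hd] at h1
    have : 0 < finrank F U := Nat.pos_of_ne_zero fun h =>
      hv0 (by simpa [Submodule.finrank_eq_zero.mp h] using hvw)
    omega
  obtain ⟨m', w', hli', hspan', hrat'⟩ := ih _ hlt W' hW' rfl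
  have hrange : Set.range (Sum.elim w w' ∘ finSumFinEquiv.symm) = Set.range w ∪ Set.range w' := by
    rw [EquivLike.range_comp, Set.Sum.elim_range]
  refine ⟨m + m', Sum.elim w w' ∘ finSumFinEquiv.symm,
    (hli.sum_type hli' (by rw [disjoint_iff, hspan']; exact hinf)).comp _ finSumFinEquiv.symm.injective, ?_, fun j => ?_⟩
  · rw [hrange, Submodule.span_union, hspan', hsup]
  · rw [hrange]
    simp only [Function.comp_apply]
    rcases finSumFinEquiv.symm j with i | i
    · exact Submodule.span_mono Set.subset_union_left (hrat i)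
    · exact Submodule.span_mono Set.subset_union_right (hrat' i)

end

omit [Fintype F] in
theorem coord_of_mem_span {n : ℕ} (B : Basis (Fin n) F (Fin n → F)) {J : Set (Fin n)} {v : Fin n → F}
    (h : v ∈ Submodule.span F₀ (B '' J)) : ∀ i, B.repr v i ∈ F₀ ∧ (i ∉ J → B.repr v i = 0) := by
  induction h using Submodule.span_induction with
  | mem x hx =>
    obtain ⟨j, hj, rfl⟩ := hx
    intro i
    rw [B.repr_self, Finsupp.single_apply]
    split_ifs with h
    · exact ⟨F₀.one_mem, fun hi => absurd (h ▸ hj) hi⟩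
    · exact ⟨F₀.zero_mem, fun _ => rfl⟩
  | zero => intro i; simp [F₀.zero_mem]
  | add x y _ _ hx hy =>
    intro i
    rw [map_add, Finsupp.add_apply]
    exact ⟨F₀.add_mem (hx i).1 (hy i).1, fun hi => by rw [(hx i).2 hi, (hy i).2 hi, add_zero]⟩
  | smul a x _ hx =>
    intro i
    rw [show a • x = (a : F) • x from rfl, map_smul, Finsupp.smul_apply, smul_eq_mul]
    exact ⟨F₀.mul_mem a.2 (hx i).1, fun hi => by rw [(hx i).2 hi, mul_zero]⟩

/-- When `m < r` every element is an `m`-th power times an element of the subfield of index `r`. -/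
theorem exists_pow_mul_mem {r : ℕ} [Fact r.Prime] {q₀ : ℕ} (hF₀ : Nat.card F₀ = q₀)
    (hq : Fintype.card F = q₀ ^ r) {m : ℕ} (hm0 : 0 < m) (hm : m < r) {δ : F} (hδ : δ ≠ 0) :
    ∃ a f : F, a ≠ 0 ∧ f ≠ 0 ∧ f ∈ F₀ ∧ a ^ m * f = δ := by
  have hr := (Fact.out : r.Prime)
  have hq1 : 1 < q₀ := hF₀ ▸ Finite.one_lt_card
  set S := ∑ j ∈ Finset.range r, q₀ ^ j with hS
  have hcop : Nat.Coprime m S := Nat.coprime_of_dvd fun l hl hlm hlS => by
    haveI := Fact.mk hl
    have hlr : l < r := (Nat.le_of_dvd hm0 hlm).trans_lt hm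
    rw [← ZMod.natCast_eq_zero_iff, hS, Nat.cast_sum] at hlS
    simp only [Nat.cast_pow] at hlS
    have h1 : (q₀ : ZMod l) ^ r = 1 := by
      have := geom_sum_mul (q₀ : ZMod l) r
      rw [hlS, zero_mul] at this
      exact (sub_eq_zero.mp this.symm)
    have hne : (q₀ : ZMod l) ≠ 0 := fun e => by rw [e, zero_pow hr.ne_zero] at h1; exact zero_ne_one h1
    have hone : (q₀ : ZMod l) = 1 := orderOf_eq_one_iff.mp (((Nat.dvd_prime hr).mp
      (orderOf_dvd_of_pow_eq_one h1)).resolve_right fun e => by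
        have := Nat.le_of_dvd (by have := hl.two_le; omega) (ZMod.orderOf_dvd_card_sub_one hne)
        omega)
    rw [hone] at hlS
    simp only [one_pow, Finset.sum_const, Finset.card_range, nsmul_eq_mul, mul_one] at hlS
    exact hlr.ne ((Nat.prime_dvd_prime_iff_eq hl hr).mp ((ZMod.natCast_eq_zero_iff _ _).mp hlS))
  have hSq : Fintype.card F - 1 = S * (q₀ - 1) := by
    have h := geom_sum₂_mul_of_ge (show 1 ≤ q₀ by omega) r
    simp only [one_pow, mul_one] at h
    rw [hq, hS, h]
  have hSF : δ ^ S ∈ F₀ := OrthRational57.mem_of_pow_card (by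
    rw [hF₀, show q₀ = q₀ - 1 + 1 by omega, pow_succ, ← pow_mul, ← hSq,
      FiniteField.pow_card_sub_one_eq_one δ hδ, one_mul])
  rcases Nat.lt_or_ge 1 S with hS1 | hS1
  · obtain ⟨b, hb⟩ := Nat.exists_mul_mod_eq_one_of_coprime hcop hS1
    set t := m * b / S
    have e : m * b = 1 + S * t := by
      have := Nat.mod_add_div (m * b) S
      rw [hb.2] at this
      exact this.symm
    refine ⟨δ ^ b, ((δ ^ S) ^ t)⁻¹, pow_ne_zero _ hδ, inv_ne_zero (pow_ne_zero _ (pow_ne_zero _ hδ)),
      F₀.inv_mem (F₀.pow_mem hSF t), ?_⟩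
    rw [← pow_mul δ b, mul_comm b, e, pow_add, pow_one, pow_mul, mul_assoc,
      mul_inv_cancel₀ (pow_ne_zero _ (pow_ne_zero _ hδ)), mul_one]
  · exfalso
    have h1 : ∑ j ∈ ({0, 1} : Finset ℕ), q₀ ^ j ≤ S := Finset.sum_le_sum_of_subset (by
      intro j hj
      simp only [Finset.mem_insert, Finset.mem_singleton] at hj
      rw [Finset.mem_range]
      have := hr.two_le
      omega)
    rw [Finset.sum_pair zero_ne_one] at h1
    simp at h1
    omega

/-- For `q = q₀ ^ r` an element whose `r`-th power is the scalar `μ ^ r` is conjugate into the subfield group. -/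
theorem exists_conj_subfield_of_root {p : ℕ} [Fact p.Prime] [CharP F p] {e r n : ℕ} [Fact r.Prime] (hrp : r ≠ p)
    (hn : 0 < n) (hF₀ : Nat.card F₀ = p ^ e) (hq : Fintype.card F = (p ^ e) ^ r)
    (x : Matrix.SpecialLinearGroup (Fin n) F) {μ : F} (hμ : μ ≠ 0)
    (hx : (x : Matrix (Fin n) (Fin n) F) ^ r = μ ^ r • (1 : Matrix (Fin n) (Fin n) F)) :
    ∃ P : Matrix.SpecialLinearGroup (Fin n) F, P⁻¹ * x * P ∈ subfieldSL n F₀ := by
  classical
  have hr0 := cast_card_ne_zero (F := F) hrp
  have hrF := natCast_ne_zero (F := F) hrp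
  have hr : (Fintype.card F : ZMod r) = ((p ^ e : ℕ) : ZMod r) := by
    rw [hq, Nat.cast_pow (p ^ e) r]; exact ZMod.pow_card _
  set g : Module.End F (Fin n → F) := μ⁻¹ • Matrix.toLin' (x : Matrix (Fin n) (Fin n) F) with hgdef
  have hg : g ^ r = 1 := by
    have h1 : (Matrix.toLin' (x : Matrix (Fin n) (Fin n) F)) ^ r = μ ^ r • 1 := by
      show Matrix.toLinAlgEquiv' (x : Matrix (Fin n) (Fin n) F) ^ r = _
      rw [← map_pow, hx, map_smul, map_one]
    rw [hgdef, _root_.smul_pow, h1, smul_smul, inv_pow, inv_mul_cancel₀ (pow_ne_zero _ hμ), one_smul]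
  haveI : Nonempty (Fin n) := ⟨⟨0, hn⟩⟩
  obtain ⟨U₀, -, hU₀, hU₀0, hU₀d⟩ := exists_small_invBy hg hr0 (invBy_top (g := g)) top_ne_bot
  obtain ⟨v, hv, hv0⟩ := Submodule.exists_mem_ne_zero_of_ne_bot hU₀0
  obtain ⟨m, w, hli, hle, hvw, hrat⟩ := exists_rational_cyclic hg hF₀ hr hr0 hU₀ hv
  set U := Submodule.span F (Set.range w) with hUdef
  have hUfin : finrank F U = m := by rw [finrank_span_eq_card hli, Fintype.card_fin]
  have hm : m < r := by
    have h1 := Submodule.finrank_mono hle
    rw [hUfin] at h1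
    have h2 : orderOf (Fintype.card F : ZMod r) ≤ r - 1 :=
      Nat.le_of_dvd (by have := (Fact.out : r.Prime).two_le; omega) (ZMod.orderOf_dvd_card_sub_one hr0)
    have := (Fact.out : r.Prime).two_le
    omega
  have hm0 : 0 < m := Nat.pos_of_ne_zero fun h => by
    subst h
    rw [hUdef, Set.range_eq_empty, Submodule.span_empty, Submodule.mem_bot] at hvw
    exact hv0 hvw
  have hU : InvBy g U := invBy_iff_map_le.mpr (by
    rw [hUdef, Submodule.map_span, Submodule.span_le]
    rintro _ ⟨_, ⟨j, rfl⟩, rfl⟩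
    exact Submodule.span_le_restrictScalars F₀ F _ (hrat j))
  obtain ⟨W', hW', -, hinf, hsup⟩ := exists_invBy_compl (r := r) (lam := 1) (Fact.out : r.Prime).pos hrF one_ne_zero
    (by rw [hg, one_smul]) invBy_top hU le_top
  obtain ⟨m', w', hli', hspan', hrat'⟩ := exists_rational hg hrF hF₀ hr hr0 W' hW'
  let b : Basis (Fin m ⊕ Fin m') F (Fin n → F) := Basis.mk
    (hli.sum_type hli' (by rw [disjoint_iff, hspan']; exact hinf))
    (by rw [Set.Sum.elim_range, Submodule.span_union, hspan', hsup])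
  let ε : Fin m ⊕ Fin m' ≃ Fin n := Fintype.equivFinOfCardEq (by
    rw [← Module.finrank_eq_card_basis b, Module.finrank_fin_fun])
  let B := b.reindex ε
  have hB : ∀ s, B (ε s) = Sum.elim w w' s := fun s => by simp [B, b]
  set J : Set (Fin n) := ε '' Set.range Sum.inl with hJdef
  have hJ1 : B '' J = Set.range w := by
    rw [hJdef, Set.image_image, ← Set.range_comp]
    congr 1
    funext i
    simp [hB]
  have hJ2 : B '' Jᶜ = Set.range w' := by
    rw [hJdef, ← Set.image_compl_eq ε.bijective, Set.compl_range_inl, Set.image_image, ← Set.range_comp]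
    congr 1
    funext i
    simp [hB]
  have hent : ∀ i j, B.repr (g (B j)) i ∈ F₀ ∧ (¬(i ∈ J ↔ j ∈ J) → B.repr (g (B j)) i = 0) := by
    intro i j
    obtain ⟨s, rfl⟩ := ε.surjective j
    rw [hB]
    rcases s with a | a
    · have h := coord_of_mem_span B (J := J) (v := g (w a)) (by rw [hJ1]; exact hrat a) i
      refine ⟨h.1, fun hne => h.2 fun hi => hne ⟨fun _ => ⟨_, ⟨a, rfl⟩, rfl⟩, fun _ => hi⟩⟩
    · have h := coord_of_mem_span B (J := Jᶜ) (v := g (w' a)) (by rw [hJ2]; exact hrat' a) i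
      refine ⟨h.1, fun hne => h.2 fun hi => hne ⟨fun h' => absurd h' hi, fun h' => ?_⟩⟩
      obtain ⟨_, ⟨b', rfl⟩, hb'⟩ := h'
      exact absurd (ε.injective hb') (by simp)
  have hunit : IsUnit ((Pi.basisFun F (Fin n)).toMatrix B).det := by
    haveI := (Pi.basisFun F (Fin n)).invertibleToMatrix B
    exact Matrix.isUnit_det_of_invertible _
  obtain ⟨a, f, ha, hf, hfF, haf⟩ :=
    exists_pow_mul_mem hF₀ hq hm0 hm (inv_ne_zero hunit.ne_zero)
  let i₀ : Fin n := ε (.inl ⟨0, hm0⟩)
  let d : Fin n → F := fun i => (if i ∈ J then a else 1) * (if i = i₀ then f else 1)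
  have hd0 : ∀ i, d i ≠ 0 := fun i => by simp only [d]; split_ifs <;> simp [ha, hf]
  have hdprod : ∏ i, d i = a ^ m * f := by
    have h1 : ∀ (i : Fin m), (ε (.inl i) : Fin n) ∈ J := fun i => ⟨_, ⟨i, rfl⟩, rfl⟩
    have h2 : ∀ (i : Fin m'), (ε (.inr i) : Fin n) ∉ J := fun i h => by
      obtain ⟨_, ⟨b', rfl⟩, hb'⟩ := h
      exact absurd (ε.injective hb') (by simp)
    simp only [d, Finset.prod_mul_distrib, Finset.prod_ite_eq', Finset.mem_univ, if_true]
    rw [← ε.prod_comp, Fintype.prod_sum_type]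
    simp [h1, h2]
  let B' := B.unitsSMul fun i => Units.mk0 (d i) (hd0 i)
  have hB' : ∀ i, B' i = d i • B i := fun i => by rw [Basis.unitsSMul_apply]; rfl
  refine exists_conj_mem_subfield x B' ?_ (c := μ⁻¹) (inv_ne_zero hμ) fun i j => ?_
  · have : (Pi.basisFun F (Fin n)).toMatrix B' = (Pi.basisFun F (Fin n)).toMatrix B * Matrix.diagonal d := by
      ext i j
      rw [Matrix.mul_diagonal, Basis.toMatrix_apply, Basis.toMatrix_apply, hB']
      rw [map_smul, Finsupp.smul_apply, smul_eq_mul, mul_comm]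
    rw [this, Matrix.det_mul, Matrix.det_diagonal, hdprod, haf, mul_inv_cancel₀ hunit.ne_zero]
  · have e1 : μ⁻¹ * B'.repr (Matrix.toLin' (x : Matrix (Fin n) (Fin n) F) (B' j)) i = B'.repr (g (B' j)) i := by
      rw [hgdef, LinearMap.smul_apply, map_smul, Finsupp.smul_apply, smul_eq_mul]
    rw [e1, hB', map_smul, map_smul, Finsupp.smul_apply, Basis.repr_unitsSMul, Units.smul_def,
      Units.val_inv_eq_inv_val, Units.val_mk0, smul_eq_mul, smul_eq_mul, ← mul_assoc]
    have he := hent i j
    by_cases hij : i ∈ J ↔ j ∈ J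
    · refine F₀.mul_mem ?_ he.1
      have hfac : ∀ l, (if l = i₀ then f else 1) ∈ F₀ := fun l => by
        split
        · exact hfF
        · exact F₀.one_mem
      have hA : (if i ∈ J then a else 1) ≠ 0 := by split <;> simp [ha]
      have hAA : (if j ∈ J then a else 1) = (if i ∈ J then a else 1) := if_congr hij.symm rfl rfl
      have hii : (if i = i₀ then f else 1) ≠ 0 := by split <;> simp [hf]
      show d j * (d i)⁻¹ ∈ F₀
      rw [show d j * (d i)⁻¹ = (if j = i₀ then f else 1) * (if i = i₀ then f else 1)⁻¹ by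
        simp only [d, hAA]; field_simp]
      exact F₀.mul_mem (hfac j) (F₀.inv_mem (hfac i))
    · rw [he.2 hij, mul_zero]; exact F₀.zero_mem

end CfsgLib.LinearElements
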