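import Cfsg.Agent.LinearElements.RElements
import Cfsg.Agent.LinearElements.SubfieldElements

/-!
Invariant nondegenerate subspaces of an isometry of odd prime order of an alternating form: the atoms have
dimension `c` (`c = i` for `i` even, `c = 2i` for `i` odd, `i` the order of `q` modulo `r`), and the invariant
nondegenerate subspaces realise every combination of atoms and fixed planes.
-/

set_option autoImplicit false

namespace CfsgLib.LinearElements

open Module Submodule Polynomial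

variable {F V : Type*} [Field F] [AddCommGroup V] [Module F V]

/-- The form is nondegenerate on `W`. -/
def SepOn (B : LinearMap.BilinForm F V) (W : Submodule F V) : Prop :=
  ∀ w ∈ W, w ≠ 0 → ∃ y ∈ W, B w y ≠ 0

variable {B : LinearMap.BilinForm F V} {g : Module.End F V}

theorem sepOn_bot : SepOn B ⊥ := fun w hw h0 => absurd ((Submodule.mem_bot F).mp hw) h0

theorem sepOn_sup (hA : B.IsAlt) {X Y : Submodule F V} (hX : SepOn B X) (hY : SepOn B Y)
    (horth : ∀ x ∈ X, ∀ y ∈ Y, B x y = 0) : SepOn B (X ⊔ Y) := by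
  intro w hw hne
  obtain ⟨x, hx, y, hy, rfl⟩ := Submodule.mem_sup.mp hw
  rcases eq_or_ne x 0 with rfl | hx0
  · obtain ⟨z, hz, hyz⟩ := hY y hy (by simpa using hne)
    exact ⟨z, Submodule.mem_sup_right hz, by simpa using hyz⟩
  · obtain ⟨z, hz, hxz⟩ := hX x hx hx0
    refine ⟨z, Submodule.mem_sup_left hz, ?_⟩
    rw [map_add, LinearMap.add_apply, ← LinearMap.IsAlt.neg hA z y, horth z hz y hy, neg_zero, add_zero]
    exact hxz

theorem sepOn_disjoint (hA : B.IsAlt) {X Y : Submodule F V} (hX : SepOn B X)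
    (horth : ∀ x ∈ X, ∀ y ∈ Y, B x y = 0) : X ⊓ Y = ⊥ := by
  rw [Submodule.eq_bot_iff]
  rintro v ⟨hvX, hvY⟩
  by_contra hv
  obtain ⟨z, hz, hzv⟩ := hX v hvX hv
  exact hzv (by rw [← LinearMap.IsAlt.neg hA z v, horth z hz v hvY, neg_zero])

section
variable [Fintype F] [FiniteDimensional F V] (hA : B.IsAlt) (hgB : ∀ u v, B (g u) (g v) = B u v)
  {r : ℕ} (hg : g ^ r = 1) (hr : 0 < r)

include hA hgB hg hr

/-- The orthogonal complement inside a nondegenerate invariant subspace. -/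
theorem exists_perp_in {W X : Submodule F V} (hW : InvBy g W) (hWs : SepOn B W) (hX : InvBy g X) (hXs : SepOn B X)
    (hXW : X ≤ W) :
    ∃ Y, Y ≤ W ∧ InvBy g Y ∧ SepOn B Y ∧ (∀ x ∈ X, ∀ y ∈ Y, B x y = 0) ∧ X ⊔ Y = W ∧
      finrank F W = finrank F X + finrank F Y := by
  have hperp : ∀ y, y ∈ B.orthogonal X ↔ ∀ x ∈ X, B x y = 0 := fun y => Iff.rfl
  have hdis : Disjoint X (B.orthogonal X) :=
    disjoint_iff.mpr (sepOn_disjoint hA hXs fun x hx y hy => (hperp y).mp hy x hx)
  have hcompl := (LinearMap.BilinForm.isCompl_orthogonal_iff_disjoint hA.isRefl).mpr hdis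
  set Y := B.orthogonal X ⊓ W
  have hsup : X ⊔ Y = W := by
    rw [← sup_inf_assoc_of_le _ hXW, hcompl.sup_eq_top, top_inf_eq]
  have horth : ∀ x ∈ X, ∀ y ∈ Y, B x y = 0 := fun x hx y hy => (hperp y).mp hy.1 x hx
  refine ⟨Y, inf_le_right, ?_, ?_, horth, hsup, ?_⟩
  · intro y hy
    refine ⟨(hperp _).mpr fun x hx => ?_, hW y hy.2⟩
    have h1 : x = g ((g ^ (r - 1)) x) := by
      rw [← Module.End.mul_apply, ← pow_succ', Nat.sub_add_cancel hr, hg, Module.End.one_apply]
    rw [h1, hgB]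
    exact horth _ (hX.pow _ x hx) y hy
  · intro y hy hy0
    obtain ⟨z, hz, hyz⟩ := hWs y hy.2 hy0
    rw [← hsup] at hz
    obtain ⟨z1, hz1, z2, hz2, rfl⟩ := Submodule.mem_sup.mp hz
    refine ⟨z2, hz2, fun e => hyz ?_⟩
    rw [map_add, e, ← LinearMap.IsAlt.neg hA z1 y, horth z1 hz1 y hy, neg_zero, add_zero]
  · have h := Submodule.finrank_sup_add_finrank_inf_eq X Y
    rw [hsup, sepOn_disjoint hA hXs horth, finrank_bot, Nat.add_zero] at h
    exact h

/-- Subspaces assembled from equal steps. -/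
theorem exists_chain {s : ℕ} {M : Submodule F V} (hM : InvBy g M) (hMs : SepOn B M)
    (hstep : ∀ M', M' ≤ M → InvBy g M' → SepOn B M' → M' ≠ ⊥ →
      ∃ X, X ≤ M' ∧ InvBy g X ∧ SepOn B X ∧ finrank F X = s) :
    ∀ k, k * s ≤ finrank F M → ∃ X, X ≤ M ∧ InvBy g X ∧ SepOn B X ∧ finrank F X = k * s := by
  intro k
  induction k with
  | zero => exact fun _ => ⟨⊥, bot_le, invBy_bot, sepOn_bot, by simp⟩
  | succ k ih =>
    intro hk
    obtain ⟨X, hXM, hX, hXs, hXd⟩ := ih (le_trans (Nat.mul_le_mul_right _ (Nat.le_succ k)) hk)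
    obtain ⟨Y, hYM, hY, hYs, horth, -, hd⟩ := exists_perp_in hA hgB hg hr hM hMs hX hXs hXM
    rw [Nat.succ_mul] at hk ⊢
    rcases Nat.eq_zero_or_pos s with rfl | hs
    · exact ⟨X, hXM, hX, hXs, by simpa using hXd⟩
    obtain ⟨Z, hZY, hZ, hZs, hZd⟩ := hstep Y hYM hY hYs (fun e => by rw [e, finrank_bot] at hd; omega)
    have horth' : ∀ x ∈ X, ∀ z ∈ Z, B x z = 0 := fun x hx z hz => horth x hx z (hZY hz)
    refine ⟨X ⊔ Z, sup_le hXM (hZY.trans hYM), hX.sup hZ, sepOn_sup hA hXs hZs horth', ?_⟩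
    have h := Submodule.finrank_sup_add_finrank_inf_eq X Z
    rw [sepOn_disjoint hA hXs horth', finrank_bot, Nat.add_zero] at h
    omega

theorem dvd_of_step {s : ℕ} (hs : 0 < s) {M : Submodule F V} (hM : InvBy g M) (hMs : SepOn B M)
    (hstep : ∀ M', M' ≤ M → InvBy g M' → SepOn B M' → M' ≠ ⊥ →
      ∃ X, X ≤ M' ∧ InvBy g X ∧ SepOn B X ∧ finrank F X = s) : s ∣ finrank F M := by
  obtain ⟨X, hXM, hX, hXs, hXd⟩ := exists_chain hA hgB hg hr hM hMs hstep (finrank F M / s) (Nat.div_mul_le_self _ _)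
  obtain ⟨Y, hYM, hY, hYs, -, -, hd⟩ := exists_perp_in hA hgB hg hr hM hMs hX hXs hXM
  rcases eq_or_ne Y ⊥ with rfl | hY0
  · rw [finrank_bot, hXd, Nat.add_zero] at hd
    exact ⟨_, by rw [hd, mul_comm]⟩
  · obtain ⟨Z, hZY, -, -, hZd⟩ := hstep Y hYM hY hYs hY0
    have h1 : s ≤ finrank F Y := hZd ▸ Submodule.finrank_mono hZY
    have h2 := Nat.lt_div_mul_add (a := finrank F M) hs
    rw [hXd] at hd
    omega

/-- The fixed space of a nondegenerate invariant subspace is nondegenerate. -/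
theorem sepOn_fixedIn (hrF : (r : F) ≠ 0) {W : Submodule F V} (hW : InvBy g W) (hWs : SepOn B W) :
    SepOn B (fixedIn g W) := by
  intro w hw hw0
  obtain ⟨hwW, hgw⟩ := mem_fixedIn.mp hw
  obtain ⟨y, hy, hwy⟩ := hWs w hwW hw0
  refine ⟨(∑ k ∈ Finset.range r, g ^ k) y, mem_fixedIn.mpr ⟨?_, ?_⟩, ?_⟩
  · rw [LinearMap.sum_apply]
    exact Submodule.sum_mem _ fun k _ => hW.pow k y hy
  · have h2 := mul_geom_sum g r
    rw [hg, sub_self, sub_mul, one_mul, sub_eq_zero] at h2
    exact congrArg (fun f : Module.End F V => f y) h2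
  · have hk : ∀ k : ℕ, B w ((g ^ k) y) = B w y := fun k => by
      induction k with
      | zero => simp
      | succ k ih =>
        rw [pow_succ', Module.End.mul_apply]
        conv_lhs => rw [← hgw]
        rw [hgB, ih]
    rw [LinearMap.sum_apply, map_sum, Finset.sum_congr rfl fun k _ => hk k, Finset.sum_const, Finset.card_range,
      nsmul_eq_mul]
    exact mul_ne_zero hrF hwy

/-- The moving part of a nondegenerate invariant subspace. -/
theorem exists_moving (hrF : (r : F) ≠ 0) {W : Submodule F V} (hW : InvBy g W) (hWs : SepOn B W) :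
    ∃ M, M ≤ W ∧ InvBy g M ∧ SepOn B M ∧ fixedIn g M = ⊥ ∧ (∀ x ∈ fixedIn g W, ∀ y ∈ M, B x y = 0) ∧
      finrank F W = finrank F (fixedIn g W) + finrank F M := by
  have hfix : InvBy g (fixedIn g W) := fun v hv => by rw [(mem_fixedIn.mp hv).2]; exact hv
  have hfs := sepOn_fixedIn hA hgB hg hr hrF hW hWs
  obtain ⟨M, hMW, hM, hMs, horth, -, hd⟩ := exists_perp_in hA hgB hg hr hW hWs hfix hfs inf_le_left
  refine ⟨M, hMW, hM, hMs, ?_, horth, hd⟩
  rw [← le_bot_iff, ← sepOn_disjoint hA hfs horth]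
  exact le_inf (inf_le_inf_right _ hMW) inf_le_left

omit hgB hg hr in
/-- A nondegenerate subspace contains a nondegenerate plane. -/
theorem exists_plane {W : Submodule F V} (hWs : SepOn B W) (hW0 : W ≠ ⊥) :
    ∃ X, X ≤ W ∧ SepOn B X ∧ finrank F X = 2 := by
  obtain ⟨u, hu, hu0⟩ := (Submodule.ne_bot_iff _).mp hW0
  obtain ⟨v, hv, huv⟩ := hWs u hu hu0
  have hvu : B v u = -B u v := (LinearMap.IsAlt.neg hA u v).symm
  refine ⟨span F {u, v}, span_le.mpr (by simp [Set.insert_subset_iff, hu, hv]), fun w hw hw0 => ?_, ?_⟩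
  · obtain ⟨a, b, rfl⟩ := mem_span_pair.mp hw
    rcases eq_or_ne a 0 with rfl | ha
    · refine ⟨u, subset_span (by simp), ?_⟩
      have hb : b ≠ 0 := fun e => hw0 (by simp [e])
      simp [hvu, hb, huv]
    · exact ⟨v, subset_span (by simp), by simp [hA v, ha, huv]⟩
  · have hli : LinearIndependent F ![u, v] := by
      rw [LinearIndependent.pair_iff]
      intro a b hab
      have h1 := congrArg (fun z => B z v) hab
      have h2 := congrArg (fun z => B z u) hab
      simp [hA v] at h1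
      simp [hA u, hvu] at h2
      exact ⟨h1.resolve_right huv, h2.resolve_right huv⟩
    rw [← Matrix.range_cons_cons_empty u v ![], finrank_span_eq_card hli, Fintype.card_fin]

omit hgB hg hr in
theorem even_finrank_sepOn {W : Submodule F V} (hWs : SepOn B W) : 2 ∣ finrank F W :=
  dvd_of_step (g := 1) (r := 1) hA (fun _ _ => rfl) (pow_one 1) one_pos two_pos (fun v hv => hv) hWs
    fun M' _ _ hM's hne => by
      obtain ⟨X, h1, h2, h3⟩ := exists_plane hA hM's hne
      exact ⟨X, h1, fun v hv => hv, h2, h3⟩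

end

section
variable [Fintype F] [FiniteDimensional F V] (hA : B.IsAlt) (hgB : ∀ u v, B (g u) (g v) = B u v)
  {r : ℕ} [Fact r.Prime] (hg : g ^ r = 1) (hr2 : r ≠ 2) (hrF : (r : F) ≠ 0) (hq : (Fintype.card F : ZMod r) ≠ 0)
  {c : ℕ} (hc : c = if Even (orderOf (Fintype.card F : ZMod r)) then orderOf (Fintype.card F : ZMod r)
    else 2 * orderOf (Fintype.card F : ZMod r))

include hA hgB hg hr2 hrF hq hc

omit hA hgB hg hr2 hrF in
theorem atom_dim_pos : 0 < c := by
  have : 0 < orderOf (Fintype.card F : ZMod r) := orderOf_pos_iff.mpr (isOfFinOrder_iff_pow_eq_one.mpr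
    ⟨r - 1, by have := (Fact.out : r.Prime).two_le; omega, ZMod.pow_card_sub_one_eq_one hq⟩)
  rw [hc]; split_ifs <;> omega

/-- The atoms: a nondegenerate invariant subspace without fixed vectors contains one of dimension `c`. -/
theorem exists_atom {W : Submodule F V} (hW : InvBy g W) (hWs : SepOn B W) (hW0 : fixedIn g W = ⊥) (hne : W ≠ ⊥) :
    ∃ X, X ≤ W ∧ InvBy g X ∧ SepOn B X ∧ finrank F X = c := by
  have hrp := (Fact.out : r.Prime)
  set i := orderOf (Fintype.card F : ZMod r) with hi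
  have hlow : ∀ X, X ≤ W → InvBy g X → X ≠ ⊥ → i ≤ finrank F X := fun X hXW hX hX0 => by
    have hdvd := orderOf_dvd_finrank_sub hg hq hX
    rw [show fixedIn g X = ⊥ from le_bot_iff.mp ((inf_le_inf_right _ hXW).trans hW0.le), finrank_bot,
      Nat.sub_zero] at hdvd
    exact Nat.le_of_dvd (Nat.pos_of_ne_zero fun e => hX0 (Submodule.finrank_eq_zero.mp e)) hdvd
  have hsmall : ∀ X, X ≤ W → InvBy g X → X ≠ ⊥ → ∃ U, U ≤ X ∧ InvBy g U ∧ U ≠ ⊥ ∧ finrank F U = i :=
    fun X hXW hX hX0 => by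
      obtain ⟨U, hUX, hU, hU0, hUd⟩ := exists_small_invBy hg hq hX hX0
      exact ⟨U, hUX, hU, hU0, le_antisymm hUd (hlow U (hUX.trans hXW) hU hU0)⟩
  have hmin : ∀ U X, U ≤ W → InvBy g U → finrank F U = i → InvBy g X → X ≤ U → X = ⊥ ∨ X = U :=
    fun U X hUW hU hUd hX hXU => or_iff_not_imp_left.mpr fun hX0 =>
      Submodule.eq_of_le_of_finrank_le hXU (hUd.trans_le (hlow X (hXU.trans hUW) hX hX0))
  have hperp : ∀ U, InvBy g U → InvBy g (B.orthogonal U) := fun U hU y hy x hx => by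
    have h1 : x = g ((g ^ (r - 1)) x) := by
      rw [← Module.End.mul_apply, ← pow_succ', Nat.sub_add_cancel hrp.pos, hg, Module.End.one_apply]
    rw [h1]
    exact (hgB _ _).trans (hy _ (hU.pow _ x hx))
  have hsep : ∀ U, U ≤ W → InvBy g U → finrank F U = i → ¬ U ≤ B.orthogonal U → SepOn B U := fun U hUW hU hUd hnot => by
    rcases hmin U _ hUW hU hUd (hU.inf (hperp U hU)) inf_le_left with h | h
    · intro w hw hw0
      by_contra hall
      push Not at hall
      refine hw0 ((Submodule.eq_bot_iff _).mp h w ⟨hw, fun x hx => ?_⟩)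
      show B x w = 0
      rw [← LinearMap.IsAlt.neg hA w x, hall x hx, neg_zero]
    · exact absurd (inf_eq_left.mp h) hnot
  have hdone : ∀ U, U ≤ W → InvBy g U → finrank F U = i → SepOn B U → c = finrank F U := fun U _ _ hUd hUs => by
    have h2 := even_finrank_sepOn hA hUs
    rw [hUd] at h2
    rw [hc, if_pos (even_iff_two_dvd.mpr h2), hUd]
  obtain ⟨U, hUW, hU, hU0, hUd⟩ := hsmall W le_rfl hW hne
  by_cases hUiso : U ≤ B.orthogonal U
  swap
  · have hUs := hsep U hUW hU hUd hUiso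
    exact ⟨U, hUW, hU, hUs, (hdone U hUW hU hUd hUs).symm⟩
  obtain ⟨Y, hY, hYW, hinf, hsup⟩ := exists_invBy_compl hrp.pos hrF one_ne_zero (by rw [hg, one_smul]) hW
    (hW.inf (hperp U hU)) inf_le_left
  have hY0 : Y ≠ ⊥ := fun e => by
    rw [e, sup_bot_eq] at hsup
    obtain ⟨u, hu, hu0⟩ := (Submodule.ne_bot_iff _).mp hU0
    obtain ⟨y, hy, huy⟩ := hWs u (hUW hu) hu0
    exact huy ((hsup.symm.le hy).2 u hu)
  obtain ⟨U', hU'Y, hU', hU'0, hU'd⟩ := hsmall Y hYW hY hY0
  have hU'W : U' ≤ W := hU'Y.trans hYW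
  have hpair : U' ⊓ B.orthogonal U = ⊥ := by
    rw [← le_bot_iff, ← hinf]
    exact fun v hv => ⟨⟨hU'W hv.1, hv.2⟩, hU'Y hv.1⟩
  by_cases hU'iso : U' ≤ B.orthogonal U'
  swap
  · have hUs := hsep U' hU'W hU' hU'd hU'iso
    exact ⟨U', hU'W, hU', hUs, (hdone U' hU'W hU' hU'd hUs).symm⟩
  have hpair' : U ⊓ B.orthogonal U' = ⊥ := by
    rcases hmin U _ hUW hU hUd (hU.inf (hperp U' hU')) inf_le_left with h | h
    · exact h
    · refine absurd ?_ hU'0
      rw [← hpair, eq_comm, inf_eq_left]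
      intro y hy x hx
      show B x y = 0
      rw [← LinearMap.IsAlt.neg hA y x, (inf_eq_left.mp h hx) y hy, neg_zero]
  have hUdisj : U ⊓ U' = ⊥ := le_bot_iff.mp (by rw [← hpair]; exact fun v hv => ⟨hv.2, hUiso hv.1⟩)
  by_cases hie : Even i
  swap
  · refine ⟨U ⊔ U', sup_le hUW hU'W, hU.sup hU', fun w hw hw0 => ?_, ?_⟩
    · obtain ⟨u, hu, u', hu', rfl⟩ := Submodule.mem_sup.mp hw
      by_contra hall
      push Not at hall
      have h1 : u' ∈ U' ⊓ B.orthogonal U := ⟨hu', fun x hx => by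
        have h2 := hall x (Submodule.mem_sup_left hx)
        rw [map_add, LinearMap.add_apply, (hUiso hx) u hu, zero_add] at h2
        show B x u' = 0
        rw [← LinearMap.IsAlt.neg hA u' x, h2, neg_zero]⟩
      rw [hpair, Submodule.mem_bot] at h1
      have h3 : u ∈ U ⊓ B.orthogonal U' := ⟨hu, fun x hx => by
        have h2 := hall x (Submodule.mem_sup_right hx)
        rw [map_add, LinearMap.add_apply, (hU'iso hx) u' hu', add_zero] at h2
        show B x u = 0
        rw [← LinearMap.IsAlt.neg hA u x, h2, neg_zero]⟩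
      rw [hpair', Submodule.mem_bot] at h3
      exact hw0 (by rw [h1, h3, add_zero])
    · rw [finrank_sup_of_disjoint hUdisj, hUd, hU'd, hc, if_neg hie, two_mul]
  -- `i` is even: a twisted diagonal of `U` and `U'`
  obtain ⟨u, hu, hu0⟩ := (Submodule.ne_bot_iff _).mp hU0
  obtain ⟨f, hf0, hfd, hfu⟩ : ∃ f : F[X], f ≠ 0 ∧ f.natDegree ≤ i ∧ aeval g f u = 0 := by
    have hdep : ¬ LinearIndependent F fun k : Fin (i + 1) => (⟨(g ^ (k : ℕ)) u, hU.pow _ u hu⟩ : U) := fun h => by
      have := h.fintype_card_le_finrank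
      rw [Fintype.card_fin, hUd] at this
      omega
    obtain ⟨a, ha, k, hk⟩ := Fintype.not_linearIndependent_iff.mp hdep
    refine ⟨∑ l : Fin (i + 1), monomial (l : ℕ) (a l), fun h => hk ?_, ?_, ?_⟩
    · have := congrArg (fun f : F[X] => f.coeff k) h
      simpa [finset_sum_coeff, coeff_monomial, Fin.val_inj] using this
    · refine natDegree_sum_le_of_forall_le _ _ fun l _ => (natDegree_monomial_le _).trans ?_
      omega
    · have := congrArg Subtype.val ha
      simpa [map_sum, aeval_monomial] using this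
  have hkill : ∀ (P : F[X]) (v : V) (k : ℕ), aeval g P v = 0 → aeval g P ((g ^ k) v) = 0 := fun P v k h => by
    rw [← Module.End.mul_apply, show g ^ k = aeval g ((X : F[X]) ^ k) by simp, ← map_mul, mul_comm, map_mul, Module.End.mul_apply, h,
      map_zero]
  have hUf : ∀ v ∈ U, aeval g f v = 0 := by
    have hK : InvBy g (LinearMap.ker (aeval g f) ⊓ U) := fun v hv => ⟨by
      have := hkill f v 1 hv.1
      rwa [pow_one] at this, hU v hv.2⟩
    intro v hv
    rcases hmin U _ hUW hU hUd hK inf_le_right with h | h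
    · exact absurd ((Submodule.eq_bot_iff _).mp h u ⟨hfu, hu⟩) hu0
    · exact (h.ge hv).1
  set gi := g ^ (r - 1)
  have hgi : ∀ x y, B (gi x) y = B x (g y) := fun x y => by
    conv_rhs => rw [show x = g (gi x) by
      rw [← Module.End.mul_apply, ← pow_succ', Nat.sub_add_cancel hrp.pos, hg, Module.End.one_apply], hgB]
  have hgipow : ∀ (k : ℕ) x y, B ((gi ^ k) x) y = B x ((g ^ k) y) := fun k => by
    induction k with
    | zero => simp
    | succ k ih =>
      intro x y
      rw [pow_succ, Module.End.mul_apply, ih, hgi, ← Module.End.mul_apply, ← pow_succ']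
  have hgiP : ∀ (P : F[X]) x y, B (aeval gi P x) y = B x (aeval g P y) := fun P => by
    induction P using Polynomial.induction_on' with
    | add P Q hP hQ => intro x y; simp [hP, hQ]
    | monomial k a => intro x y; simp [aeval_monomial, hgipow]
  have hgiU : ∀ v ∈ U, aeval gi f v = 0 := fun v hv => by
    have hiter : ∀ j, aeval (g ^ (Fintype.card F ^ j)) f v = 0 := fun j => by
      induction j with
      | zero => simpa using hUf v hv
      | succ j ih =>
        rw [pow_succ (Fintype.card F), pow_mul]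
        exact aeval_pow_card_apply ih
    obtain ⟨h, hh⟩ := hie
    have hh0 : h < i ∧ 0 < h := by
      have : 0 < i := orderOf_pos_iff.mpr (isOfFinOrder_iff_pow_eq_one.mpr
        ⟨r - 1, by have := hrp.two_le; omega, ZMod.pow_card_sub_one_eq_one hq⟩)
      omega
    have h1 : (Fintype.card F : ZMod r) ^ h = -1 := by
      rcases mul_self_eq_one_iff.mp (show (Fintype.card F : ZMod r) ^ h * (Fintype.card F : ZMod r) ^ h = 1 by
        rw [← pow_add, ← hh, hi, pow_orderOf_eq_one]) with h2 | h2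
      · exact absurd (hi ▸ orderOf_dvd_of_pow_eq_one h2) (Nat.not_dvd_of_pos_of_lt hh0.2 hh0.1)
      · exact h2
    have hmod : Fintype.card F ^ h % r = (r - 1) % r := by
      refine (ZMod.natCast_eq_natCast_iff' _ _ _).mp ?_
      rw [Nat.cast_pow, h1, Nat.cast_sub hrp.one_le, ZMod.natCast_self, Nat.cast_one, zero_sub]
    have hge : g ^ (Fintype.card F ^ h) = gi := by
      rw [pow_eq_pow_mod _ hg, hmod, ← pow_eq_pow_mod _ hg]
    rw [← hge]
    exact hiter h
  have hU'f : ∀ y ∈ U', aeval g f y = 0 := fun y hy => by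
    refine (Submodule.eq_bot_iff _).mp hpair _ ⟨?_, fun x hx => ?_⟩
    · have hP : ∀ P : F[X], ∀ y ∈ U', aeval g P y ∈ U' := fun P => by
        induction P using Polynomial.induction_on' with
        | add P Q hP hQ => intro y hy; rw [map_add, LinearMap.add_apply]; exact U'.add_mem (hP y hy) (hQ y hy)
        | monomial k a =>
          intro y hy
          rw [aeval_monomial, Module.End.mul_apply, Module.algebraMap_end_apply]
          exact U'.smul_mem _ (hU'.pow k y hy)
      exact hP f y hy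
    · show B x _ = 0
      rw [← hgiP, hgiU x hx]; simp
  obtain ⟨u', hu', hne'⟩ : ∃ u' ∈ U', B (g u - gi u) u' ≠ 0 := by
    by_contra hall
    push Not at hall
    have h0 : g u - gi u ∈ U ⊓ B.orthogonal U' := ⟨U.sub_mem (hU u hu) (hU.pow _ u hu), fun y hy => by
      show B y _ = 0
      rw [← LinearMap.IsAlt.neg hA _ y, hall y hy, neg_zero]⟩
    rw [hpair', Submodule.mem_bot, sub_eq_zero] at h0
    have h2 : ∀ k, (g ^ (2 * k)) u = u := fun k => by
      induction k with
      | zero => simp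
      | succ k ih =>
        have h3 : (g ^ 2) u = u := by
          rw [pow_two, Module.End.mul_apply, h0, ← Module.End.mul_apply, ← pow_succ', Nat.sub_add_cancel hrp.pos, hg,
            Module.End.one_apply]
        rw [Nat.mul_succ, pow_add, Module.End.mul_apply, h3, ih]
    obtain ⟨k, hk⟩ := hrp.odd_of_ne_two hr2
    have h4 := LinearMap.congr_fun hg (g u)
    rw [← Module.End.mul_apply, ← pow_succ, Module.End.one_apply, hk, show 2 * k + 1 + 1 = 2 * (k + 1) by ring, h2] at h4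
    exact hu0 ((Submodule.eq_bot_iff _).mp hW0 u (mem_fixedIn.mpr ⟨hUW hu, h4.symm⟩))
  set w := u + u'
  have hwW : w ∈ W := W.add_mem (hUW hu) (hU'W hu')
  have hfw : aeval g f w = 0 := by rw [map_add, hUf u hu, hU'f u' hu', add_zero]
  have hBw : B (g w) w ≠ 0 := by
    have e : B (g w) w = B (g u - gi u) u' := by
      simp only [w, map_add, map_sub, LinearMap.add_apply, LinearMap.sub_apply]
      rw [(hUiso hu) (g u) (hU u hu), (hU'iso hu') (g u') (hU' u' hu'), hgi, ← LinearMap.IsAlt.neg hA u (g u')]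
      ring
    rwa [e]
  set k := f.natDegree
  set Z := span F (Set.range fun l : Fin k => (g ^ (l : ℕ)) w)
  have hk0 : 0 < k := Nat.pos_of_ne_zero fun e => by
    obtain ⟨a, ha⟩ := natDegree_eq_zero.mp e
    have h5 : a • u = 0 := by simpa [← ha] using hfu
    have ha0 : a ≠ 0 := fun e0 => hf0 (by rw [← ha, e0, C_0])
    exact hu0 ((smul_eq_zero.mp h5).resolve_left ha0)
  have hwZ : w ∈ Z := subset_span ⟨⟨0, hk0⟩, by simp⟩
  have hgk : (g ^ k) w ∈ Z := by
    have h1 := hfw
    rw [aeval_eq_sum_range, LinearMap.sum_apply, Finset.sum_range_succ, LinearMap.smul_apply] at h1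
    rw [← Z.smul_mem_iff (show f.coeff k ≠ 0 by rw [← leadingCoeff]; exact leadingCoeff_ne_zero.mpr hf0),
      eq_neg_of_add_eq_zero_right h1]
    refine Z.neg_mem (Z.sum_mem fun l hl => Z.smul_mem _ (subset_span ⟨⟨l, Finset.mem_range.mp hl⟩, rfl⟩))
  have hZ : InvBy g Z := invBy_iff_map_le.mpr (by
    rw [Submodule.map_span, span_le]
    rintro _ ⟨_, ⟨l, rfl⟩, rfl⟩
    show g ((g ^ (l : ℕ)) w) ∈ Z
    rw [← Module.End.mul_apply, ← pow_succ']
    by_cases hl : (l : ℕ) + 1 < k
    · exact subset_span ⟨⟨_, hl⟩, rfl⟩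
    · rw [show (l : ℕ) + 1 = k by omega]; exact hgk)
  have hZW : Z ≤ W := span_le.mpr (by rintro _ ⟨l, rfl⟩; exact hW.pow _ w hwW)
  have hZ0 : Z ≠ ⊥ := fun e => by
    have : w = 0 := (Submodule.eq_bot_iff _).mp e w hwZ
    exact hBw (by rw [this]; simp)
  have hZd : finrank F Z = i :=
    le_antisymm (((finrank_range_le_card (R := F) (fun l : Fin k => (g ^ (l : ℕ)) w)).trans (by rw [Fintype.card_fin])).trans hfd)
      (hlow Z hZW hZ hZ0)
  refine ⟨Z, hZW, hZ, hsep Z hZW hZ hZd fun hiso => hBw ?_, by rw [hZd, hc, if_pos hie]⟩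
  exact hiso hwZ (g w) (hZ w hwZ)

/-- The moved dimension of a nondegenerate invariant subspace is a multiple of `c`. -/
theorem dvd_finrank_moved {W : Submodule F V} (hW : InvBy g W) (hWs : SepOn B W) :
    ∃ j, finrank F W = finrank F (fixedIn g W) + j * c := by
  obtain ⟨M, -, hM, hMs, hM0, -, hd⟩ := exists_moving hA hgB hg (Fact.out : r.Prime).pos hrF hW hWs
  obtain ⟨j, hj⟩ := dvd_of_step hA hgB hg (Fact.out : r.Prime).pos (atom_dim_pos hq hc) hM hMs
    fun M' hM' hi's hs hne => exists_atom hA hgB hg hr2 hrF hq hc hi's hs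
      (le_bot_iff.mp ((inf_le_inf_right _ hM').trans hM0.le)) hne
  exact ⟨j, by rw [hd, hj, mul_comm c]⟩

/-- Every combination of atoms and fixed planes occurs. -/
theorem exists_sepOn_invBy {W : Submodule F V} (hW : InvBy g W) (hWs : SepOn B W) {j e : ℕ}
    (he : Even e) (hee : e ≤ finrank F (fixedIn g W)) (hj : finrank F (fixedIn g W) + j * c ≤ finrank F W) :
    ∃ X Y, X ≤ W ∧ InvBy g X ∧ SepOn B X ∧ finrank F X = e + j * c ∧ Y ≤ W ∧ InvBy g Y ∧ SepOn B Y ∧
      (∀ x ∈ X, ∀ y ∈ Y, B x y = 0) ∧ finrank F W = finrank F X + finrank F Y ∧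
      finrank F (fixedIn g W) ≤ e + finrank F (fixedIn g Y) := by
  have hr := (Fact.out : r.Prime).pos
  obtain ⟨M, hMW, hM, hMs, hM0, horth, hd⟩ := exists_moving hA hgB hg hr hrF hW hWs
  obtain ⟨X1, hX1, hX1i, hX1s, hX1d⟩ := exists_chain hA hgB hg hr hM hMs
    (fun M' hM' hi's hs hne => exists_atom hA hgB hg hr2 hrF hq hc hi's hs
      (le_bot_iff.mp ((inf_le_inf_right _ hM').trans hM0.le)) hne) j (by omega)
  have hfs := sepOn_fixedIn hA hgB hg hr hrF hW hWs
  have hfix : InvBy g (fixedIn g W) := fun v hv => by rw [(mem_fixedIn.mp hv).2]; exact hv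
  obtain ⟨h, rfl⟩ := he
  obtain ⟨X2, hX2, hX2i, hX2s, hX2d⟩ := exists_chain hA hgB hg hr hfix hfs
    (fun M' hM' hi's hs hne => by
      obtain ⟨X, h1, h2, h3⟩ := exists_plane hA hs hne
      exact ⟨X, h1, fun v hv => by rw [(mem_fixedIn.mp (hM' (h1 hv))).2]; exact hv, h2, h3⟩) h (by omega)
  have ho : ∀ x ∈ X2, ∀ y ∈ X1, B x y = 0 := fun x hx y hy => horth x (hX2 hx) y (hX1 hy)
  have hXW : X2 ⊔ X1 ≤ W := sup_le (hX2.trans inf_le_left) (hX1.trans hMW)
  obtain ⟨Y, hYW, hY, hYs, hXY, hsup, hdim⟩ :=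
    exists_perp_in hA hgB hg hr hW hWs (hX2i.sup hX1i) (sepOn_sup hA hX2s hX1s ho) hXW
  refine ⟨X2 ⊔ X1, Y, hXW, hX2i.sup hX1i, sepOn_sup hA hX2s hX1s ho, ?_, hYW, hY, hYs, hXY, hdim, ?_⟩
  · rw [finrank_sup_of_disjoint (sepOn_disjoint hA hX2s ho), hX1d, hX2d]
    omega
  · -- the fixed part of the complement
    have hker : fixedIn g W ≤ X2 ⊔ fixedIn g Y := fun v hv => by
      obtain ⟨hvW, hgv⟩ := mem_fixedIn.mp hv
      rw [← hsup] at hvW
      obtain ⟨x, hx, y, hy, rfl⟩ := Submodule.mem_sup.mp hvW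
      obtain ⟨x2, hx2, x1, hx1, rfl⟩ := Submodule.mem_sup.mp hx
      have hgx2 := (mem_fixedIn.mp (hX2 hx2)).2
      rw [map_add, map_add, hgx2] at hgv
      have h1 : g x1 - x1 + (g y - y) = 0 := by linear_combination (norm := module) hgv
      have h2 : g y - y ∈ (X2 ⊔ X1) ⊓ Y := ⟨by
        rw [show g y - y = -(g x1 - x1) from eq_neg_of_add_eq_zero_right h1]
        exact Submodule.mem_sup_right (X1.neg_mem (X1.sub_mem (hX1i x1 hx1) hx1)), Y.sub_mem (hY y hy) hy⟩
      rw [sepOn_disjoint hA (sepOn_sup hA hX2s hX1s ho) hXY, Submodule.mem_bot] at h2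
      rw [h2, add_zero, sub_eq_zero] at h1
      have hx10 : x1 = 0 := (Submodule.eq_bot_iff _).mp hM0 x1 (mem_fixedIn.mpr ⟨hX1 hx1, h1⟩)
      rw [hx10, add_zero]
      exact Submodule.add_mem_sup hx2 (mem_fixedIn.mpr ⟨hy, sub_eq_zero.mp h2⟩)
    refine (Submodule.finrank_mono hker).trans ((Submodule.finrank_add_le_finrank_add_finrank _ _).trans ?_)
    omega

/-- An orthogonal decomposition into invariant nondegenerate parts of dimension `a`. -/
theorem exists_orth_parts {a u l : ℕ} (hl : a = u * c + l) (hle : Even l) (hce : Even c) :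
    ∀ (t : ℕ) (W : Submodule F V), InvBy g W → SepOn B W → ∀ j, finrank F W = t * a →
      finrank F W = finrank F (fixedIn g W) + j * c → j ≤ t * u →
      ∃ D : Fin t → Submodule F V, ∀ k, D k ≤ W ∧ InvBy g (D k) ∧ SepOn B (D k) ∧ finrank F (D k) = a ∧
        ∀ k', k ≠ k' → ∀ x ∈ D k, ∀ y ∈ D k', B x y = 0 := by
  intro t
  induction t with
  | zero => exact fun W _ _ j _ _ _ => ⟨fun k => k.elim0, fun k => k.elim0⟩
  | succ t ih =>
    intro W hW hWs j hdim hje hju
    set e := finrank F (fixedIn g W)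
    have hea : (t + 1) * a = (t + 1) * (u * c) + (t + 1) * l := by rw [hl, Nat.mul_add]
    have htl : l ≤ (t + 1) * l := Nat.le_mul_of_pos_left l (Nat.succ_pos t)
    have hjc : j * c ≤ (t + 1) * (u * c) := by rw [← Nat.mul_assoc]; exact Nat.mul_le_mul_right c hju
    obtain ⟨j', e', hj', he'a, he'e, he'even, hrest⟩ : ∃ j' e', j' ≤ j ∧ e' + j' * c = a ∧ e' ≤ e ∧ Even e' ∧
        j - j' ≤ t * u := by
      rcases le_total j u with h | h
      · have h1 : j * c ≤ u * c := Nat.mul_le_mul_right c h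
        refine ⟨j, a - j * c, le_rfl, by omega, ?_, ?_, by omega⟩
        · have : a ≤ (t + 1) * a := Nat.le_mul_of_pos_left a (Nat.succ_pos t)
          omega
        · rw [hl, show u * c + l - j * c = (u - j) * c + l by rw [Nat.sub_mul]; omega]
          exact (hce.mul_left _).add hle
      · exact ⟨u, l, h, by omega, by omega, hle, by rw [Nat.succ_mul] at hju; omega⟩
    obtain ⟨X, Y, hXW, hX, hXs, hXd, hYW, hY, hYs, hXY, hd, hfY⟩ := exists_sepOn_invBy hA hgB hg hr2 hrF hq hc hW hWs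
      (j := j') (e := e') he'even he'e (by
        have := Nat.mul_le_mul_right c hj'
        omega)
    obtain ⟨jY, hjY⟩ := dvd_finrank_moved hA hgB hg hr2 hrF hq hc hY hYs
    have hjY' : jY ≤ t * u := by
      refine le_trans ?_ hrest
      have h1 : jY * c ≤ (j - j') * c := by rw [Nat.sub_mul]; omega
      exact Nat.le_of_mul_le_mul_right h1 (atom_dim_pos hq hc)
    obtain ⟨D, hD⟩ := ih Y hY hYs jY (by rw [Nat.succ_mul] at hdim; omega) hjY hjY'
    refine ⟨Fin.cons X D, Fin.cases ⟨hXW, hX, hXs, hXd.trans he'a, Fin.cases (fun h => absurd rfl h) fun k' _ x hx y hy =>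
        hXY x hx y ((hD k').1 hy)⟩ fun k => ⟨(hD k).1.trans hYW, (hD k).2.1, (hD k).2.2.1, (hD k).2.2.2.1, ?_⟩⟩
    refine Fin.cases (fun _ x hx y hy => ?_) fun k' hne x hx y hy => (hD k).2.2.2.2 k' (fun e => hne (by rw [e])) x hx y hy
    rw [← LinearMap.IsAlt.neg hA y x, hXY y hy x ((hD k).1 hx), neg_zero]

end

end CfsgLib.LinearElements
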