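import Cfsg.Agent.Forms.OrthPerp
import Cfsg.Agent.LinearElements.SympInvariant
import Mathlib.NumberTheory.LegendreSymbol.Complex

/-!
Types of nondegenerate subspaces of a quadratic space over a finite field, in every characteristic: the character
sum `Σ ψ(Q w)` is multiplicative on orthogonal sums and equals `± q^h` in dimension `2 h`.
-/

set_option autoImplicit false

namespace CfsgLib.QuadType

open Module Submodule CfsgLib.LinearElements

variable {F V : Type*} [Field F] [AddCommGroup V] [Module F V] {Q : QuadraticForm F V}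

local notation "𝔅" => QuadraticMap.polarBilin Q

/-- The polar form is nondegenerate on `W`. -/
def Sep (Q : QuadraticForm F V) (W : Submodule F V) : Prop := SepOn (QuadraticMap.polarBilin Q) W

/-- `W` contains a totally singular subspace of half its dimension. -/
def Plus (Q : QuadraticForm F V) (W : Submodule F V) : Prop :=
  ∃ U : Submodule F V, U ≤ W ∧ (∀ u ∈ U, Q u = 0) ∧ 2 * finrank F U = finrank F W

/-- `W` and `W'` are isometric. -/
def Iso {V' : Type*} [AddCommGroup V'] [Module F V'] (Q : QuadraticForm F V) (Q' : QuadraticForm F V')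
    (W : Submodule F V) (W' : Submodule F V') : Prop :=
  ∃ e : W ≃ₗ[F] W', ∀ w : W, Q' (e w : V') = Q (w : V)

theorem polar_swap (u v : V) : 𝔅 u v = 𝔅 v u := by
  simp only [QuadraticMap.polarBilin_apply_apply]
  exact QuadraticMap.polar_comm _ u v

theorem map_add' (u v : V) : Q (u + v) = Q u + Q v + 𝔅 u v := by
  simp only [QuadraticMap.polarBilin_apply_apply, QuadraticMap.polar]
  ring

theorem polar_diag (u : V) : 𝔅 u u = 2 * Q u := by
  simp only [QuadraticMap.polarBilin_apply_apply, QuadraticMap.polar_self, nsmul_eq_mul, Nat.cast_ofNat]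

theorem polar_singular {U : Submodule F V} (hU : ∀ u ∈ U, Q u = 0) {u v : V} (hu : u ∈ U) (hv : v ∈ U) :
    𝔅 u v = 0 := by
  have h := map_add' (Q := Q) u v
  rw [hU _ (U.add_mem hu hv), hU u hu, hU v hv, zero_add, zero_add] at h
  exact h.symm

theorem smul_quad (c : F) (u : V) : Q (c • u) = c * c * Q u := by
  rw [QuadraticMap.map_smul, smul_eq_mul]

theorem sep_bot : Sep Q ⊥ := sepOn_bot

theorem sep_top (hQ : (QuadraticMap.polarBilin Q).Nondegenerate) : Sep Q ⊤ := fun w _ hw => by
  by_contra hall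
  push Not at hall
  exact hw (hQ.1 w fun y => hall y trivial)

theorem orth_inf_bot {X Y : Submodule F V} (hX : Sep Q X) (horth : ∀ x ∈ X, ∀ y ∈ Y, 𝔅 x y = 0) : X ⊓ Y = ⊥ := by
  rw [Submodule.eq_bot_iff]
  rintro v ⟨hvX, hvY⟩
  by_contra hv
  obtain ⟨z, hz, hzv⟩ := hX v hvX hv
  exact hzv ((polar_swap v z).trans (horth z hz v hvY))

theorem sep_sup {X Y : Submodule F V} (hX : Sep Q X) (hY : Sep Q Y) (horth : ∀ x ∈ X, ∀ y ∈ Y, 𝔅 x y = 0) :
    Sep Q (X ⊔ Y) := by
  intro w hw hne
  obtain ⟨x, hx, y, hy, rfl⟩ := Submodule.mem_sup.mp hw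
  rcases eq_or_ne x 0 with rfl | hx0
  · obtain ⟨z, hz, hyz⟩ := hY y hy (by simpa using hne)
    exact ⟨z, Submodule.mem_sup_right hz, by simpa using hyz⟩
  · obtain ⟨z, hz, hxz⟩ := hX x hx hx0
    refine ⟨z, Submodule.mem_sup_left hz, ?_⟩
    rw [map_add, LinearMap.add_apply, polar_swap y z, horth z hz y hy, add_zero]
    exact hxz

theorem plus_bot : Plus Q ⊥ := ⟨⊥, le_rfl, fun u hu => by simp [(Submodule.mem_bot F).mp hu], by simp⟩

section Finite

variable [FiniteDimensional F V]

theorem finrank_orth_sup {X Y : Submodule F V} (hX : Sep Q X) (horth : ∀ x ∈ X, ∀ y ∈ Y, 𝔅 x y = 0) :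
    finrank F ↥(X ⊔ Y) = finrank F X + finrank F Y := by
  have h := Submodule.finrank_sup_add_finrank_inf_eq X Y
  rw [orth_inf_bot hX horth, finrank_bot, Nat.add_zero] at h
  exact h

/-- The orthogonal complement inside a nondegenerate subspace. -/
theorem exists_perp {W X : Submodule F V} (hW : Sep Q W) (hX : Sep Q X) (hXW : X ≤ W) :
    ∃ Y, Y ≤ W ∧ Sep Q Y ∧ (∀ x ∈ X, ∀ y ∈ Y, 𝔅 x y = 0) ∧ X ⊔ Y = W ∧
      finrank F W = finrank F X + finrank F Y ∧ (∀ w ∈ W, (∀ x ∈ X, 𝔅 x w = 0) → w ∈ Y) := by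
  have hrefl : LinearMap.IsRefl (QuadraticMap.polarBilin Q) := fun u v h => (polar_swap v u).trans h
  have hdis : Disjoint X (LinearMap.BilinForm.orthogonal (QuadraticMap.polarBilin Q) X) :=
    disjoint_iff.mpr (orth_inf_bot hX fun x hx y hy => hy x hx)
  have hcompl := (LinearMap.BilinForm.isCompl_orthogonal_iff_disjoint hrefl).mpr hdis
  set Y := LinearMap.BilinForm.orthogonal (QuadraticMap.polarBilin Q) X ⊓ W
  have hsup : X ⊔ Y = W := by
    rw [← sup_inf_assoc_of_le _ hXW, hcompl.sup_eq_top, top_inf_eq]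
  have horth : ∀ x ∈ X, ∀ y ∈ Y, 𝔅 x y = 0 := fun x hx y hy => hy.1 x hx
  refine ⟨Y, inf_le_right, fun y hy hy0 => ?_, horth, hsup, ?_, fun w hw h => ⟨h, hw⟩⟩
  · obtain ⟨z, hz, hyz⟩ := hW y hy.2 hy0
    rw [← hsup] at hz
    obtain ⟨z1, hz1, z2, hz2, rfl⟩ := Submodule.mem_sup.mp hz
    refine ⟨z2, hz2, fun e => hyz ?_⟩
    rw [map_add, e, add_zero, polar_swap y z1, horth z1 hz1 y hy]
  · rw [← finrank_orth_sup hX horth, hsup]

omit [FiniteDimensional F V] in
theorem coprod_inclusion_bijective {A C : Submodule F V} (hAC : A ⊓ C = ⊥) :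
    Function.Bijective
      ((Submodule.inclusion (le_sup_left : A ≤ A ⊔ C)).coprod (Submodule.inclusion (le_sup_right : C ≤ A ⊔ C))) := by
  refine ⟨?_, ?_⟩
  · rw [← LinearMap.ker_eq_bot, Submodule.eq_bot_iff]
    rintro ⟨a, c⟩ h
    have h1 : (a : V) + c = 0 := congrArg Subtype.val h
    have ha : (a : V) = 0 := (Submodule.eq_bot_iff _).mp hAC a
      ⟨a.2, by rw [eq_neg_of_add_eq_zero_left h1]; exact C.neg_mem c.2⟩
    rw [ha, zero_add] at h1
    exact Prod.ext (Subtype.ext ha) (Subtype.ext h1)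
  · rintro ⟨w, hw⟩
    obtain ⟨a, ha, c, hc, rfl⟩ := Submodule.mem_sup.mp hw
    exact ⟨(⟨a, ha⟩, ⟨c, hc⟩), rfl⟩

omit [FiniteDimensional F V] in
/-- A plane has plus type exactly when it has a singular line. -/
theorem plus_plane_iff {X : Submodule F V} (hX : finrank F X = 2) :
    Plus Q X ↔ ∃ e ∈ X, e ≠ 0 ∧ Q e = 0 := by
  constructor
  · rintro ⟨Y, hYX, hY, hYd⟩
    obtain ⟨y, hy, hy0⟩ := (Submodule.ne_bot_iff Y).mp fun e => by rw [e, finrank_bot] at hYd; omega
    exact ⟨y, hYX hy, hy0, hY y hy⟩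
  · rintro ⟨e, he, he0, hRe⟩
    refine ⟨span F {e}, (span_singleton_le_iff_mem _ _).mpr he, fun u hu => ?_,
      by rw [finrank_span_singleton he0, hX]⟩
    obtain ⟨s, rfl⟩ := mem_span_singleton.mp hu
    rw [smul_quad, hRe, mul_zero]

/-- Orthogonal sums of isometric parts. -/
theorem Iso.sup {V' : Type*} [AddCommGroup V'] [Module F V'] [FiniteDimensional F V'] {Q' : QuadraticForm F V'}
    {X Y : Submodule F V} {X' Y' : Submodule F V'} (hX : Sep Q X) (horth : ∀ x ∈ X, ∀ y ∈ Y, 𝔅 x y = 0)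
    (hX' : Sep Q' X') (horth' : ∀ x ∈ X', ∀ y ∈ Y', QuadraticMap.polarBilin Q' x y = 0)
    (h1 : Iso Q Q' X X') (h2 : Iso Q Q' Y Y') : Iso Q Q' (X ⊔ Y) (X' ⊔ Y') := by
  obtain ⟨e₁, he₁⟩ := h1
  obtain ⟨e₂, he₂⟩ := h2
  let f : (X × Y) →ₗ[F] ↥(X ⊔ Y) := (Submodule.inclusion le_sup_left).coprod (Submodule.inclusion le_sup_right)
  let f' : (X' × Y') →ₗ[F] ↥(X' ⊔ Y') := (Submodule.inclusion le_sup_left).coprod (Submodule.inclusion le_sup_right)
  let g := LinearEquiv.ofBijective f (coprod_inclusion_bijective (orth_inf_bot hX horth))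
  let g' := LinearEquiv.ofBijective f' (coprod_inclusion_bijective (orth_inf_bot hX' horth'))
  refine ⟨g.symm.trans ((e₁.prodCongr e₂).trans g'), fun w => ?_⟩
  obtain ⟨⟨x, y⟩, rfl⟩ := g.surjective w
  simp only [LinearEquiv.trans_apply, LinearEquiv.symm_apply_apply]
  show Q' ((e₁ x : V') + (e₂ y : V')) = Q ((x : V) + (y : V))
  rw [map_add' (Q := Q'), map_add', he₁, he₂, horth x x.2 y y.2, horth' _ (e₁ x).2 _ (e₂ y).2]

omit [FiniteDimensional F V] in
/-- Spans of pairs with the same values are isometric. -/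
theorem iso_span_pair {V' : Type*} [AddCommGroup V'] [Module F V'] {Q' : QuadraticForm F V'} {u v : V} {u' v' : V'}
    (hli : LinearIndependent F ![u, v]) (hli' : LinearIndependent F ![u', v']) (h1 : Q' u' = Q u) (h2 : Q' v' = Q v)
    (h3 : QuadraticMap.polarBilin Q' u' v' = 𝔅 u v) :
    Iso Q Q' (span F {u, v}) (span F {u', v'}) := by
  classical
  rw [← Matrix.range_cons_cons_empty u v ![], ← Matrix.range_cons_cons_empty u' v' ![]]
  let b := Module.Basis.span hli
  let b' := Module.Basis.span hli'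
  refine ⟨b.equiv b' (Equiv.refl _), fun w => ?_⟩
  have hw : w = b.repr w 0 • b 0 + b.repr w 1 • b 1 := by
    conv_lhs => rw [← b.sum_repr w, Fin.sum_univ_two]
  rw [hw, map_add, map_smul, map_smul, Module.Basis.equiv_apply, Module.Basis.equiv_apply]
  simp only [Equiv.refl_apply, Submodule.coe_add, Submodule.coe_smul, b, b', Module.Basis.span_apply,
    Matrix.cons_val_zero, Matrix.cons_val_one]
  rw [map_add' (Q := Q'), map_add']
  simp only [smul_quad, map_smul, LinearMap.smul_apply, smul_eq_mul, h1, h2, h3]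

omit [FiniteDimensional F V] in
/-- A pair with nonzero discriminant spans a nondegenerate plane. -/
theorem sep_span_pair {u v : V} (hd : 𝔅 u v * 𝔅 u v - 4 * (Q u * Q v) ≠ 0) :
    Sep Q (span F {u, v}) ∧ LinearIndependent F ![u, v] ∧ finrank F (span F {u, v}) = 2 := by
  have key : ∀ s t : F, 𝔅 (s • u + t • v) u = 0 → 𝔅 (s • u + t • v) v = 0 → s = 0 ∧ t = 0 := by
    intro s t h1 h2
    simp only [map_add, map_smul, LinearMap.add_apply, LinearMap.smul_apply, smul_eq_mul, polar_diag, polar_swap v u]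
      at h1 h2
    refine ⟨?_, ?_⟩ <;> refine (mul_eq_zero.mp ?_).resolve_left hd
    · linear_combination 𝔅 u v * h2 - 2 * Q v * h1
    · linear_combination 𝔅 u v * h1 - 2 * Q u * h2
  have hli : LinearIndependent F ![u, v] := LinearIndependent.pair_iff.mpr fun s t h =>
    key s t (by rw [h]; simp) (by rw [h]; simp)
  refine ⟨fun w hw hw0 => ?_, hli, ?_⟩
  · obtain ⟨s, t, rfl⟩ := mem_span_pair.mp hw
    by_contra hall
    push Not at hall
    obtain ⟨rfl, rfl⟩ := key s t (hall u (subset_span (by simp))) (hall v (subset_span (by simp)))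
    simp at hw0
  · rw [← Matrix.range_cons_cons_empty u v ![], finrank_span_eq_card hli, Fintype.card_fin]

/-- A singular vector of a nondegenerate subspace has a partner. -/
theorem exists_partner {W : Submodule F V} (hW : Sep Q W) {e : V} (he : e ∈ W) (he0 : e ≠ 0) (hQe : Q e = 0) :
    ∃ f ∈ W, Q f = 0 ∧ 𝔅 e f = 1 := by
  obtain ⟨z, hz, hez⟩ := hW e he he0
  obtain ⟨p, hpW, hp⟩ : ∃ p ∈ W, 𝔅 e p = 1 :=
    ⟨(𝔅 e z)⁻¹ • z, W.smul_mem _ hz, by rw [map_smul, smul_eq_mul, inv_mul_cancel₀ hez]⟩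
  refine ⟨p + (-Q p) • e, W.add_mem hpW (W.smul_mem _ he), ?_, ?_⟩
  · rw [map_add', smul_quad, hQe, map_smul, smul_eq_mul, polar_swap p e, hp]
    ring
  · rw [map_add, map_smul, polar_diag, hQe, hp]
    simp

end Finite

section Sums

variable [Fintype F] [Finite V]

/-- The character sum of `Q` over `W`. -/
noncomputable def gauss (Q : QuadraticForm F V) (W : Submodule F V) : ℂ :=
  ∑ᶠ w : W, AddChar.FiniteField.primitiveChar_to_Complex F (Q (w : V))

theorem gauss_bot : gauss Q ⊥ = 1 := by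
  rw [gauss, finsum_eq_single _ (0 : (⊥ : Submodule F V)) fun w hw => absurd (Subsingleton.elim w 0) hw]
  simp

theorem gauss_sup [FiniteDimensional F V] {X Y : Submodule F V} (hX : Sep Q X)
    (horth : ∀ x ∈ X, ∀ y ∈ Y, 𝔅 x y = 0) : gauss Q (X ⊔ Y) = gauss Q X * gauss Q Y := by
  classical
  haveI := Fintype.ofFinite X
  haveI := Fintype.ofFinite Y
  haveI := Fintype.ofFinite ↥(X ⊔ Y)
  simp only [gauss, finsum_eq_sum_of_fintype]
  rw [Finset.sum_mul_sum, ← Finset.sum_product']
  refine (Finset.sum_bij (fun (xy : X × Y) _ => (⟨xy.1 + xy.2, Submodule.add_mem_sup xy.1.2 xy.2.2⟩ : ↥(X ⊔ Y)))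
    (fun _ _ => Finset.mem_univ _) ?_ ?_ fun xy _ => ?_).symm
  · rintro ⟨x, y⟩ - ⟨x', y'⟩ - h
    have h1 : (x : V) + y = x' + y' := congrArg Subtype.val h
    have h2 : (x : V) - x' ∈ X ⊓ Y := ⟨X.sub_mem x.2 x'.2, by
      rw [show (x : V) - x' = (y' : V) - y by linear_combination (norm := module) h1]
      exact Y.sub_mem y'.2 y.2⟩
    rw [orth_inf_bot hX horth, Submodule.mem_bot, sub_eq_zero] at h2
    rw [h2] at h1
    exact Prod.ext (Subtype.ext h2) (Subtype.ext (add_left_cancel h1))
  · rintro ⟨w, hw⟩ -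
    obtain ⟨a, ha, b, hb, rfl⟩ := Submodule.mem_sup.mp hw
    exact ⟨(⟨a, ha⟩, ⟨b, hb⟩), Finset.mem_univ _, rfl⟩
  · show _ = AddChar.FiniteField.primitiveChar_to_Complex F (Q ((xy.1 : V) + (xy.2 : V)))
    rw [map_add' (Q := Q), horth _ xy.1.2 _ xy.2.2, add_zero, AddChar.map_add_eq_mul]

theorem gauss_pair {u v : V} (hli : LinearIndependent F ![u, v]) :
    gauss Q (span F {u, v}) =
      ∑ z : F × F, AddChar.FiniteField.primitiveChar_to_Complex F (Q (z.1 • u + z.2 • v)) := by
  classical
  haveI := Fintype.ofFinite ↥(span F {u, v})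
  rw [gauss, finsum_eq_sum_of_fintype]
  refine (Finset.sum_bij (fun (z : F × F) _ => (⟨z.1 • u + z.2 • v, mem_span_pair.mpr ⟨_, _, rfl⟩⟩ : ↥(span F {u, v})))
    (fun _ _ => Finset.mem_univ _) ?_ ?_ fun _ _ => rfl).symm
  · intro z _ z' _ h
    have h1 : (z.1 - z'.1) • u + (z.2 - z'.2) • v = 0 := by
      linear_combination (norm := module) congrArg Subtype.val h
    obtain ⟨a, b⟩ := LinearIndependent.pair_iff.mp hli _ _ h1
    exact Prod.ext (sub_eq_zero.mp a) (sub_eq_zero.mp b)
  · rintro ⟨w, hw⟩ -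
    obtain ⟨a, b, rfl⟩ := mem_span_pair.mp hw
    exact ⟨(a, b), Finset.mem_univ _, rfl⟩

/-- The sum over a hyperbolic plane. -/
theorem gauss_hyperbolic {e f : V} (he : Q e = 0) (hf : Q f = 0) (hef : 𝔅 e f = 1) :
    gauss Q (span F {e, f}) = (Fintype.card F : ℂ) := by
  classical
  rw [gauss_pair (sep_span_pair (by rw [he, hf, hef]; simp)).2.1, Fintype.sum_prod_type]
  have h1 : ∀ s t : F, Q (s • e + t • f) = t * s := fun s t => by
    simp only [map_add', smul_quad, he, hf, map_smul, LinearMap.smul_apply, hef]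
    simp only [smul_eq_mul]
    ring
  simp only [h1]
  rw [Finset.sum_congr rfl fun s _ => AddChar.sum_mulShift s (AddChar.FiniteField.primitiveChar_to_Complex_isPrimitive F)]
  simp

end Sums

section Values

variable [Fintype F] [FiniteDimensional F V]

theorem two_cases : (2 : F) ≠ 0 ∨ ∀ c : F, IsSquare c := by
  rcases eq_or_ne (2 : F) 0 with h | h
  · haveI : CharP F 2 := CharTwo.of_one_ne_zero_of_two_eq_zero one_ne_zero h
    exact Or.inr (FiniteField.isSquare_of_char_two (ringChar.eq F 2))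
  · exact Or.inl h

/-- A nondegenerate subspace of dimension at least two takes every value. -/
theorem exists_value {W : Submodule F V} (hW : Sep Q W) (hd : 2 ≤ finrank F W) (c : F) :
    ∃ v ∈ W, Q v = c := by
  rcases two_cases (F := F) with h2 | hsq
  · have hsep : ∀ x : W, (∀ y : W, QuadraticMap.polar (⇑(Q.comp W.subtype)) x y = 0) → x = 0 := fun x hx => by
      by_contra hne
      obtain ⟨y, hy, hxy⟩ := hW x x.2 fun e => hne (Subtype.ext e)
      exact hxy (hx ⟨y, hy⟩)
    obtain ⟨z, hz⟩ := CfsgLib.Forms.exists_quad_value h2 (Q.comp W.subtype) hsep hd c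
    exact ⟨z, z.2, hz⟩
  · obtain ⟨v, hv, hv0⟩ : ∃ v ∈ W, Q v ≠ 0 := by
      by_contra hall
      push Not at hall
      obtain ⟨w, hw, hw0⟩ := (Submodule.ne_bot_iff _).mp (show W ≠ ⊥ from fun e => by
        rw [e, finrank_bot] at hd; omega)
      obtain ⟨y, hy, hwy⟩ := hW w hw hw0
      exact hwy (polar_singular hall hw hy)
    obtain ⟨s, hs⟩ := hsq (c / Q v)
    exact ⟨s • v, W.smul_mem _ hv, by rw [smul_quad, ← hs, div_mul_cancel₀ _ hv0]⟩

/-- A nondegenerate subspace of dimension at least three has a singular vector. -/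
theorem exists_singular {W : Submodule F V} (hW : Sep Q W) (hd : 3 ≤ finrank F W) :
    ∃ v ∈ W, v ≠ 0 ∧ Q v = 0 := by
  rcases two_cases (F := F) with h2 | hsq
  · have hsep : ∀ x : W, (∀ y : W, QuadraticMap.polar (⇑(Q.comp W.subtype)) x y = 0) → x = 0 := fun x hx => by
      by_contra hne
      obtain ⟨y, hy, hxy⟩ := hW x x.2 fun e => hne (Subtype.ext e)
      exact hxy (hx ⟨y, hy⟩)
    obtain ⟨z, hz0, hz⟩ := CfsgLib.Forms.exists_quad_isotropic h2 (Q.comp W.subtype) hsep hd
    exact ⟨z, z.2, fun e => hz0 (Subtype.ext e), hz⟩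
  · obtain ⟨u, hu, hu1⟩ := exists_value hW (by omega) 1
    let f : W →ₗ[F] F := (QuadraticMap.polarBilin Q u).comp W.subtype
    have hker : 2 ≤ finrank F (LinearMap.ker f) := by
      have h1 := LinearMap.finrank_range_add_finrank_ker f
      have h3 : finrank F (LinearMap.range f) ≤ 1 := (Submodule.finrank_le _).trans (finrank_self F).le
      omega
    obtain ⟨w, hw, hwu⟩ : ∃ w ∈ LinearMap.ker f, (w : V) ∉ span F {u} := by
      by_contra hall
      push Not at hall
      have h1 : (LinearMap.ker f).map W.subtype ≤ span F {u} := by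
        rintro _ ⟨w, hw, rfl⟩; exact hall w hw
      have h3 := Submodule.finrank_mono h1
      rw [Submodule.finrank_map_subtype_eq, finrank_span_singleton (fun e => by simp [e] at hu1)] at h3
      omega
    obtain ⟨s, hs⟩ := hsq (-Q (w : V))
    refine ⟨s • u + (w : V), W.add_mem (W.smul_mem _ hu) w.2, fun e => hwu ?_, ?_⟩
    · rw [eq_neg_of_add_eq_zero_right e]
      exact (span F {u}).neg_mem (smul_mem _ s (mem_span_singleton_self u))
    · rw [map_add', smul_quad, hu1, map_smul, LinearMap.smul_apply,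
        show 𝔅 u (w : V) = 0 from LinearMap.mem_ker.mp hw, ← hs]
      simp

/-- Anisotropic binary forms exist. -/
theorem exists_aniso : ∃ a b : F, ∀ x y : F, x * x + a * x * y + b * (y * y) = 0 → x = 0 ∧ y = 0 := by
  obtain ⟨c, hc⟩ : ∃ c : F, ∀ x : F, x * x + x ≠ c := by
    by_contra h
    push Not at h
    have hinj : Function.Injective fun x : F => x * x + x := Finite.injective_iff_surjective.2 h
    have := @hinj 0 (-1) (by ring)
    simp at this
  refine ⟨1, -c, fun x y h => ?_⟩
  by_cases hy : y = 0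
  · subst hy
    exact ⟨mul_self_eq_zero.mp (by linear_combination h), rfl⟩
  · exfalso
    exact hc (x / y) (by field_simp; linear_combination h)

theorem aniso_disc {a b : F} (h : ∀ x y : F, x * x + a * x * y + b * (y * y) = 0 → x = 0 ∧ y = 0) :
    a * a - 4 * b ≠ 0 := by
  intro e
  rcases eq_or_ne (2 : F) 0 with h2 | h2
  · have ha : a = 0 := mul_self_eq_zero.mp (by linear_combination e + 2 * b * h2)
    obtain ⟨s, hs⟩ := (two_cases (F := F)).resolve_left (not_not.mpr h2) b
    exact one_ne_zero (h s 1 (by linear_combination (-hs) + s * ha + b * h2)).2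
  · exact one_ne_zero (α := F) ((h (-a / 2) 1 (by field_simp; linear_combination -e)).2)

end Values

section Main

variable [Fintype F] [Finite V] [FiniteDimensional F V]

/-- An anisotropic plane carries any prescribed anisotropic binary form. -/
theorem exists_pair_of_aniso {P : Submodule F V} (hP : Sep Q P) (hd : finrank F P = 2)
    (hani : ∀ v ∈ P, Q v = 0 → v = 0) {a b : F}
    (hab : ∀ x y : F, x * x + a * x * y + b * (y * y) = 0 → x = 0 ∧ y = 0) :
    ∃ u v, P = span F {u, v} ∧ LinearIndependent F ![u, v] ∧ Q u = 1 ∧ 𝔅 u v = a ∧ Q v = b := by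
  obtain ⟨u, hu, hu1⟩ := exists_value hP hd.ge 1
  suffices hv : ∃ v ∈ P, 𝔅 u v = a ∧ Q v = b by
    obtain ⟨v, hv, h1, h2⟩ := hv
    obtain ⟨-, hli, hdim⟩ := sep_span_pair (Q := Q) (u := u) (v := v)
      (by rw [hu1, h1, h2, one_mul]; exact aniso_disc hab)
    exact ⟨u, v, (eq_of_le_of_finrank_eq (span_le.mpr (by simp [Set.insert_subset_iff, hu, hv])) (hdim.trans hd.symm)).symm,
      hli, hu1, h1, h2⟩
  rcases eq_or_ne (2 : F) 0 with h2 | h2
  · haveI : CharP F 2 := CharTwo.of_one_ne_zero_of_two_eq_zero one_ne_zero h2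
    have hsq := (two_cases (F := F)).resolve_left (not_not.mpr h2)
    obtain ⟨z, hz, huz⟩ := hP u hu fun e => by simp [e] at hu1
    have ha : a ≠ 0 := fun e => by
      obtain ⟨s, hs⟩ := hsq b
      exact one_ne_zero (hab s 1 (by linear_combination (-hs) + s * e + b * h2)).2
    obtain ⟨v0, hv0P, hv0⟩ : ∃ v0 ∈ P, 𝔅 u v0 = a :=
      ⟨(a / 𝔅 u z) • z, P.smul_mem _ hz, by rw [map_smul, smul_eq_mul, div_mul_cancel₀ _ huz]⟩
    have hval : ∀ x : F, Q (v0 + x • u) = Q v0 + (x * x + a * x) := fun x => by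
      rw [map_add', smul_quad, hu1, map_smul, smul_eq_mul, polar_swap v0 u, hv0]
      ring
    let φ : F →+ F := AddMonoidHom.mk' (fun t => t * t + a * t) fun x y => by linear_combination x * y * h2
    have hb0 : b ∉ φ.range := fun ⟨t, ht⟩ => one_ne_zero
      (hab t 1 (by have e1 : t * t + a * t = b := ht; linear_combination e1 + b * h2)).2
    have hv00 : Q v0 ∉ φ.range := fun ⟨t, ht⟩ => by
      have h0 := hani (v0 + t • u) (P.add_mem hv0P (P.smul_mem _ hu))
        (by have e1 : t * t + a * t = Q v0 := ht; rw [hval]; linear_combination e1 + Q v0 * h2)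
      have h1 := congrArg (fun w => 𝔅 u w) h0
      simp only [map_add, map_smul, hv0, polar_diag, hu1, map_zero, smul_eq_mul] at h1
      exact ha (by linear_combination h1 - t * h2)
    have hidx : φ.range.index = 2 := by
      have hker : Nat.card φ.ker ≤ 2 := by
        have hsub : (φ.ker : Set F) ⊆ {0, a} := fun t ht => by
          have e1 : t * t + a * t = 0 := ht
          have h0 : t * (t + a) = 0 := by linear_combination e1
          rcases mul_eq_zero.1 h0 with h | h
          · exact Or.inl h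
          · exact Or.inr (show t = a by linear_combination h - a * h2)
        calc Nat.card φ.ker = (φ.ker : Set F).ncard := (Nat.card_coe_set_eq _).symm ▸ rfl
          _ ≤ ({0, a} : Set F).ncard := Set.ncard_le_ncard hsub (Set.toFinite _)
          _ ≤ 2 := (Set.ncard_insert_le _ _).trans (by simp)
      have h1 := φ.range.card_mul_index
      have h3 := φ.ker.card_mul_index
      rw [AddSubgroup.index_ker] at h3
      have h4 : 0 < Nat.card φ.range := Nat.card_pos
      have h5 : φ.range.index ≠ 1 := fun h => hb0 (AddSubgroup.index_eq_one.1 h ▸ AddSubgroup.mem_top b)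
      have h6 : φ.range.index ≠ 0 := AddSubgroup.index_ne_zero_of_finite
      have h7 : φ.range.index ≤ 2 := by nlinarith
      omega
    obtain ⟨t, ht⟩ : Q v0 + b ∈ φ.range := by
      rw [AddSubgroup.add_mem_iff_of_index_two hidx]
      exact iff_of_false hv00 hb0
    refine ⟨v0 + t • u, P.add_mem hv0P (P.smul_mem _ hu), ?_, ?_⟩
    · rw [map_add, map_smul, hv0, polar_diag, hu1, smul_eq_mul]
      linear_combination t * h2
    · have e1 : t * t + a * t = Q v0 + b := ht
      rw [hval]
      linear_combination e1 + Q v0 * h2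
  · obtain ⟨Y, hYP, hY, horth, -, hdim, -⟩ := exists_perp hP (X := span F {u}) (fun w hw hw0 => by
      obtain ⟨s, rfl⟩ := mem_span_singleton.mp hw
      refine ⟨u, mem_span_singleton_self u, ?_⟩
      rw [map_smul, LinearMap.smul_apply, polar_diag, hu1, smul_eq_mul, mul_one]
      exact mul_ne_zero (fun e => hw0 (by rw [e, zero_smul])) h2) ((span_singleton_le_iff_mem _ _).mpr hu)
    rw [hd, finrank_span_singleton (fun e => by simp [e] at hu1)] at hdim
    obtain ⟨w, hw, hw0⟩ := (Submodule.ne_bot_iff _).mp (show Y ≠ ⊥ from fun e => by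
      rw [e, finrank_bot] at hdim; omega)
    have huw : 𝔅 u w = 0 := horth u (mem_span_singleton_self u) w hw
    have hval : ∀ x y : F, Q (x • u + y • w) = x * x + y * y * Q w := fun x y => by
      simp only [map_add', smul_quad, hu1, map_smul, LinearMap.smul_apply, huw]
      simp
    set γ := Q w
    have hγ0 : γ ≠ 0 := fun e => hw0 (hani w (hYP hw) e)
    have hγ : ¬ IsSquare (-γ) := fun ⟨s, hs⟩ => by
      have h0 := hani (s • u + (1 : F) • w) (P.add_mem (P.smul_mem _ hu) (P.smul_mem _ (hYP hw)))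
        (by rw [hval]; linear_combination -hs)
      have h1 := congrArg (fun z => 𝔅 u z) h0
      simp only [map_add, map_smul, polar_diag, hu1, huw, map_zero, smul_eq_mul] at h1
      have hs0 : s = 0 := (mul_eq_zero.mp (show s * 2 = 0 by linear_combination h1)).resolve_right h2
      rw [hs0, zero_smul, one_smul, zero_add] at h0
      exact hw0 h0
    have h4 : (4 : F) ≠ 0 := by rw [show (4 : F) = 2 * 2 by norm_num]; exact mul_ne_zero h2 h2
    have hb : ¬ IsSquare (a * a / 4 - b) := fun ⟨s, hs⟩ => one_ne_zero (α := F)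
      (hab (s - a / 2) 1 (by field_simp at hs ⊢; linear_combination -hs)).2
    obtain ⟨y, hy⟩ : IsSquare ((b - a * a / 4) / γ) := by
      have h1 := CfsgLib.Forms.isSquare_mul_of_not_isSquare hb hγ
      obtain ⟨s, hs⟩ := h1
      refine ⟨s / γ, ?_⟩
      field_simp at hs ⊢
      linear_combination hs
    refine ⟨(a / 2) • u + y • w, P.add_mem (P.smul_mem _ hu) (P.smul_mem _ (hYP hw)), ?_, ?_⟩
    · rw [map_add, map_smul, map_smul, polar_diag, hu1, huw]
      simp only [smul_eq_mul, mul_one, mul_zero, add_zero]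
      field_simp
    · rw [hval, ← hy]
      field_simp
      ring

/-- The sum over an anisotropic plane. -/
theorem gauss_aniso {P : Submodule F V} (hP : Sep Q P) (hd : finrank F P = 2) (hani : ∀ v ∈ P, Q v = 0 → v = 0) :
    gauss Q P = -(Fintype.card F : ℂ) := by
  classical
  obtain ⟨a, b, hab⟩ := exists_aniso (F := F)
  obtain ⟨u, v, hPuv, hli, hu, huv, hv⟩ := exists_pair_of_aniso hP hd hani hab
  let N : F × F → F := fun z => z.1 * z.1 + a * z.1 * z.2 + b * (z.2 * z.2)
  have hN : ∀ z : F × F, Q (z.1 • u + z.2 • v) = N z := fun z => by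
    simp only [map_add', smul_quad, hu, hv, map_smul, LinearMap.smul_apply, huv]
    simp only [smul_eq_mul, N]
    ring
  set ψ := AddChar.FiniteField.primitiveChar_to_Complex F
  rw [hPuv, gauss_pair hli]
  simp only [hN]
  set S := ∑ z : F × F, ψ (N z)
  have hsurj : ∀ c : F, c ≠ 0 → ∃ z, N z = c ∧ z ≠ 0 := fun c hc => by
    obtain ⟨w, hw, hwc⟩ := exists_value hP hd.ge c
    rw [hPuv] at hw
    obtain ⟨s, t, rfl⟩ := mem_span_pair.mp hw
    refine ⟨(s, t), (hN (s, t)).symm.trans hwc, fun e => hc ?_⟩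
    simp only [Prod.mk_eq_zero] at e
    rw [← hwc, e.1, e.2]
    simp
  let mu : F × F → F × F → F × F := fun z w => (z.1 * w.1 - b * z.2 * w.2, z.1 * w.2 + z.2 * w.1 + a * z.2 * w.2)
  have hmul : ∀ z w, N (mu z w) = N z * N w := fun z w => by simp only [N, mu]; ring
  have hmubij : ∀ z, z ≠ 0 → Function.Bijective (mu z) := fun z hz => by
    refine Finite.injective_iff_bijective.mp fun w w' e => ?_
    have h1 : mu z (w - w') = 0 := by
      have e1 := congrArg Prod.fst e
      have e2 := congrArg Prod.snd e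
      refine Prod.ext ?_ ?_ <;> simp only [mu, Prod.fst_sub, Prod.snd_sub, Prod.fst_zero, Prod.snd_zero]
      · simp only [mu] at e1; linear_combination e1
      · simp only [mu] at e2; linear_combination e2
    have h2 : N z * N (w - w') = 0 := by rw [← hmul, h1]; simp [N]
    rcases mul_eq_zero.mp h2 with h | h
    · exact absurd (Prod.ext (hab _ _ h).1 (hab _ _ h).2) hz
    · exact sub_eq_zero.mp (Prod.ext (hab _ _ h).1 (hab _ _ h).2)
  have hshift : ∀ c : F, c ≠ 0 → ∑ z, ψ (N z * c) = S := fun c hc => by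
    obtain ⟨z, hz, hz0⟩ := hsurj c hc
    exact Fintype.sum_bijective (mu z) (hmubij z hz0) _ _ fun w => by rw [hmul, hz, mul_comm c]
  -- average over the multiples of the character
  have h1 : ∑ c : F, ∑ z, ψ (c * N z) = (Fintype.card F : ℂ) := by
    rw [Finset.sum_comm, Finset.sum_congr rfl fun z _ =>
      AddChar.sum_mulShift (N z) (AddChar.FiniteField.primitiveChar_to_Complex_isPrimitive F)]
    rw [Finset.sum_eq_single (0 : F × F)]
    · simp [N]
    · intro z _ hz
      rw [if_neg fun e => hz (Prod.ext (hab _ _ e).1 (hab _ _ e).2)]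
      simp
    · simp
  rw [← Finset.add_sum_erase _ _ (Finset.mem_univ (0 : F)),
    Finset.sum_congr rfl fun c hc => (Finset.sum_congr rfl fun z _ => by rw [mul_comm]).trans
      (hshift c (Finset.ne_of_mem_erase hc))] at h1
  simp only [zero_mul, AddChar.map_zero_eq_one, Finset.sum_const, Finset.card_univ, Fintype.card_prod,
    Finset.card_erase_of_mem (Finset.mem_univ (0 : F)), nsmul_eq_mul, mul_one] at h1
  have hq : 1 < Fintype.card F := Fintype.one_lt_card
  rw [Nat.cast_sub (by omega), Nat.cast_mul, Nat.cast_one] at h1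
  have hq1 : ((Fintype.card F : ℂ) - 1) ≠ 0 := by
    rw [sub_ne_zero]
    exact_mod_cast (by omega : Fintype.card F ≠ 1)
  exact mul_left_cancel₀ hq1 (by linear_combination h1)

/-- Splitting off a hyperbolic plane. -/
theorem exists_split {W : Submodule F V} (hW : Sep Q W) {e : V} (he : e ∈ W) (he0 : e ≠ 0) (hQe : Q e = 0) :
    ∃ f R, Q f = 0 ∧ 𝔅 e f = 1 ∧ R ≤ W ∧ Sep Q R ∧ Sep Q (span F {e, f}) ∧ LinearIndependent F ![e, f] ∧
      (∀ x ∈ span F {e, f}, ∀ y ∈ R, 𝔅 x y = 0) ∧ span F {e, f} ⊔ R = W ∧ finrank F W = finrank F R + 2 ∧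
      (∀ w ∈ W, (∀ x ∈ span F {e, f}, 𝔅 x w = 0) → w ∈ R) ∧
      gauss Q W = (Fintype.card F : ℂ) * gauss Q R := by
  obtain ⟨f, hf, hQf, hef⟩ := exists_partner hW he he0 hQe
  obtain ⟨hs, hli, hd⟩ := sep_span_pair (Q := Q) (u := e) (v := f) (by rw [hQe, hQf, hef]; simp)
  obtain ⟨R, hRW, hR, horth, hsup, hdim, hmem⟩ := exists_perp hW hs (span_le.mpr (by simp [Set.insert_subset_iff, he, hf]))
  refine ⟨f, R, hQf, hef, hRW, hR, hs, hli, horth, hsup, by omega, hmem, ?_⟩
  rw [← hsup, gauss_sup hs horth, gauss_hyperbolic hQe hQf hef]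

/-- The two possible values, with the type. -/
theorem gauss_eq : ∀ (h : ℕ) {W : Submodule F V}, Sep Q W → finrank F W = 2 * h →
    (Plus Q W → gauss Q W = (Fintype.card F : ℂ) ^ h) ∧ (¬ Plus Q W → gauss Q W = -(Fintype.card F : ℂ) ^ h) := by
  intro h
  induction h with
  | zero =>
    intro W _ hd
    obtain rfl : W = ⊥ := Submodule.finrank_eq_zero.mp (by omega)
    exact ⟨fun _ => by rw [gauss_bot, pow_zero], fun hn => absurd plus_bot hn⟩
  | succ h ih =>
    intro W hW hd
    by_cases hs : ∃ e ∈ W, e ≠ 0 ∧ Q e = 0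
    swap
    · push Not at hs
      have hani : ∀ v ∈ W, Q v = 0 → v = 0 := fun v hv h0 => by_contra fun hne => hs v hv hne h0
      have hh : h = 0 := by
        by_contra hh
        obtain ⟨v, hv, hv0, hQv⟩ := exists_singular hW (by omega)
        exact hs v hv hv0 hQv
      subst hh
      refine ⟨fun ⟨U, hUW, hU, hUd⟩ => ?_, fun _ => by rw [gauss_aniso hW (by omega) hani, pow_one]⟩
      exfalso
      obtain ⟨u, hu, hu0⟩ := (Submodule.ne_bot_iff U).mp fun e => by rw [e, finrank_bot] at hUd; omega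
      exact hu0 (hani u (hUW hu) (hU u hu))
    -- a plus subspace gets split along its singular half
    by_cases hplus : Plus Q W
    · obtain ⟨U, hUW, hU, hUd⟩ := hplus
      obtain ⟨e, he, he0⟩ := (Submodule.ne_bot_iff U).mp fun e => by rw [e, finrank_bot] at hUd; omega
      obtain ⟨f, R, hQf, hef, hRW, hR, -, -, horth, -, hdim, hmem, hg⟩ := exists_split hW (hUW he) he0 (hU e he)
      refine ⟨fun _ => ?_, fun hn => absurd ⟨U, hUW, hU, hUd⟩ hn⟩
      let φ : U →ₗ[F] F := (QuadraticMap.polarBilin Q f).comp U.subtype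
      have hφ : finrank F (LinearMap.ker φ) + 1 = finrank F U := by
        have h1 := LinearMap.finrank_range_add_finrank_ker φ
        rw [LinearMap.range_eq_top.mpr (fun c => ⟨c • ⟨e, he⟩, by simp [φ, polar_swap f e, hef]⟩), finrank_top,
          finrank_self] at h1
        omega
      have hRp : Plus Q R := by
        refine ⟨(LinearMap.ker φ).map U.subtype, ?_, ?_, by rw [Submodule.finrank_map_subtype_eq]; omega⟩
        · rintro _ ⟨y, hy, rfl⟩
          refine hmem _ (hUW y.2) fun x hx => ?_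
          obtain ⟨s, t, rfl⟩ := mem_span_pair.mp hx
          have h2 : 𝔅 f (y : V) = 0 := hy
          simp [polar_singular hU he y.2, h2]
        · rintro _ ⟨y, -, rfl⟩
          exact hU y y.2
      rw [hg, (ih hR (by omega)).1 hRp, pow_succ']
    · obtain ⟨e, he, he0, hQe⟩ := hs
      obtain ⟨f, R, hQf, hef, hRW, hR, -, -, horth, hsup, hdim, -, hg⟩ := exists_split hW he he0 hQe
      refine ⟨fun hp => absurd hp hplus, fun _ => ?_⟩
      rw [hg, (ih hR (by omega)).2 (fun ⟨U, hUR, hU, hUd⟩ => hplus ?_), pow_succ', mul_neg]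
      refine ⟨span F {e} ⊔ U, sup_le ((span_singleton_le_iff_mem _ _).mpr he) (hUR.trans hRW), ?_, ?_⟩
      · intro w hw
        obtain ⟨x, hx, y, hy, rfl⟩ := Submodule.mem_sup.mp hw
        obtain ⟨s, rfl⟩ := mem_span_singleton.mp hx
        rw [map_add', smul_quad, hQe, hU y hy, map_smul, LinearMap.smul_apply,
          horth e (subset_span (by simp)) y (hUR hy)]
        simp
      · have hdis : span F {e} ⊓ U = ⊥ := le_bot_iff.mp ((inf_le_inf (span_mono (by simp)) hUR).trans
          (le_bot_iff.mpr (orth_inf_bot (sep_span_pair (by rw [hQe, hQf, hef]; simp)).1 horth)))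
        have h1 := Submodule.finrank_sup_add_finrank_inf_eq (span F {e}) U
        rw [hdis, finrank_bot, finrank_span_singleton he0] at h1
        omega

/-- The type of an orthogonal sum. -/
theorem plus_sup_iff {X Y : Submodule F V} (hX : Sep Q X) (hY : Sep Q Y) (horth : ∀ x ∈ X, ∀ y ∈ Y, 𝔅 x y = 0)
    (hXe : Even (finrank F X)) (hYe : Even (finrank F Y)) : Plus Q (X ⊔ Y) ↔ (Plus Q X ↔ Plus Q Y) := by
  obtain ⟨hx, hxd⟩ := hXe
  obtain ⟨hy, hyd⟩ := hYe
  have hd : finrank F ↥(X ⊔ Y) = 2 * (hx + hy) := by rw [finrank_orth_sup hX horth]; omega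
  obtain ⟨x1, x2⟩ := gauss_eq hx hX (by omega)
  obtain ⟨y1, y2⟩ := gauss_eq hy hY (by omega)
  obtain ⟨s1, s2⟩ := gauss_eq (hx + hy) (sep_sup hX hY horth) hd
  have hg := gauss_sup hX horth
  have hne : ∀ n : ℕ, (Fintype.card F : ℂ) ^ n ≠ 0 := fun n =>
    pow_ne_zero _ (Nat.cast_ne_zero.mpr Fintype.card_ne_zero)
  have hflip : (Fintype.card F : ℂ) ^ (hx + hy) ≠ -(Fintype.card F : ℂ) ^ (hx + hy) := fun e =>
    hne (hx + hy) (by linear_combination e / 2)
  by_cases hS : Plus Q (X ⊔ Y) <;> by_cases hX' : Plus Q X <;> by_cases hY' : Plus Q Y <;>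
    simp only [hS, hX', hY', iff_self, iff_true, iff_false, not_true_eq_false, not_false_eq_true]
  all_goals
    exfalso
    first
    | rw [s1 hS, x1 hX', y1 hY'] at hg
    | rw [s1 hS, x1 hX', y2 hY'] at hg
    | rw [s1 hS, x2 hX', y1 hY'] at hg
    | rw [s1 hS, x2 hX', y2 hY'] at hg
    | rw [s2 hS, x1 hX', y1 hY'] at hg
    | rw [s2 hS, x1 hX', y2 hY'] at hg
    | rw [s2 hS, x2 hX', y1 hY'] at hg
    | rw [s2 hS, x2 hX', y2 hY'] at hg
    exact hflip (by first | linear_combination hg | linear_combination -hg)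

/-- Same dimension and type give isometric subspaces. -/
theorem iso_of_type {V' : Type*} [AddCommGroup V'] [Module F V'] [Finite V'] [FiniteDimensional F V']
    {Q' : QuadraticForm F V'} : ∀ (h : ℕ) {W : Submodule F V} {W' : Submodule F V'}, Sep Q W → Sep Q' W' →
      finrank F W = 2 * h → finrank F W' = 2 * h → (Plus Q W ↔ Plus Q' W') → Iso Q Q' W W' := by
  intro h
  induction h with
  | zero =>
    intro W W' _ _ hd hd' _
    obtain rfl : W = ⊥ := Submodule.finrank_eq_zero.mp (by omega)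
    obtain rfl : W' = ⊥ := Submodule.finrank_eq_zero.mp (by omega)
    refine ⟨LinearEquiv.ofFinrankEq _ _ (by simp), fun w => ?_⟩
    rw [Subsingleton.elim w 0, map_zero]
    simp
  | succ h ih =>
    intro W W' hW hW' hd hd' htype
    by_cases hs : (∃ e ∈ W, e ≠ 0 ∧ Q e = 0) ∧ ∃ e ∈ W', e ≠ 0 ∧ Q' e = 0
    · obtain ⟨⟨e, he, he0, hQe⟩, ⟨e', he', he0', hQe'⟩⟩ := hs
      obtain ⟨f, R, hQf, hef, -, hR, hP, hli, horth, hsup, hdim, -, hg⟩ := exists_split hW he he0 hQe
      obtain ⟨f', R', hQf', hef', -, hR', hP', hli', horth', hsup', hdim', -, hg'⟩ := exists_split hW' he' he0' hQe'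
      rw [← hsup, ← hsup']
      refine Iso.sup hP horth hP' horth' (iso_span_pair hli hli' (by rw [hQe, hQe']) (by rw [hQf, hQf'])
        (by rw [hef, hef'])) (ih hR hR' (by omega) (by omega) ?_)
      have h1 := gauss_eq (h + 1) hW (by omega)
      have h2 := gauss_eq h hR (by omega)
      have h1' := gauss_eq (h + 1) hW' (by omega)
      have h2' := gauss_eq h hR' (by omega)
      have hq : (Fintype.card F : ℂ) ≠ 0 := Nat.cast_ne_zero.mpr Fintype.card_ne_zero
      have hflip : (Fintype.card F : ℂ) ^ (h + 1) ≠ -(Fintype.card F : ℂ) ^ (h + 1) := fun e =>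
        pow_ne_zero (h + 1) hq (by linear_combination e / 2)
      have key : Plus Q R ↔ Plus Q W := by
        constructor <;> intro hp <;> by_contra hn
        · rw [h1.2 hn, h2.1 hp, ← pow_succ'] at hg
          exact hflip hg.symm
        · rw [h1.1 hp, h2.2 hn, mul_neg, ← pow_succ'] at hg
          exact hflip hg
      have key' : Plus Q' R' ↔ Plus Q' W' := by
        constructor <;> intro hp <;> by_contra hn
        · rw [h1'.2 hn, h2'.1 hp, ← pow_succ'] at hg'
          exact hflip hg'.symm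
        · rw [h1'.1 hp, h2'.2 hn, mul_neg, ← pow_succ'] at hg'
          exact hflip hg'
      rw [key, key']
      exact htype
    · -- two anisotropic planes
      have hh : h = 0 := by
        by_contra hh
        refine hs ⟨?_, ?_⟩
        · obtain ⟨v, hv, hv0, hQv⟩ := exists_singular hW (by omega); exact ⟨v, hv, hv0, hQv⟩
        · obtain ⟨v, hv, hv0, hQv⟩ := exists_singular hW' (by omega); exact ⟨v, hv, hv0, hQv⟩
      subst hh
      rw [plus_plane_iff (by omega), plus_plane_iff (by omega)] at htype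
      have hn : ¬ ∃ e ∈ W, e ≠ 0 ∧ Q e = 0 := fun hp => hs ⟨hp, htype.mp hp⟩
      have hn' : ¬ ∃ e ∈ W', e ≠ 0 ∧ Q' e = 0 := fun hp => hn (htype.mpr hp)
      push Not at hn hn'
      obtain ⟨a, b, hab⟩ := exists_aniso (F := F)
      obtain ⟨u, v, rfl, hli, h1, h2, h3⟩ := exists_pair_of_aniso hW (by omega)
        (fun w hw h0 => by_contra fun hne => hn w hw hne h0) hab
      obtain ⟨u', v', rfl, hli', h1', h2', h3'⟩ := exists_pair_of_aniso hW' (by omega)
        (fun w hw h0 => by_contra fun hne => hn' w hw hne h0) hab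
      exact iso_span_pair hli hli' (by rw [h1, h1']) (by rw [h3, h3']) (by rw [h2, h2'])

/-- Subspaces of smaller even dimension come in both types. -/
theorem exists_sub_type : ∀ (h : ℕ) {W : Submodule F V}, Sep Q W → 2 * h < finrank F W → ∀ P : Prop,
    (h = 0 → P) → ∃ X, X ≤ W ∧ Sep Q X ∧ finrank F X = 2 * h ∧ (Plus Q X ↔ P) := by
  intro h
  induction h with
  | zero =>
    intro W _ _ P hP
    exact ⟨⊥, bot_le, sep_bot, by simp, iff_of_true plus_bot (hP rfl)⟩
  | succ h ih =>
    intro W hW hd P _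
    obtain ⟨e, he, he0, hQe⟩ := exists_singular hW (by omega)
    obtain ⟨f, R, hQf, hef, hRW, hR, hP', -, horth, hsup, hdim, -, -⟩ := exists_split hW he he0 hQe
    have hHW : span F {e, f} ≤ W := hsup ▸ le_sup_left
    have hHplus : Plus Q (span F {e, f}) := by
      refine ⟨span F {e}, span_mono (by simp), fun u hu => ?_, ?_⟩
      · obtain ⟨s, rfl⟩ := mem_span_singleton.mp hu
        rw [smul_quad, hQe, mul_zero]
      · rw [finrank_span_singleton he0, (sep_span_pair (Q := Q) (u := e) (v := f) (by rw [hQe, hQf, hef]; simp)).2.2]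
    have hHd : finrank F (span F {e, f}) = 2 := by
      have := finrank_orth_sup hP' horth
      rw [hsup] at this
      omega
    by_cases hcase : h = 0 → P
    · obtain ⟨X, hXR, hX, hXd, hXt⟩ := ih hR (by omega) P hcase
      have horth' : ∀ x ∈ span F {e, f}, ∀ y ∈ X, 𝔅 x y = 0 := fun x hx y hy => horth x hx y (hXR hy)
      refine ⟨span F {e, f} ⊔ X, sup_le hHW (hXR.trans hRW), sep_sup hP' hX horth', ?_, ?_⟩
      · rw [finrank_orth_sup hP' horth', hHd, hXd]; omega
      · rw [plus_sup_iff hP' hX horth' (by rw [hHd]; exact even_two) (by rw [hXd]; exact even_two_mul h)]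
        simp [hHplus, hXt]
    · -- an anisotropic plane
      push Not at hcase
      obtain ⟨rfl, hP⟩ := hcase
      obtain ⟨a, b, hab⟩ := exists_aniso (F := F)
      obtain ⟨w, hw, hwγ⟩ : ∃ w ∈ R, Q w ≠ 0 := by
        by_contra hall
        push Not at hall
        obtain ⟨w, hw, hw0⟩ := (Submodule.ne_bot_iff R).mp fun e => by rw [e, finrank_bot] at hdim; omega
        obtain ⟨y, hy, hwy⟩ := hR w hw hw0
        exact hwy (polar_singular hall hw hy)
      obtain ⟨s, t, hst⟩ : ∃ s t : F, s * (a - s) + t * t * Q w = b := by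
        rcases eq_or_ne (2 : F) 0 with h2 | h2
        · obtain ⟨t, ht⟩ := (two_cases (F := F)).resolve_left (not_not.mpr h2) (b / Q w)
          exact ⟨0, t, by rw [← ht, div_mul_cancel₀ _ hwγ]; ring⟩
        · have h4 : (4 : F) ≠ 0 := by rw [show (4 : F) = 2 * 2 by norm_num]; exact mul_ne_zero h2 h2
          obtain ⟨s, t, hst⟩ := CfsgLib.Forms.exists_diag_binary h2 (neg_ne_zero.mpr (one_ne_zero (α := F))) hwγ
            (b - a * a / 4)
          exact ⟨a / 2 + s, t, by field_simp at hst ⊢; linear_combination hst⟩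
      have hew : 𝔅 e w = 0 := horth e (subset_span (by simp)) w hw
      have hfw : 𝔅 f w = 0 := horth f (subset_span (by simp)) w hw
      set u := e + f
      set v := s • e + (a - s) • f + t • w
      have hu : Q u = 1 := by simp only [u, map_add', hQe, hQf, hef]; ring
      have huv : 𝔅 u v = a := by
        simp only [u, v, map_add, map_smul, LinearMap.add_apply, polar_diag, hQe, hQf, hef, polar_swap f e, hew, hfw,
          smul_eq_mul]
        ring
      have hv : Q v = b := by
        simp only [v, map_add', smul_quad, map_add, map_smul, LinearMap.add_apply, LinearMap.smul_apply, hQe, hQf, hef,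
          hew, hfw, smul_eq_mul]
        linear_combination hst
      have hdisc : 𝔅 u v * 𝔅 u v - 4 * (Q u * Q v) ≠ 0 := by rw [hu, huv, hv, one_mul]; exact aniso_disc hab
      obtain ⟨hsep, -, hd2⟩ := sep_span_pair (Q := Q) hdisc
      refine ⟨span F {u, v}, span_le.mpr ?_, hsep, by rw [hd2], iff_of_false (fun ⟨U, hUP, hU, hUd⟩ => ?_) hP⟩
      · simp only [Set.insert_subset_iff, Set.singleton_subset_iff, SetLike.mem_coe]
        exact ⟨hHW (add_mem (subset_span (by simp)) (subset_span (by simp))),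
          W.add_mem (hHW (add_mem (smul_mem _ _ (subset_span (by simp))) (smul_mem _ _ (subset_span (by simp)))))
            (W.smul_mem _ (hRW hw))⟩
      · obtain ⟨z, hz, hz0⟩ := (Submodule.ne_bot_iff U).mp fun e => by rw [e, finrank_bot] at hUd; omega
        obtain ⟨x, y, rfl⟩ := mem_span_pair.mp (hUP hz)
        have h0 := hU _ hz
        simp only [map_add', smul_quad, hu, hv, map_smul, LinearMap.smul_apply, huv] at h0
        obtain ⟨rfl, rfl⟩ := hab x y (by simp only [smul_eq_mul] at h0; linear_combination h0)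
        simp at hz0

end Main

end CfsgLib.QuadType
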