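import Cfsg.Agent.LinearElements.RElements
import Cfsg.Agent.LinearElements.JordanModels

/-! Standard maps of determinant one with `g ^ r` scalar, and the determinant in the cyclic case. -/

set_option autoImplicit false

namespace CfsgLib.LinearElements

open Module
open scoped Matrix

variable {F V : Type*} [Field F] [AddCommGroup V] [Module F V]

/-- The matrix sending `e (s, l)` to `e (s, l + 1)` and `e (s, r-1)` to `lam • e (s, 0)`. -/
def cycleMatrix (t r : ℕ) (lam : F) : Matrix (Fin t × Fin r) (Fin t × Fin r) F :=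
  (Matrix.diagonal fun p : Fin t × Fin r => if (p.2 : ℕ) + 1 = r then lam else 1).submatrix
    (Equiv.prodCongrRight fun _ : Fin t => finRotate r).symm id

theorem det_cycleMatrix (t r : ℕ) (hr : 0 < r) (lam : F) :
    (cycleMatrix t r lam).det = ((-1) ^ (r - 1) * lam) ^ t := by
  obtain ⟨r', rfl⟩ : ∃ r', r = r' + 1 := ⟨r - 1, by omega⟩
  rw [cycleMatrix, Matrix.det_permute, Matrix.det_diagonal, Equiv.Perm.sign_symm, Equiv.Perm.sign_prodCongrRight,
    Fintype.prod_prod_type]
  simp only [sign_finRotate, Finset.prod_const, Finset.card_univ, Fintype.card_fin, Nat.add_sub_cancel]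
  have e : (∏ l : Fin (r' + 1), if (l : ℕ) + 1 = r' + 1 then lam else 1) = lam := by
    rw [Finset.prod_eq_single (Fin.last r')]
    · simp
    · intro l _ hl
      rw [if_neg]
      intro h
      exact hl (Fin.ext (by simp; omega))
    · simp
  simp only [e, Finset.prod_const, Finset.card_univ, Fintype.card_fin]
  rw [mul_pow]
  push_cast
  ring

theorem cycleMatrix_mulVec_single (t r : ℕ) (hr : 0 < r) (lam : F) (s : Fin t) (l : Fin r) :
    cycleMatrix t r lam *ᵥ Pi.single (s, l) 1 =
      if h : (l : ℕ) + 1 < r then Pi.single (s, (⟨l + 1, h⟩ : Fin r)) 1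
      else lam • Pi.single (s, (⟨0, hr⟩ : Fin r)) 1 := by
  obtain ⟨r', rfl⟩ : ∃ r', r = r' + 1 := ⟨r - 1, by omega⟩
  rw [Matrix.mulVec_single_one]
  funext ⟨s', l'⟩
  simp only [cycleMatrix, Matrix.col_apply, Matrix.submatrix_apply, id, Matrix.diagonal_apply]
  have key : ((Equiv.prodCongrRight fun _ : Fin t => finRotate (r' + 1)).symm (s', l') = (s, l)) ↔
      (s' = s ∧ l' = finRotate (r' + 1) l) := by
    rw [Equiv.symm_apply_eq]
    simp [Prod.ext_iff]
  by_cases h : (l : ℕ) + 1 < r' + 1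
  · rw [dif_pos h]
    have hl' : finRotate (r' + 1) l = ⟨(l : ℕ) + 1, h⟩ := by
      rw [finRotate_of_lt (k := (l : ℕ)) (by omega)]
    by_cases hk : s' = s ∧ l' = finRotate (r' + 1) l
    · rw [if_pos (key.mpr hk), key.mpr hk, if_neg (by simp; omega), hk.1, hk.2, hl']
      simp
    · rw [if_neg (fun e => hk (key.mp e)), Pi.single_apply, if_neg]
      intro e
      simp only [Prod.mk.injEq] at e
      exact hk ⟨e.1, hl'.symm ▸ e.2⟩
  · rw [dif_neg h]
    have hl : l = Fin.last r' := Fin.ext (by simp; omega)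
    have hl' : finRotate (r' + 1) l = ⟨0, hr⟩ := by rw [hl, finRotate_last]; rfl
    by_cases hk : s' = s ∧ l' = finRotate (r' + 1) l
    · rw [if_pos (key.mpr hk), key.mpr hk, if_pos (by simp [hl]), hk.1, hk.2, hl']
      simp
    · rw [if_neg (fun e => hk (key.mp e)), Pi.smul_apply, Pi.single_apply, if_neg, smul_zero]
      intro e
      simp only [Prod.mk.injEq] at e
      exact hk ⟨e.1, hl'.symm ▸ e.2⟩

theorem cycleMatrix_pow (t r : ℕ) (hr : 0 < r) (lam : F) :
    (Matrix.toLin' (cycleMatrix t r lam)) ^ r = lam • (1 : Module.End F (Fin t × Fin r → F)) := by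
  set g := Matrix.toLin' (cycleMatrix t r lam)
  have hstep : ∀ (s : Fin t) (k : ℕ) (hk : k < r),
      (g ^ k) (Pi.single (s, ⟨0, hr⟩) 1) = Pi.single (s, (⟨k, hk⟩ : Fin r)) 1 := by
    intro s k
    induction k with
    | zero => intro _; simp
    | succ k ih =>
      intro hk
      rw [pow_succ', Module.End.mul_apply, ih (by omega), Matrix.toLin'_apply,
        cycleMatrix_mulVec_single t r hr lam, dif_pos hk]
  refine (Pi.basisFun F _).ext fun ⟨s, l⟩ => ?_
  rw [Pi.basisFun_apply, LinearMap.smul_apply, Module.End.one_apply]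
  rw [← hstep s l l.2, ← Module.End.mul_apply, ← pow_add, add_comm, pow_add, Module.End.mul_apply, ← map_smul]
  congr 1
  have hpow : g ^ r = g * g ^ (r - 1) := by rw [← pow_succ']; congr 1; omega
  rw [hpow, Module.End.mul_apply, hstep s (r - 1) (by omega), Matrix.toLin'_apply,
    cycleMatrix_mulVec_single t r hr lam, dif_neg (by simp; omega)]

variable [FiniteDimensional F V]

/-- The determinant and dimension when the scalar is not an `r`-th power. -/
theorem det_of_nonpower {g : Module.End F V} {r : ℕ} [Fact r.Prime] {lam : F} (hlam : ∀ μ : F, μ ^ r ≠ lam)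
    (hg : g ^ r = lam • 1) :
    ∃ t, finrank F V = t * r ∧ LinearMap.det g = ((-1) ^ (r - 1) * lam) ^ t := by
  obtain ⟨t, w, B, hB⟩ := exists_cycleBasis hlam hg
  have hrpos : 0 < r := (Fact.out : r.Prime).pos
  refine ⟨t, by rw [Module.finrank_eq_card_basis B]; simp, ?_⟩
  rw [← det_cycleMatrix t r hrpos lam, ← LinearMap.det_toMatrix B]
  congr 1
  have key : g = B.equivFun.symm.conj (Matrix.toLin' (cycleMatrix t r lam)) := by
    refine B.ext fun p => ?_
    obtain ⟨s, l⟩ := p
    rw [LinearEquiv.conj_apply_apply, LinearEquiv.symm_symm,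
      show B.equivFun (B (s, l)) = Pi.single (s, l) 1 by ext j; simp [Pi.single_apply, Finsupp.single_apply, eq_comm],
      Matrix.toLin'_apply, cycleMatrix_mulVec_single t r hrpos lam, hB, ← Module.End.mul_apply, ← pow_succ']
    split
    next h =>
      rw [Module.Basis.equivFun_symm_apply]
      simp [Pi.single_apply, hB]
    next h =>
      rw [map_smul, Module.Basis.equivFun_symm_apply]
      rw [show (l : ℕ) + 1 = r by omega, hg]
      simp [Pi.single_apply, hB]
  rw [key]
  ext p p'
  rw [LinearMap.toMatrix_apply, LinearEquiv.conj_apply_apply, LinearEquiv.symm_symm]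
  have e : B.equivFun (B p') = Pi.single p' 1 := by ext j; simp [Pi.single_apply, Finsupp.single_apply, eq_comm]
  rw [e, ← Module.Basis.equivFun_apply, LinearEquiv.apply_symm_apply, Matrix.toLin'_apply, Matrix.mulVec_single_one]
  rfl

/-- A cyclic model of determinant one. -/
theorem exists_nonpower_model {r : ℕ} [Fact r.Prime] {lam : F} (hlam : ∀ μ : F, μ ^ r ≠ lam) {t : ℕ}
    (hn : finrank F V = t * r) (hdet : ((-1) ^ (r - 1) * lam) ^ t = 1) :
    ∃ g : Module.End F V, g ^ r = lam • 1 ∧ LinearMap.det g = 1 ∧ ∀ c : F, 0 < finrank F V → g ≠ c • 1 := by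
  have hrpos : 0 < r := (Fact.out : r.Prime).pos
  let e : (Fin t × Fin r → F) ≃ₗ[F] V := LinearEquiv.ofFinrankEq _ _ (by rw [Module.finrank_pi, hn]; simp)
  refine ⟨e.conj (Matrix.toLin' (cycleMatrix t r lam)), ?_, ?_, ?_⟩
  · rw [conj_pow_end, cycleMatrix_pow t r hrpos, map_smul]
    congr 1
    exact LinearMap.ext fun x => by simp [LinearEquiv.conj_apply_apply]
  · rw [LinearEquiv.conj_apply, LinearMap.comp_assoc, LinearMap.det_conj, LinearMap.det_toLin', det_cycleMatrix t r hrpos, hdet]
  · intro c hpos hc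
    haveI : Nontrivial V := Module.nontrivial_of_finrank_pos hpos
    have h := congrArg (fun f => f ^ r) hc
    simp only [conj_pow_end, cycleMatrix_pow t r hrpos, smul_pow, one_pow, map_smul] at h
    obtain ⟨v, hv⟩ := exists_ne (0 : V)
    have h1 := congrArg (fun f : Module.End F V => f v) h
    simp [LinearEquiv.conj_apply_apply] at h1
    exact hlam c ((smul_left_injective F hv h1).symm)

variable [Fintype F]

omit [FiniteDimensional F V] in
theorem eq_one_of_pow_of_not_dvd {r : ℕ} [Fact r.Prime] (hi : orderOf (Fintype.card F : ZMod r) ≠ 1) {c : F}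
    (hc : c ^ r = 1) : c = 1 := by
  have hc0 : c ≠ 0 := fun h => by simp [h, (Fact.out : r.Prime).ne_zero] at hc
  have h1 := FiniteField.pow_card_sub_one_eq_one c hc0
  have h2 := orderOf_dvd_of_pow_eq_one hc
  have h3 := orderOf_dvd_of_pow_eq_one h1
  rcases (Nat.dvd_prime Fact.out).mp h2 with h | h
  · exact orderOf_eq_one_iff.mp h
  · exfalso
    rw [h] at h3
    refine hi (orderOf_eq_one_iff.mpr ?_)
    have h4 : ((Fintype.card F - 1 : ℕ) : ZMod r) = 0 := (ZMod.natCast_eq_zero_iff _ _).mpr h3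
    rwa [Nat.cast_sub Fintype.card_pos, Nat.cast_one, sub_eq_zero] at h4

omit [FiniteDimensional F V] in
theorem exists_fpf_small {r : ℕ} [Fact r.Prime] (hi : 2 ≤ orderOf (Fintype.card F : ZMod r)) :
    ∃ h : Module.End F (Fin (orderOf (Fintype.card F : ZMod r)) → F), h ^ r = 1 ∧ LinearMap.det h = 1 ∧
      fixedIn h ⊤ = ⊥ := by
  classical
  set i := orderOf (Fintype.card F : ZMod r) with hidef
  have hq : (Fintype.card F : ZMod r) ≠ 0 := by
    intro h0
    have : i = 0 := by rw [hidef, h0, orderOf_zero]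
    omega
  have hdvd : r ∣ Nat.card (GL (Fin i) F) := by
    rw [Matrix.card_GL_field]
    refine Dvd.dvd.trans ?_ (Finset.dvd_prod_of_mem _ (Finset.mem_univ (⟨0, by omega⟩ : Fin i)))
    rw [← ZMod.natCast_eq_zero_iff, pow_zero, Nat.cast_sub (Nat.one_le_pow _ _ Fintype.card_pos), Nat.cast_pow,
      hidef, pow_orderOf_eq_one, Nat.cast_one, sub_self]
  obtain ⟨x, hx⟩ := exists_prime_orderOf_dvd_card' r hdvd
  set h := Matrix.toLin' (x : Matrix (Fin i) (Fin i) F) with hh
  have hpow : h ^ r = 1 := by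
    show Matrix.toLinAlgEquiv' (x : Matrix (Fin i) (Fin i) F) ^ r = 1
    rw [← map_pow, ← Units.val_pow_eq_pow_val, ← hx, pow_orderOf_eq_one, Units.val_one, map_one]
  refine ⟨h, hpow, eq_one_of_pow_of_not_dvd (by omega) (by rw [← map_pow, hpow, map_one]), ?_⟩
  by_contra hne
  have hd := orderOf_dvd_finrank_sub hpow hq (invBy_top (g := h))
  rw [finrank_top, Module.finrank_fin_fun, ← hidef] at hd
  have hpos : 0 < finrank F (fixedIn h ⊤) := by
    rw [Nat.pos_iff_ne_zero]; intro e; exact hne (Submodule.finrank_eq_zero.mp e)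
  have hle : finrank F (fixedIn h ⊤) ≤ i := (Submodule.finrank_le _).trans (by rw [Module.finrank_fin_fun])
  rcases Nat.eq_zero_or_pos (i - finrank F (fixedIn h ⊤)) with e | e
  · have htop : fixedIn h ⊤ = ⊤ := Submodule.eq_top_of_finrank_eq (by rw [Module.finrank_fin_fun]; omega)
    have h1 : (x : Matrix (Fin i) (Fin i) F) = 1 := by
      apply Matrix.toLin'.injective
      rw [← hh, Matrix.toLin'_one]
      exact LinearMap.ext fun v => (mem_fixedIn.mp (htop.ge (Submodule.mem_top (x := v)))).2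
    have : x = 1 := Units.ext h1
    rw [this, orderOf_one] at hx
    exact (Fact.out : r.Prime).one_lt.ne hx
  · have := Nat.le_of_dvd e hd
    omega

/-- A map of order `r` and determinant one with fixed space of prescribed dimension. -/
theorem exists_fixed_model {r : ℕ} [Fact r.Prime] (hi : 2 ≤ orderOf (Fintype.card F : ZMod r)) {s k : ℕ}
    (hs : 1 ≤ s) (hn : finrank F V = s * orderOf (Fintype.card F : ZMod r) + k) :
    ∃ g : Module.End F V, g ^ r = 1 ∧ LinearMap.det g = 1 ∧ finrank F (fixedIn g ⊤) = k ∧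
      ∀ c : F, g ≠ c • 1 := by
  obtain ⟨i, h, hidef, hpow, hfix⟩ : ∃ (i : ℕ) (h : Module.End F (Fin i → F)),
      i = orderOf (Fintype.card F : ZMod r) ∧ h ^ r = 1 ∧ fixedIn h ⊤ = ⊥ := by
    obtain ⟨h, hpow, -, hfix⟩ := exists_fpf_small (F := F) hi
    exact ⟨_, h, rfl, hpow, hfix⟩
  rw [← hidef] at hi hn
  let g₀ : Module.End F ((Fin s → Fin i → F) × (Fin k → F)) :=
    LinearMap.prodMap (LinearMap.pi fun a => h ∘ₗ LinearMap.proj a) LinearMap.id
  have hg₀ : ∀ (n : ℕ) (v : (Fin s → Fin i → F) × (Fin k → F)),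
      (g₀ ^ n) v = (fun a => (h ^ n) (v.1 a), v.2) := by
    intro n
    induction n with
    | zero => intro v; simp
    | succ n ih => intro v; rw [pow_succ', Module.End.mul_apply, ih]; simp [g₀, pow_succ', LinearMap.pi_apply]; funext a; rfl
  have hfix₀ : fixedIn g₀ ⊤ = LinearMap.range (LinearMap.inr F (Fin s → Fin i → F) (Fin k → F)) := by
    ext ⟨a, b⟩
    rw [mem_fixedIn, LinearMap.mem_range]
    constructor
    · rintro ⟨-, hab⟩
      refine ⟨b, Prod.ext ?_ rfl⟩
      have h1 : (fun j => (h ^ 1) (a j)) = a := by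
        have := hg₀ 1 (a, b)
        rw [pow_one, hab] at this
        exact (congrArg Prod.fst this).symm
      funext j
      have h2 := congrFun h1 j
      rw [pow_one] at h2
      exact ((Submodule.eq_bot_iff _).mp hfix _ (mem_fixedIn.mpr ⟨trivial, h2⟩)).symm
    · rintro ⟨b', e⟩
      rw [← e]
      refine ⟨trivial, ?_⟩
      have := hg₀ 1 (LinearMap.inr F (Fin s → Fin i → F) (Fin k → F) b')
      rw [pow_one] at this
      rw [this]
      simp; rfl
  let e : ((Fin s → Fin i → F) × (Fin k → F)) ≃ₗ[F] V := LinearEquiv.ofFinrankEq _ _ (by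
    rw [Module.finrank_prod, Module.finrank_pi_fintype, hn]; simp)
  have hgr : (e.conj g₀) ^ r = 1 := by
    rw [conj_pow_end, show g₀ ^ r = 1 from LinearMap.ext fun v => by rw [hg₀, hpow]; rfl]
    exact LinearMap.ext fun x => by simp [LinearEquiv.conj_apply_apply]
  have hfd : finrank F (fixedIn (e.conj g₀) ⊤) = k := by
    have : fixedIn (e.conj g₀) ⊤ = (fixedIn g₀ ⊤).map e.toLinearMap := by
      ext v
      rw [Submodule.mem_map]
      constructor
      · intro hv
        refine ⟨e.symm v, mem_fixedIn.mpr ⟨trivial, ?_⟩, e.apply_symm_apply v⟩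
        have h2 := (mem_fixedIn.mp hv).2
        rw [LinearEquiv.conj_apply_apply] at h2
        exact e.injective (by rw [h2, e.apply_symm_apply])
      · rintro ⟨w, hw, rfl⟩
        refine mem_fixedIn.mpr ⟨trivial, ?_⟩
        simp [LinearEquiv.conj_apply_apply, (mem_fixedIn.mp hw).2]
    rw [this, LinearEquiv.finrank_map_eq, hfix₀,
      LinearMap.finrank_range_of_inj LinearMap.inr_injective, Module.finrank_fin_fun]
  refine ⟨e.conj g₀, hgr, eq_one_of_pow_of_not_dvd (by omega) (by rw [← map_pow, hgr, map_one]), hfd, ?_⟩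
  intro c hc
  haveI : Nontrivial V := Module.nontrivial_of_finrank_pos (R := F) (by rw [hn]; nlinarith)
  obtain ⟨v, hv⟩ := exists_ne (0 : V)
  have hcr : c ^ r = 1 := by
    have h1 := congrArg (fun f : Module.End F V => (f ^ r) v) hc
    simp only [hgr, smul_pow, one_pow, LinearMap.smul_apply, Module.End.one_apply] at h1
    exact smul_left_injective F hv (show c ^ r • v = (1 : F) • v by rw [one_smul]; exact h1.symm)
  have hc1 := eq_one_of_pow_of_not_dvd (F := F) (r := r) (by omega) hcr
  rw [hc, hc1, one_smul] at hfd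
  have : fixedIn (1 : Module.End F V) ⊤ = ⊤ := Submodule.ext fun x => by simp [mem_fixedIn]
  rw [this, finrank_top] at hfd
  nlinarith

/-- For `r ∣ q - 1`: a non-`r`-th power `y` with `y ^ t = 1` forces the `r`-part of `q - 1` to divide `t`. -/
theorem padicValNat_le_of_nonpower {r : ℕ} [Fact r.Prime] {y : F} (hy : ∀ μ : F, μ ^ r ≠ y) {t : ℕ} (ht : t ≠ 0)
    (hyt : y ^ t = 1) : padicValNat r (Fintype.card F - 1) ≤ padicValNat r t := by
  classical
  have hy0 : y ≠ 0 := fun h => hy 0 (by rw [h, zero_pow (Fact.out : r.Prime).ne_zero])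
  set N := Fintype.card F - 1 with hNdef
  have hN : N ≠ 0 := by have := Fintype.one_lt_card (α := F); omega
  obtain ⟨u, hu⟩ := IsCyclic.exists_monoid_generator (α := Fˣ)
  have huo : orderOf u = N := by
    rw [orderOf_eq_card_of_forall_mem_zpowers (fun x => mem_powers_iff_mem_zpowers.mp (hu x)), Nat.card_units,
      Nat.card_eq_fintype_card]
  obtain ⟨e, he⟩ := hu (Units.mk0 y hy0)
  have hye : ((u ^ e : Fˣ) : F) = y := by rw [show u ^ e = Units.mk0 y hy0 from he]; rfl
  have hre : ¬ r ∣ e := by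
    rintro ⟨m, rfl⟩
    refine hy ((u ^ m : Fˣ) : F) ?_
    rw [← Units.val_pow_eq_pow_val, ← pow_mul, mul_comm, hye]
  have h1 : u ^ (e * t) = 1 := Units.ext (by rw [pow_mul, Units.val_pow_eq_pow_val, hye, hyt]; rfl)
  have h2 := orderOf_dvd_of_pow_eq_one h1
  rw [huo] at h2
  have h3 : r ^ padicValNat r N ∣ e * t := pow_padicValNat_dvd.trans h2
  exact (padicValNat_dvd_iff_le ht).mp
    ((Nat.Coprime.pow_left _ (((Fact.out : r.Prime).coprime_iff_not_dvd).mpr hre)).dvd_of_dvd_mul_left h3)

/-- For `r ∣ q - 1` there is a non-`r`-th power of order the `r`-part of `q - 1`. -/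
theorem exists_nonpower {r : ℕ} [Fact r.Prime] (hr : r ∣ Fintype.card F - 1) :
    ∃ y : F, (∀ μ : F, μ ^ r ≠ y) ∧ y ^ (r ^ padicValNat r (Fintype.card F - 1)) = 1 := by
  classical
  set N := Fintype.card F - 1 with hNdef
  have hN : N ≠ 0 := by have := Fintype.one_lt_card (α := F); omega
  obtain ⟨u, hu⟩ := IsCyclic.exists_monoid_generator (α := Fˣ)
  have huo : orderOf u = N := by
    rw [orderOf_eq_card_of_forall_mem_zpowers (fun x => mem_powers_iff_mem_zpowers.mp (hu x)), Nat.card_units,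
      Nat.card_eq_fintype_card]
  set a := padicValNat r N with ha
  obtain ⟨M, hM⟩ : r ^ a ∣ N := pow_padicValNat_dvd
  refine ⟨((u ^ M : Fˣ) : F), fun μ hμ => ?_, ?_⟩
  · have hμ0 : μ ≠ 0 := fun h => by
      rw [h, zero_pow (Fact.out : r.Prime).ne_zero] at hμ
      exact (u ^ M).ne_zero hμ.symm
    obtain ⟨e, he⟩ := hu (Units.mk0 μ hμ0)
    have h1 : u ^ (e * r) = u ^ M := Units.ext (by
      rw [pow_mul, Units.val_pow_eq_pow_val, show u ^ e = Units.mk0 μ hμ0 from he, Units.val_mk0, hμ])
    have h2 : e * r ≡ M [MOD N] := huo ▸ pow_eq_pow_iff_modEq.mp h1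
    have h4 : r ∣ M := (Nat.ModEq.dvd_iff h2 hr).mp (Dvd.intro_left e rfl)
    obtain ⟨M', rfl⟩ := h4
    have h5 : r ^ (a + 1) ∣ N := ⟨M', by rw [hM, pow_succ]; ring⟩
    have := (padicValNat_dvd_iff_le hN).mp h5
    omega
  · rw [← Units.val_pow_eq_pow_val, ← pow_mul, mul_comm M, ← hM, ← huo, pow_orderOf_eq_one, Units.val_one]

end CfsgLib.LinearElements
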