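import Cfsg.Agent.LinearElements.TwistedForms

/-! Elements of prime order with no conjugate scaling a twisted form: diagonal elements with an asymmetrical
spectrum and elements with one non-trivial block; the symmetrical spectra in dimensions three and five. -/

set_option autoImplicit false

namespace CfsgLib.Twist

open Matrix Polynomial

variable {F : Type*} [Field F] {σ : F →+* F} {n : ℕ}

/-- The fibres of a three-valued tuple. -/
theorem card_fiber_three [DecidableEq F] (A B C : F) (k : ℕ) (a : F) :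
    (Finset.univ.filter fun i : Fin (3 + k) =>
      (if (i : ℕ) < 2 then A else if (i : ℕ) = 2 then B else C) = a).card =
      (if A = a then 2 else 0) + (if B = a then 1 else 0) + (if C = a then k else 0) := by
  rw [Finset.card_filter, Fin.sum_univ_add, Fin.sum_univ_three]
  simp [show ∀ i : ℕ, ¬ 3 + i < 2 by omega, show ∀ i : ℕ, ¬ 3 + i = 2 by omega]
  split_ifs <;> simp

/-- A tuple with product one in a cyclic group whose spectrum is not symmetrical under `a ↦ τ / a`. -/
theorem exists_asym_powers [DecidableEq F] {r : ℕ} [Fact r.Prime] (hr2 : r ≠ 2) (hn : 3 ≤ n)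
    (hgap : ¬ (n = 6 ∧ r = 3)) (P : F → Prop) {ζ : F} (hζ : orderOf ζ = r) (hPζ : P ζ)
    (hspecial : n = r → (r = 3 ∨ r = 5) → ∃ μ : F, orderOf μ = r ^ 2 ∧ P μ) :
    ∃ (l : Fin n → F) (z : F), (∀ i, l i ≠ 0) ∧ (∏ i, l i = 1) ∧ (∀ i, l i ^ r = z) ∧ (∃ i j, l i ≠ l j) ∧
      (∃ b : F, P b ∧ ∀ i, ∃ e : ℕ, l i = b ^ e) ∧
      ∀ τ : F, τ ≠ 0 → ∃ a, (Finset.univ.filter fun i => l i = a).card ≠
        (Finset.univ.filter fun i => τ * (l i)⁻¹ = a).card := by
  have hr := (Fact.out : r.Prime)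
  have hr3 : 3 ≤ r := by have := hr.two_le; omega
  have hζ0 : ζ ≠ 0 := fun e => by rw [e, orderOf_zero] at hζ; omega
  have hζne : ∀ k, 0 < k → k < r → ζ ^ k ≠ 1 := fun k hk hkr h => by
    have := Nat.le_of_dvd hk (hζ ▸ orderOf_dvd_of_pow_eq_one h); omega
  have hζr : ζ ^ r = 1 := hζ ▸ pow_orderOf_eq_one ζ
  have flip : ∀ (l : Fin n → F) (τ : F), τ ≠ 0 → ∀ a,
      (Finset.univ.filter fun i => τ * (l i)⁻¹ = a).card = (Finset.univ.filter fun i => l i = τ * a⁻¹).card := by
    intro l τ hτ a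
    congr 1
    ext i
    simp only [Finset.mem_filter, Finset.mem_univ, true_and]
    constructor <;> intro h
    · rw [← h, _root_.mul_inv_rev, inv_inv, mul_left_comm, mul_inv_cancel₀ hτ, mul_one]
    · rw [h, _root_.mul_inv_rev, inv_inv, mul_left_comm, mul_inv_cancel₀ hτ, mul_one]
  by_cases hsp : n = r ∧ (r = 3 ∨ r = 5)
  · obtain ⟨μ, hμ, hPμ⟩ := hspecial hsp.1 hsp.2
    obtain rfl := hsp.1
    have hμ0 : μ ≠ 0 := fun e => by
      rw [e, orderOf_zero] at hμ; exact absurd hμ.symm (pow_ne_zero _ (by omega))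
    have hμn : ∀ k, 0 < k → k < n ^ 2 → μ ^ k ≠ 1 := fun k hk hkr h => by
      have := Nat.le_of_dvd hk (hμ ▸ orderOf_dvd_of_pow_eq_one h); omega
    have hμsq : (μ ^ (n - 1))⁻¹ ≠ μ := fun e => hμn n (by omega) (by nlinarith) (by
      conv_lhs => rw [show n = n - 1 + 1 by omega, pow_succ]
      nth_rw 2 [← e]
      rw [mul_inv_cancel₀ (pow_ne_zero _ hμ0)])
    let i₀ : Fin n := ⟨0, by omega⟩
    let l : Fin n → F := fun i => if i = i₀ then (μ ^ (n - 1))⁻¹ else μ
    refine ⟨l, μ ^ n, fun i => ?_, ?_, fun i => ?_, ⟨i₀, ⟨1, by omega⟩, ?_⟩, ⟨μ, hPμ, fun i => ?_⟩, fun τ hτ => ?_⟩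
    · simp only [l]; split <;> simp [hμ0]
    · rw [← Finset.mul_prod_erase _ _ (Finset.mem_univ i₀), Finset.prod_congr rfl (g := fun _ => μ) fun i hi => by
        simp [l, Finset.ne_of_mem_erase hi]]
      simp [l, hμ0]
    · simp only [l]; split
      · rw [inv_pow, inv_eq_of_mul_eq_one_right]
        rw [← pow_mul, ← pow_add, show (n - 1) * n + n = n ^ 2 by
          rw [sq]; conv_rhs => rw [show n = n - 1 + 1 by omega]
          rw [add_mul, one_mul, Nat.sub_add_cancel (by omega : 1 ≤ n)], ← hμ, pow_orderOf_eq_one]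
      · rfl
    · simp only [l]
      rw [if_pos True.intro, if_neg (fun h => by simp [i₀, Fin.ext_iff] at h)]
      exact hμsq
    · simp only [l]
      split
      · have hcu : n - 1 ≤ n ^ 2 := (Nat.sub_le _ _).trans (Nat.le_self_pow two_ne_zero n)
        exact ⟨n ^ 2 - (n - 1), inv_eq_of_mul_eq_one_right (by
          rw [← pow_add, Nat.add_sub_cancel' hcu, ← hμ, pow_orderOf_eq_one])⟩
      · exact ⟨1, (pow_one μ).symm⟩
    · have hc : ∀ a, (Finset.univ.filter fun i => l i = a).card =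
          (if (μ ^ (n - 1))⁻¹ = a then 1 else 0) + (if μ = a then n - 1 else 0) := fun a => by
        rw [Finset.card_filter, ← Finset.add_sum_erase _ _ (Finset.mem_univ i₀),
          Finset.sum_congr rfl (g := fun _ => if μ = a then 1 else 0) fun i hi => by
            simp [l, Finset.ne_of_mem_erase hi]]
        simp only [l, if_true, Finset.sum_const, Finset.card_erase_of_mem (Finset.mem_univ i₀), Finset.card_univ,
          Fintype.card_fin]
        split_ifs <;> simp
      by_contra hall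
      push Not at hall
      have e1 := hall μ
      have e2 := hall (μ ^ (n - 1))⁻¹
      rw [flip l τ hτ, hc, hc, if_neg hμsq, if_pos rfl] at e1
      rw [flip l τ hτ, hc, hc, if_pos rfl, if_neg hμsq.symm] at e2
      rw [inv_inv] at e2
      have t1 : μ = τ * μ⁻¹ := by
        by_contra t
        rw [if_neg t] at e1
        split_ifs at e1 <;> omega
      have t2 : (μ ^ (n - 1))⁻¹ = τ * μ ^ (n - 1) := by
        by_contra t
        rw [if_neg t] at e2
        split_ifs at e2 <;> omega
      obtain rfl : τ = μ ^ 2 := by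
        field_simp at t1
        linear_combination -t1
      refine hμn (2 * n) (by omega) (by nlinarith) ?_
      rw [show 2 * n = 2 + (n - 1) + (n - 1) by omega, pow_add, pow_add, ← t2, inv_mul_cancel₀ (pow_ne_zero _ hμ0)]
  · obtain ⟨k, rfl⟩ : ∃ k, n = 3 + k := ⟨n - 3, by omega⟩
    have h1ζ : ζ ≠ 1 := fun e => hζne 1 one_pos (by omega) (by rw [pow_one, e])
    let l : Fin (3 + k) → F := fun i => if (i : ℕ) < 2 then ζ else if (i : ℕ) = 2 then (ζ ^ 2)⁻¹ else 1
    refine ⟨l, 1, fun i => ?_, ?_, fun i => ?_, ⟨⟨0, by omega⟩, ?_⟩, ⟨ζ, hPζ, fun i => ?_⟩, fun τ hτ => ?_⟩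
    · simp only [l]; split_ifs <;> simp [hζ0]
    · rw [Fin.prod_univ_add, Fin.prod_univ_three]
      simp [l, show ∀ i : ℕ, ¬ 3 + i ≤ 1 by omega, show ∀ i : ℕ, ¬ 3 + i = 2 by omega, ← sq, hζ0]
    · simp only [l]
      split_ifs <;> simp [inv_pow, pow_right_comm ζ 2 r, hζr]
    · by_cases hk : k = 0
      · refine ⟨⟨2, by omega⟩, fun e => ?_⟩
        simp [l] at e
        refine hsp ⟨?_, Or.inl ?_⟩ <;>
        · have : ζ ^ 3 = 1 := by
            rw [pow_succ]; nth_rw 2 [e]; rw [mul_inv_cancel₀ (pow_ne_zero _ hζ0)]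
          have := Nat.le_of_dvd (by norm_num) (hζ ▸ orderOf_dvd_of_pow_eq_one this)
          omega
      · refine ⟨⟨3, by omega⟩, fun e => h1ζ ?_⟩
        simpa [l] using e
    · simp only [l]
      split_ifs
      · exact ⟨1, (pow_one ζ).symm⟩
      · exact ⟨r - 2, inv_eq_of_mul_eq_one_right (by rw [← pow_add, show 2 + (r - 2) = r by omega, hζr])⟩
      · exact ⟨0, (pow_zero ζ).symm⟩
    · by_contra hall
      push Not at hall
      have hN : ∀ a, (Finset.univ.filter fun i => l i = a).card =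
          (if ζ = a then 2 else 0) + (if (ζ ^ 2)⁻¹ = a then 1 else 0) + (if 1 = a then k else 0) := fun a =>
        card_fiber_three ζ (ζ ^ 2)⁻¹ 1 k a
      have key : ∀ a, (if ζ = a then 2 else 0) + (if (ζ ^ 2)⁻¹ = a then 1 else 0) + (if 1 = a then k else 0) =
          (if ζ = τ * a⁻¹ then 2 else 0) + (if (ζ ^ 2)⁻¹ = τ * a⁻¹ then 1 else 0) +
            (if 1 = τ * a⁻¹ then k else 0) := fun a => by rw [← hN a, hall a, flip l τ hτ, hN]
      by_cases hr' : r = 3
      · subst hr'
        have hB : (ζ ^ 2)⁻¹ = ζ := inv_eq_of_mul_eq_one_right (by rw [← pow_succ]; exact hζr)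
        have hk : k ≠ 0 ∧ k ≠ 3 := ⟨fun e => hsp ⟨by omega, Or.inl rfl⟩, fun e => hgap ⟨by omega, rfl⟩⟩
        have e1 := key 1
        simp only [hB, h1ζ, if_false, if_true, inv_one, mul_one] at e1
        obtain rfl : τ = 1 := by
          by_contra t
          simp only [Ne.symm t, if_false] at e1
          split_ifs at e1 <;> omega
        have e2 := key ζ
        have hne : ζ ≠ ζ⁻¹ := fun e => hζne 2 two_pos (by norm_num) (by
          rw [sq]; nth_rw 2 [e]; exact mul_inv_cancel₀ hζ0)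
        simp only [hB, h1ζ.symm, one_mul, hne, if_false, if_true] at e2
        rw [if_neg (fun e : (1 : F) = ζ⁻¹ => h1ζ (inv_eq_one.mp e.symm))] at e2; omega
      · have hr5 : 5 ≤ r := by
          rcases Nat.lt_or_ge r 5 with h | h
          · interval_cases r <;> first | omega | exact absurd hr (by norm_num)
          · exact h
        have hB1 : (ζ ^ 2)⁻¹ ≠ 1 := fun e => hζne 2 two_pos (by omega) (inv_eq_one.mp e)
        have hBA : ζ ≠ (ζ ^ 2)⁻¹ := fun e => hζne 3 (by norm_num) (by omega) (by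
          rw [pow_succ]; nth_rw 2 [e]; rw [mul_inv_cancel₀ (pow_ne_zero _ hζ0)])
        have e1 := key ζ
        have e2 := key (ζ ^ 2)⁻¹
        rw [if_pos rfl, if_neg hBA.symm, if_neg h1ζ.symm] at e1
        rw [if_pos rfl, if_neg hBA, if_neg hB1.symm, inv_inv] at e2
        have hA : τ = ζ ^ 2 ∨ (τ = ζ ∧ k = 2) := by
          by_cases a1 : ζ = τ * ζ⁻¹
          · left; field_simp at a1; linear_combination -a1
          · rw [if_neg a1] at e1
            by_cases a3 : 1 = τ * ζ⁻¹
            · right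
              rw [if_pos a3, if_neg (fun a2 => hB1 (a2.trans a3.symm))] at e1
              exact ⟨by field_simp at a3; linear_combination -a3, by omega⟩
            · rw [if_neg a3] at e1
              split_ifs at e1 <;> omega
        have hB' : ζ ^ 4 * τ = 1 ∨ (ζ ^ 2 * τ = 1 ∧ k = 1) := by
          by_cases a2 : (ζ ^ 2)⁻¹ = τ * ζ ^ 2
          · left; field_simp at a2; linear_combination -a2
          · rw [if_neg a2] at e2
            by_cases a3 : 1 = τ * ζ ^ 2
            · right
              rw [if_pos a3, if_neg (fun a1 => h1ζ (a1.trans a3.symm))] at e2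
              exact ⟨by linear_combination -a3, by omega⟩
            · rw [if_neg a3] at e2
              split_ifs at e2 <;> omega
        rcases hA with rfl | ⟨rfl, hk2⟩ <;> rcases hB' with h | ⟨h, hk1⟩
        · rcases Nat.lt_or_ge 6 r with h6 | h6
          · exact hζne 6 (by norm_num) h6 (by linear_combination h)
          · have h5 : r = 5 := by interval_cases r <;> first | rfl | exact absurd hr (by norm_num)
            exact h1ζ (by rw [h5] at hζr; linear_combination -ζ * hζr + h)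
        · exact hζne 4 (by norm_num) (by omega) (by linear_combination h)
        · rcases Nat.lt_or_ge 5 r with h5 | h5
          · exact hζne 5 (by norm_num) h5 (by linear_combination h)
          · exact hsp ⟨by omega, Or.inr (by omega)⟩
        · omega

/-- A tuple with product one whose spectrum is not symmetrical under `a ↦ τ / σ a`. -/
theorem exists_asym_tuple [DecidableEq F] {r : ℕ} [Fact r.Prime] (hr2 : r ≠ 2) (hn : 3 ≤ n)
    (hgap : ¬ (n = 6 ∧ r = 3)) {ζ : F} (hζ : orderOf ζ = r) (hσζ : σ ζ = ζ)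
    (hspecial : n = r → (r = 3 ∨ r = 5) → ∃ μ : F, orderOf μ = r ^ 2 ∧ σ μ = μ) :
    ∃ (l : Fin n → F) (z : F), (∀ i, l i ≠ 0) ∧ (∏ i, l i = 1) ∧ (∀ i, l i ^ r = z) ∧ (∃ i j, l i ≠ l j) ∧
      ∀ τ : F, τ ≠ 0 → ∃ a, (Finset.univ.filter fun i => l i = a).card ≠
        (Finset.univ.filter fun i => τ * (σ (l i))⁻¹ = a).card := by
  obtain ⟨l, z, h1, h2, h3, h4, ⟨b, hb, hl⟩, h5⟩ :=
    exists_asym_powers hr2 hn hgap (fun a => σ a = a) hζ hσζ hspecial
  have hlσ : ∀ i, σ (l i) = l i := fun i => by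
    obtain ⟨e, he⟩ := hl i
    rw [he, map_pow, hb]
  refine ⟨l, z, h1, h2, h3, h4, fun τ hτ => ?_⟩
  simp only [hlσ]
  exact h5 τ hτ

/-- A diagonal element without a scaled form. -/
theorem exists_counter_diag [DecidableEq F] {r : ℕ} [Fact r.Prime] (hr2 : r ≠ 2) (hn : 3 ≤ n)
    (hgap : ¬ (n = 6 ∧ r = 3)) {ζ : F} (hζ : orderOf ζ = r) (hσζ : σ ζ = ζ)
    (hspecial : n = r → (r = 3 ∨ r = 5) → ∃ μ : F, orderOf μ = r ^ 2 ∧ σ μ = μ) :
    ∃ x : GL (Fin n) F, Matrix.GeneralLinearGroup.det x = 1 ∧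
      (∃ z : F, ((x ^ r : GL (Fin n) F) : Matrix (Fin n) (Fin n) F) = z • (1 : Matrix (Fin n) (Fin n) F)) ∧
      (∀ z : F, (x : Matrix (Fin n) (Fin n) F) ≠ z • (1 : Matrix (Fin n) (Fin n) F)) ∧
      ∀ G : Matrix (Fin n) (Fin n) F, G.det ≠ 0 → ∀ P : GL (Fin n) F,
        ¬ Scales σ G ((P⁻¹ * x * P : GL (Fin n) F) : Matrix (Fin n) (Fin n) F) := by
  obtain ⟨l, z, hl0, hprod, hlr, ⟨i, j, hij⟩, hasym⟩ := exists_asym_tuple hr2 hn hgap hζ hσζ hspecial
  let x : GL (Fin n) F := Matrix.GeneralLinearGroup.mkOfDetNeZero (Matrix.diagonal l)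
    (by rw [Matrix.det_diagonal, hprod]; exact one_ne_zero)
  have hx : (x : Matrix (Fin n) (Fin n) F) = Matrix.diagonal l := rfl
  refine ⟨x, Units.ext ?_, ⟨z, ?_⟩, fun c hc => ?_, fun G hG P hP => ?_⟩
  · show (Matrix.diagonal l).det = 1
    rw [Matrix.det_diagonal, hprod]
  · rw [Units.val_pow_eq_pow_val, hx, Matrix.diagonal_pow, Matrix.smul_one_eq_diagonal]
    congr 1
    funext i
    rw [Pi.pow_apply, hlr]
  · have ei := congrFun (congrFun hc i) i
    have ej := congrFun (congrFun hc j) j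
    simp [hx] at ei ej
    exact hij (ei.trans ej.symm)
  · obtain ⟨M, τ, hM, hτ, hMx, -⟩ := exists_form_of_conj hG hP
    rw [hx] at hMx
    obtain ⟨a, ha⟩ := hasym τ hτ
    exact ha (fiber_card_eq hl0 hM hMx a)

/-- An element with one non-trivial block: its eigenvalues in the extension of degree `i`. -/
theorem exists_block_element [Fintype F] {p : ℕ} [Fact p.Prime] [CharP F p] {r : ℕ} [Fact r.Prime]
    (hr1 : ¬ r ∣ Fintype.card F - 1) {i : ℕ} [NeZero i] (hin : i ≤ n) (hr : r ∣ Fintype.card F ^ i - 1) :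
    ∃ (x : GL (Fin n) F) (ζ : FiniteField.Extension F p i), Matrix.GeneralLinearGroup.det x = 1 ∧
      (x : Matrix (Fin n) (Fin n) F) ^ r = 1 ∧
      (∀ z : F, (x : Matrix (Fin n) (Fin n) F) ≠ z • (1 : Matrix (Fin n) (Fin n) F)) ∧ orderOf ζ = r ∧
      ((x : Matrix (Fin n) (Fin n) F).charpoly.map (algebraMap F (FiniteField.Extension F p i))).IsRoot ζ ∧
      ∀ lam, ((x : Matrix (Fin n) (Fin n) F).charpoly.map (algebraMap F (FiniteField.Extension F p i))).IsRoot lam →
        lam = 1 ∨ ∃ k : ℕ, lam = ζ ^ (Fintype.card F ^ k) := by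
  classical
  have hrp' := (Fact.out : r.Prime)
  have hi0 : 0 < i := Nat.pos_of_ne_zero (NeZero.ne i)
  haveI : Nonempty (Fin n) := ⟨⟨0, by omega⟩⟩
  have hroot : ∀ a : F, a ^ r = 1 → a = 1 := by
    intro a ha
    have ha0 : a ≠ 0 := fun h => by simp [h, hrp'.ne_zero] at ha
    rcases (Nat.dvd_prime hrp').mp (orderOf_dvd_of_pow_eq_one ha) with h | h
    · exact orderOf_eq_one_iff.mp h
    · exact absurd (h ▸ orderOf_dvd_of_pow_eq_one (FiniteField.pow_card_sub_one_eq_one a ha0)) hr1
  let L := FiniteField.Extension F p i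
  have hL : Module.finrank F L = i := FiniteField.finrank_extension F p i
  haveI : Finite L := Module.finite_of_finite F
  haveI := Fintype.ofFinite L
  have hcardL : Fintype.card L = Fintype.card F ^ i := by rw [Module.card_eq_pow_finrank (K := F), hL]
  obtain ⟨u, hu⟩ := exists_prime_orderOf_dvd_card (G := Lˣ) r (by rwa [Fintype.card_units, hcardL])
  set ζ : L := (u : L) with hζdef
  have hord : orderOf ζ = r := by rw [hζdef, orderOf_units, hu]
  have hζr : ζ ^ r = 1 := hord ▸ pow_orderOf_eq_one ζ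
  have hζ0 : ζ ≠ 0 := u.ne_zero
  have hζ1 : ζ ≠ 1 := fun e => hrp'.one_lt.ne' (by rw [← hord, e, orderOf_one])
  let ε : (L × (Fin (n - i) → F)) ≃ₗ[F] (Fin n → F) := LinearEquiv.ofFinrankEq _ _ (by
    rw [Module.finrank_prod, hL, Module.finrank_fin_fun, Module.finrank_fin_fun]; omega)
  let g₀ : Module.End F (L × (Fin (n - i) → F)) := (Algebra.lmul F L ζ).prodMap 1
  let τ' : Matrix (Fin n) (Fin n) F ≃ₐ[F] Module.End F (Fin n → F) := Matrix.toLinAlgEquiv'
  set X : Matrix (Fin n) (Fin n) F := τ'.symm (ε.conjAlgEquiv F g₀) with hX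
  have hdet : X.det = 1 := by
    rw [← LinearMap.det_toLin', show Matrix.toLin' X = ε.conjAlgEquiv F g₀ from τ'.apply_symm_apply _]
    show LinearMap.det ((ε : _ →ₗ[F] (Fin n → F)) ∘ₗ g₀ ∘ₗ (ε.symm : (Fin n → F) →ₗ[F] _)) = 1
    rw [LinearMap.det_conj, LinearMap.det_prodMap, map_one, mul_one, ← Algebra.norm_apply]
    exact hroot _ (by rw [← map_pow, hζr, map_one])
  have haeval : ∀ (P : F[X]) (v : L × (Fin (n - i) → F)),
      Polynomial.aeval g₀ P v = (Polynomial.aeval ζ P * v.1, P.eval 1 • v.2) := by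
    intro P
    induction P using Polynomial.induction_on' with
    | add P Q hP hQ => intro v; simp [hP, hQ, add_mul, add_smul]
    | monomial k a =>
      intro v
      have hk : ∀ v : L × (Fin (n - i) → F), (g₀ ^ k) v = (ζ ^ k * v.1, v.2) := by
        induction k with
        | zero => intro v; simp
        | succ k ih => intro v; rw [pow_succ', Module.End.mul_apply, ih]; simp [g₀, pow_succ', mul_assoc]
      simp [Polynomial.aeval_monomial, hk, Algebra.smul_def, mul_assoc]
  have hXr : X ^ r = 1 := by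
    have h0 : g₀ ^ r = 1 := LinearMap.ext fun v => by
      have := haeval (Polynomial.X ^ r) v
      simpa [hζr] using this
    rw [hX, ← map_pow, ← map_pow, h0, map_one, map_one]
  let x : GL (Fin n) F := Matrix.GeneralLinearGroup.mkOfDetNeZero X (by rw [hdet]; exact one_ne_zero)
  have hx : (x : Matrix (Fin n) (Fin n) F) = X := rfl
  set φ := algebraMap F L
  refine ⟨x, ζ, Units.ext hdet, hXr, fun z hz => ?_, hord, ?_, ?_⟩
  · have h1 : Matrix.toLin' X (ε (1, 0)) = ε (g₀ (1, 0)) := by
      show τ' (τ'.symm (ε.conjAlgEquiv F g₀)) (ε (1, 0)) = _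
      rw [τ'.apply_symm_apply]
      show ε (g₀ (ε.symm (ε (1, 0)))) = _
      rw [ε.symm_apply_apply]
    rw [← hx, hz, map_smul, Matrix.toLin'_one, LinearMap.smul_apply, LinearMap.id_apply, ← map_smul] at h1
    have h2 := congrArg Prod.fst (ε.injective h1)
    simp [g₀] at h2
    have hzr : z = 1 := hroot z (FaithfulSMul.algebraMap_injective F L (by
      rw [map_pow, map_one, show algebraMap F L z = ζ by rw [← h2, Algebra.smul_def, mul_one], hζr]))
    exact hζ1 (by rw [← h2, hzr, one_smul])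
  · show (X.charpoly.map φ).IsRoot ζ
    let v₀ : Fin n → F := ε (1, 0)
    have h0 : Polynomial.aeval ζ X.charpoly = 0 := by
      have hCH : Polynomial.aeval g₀ X.charpoly = 0 := by
        have := Matrix.aeval_self_charpoly X
        nth_rw 1 [hX] at this
        rw [Polynomial.aeval_algEquiv, AlgHom.comp_apply, Polynomial.aeval_algEquiv, AlgHom.comp_apply] at this
        simpa using this
      have := congrArg Prod.fst (haeval X.charpoly (1, 0))
      rw [hCH] at this
      simpa using this.symm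
    rw [Polynomial.IsRoot, Polynomial.eval_map, ← Polynomial.aeval_def, h0]
  · show ∀ lam : L, (X.charpoly.map φ).IsRoot lam → lam = 1 ∨ ∃ k : ℕ, lam = ζ ^ (Fintype.card F ^ k)
    intro lam hlam
    rw [← Matrix.charpoly_map, Polynomial.IsRoot, Matrix.eval_charpoly] at hlam
    obtain ⟨v, hv0, hv⟩ := Matrix.exists_mulVec_eq_zero_iff.mpr hlam
    rw [Matrix.sub_mulVec, sub_eq_zero, Matrix.scalar_apply, ← Matrix.smul_one_eq_diagonal, Matrix.smul_mulVec,
      Matrix.one_mulVec] at hv
    let P0 : F[X] := (Polynomial.X - 1) * minpoly F ζ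
    have hP0 : Polynomial.aeval X P0 = 0 := by
      rw [hX, Polynomial.aeval_algEquiv, AlgHom.comp_apply, Polynomial.aeval_algEquiv, AlgHom.comp_apply,
        show Polynomial.aeval g₀ P0 = 0 from LinearMap.ext fun v => by rw [haeval]; simp [P0]]
      simp
    have hev : ∀ Q : F[X], (Polynomial.aeval X Q).map φ *ᵥ v = Polynomial.aeval lam Q • v := by
      intro Q
      induction Q using Polynomial.induction_on' with
      | add P Q hP hQ => rw [map_add, map_add, Matrix.map_add _ (map_add φ), Matrix.add_mulVec, hP, hQ, add_smul]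
      | monomial k a =>
        have hk : (X.map φ) ^ k *ᵥ v = lam ^ k • v := by
          induction k with
          | zero => simp
          | succ k ih => rw [pow_succ', ← Matrix.mulVec_mulVec, ih, Matrix.mulVec_smul, ← hv, smul_smul, ← pow_succ]
        rw [Polynomial.aeval_monomial, Polynomial.aeval_monomial, ← Algebra.smul_def,
          show (a • X ^ k).map φ = φ a • (X.map φ) ^ k from ?_, Matrix.smul_mulVec, hk, smul_smul]
        rw [← Matrix.map_pow]
        ext s t
        simp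
    have h0 := hev P0
    rw [hP0, Matrix.map_zero _ (map_zero φ), Matrix.zero_mulVec, eq_comm, smul_eq_zero] at h0
    rcases h0 with h0 | h0
    · rw [map_mul, mul_eq_zero, map_sub, map_one, Polynomial.aeval_X, sub_eq_zero] at h0
      rcases h0 with h0 | h0
      · exact Or.inl h0
      · refine Or.inr ?_
        obtain ⟨g, hg⟩ := minpoly.exists_algEquiv_of_root' (Algebra.IsAlgebraic.isAlgebraic ζ) h0
        obtain ⟨k, hk⟩ := (FiniteField.bijective_frobeniusAlgEquivOfAlgebraic_pow F L).2 g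
        refine ⟨k, ?_⟩
        rw [← hg, ← hk, AlgEquiv.coe_pow, FiniteField.coe_frobeniusAlgEquivOfAlgebraic_iterate]
    · exact absurd h0 hv0

/-- An element with one non-trivial block and no scaled form. -/
theorem exists_counter_block [Fintype F] {p : ℕ} [Fact p.Prime] [CharP F p] {e : ℕ} (hσ : ∀ a, σ a = a ^ p ^ e)
    {r : ℕ} [Fact r.Prime] (hrp : r ≠ p) (hr1 : ¬ r ∣ Fintype.card F - 1) {i : ℕ} (hi0 : 0 < i) (hin : i ≤ n)
    (hr : r ∣ Fintype.card F ^ i - 1) (hno : ∀ k : ℕ, ¬ r ∣ p ^ e + Fintype.card F ^ k) :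
    ∃ x : GL (Fin n) F, Matrix.GeneralLinearGroup.det x = 1 ∧
      (∃ z : F, ((x ^ r : GL (Fin n) F) : Matrix (Fin n) (Fin n) F) = z • (1 : Matrix (Fin n) (Fin n) F)) ∧
      (∀ z : F, (x : Matrix (Fin n) (Fin n) F) ≠ z • (1 : Matrix (Fin n) (Fin n) F)) ∧
      ∀ G : Matrix (Fin n) (Fin n) F, G.det ≠ 0 → ∀ P : GL (Fin n) F,
        ¬ Scales σ G ((P⁻¹ * x * P : GL (Fin n) F) : Matrix (Fin n) (Fin n) F) := by
  haveI : NeZero i := ⟨by omega⟩
  haveI : Nonempty (Fin n) := ⟨⟨0, by omega⟩⟩
  have hrp' := (Fact.out : r.Prime)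
  have hroot : ∀ a : F, a ^ r = 1 → a = 1 := by
    intro a ha
    have ha0 : a ≠ 0 := fun h => by simp [h, hrp'.ne_zero] at ha
    rcases (Nat.dvd_prime hrp').mp (orderOf_dvd_of_pow_eq_one ha) with h | h
    · exact orderOf_eq_one_iff.mp h
    · exact absurd (h ▸ orderOf_dvd_of_pow_eq_one (FiniteField.pow_card_sub_one_eq_one a ha0)) hr1
  obtain ⟨x, ζ, hdet, hxr, hns, hord, hζroot, heig⟩ := exists_block_element (p := p) hr1 hin hr
  refine ⟨x, hdet, ⟨1, by rw [Units.val_pow_eq_pow_val, hxr, one_smul]⟩, hns, fun G hG P hP => ?_⟩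
  obtain ⟨M, τ, hM, hτ, hMx, -⟩ := exists_form_of_conj hG hP
  obtain rfl : τ = 1 := hroot τ (by
    rw [multiplier_pow hM hMx (z := 1) (r := r) (by rw [hxr, one_smul]), map_one, one_mul])
  have hζ0 : ζ ≠ 0 := fun e => by rw [e, orderOf_zero] at hord; exact hrp'.ne_zero hord.symm
  haveI : CharP (FiniteField.Extension F p i) p := charP_of_injective_algebraMap (algebraMap F (FiniteField.Extension F p i)).injective p
  let σ' : FiniteField.Extension F p i →+* FiniteField.Extension F p i := iterateFrobenius _ p e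
  have hσ' : ∀ a, σ' (algebraMap F _ a) = algebraMap F _ (σ a) := fun a => by
    show iterateFrobenius _ p e (algebraMap F _ a) = _
    rw [iterateFrobenius_def, hσ, map_pow]
  have hr' := root_closed (algebraMap F (FiniteField.Extension F p i)) σ' hσ' hM hMx hζ0 hζroot
  rw [map_one, one_mul, show σ' ζ = ζ ^ p ^ e from iterateFrobenius_def ..] at hr'
  rcases heig _ hr' with h | ⟨k, hk⟩
  · rw [inv_eq_one] at h
    have h1 := hord ▸ orderOf_dvd_of_pow_eq_one h
    exact hrp ((Nat.prime_dvd_prime_iff_eq hrp' Fact.out).mp (hrp'.dvd_of_dvd_pow h1))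
  · refine hno k (hord ▸ orderOf_dvd_of_pow_eq_one ?_)
    rw [pow_add, ← hk, mul_inv_cancel₀ (pow_ne_zero _ hζ0)]

theorem symmetric_counts : ∀ a b c d : Fin 6, (a : ℕ) + b + c + d ≤ 5 →
    ((b : ℕ) + 2 * c + 3 * d + 4 * (5 - (a + b + c + d))) % 5 = 0 →
    ((b : ℕ) = 5 - (a + b + c + d) ∧ (c : ℕ) = d) ∨ ((a : ℕ) = b ∧ (c : ℕ) = 5 - (a + b + c + d)) ∨
      ((a : ℕ) = c ∧ (d : ℕ) = 5 - (a + b + c + d)) ∨ ((a : ℕ) = d ∧ (b : ℕ) = c) ∨
      ((a : ℕ) = 5 - (a + b + c + d) ∧ (b : ℕ) = d) := by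
  decide +kernel

theorem symmetric_counts_three : ∀ a b : Fin 4, (a : ℕ) + b ≤ 3 → ((b : ℕ) + 2 * (3 - (a + b))) % 3 = 0 →
    ((b : ℕ) = 3 - (a + b) ∨ (a : ℕ) = b ∨ (a : ℕ) = 3 - (a + b)) := by
  decide +kernel

/-- In dimensions three and five, exponents with sum zero are symmetrical. -/
theorem exists_pairing {r : ℕ} (hr : r = 3 ∨ r = 5) (e : Fin r → ZMod r) (he : ∑ i, e i = 0) :
    ∃ (c : ZMod r) (π : Equiv.Perm (Fin r)), (∀ i, π (π i) = i) ∧ ∀ i, e i + e (π i) = c := by
  classical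
  haveI : NeZero r := ⟨by omega⟩
  let N : ZMod r → ℕ := fun k => Fintype.card {i // e i = k}
  have htot : ∑ k, N k = r := by
    rw [← Fintype.card_sigma, Fintype.card_congr (Equiv.sigmaFiberEquiv e), Fintype.card_fin]
  have hsum : ∑ k, (N k : ZMod r) * k = 0 := by
    rw [← he, ← (Equiv.sigmaFiberEquiv e).sum_comp, Fintype.sum_sigma]
    refine Finset.sum_congr rfl fun k _ => ?_
    rw [Finset.sum_congr rfl (g := fun _ => k) fun i _ => i.2, Finset.sum_const, Finset.card_univ, nsmul_eq_mul]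
  obtain ⟨c, hc⟩ : ∃ c : ZMod r, ∀ k, N k = N (c - k) := by
    rcases hr with rfl | rfl
    · rw [show ∑ k, N k = N 0 + N 1 + N 2 from Fin.sum_univ_three N] at htot
      rw [show ∑ k, (N k : ZMod 3) * k = (N 0 : ZMod 3) * 0 + (N 1 : ZMod 3) * 1 + (N 2 : ZMod 3) * 2 from
        Fin.sum_univ_three fun k : ZMod 3 => (N k : ZMod 3) * k] at hsum
      have hnat : (N 1 + 2 * N 2) % 3 = 0 := by
        rw [← Nat.dvd_iff_mod_eq_zero, ← ZMod.natCast_eq_zero_iff]
        push_cast
        linear_combination hsum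
      have h2 : N 2 = 3 - (N 0 + N 1) := by omega
      rcases symmetric_counts_three ⟨N 0, by omega⟩ ⟨N 1, by omega⟩ (show N 0 + N 1 ≤ 3 by omega) (h2 ▸ hnat) with h | h | h <;>
        simp only at h
      · exact ⟨0, fun k => by
          fin_cases k
          · rfl
          · show N 1 = N 2; omega
          · show N 2 = N 1; omega⟩
      · exact ⟨1, fun k => by
          fin_cases k
          · show N 0 = N 1; omega
          · show N 1 = N 0; omega
          · rfl⟩
      · exact ⟨2, fun k => by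
          fin_cases k
          · show N 0 = N 2; omega
          · rfl
          · show N 2 = N 0; omega⟩
    · rw [show ∑ k, N k = N 0 + N 1 + N 2 + N 3 + N 4 from Fin.sum_univ_five N] at htot
      rw [show ∑ k, (N k : ZMod 5) * k =
          (N 0 : ZMod 5) * 0 + (N 1 : ZMod 5) * 1 + (N 2 : ZMod 5) * 2 + (N 3 : ZMod 5) * 3 + (N 4 : ZMod 5) * 4 from
        Fin.sum_univ_five fun k : ZMod 5 => (N k : ZMod 5) * k] at hsum
      have hnat : (N 1 + 2 * N 2 + 3 * N 3 + 4 * N 4) % 5 = 0 := by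
        rw [← Nat.dvd_iff_mod_eq_zero, ← ZMod.natCast_eq_zero_iff]
        push_cast
        linear_combination hsum
      have h4 : N 4 = 5 - (N 0 + N 1 + N 2 + N 3) := by omega
      rcases symmetric_counts ⟨N 0, by omega⟩ ⟨N 1, by omega⟩ ⟨N 2, by omega⟩ ⟨N 3, by omega⟩
        (show N 0 + N 1 + N 2 + N 3 ≤ 5 by omega) (h4 ▸ hnat) with h | h | h | h | h <;>
        simp only at h
      · exact ⟨0, fun k => by
          fin_cases k
          · rfl
          · show N 1 = N 4; omega
          · show N 2 = N 3; omega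
          · show N 3 = N 2; omega
          · show N 4 = N 1; omega⟩
      · exact ⟨1, fun k => by
          fin_cases k
          · show N 0 = N 1; omega
          · show N 1 = N 0; omega
          · show N 2 = N 4; omega
          · rfl
          · show N 4 = N 2; omega⟩
      · exact ⟨2, fun k => by
          fin_cases k
          · show N 0 = N 2; omega
          · rfl
          · show N 2 = N 0; omega
          · show N 3 = N 4; omega
          · show N 4 = N 3; omega⟩
      · exact ⟨3, fun k => by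
          fin_cases k
          · show N 0 = N 3; omega
          · show N 1 = N 2; omega
          · show N 2 = N 1; omega
          · show N 3 = N 0; omega
          · rfl⟩
      · exact ⟨4, fun k => by
          fin_cases k
          · show N 0 = N 4; omega
          · show N 1 = N 3; omega
          · rfl
          · show N 3 = N 1; omega
          · show N 4 = N 0; omega⟩
  let w : Fin r ≃ Σ k, Fin (N k) :=
    (Equiv.sigmaFiberEquiv e).symm.trans (Equiv.sigmaCongrRight fun k => Fintype.equivFin _)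
  have hw : ∀ i, (w i).1 = e i := fun i => rfl
  let m : (Σ k, Fin (N k)) → Σ k, Fin (N k) := fun p => ⟨c - p.1, p.2.cast (hc p.1)⟩
  have hm : ∀ p, m (m p) = p := fun p => by
    refine Sigma.ext (sub_sub_cancel c p.1) ?_
    exact (Fin.heq_ext_iff (by simp [m])).mpr rfl
  let M : Equiv.Perm (Σ k, Fin (N k)) := ⟨m, m, hm, hm⟩
  refine ⟨c, w.trans (M.trans w.symm), fun i => ?_, fun i => ?_⟩
  · simp [M, hm]
  · rw [← hw ((w.trans (M.trans w.symm)) i), ← hw i]
    simp [M, m]

end CfsgLib.Twist
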