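import Cfsg.Agent.LinearElements.SubfieldModels
import Cfsg.Agent.LinearElements.TwistedCounters
import Cfsg.Agent.Aschbacher57.OrthRational

/-! Elements of prime order with no conjugate in a subfield group: constraints on the spectrum, the primes dividing
the index, and the counterexamples. -/

set_option autoImplicit false

namespace CfsgLib.LinearElements

open Matrix Polynomial

variable {F : Type*} [Field F] [Fintype F] {F₀ : Subfield F} {n : ℕ}

theorem exists_frobenius_fixed {p : ℕ} [Fact p.Prime] [CharP F p] (hF : Nat.card F₀ ∣ Fintype.card F) :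
    ∃ e, Nat.card F₀ = p ^ e := by
  obtain ⟨⟨k, hk⟩, -, hc⟩ := FiniteField.card F p
  rw [hc] at hF
  obtain ⟨e, -, he⟩ := (Nat.dvd_prime_pow Fact.out).1 hF
  exact ⟨e, he⟩

/-- A conjugate in the subfield group makes the matrix similar, up to a scalar, to its image under the field
automorphism. -/
theorem exists_scaled_of_mem {σ : F →+* F} (hσ : ∀ a ∈ F₀, σ a = a) {x P : Matrix.SpecialLinearGroup (Fin n) F}
    (h : P⁻¹ * x * P ∈ subfieldSL n F₀) :
    ∃ (M : Matrix (Fin n) (Fin n) F) (τ : F), M.det ≠ 0 ∧ τ ≠ 0 ∧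
      (x : Matrix (Fin n) (Fin n) F).map σ * M = τ • (M * (x : Matrix (Fin n) (Fin n) F)) := by
  obtain ⟨c, hc, hij⟩ := mem_subfieldSL_iff.mp h
  have hσc : σ c ≠ 0 := fun e => hc (σ.injective (by rw [e, map_zero]))
  set y : Matrix (Fin n) (Fin n) F := ((P⁻¹ * x * P : Matrix.SpecialLinearGroup (Fin n) F) : Matrix (Fin n) (Fin n) F)
  set A : Matrix (Fin n) (Fin n) F := (P : Matrix (Fin n) (Fin n) F)
  set A' : Matrix (Fin n) (Fin n) F := ((P⁻¹ : Matrix.SpecialLinearGroup (Fin n) F) : Matrix (Fin n) (Fin n) F)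
  have hAA' : A * A' = 1 := by
    rw [← Matrix.SpecialLinearGroup.coe_mul, mul_inv_cancel, Matrix.SpecialLinearGroup.coe_one]
  have hxA : (x : Matrix (Fin n) (Fin n) F) * A = A * y := by
    rw [← Matrix.SpecialLinearGroup.coe_mul, ← Matrix.SpecialLinearGroup.coe_mul]
    congr 1
    rw [← mul_assoc, ← mul_assoc, mul_inv_cancel, one_mul]
  have hy : y.map σ = (c / σ c) • y := by
    ext i j
    have := hσ _ (hij i j)
    rw [map_mul] at this
    rw [Matrix.map_apply, Matrix.smul_apply, smul_eq_mul, div_mul_eq_mul_div, eq_div_iff hσc, mul_comm, this]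
  refine ⟨A.map σ * A', c / σ c, ?_, div_ne_zero hc hσc, ?_⟩
  · rw [Matrix.det_mul, ← RingHom.mapMatrix_apply, ← RingHom.map_det]
    rw [show A.det = 1 from P.2, show A'.det = 1 from (P⁻¹).2, map_one, mul_one]
    exact one_ne_zero
  · rw [← Matrix.mul_assoc, ← Matrix.map_mul, hxA, Matrix.map_mul, hy, Matrix.mul_smul, Matrix.smul_mul]
    congr 1
    rw [Matrix.mul_assoc (A.map σ), Matrix.mul_assoc (A.map σ)]
    congr 1
    calc y * A' = A' * A * y * A' := by rw [mul_eq_one_comm.mp hAA', Matrix.one_mul]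
      _ = A' * ((x : Matrix (Fin n) (Fin n) F) * (A * A')) := by
          rw [Matrix.mul_assoc A' A, ← hxA]; simp only [Matrix.mul_assoc]
      _ = _ := by rw [hAA', Matrix.mul_one]

section

variable {σ : F →+* F} {x M : Matrix (Fin n) (Fin n) F} {τ : F}

omit [Fintype F] in
theorem charpoly_of_scaled (hM : M.det ≠ 0) (h : x.map σ * M = τ • (M * x)) :
    (x.map σ).charpoly = (τ • x).charpoly := by
  have hu : IsUnit M.det := isUnit_iff_ne_zero.mpr hM
  have e : x.map σ = M * (τ • x) * M⁻¹ := by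
    rw [Matrix.mul_smul, ← h, Matrix.mul_assoc, Matrix.mul_nonsing_inv _ hu, Matrix.mul_one]
  rw [e]
  exact Matrix.charpoly_units_conj (Matrix.nonsingInvUnit M hu) _

omit [Fintype F] in
theorem multiplier_pow_scaled [Nonempty (Fin n)] (hM : M.det ≠ 0) (h : x.map σ * M = τ • (M * x)) {r : ℕ} {z : F}
    (hr : x ^ r = z • (1 : Matrix (Fin n) (Fin n) F)) : σ z = τ ^ r * z := by
  have hk : ∀ k, (x ^ k).map σ * M = τ ^ k • (M * x ^ k) := fun k => by
    induction k with
    | zero => simp [Matrix.map_one σ (map_zero σ) (map_one σ)]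
    | succ k ih =>
      rw [pow_succ, Matrix.map_mul, Matrix.mul_assoc, h, Matrix.mul_smul, ← Matrix.mul_assoc, ih, Matrix.smul_mul,
        smul_smul, Matrix.mul_assoc, pow_succ, mul_comm τ]
  have h1 := hk r
  have h2 : (z • (1 : Matrix (Fin n) (Fin n) F)).map σ = σ z • (1 : Matrix (Fin n) (Fin n) F) := by
    ext i j; by_cases hij : i = j <;> simp [hij]
  rw [hr, h2, Matrix.smul_mul, Matrix.one_mul, Matrix.mul_smul, Matrix.mul_one, smul_smul] at h1
  exact smul_left_injective F (fun e => hM (by rw [e, Matrix.det_zero])) h1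

omit [Fintype F] in
theorem det_scaled (hM : M.det ≠ 0) (h : x.map σ * M = τ • (M * x)) : σ x.det = τ ^ n * x.det := by
  have h1 := congrArg Matrix.det h
  rw [Matrix.det_mul, Matrix.det_smul, Matrix.det_mul, Fintype.card_fin, ← RingHom.mapMatrix_apply,
    ← RingHom.map_det] at h1
  exact mul_right_cancel₀ hM (by rw [h1]; ring)

omit [Fintype F] in
/-- The multiplicities in a diagonal spectrum. -/
theorem fiber_card_scaled [DecidableEq F] {l : Fin n → F} (hM : M.det ≠ 0)
    (h : (Matrix.diagonal l).map σ * M = τ • (M * Matrix.diagonal l)) (a : F) :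
    (Finset.univ.filter fun i => σ (l i) = a).card = (Finset.univ.filter fun i => τ * l i = a).card := by
  have e := congrArg Polynomial.roots (charpoly_of_scaled hM h)
  have hroots : ∀ f : Fin n → F, (∏ i, (Polynomial.X - Polynomial.C (f i))).roots = Finset.univ.val.map f := fun f => by
    rw [Finset.prod_eq_multiset_prod, ← Polynomial.roots_multiset_prod_X_sub_C (Finset.univ.val.map f), Multiset.map_map]
    rfl
  rw [Matrix.diagonal_map (map_zero σ), ← Matrix.diagonal_smul, Matrix.charpoly_diagonal, Matrix.charpoly_diagonal,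
    hroots, hroots] at e
  have e' := congrArg (Multiset.count a) e
  rw [Multiset.count_map, Multiset.count_map] at e'
  simp only [Pi.smul_apply, smul_eq_mul, Function.comp_apply, eq_comm (a := a)] at e'
  exact e'

omit [Fintype F] in
/-- The roots of the characteristic polynomial in an extension. -/
theorem root_scaled {L : Type*} [Field L] (φ : F →+* L) (σ' : L →+* L) (hσ : ∀ a, σ' (φ a) = φ (σ a))
    (hM : M.det ≠ 0) (hτ : τ ≠ 0) (h : x.map σ * M = τ • (M * x)) {lam : L}
    (hlam : (x.charpoly.map φ).IsRoot lam) : (x.charpoly.map φ).IsRoot (σ' lam / φ τ) := by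
  have hτ' : φ τ ≠ 0 := fun e => hτ (φ.injective (by rw [e, map_zero]))
  have h1 : ((x.map σ).charpoly.map φ).IsRoot (σ' lam) := by
    have := hlam.map (f := σ')
    rwa [Polynomial.map_map, show σ'.comp φ = φ.comp σ from RingHom.ext hσ, ← Polynomial.map_map,
      ← Matrix.charpoly_map] at this
  rw [charpoly_of_scaled hM h, ← Matrix.charpoly_map, show (τ • x).map φ = φ τ • x.map φ from
    Matrix.ext fun i j => by simp, Polynomial.IsRoot, Matrix.eval_charpoly] at h1
  rw [← Matrix.charpoly_map, Polynomial.IsRoot, Matrix.eval_charpoly]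
  have e : Matrix.scalar (Fin n) (σ' lam) - φ τ • x.map φ =
      φ τ • (Matrix.scalar (Fin n) (σ' lam / φ τ) - x.map φ) := by
    rw [smul_sub]
    congr 1
    ext i j
    by_cases hij : i = j
    · subst hij; simp [field]
    · simp [hij]
  rw [e, Matrix.det_smul] at h1
  exact (mul_eq_zero.mp h1).resolve_left (pow_ne_zero _ hτ')

end

/-- A prime dividing the index of the subfield group is a divisor of the quotients of the cyclotomic factors. -/
theorem prime_dvd_subfield_index (hn : 0 < n) {k q₀ : ℕ} (hk : k ≠ 0) (hF₀ : Nat.card F₀ = q₀)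
    (hq : Fintype.card F = q₀ ^ k) {r : ℕ} [Fact r.Prime] (hrk : r ≠ k) (hkp : k.Prime) (hr0 : ¬ r ∣ q₀)
    (h : r ∣ (subfieldSL n F₀).index) :
    ∃ j, 2 ≤ j ∧ j ≤ n ∧ (q₀ : ZMod r) ^ j ≠ 1 ∧ (q₀ : ZMod r) ^ (k * j) = 1 := by
  classical
  haveI : Nonempty (Fin n) := ⟨⟨0, hn⟩⟩
  haveI := Fintype.ofFinite F₀
  have hq1 : 1 < q₀ := hF₀ ▸ Finite.one_lt_card
  rw [Nat.card_eq_fintype_card] at hF₀
  obtain ⟨f, hf⟩ := exists_subfieldSL_hom (n := n) F₀
  obtain ⟨m, hm⟩ := Subgroup.card_dvd_of_injective f hf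
  obtain ⟨t, ht⟩ := h
  have hcard := Subgroup.index_mul_card (subfieldSL n F₀)
  have e1 := CfsgLib.Linear.card_SL_mul (n := Fin n) (F := F)
  have e0 := CfsgLib.Linear.card_SL_mul (n := Fin n) (F := F₀)
  rw [Matrix.card_GL_field, CfsgLib.Linear.prod_pow_sub_pow] at e1 e0
  rw [hF₀] at e0
  rw [← hcard, hm, ht, hq] at e1
  let S : ℕ → ℕ := fun i => ∑ l ∈ Finset.range k, (q₀ ^ i) ^ l
  have hS : ∀ i, (q₀ ^ k) ^ i - 1 = S i * (q₀ ^ i - 1) := fun i => by
    have h1 := geom_sum₂_mul_of_ge (Nat.one_le_pow i q₀ (by omega)) k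
    simp only [one_pow, mul_one] at h1
    rw [h1, ← pow_mul, ← pow_mul, mul_comm]
  obtain ⟨n', rfl⟩ : ∃ n', n = n' + 1 := ⟨n - 1, by omega⟩
  rw [Finset.prod_congr rfl (fun i _ => hS (i + 1)), Finset.prod_mul_distrib] at e1
  set X := (n' + 1) * (n' + 1 - 1) / 2
  set C := Nat.card (Matrix.SpecialLinearGroup (Fin (n' + 1)) F₀)
  set P0 := ∏ i ∈ Finset.range (n' + 1), (q₀ ^ (i + 1) - 1)
  have hP0 : 0 < P0 := Finset.prod_pos fun i _ => by
    have : 1 < q₀ ^ (i + 1) := Nat.one_lt_pow (Nat.succ_ne_zero i) hq1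
    omega
  have hT : (q₀ ^ k - 1) = S 1 * (q₀ - 1) := by have := hS 1; simpa using this
  have hsplit : ∏ i ∈ Finset.range (n' + 1), S (i + 1) = (∏ i ∈ Finset.range n', S (i + 1 + 1)) * S 1 :=
    Finset.prod_range_succ' (fun i => S (i + 1)) n'
  have hS1 : 0 < S 1 := Finset.sum_pos (fun l _ => by positivity) ⟨0, Finset.mem_range.mpr (Nat.pos_of_ne_zero hk)⟩
  have key : r * (q₀ ^ X * (t * m)) = (q₀ ^ k) ^ X * ∏ i ∈ Finset.range n', S (i + 1 + 1) := by
    refine Nat.eq_of_mul_eq_mul_right (Nat.mul_pos hP0 hS1) ?_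
    calc r * (q₀ ^ X * (t * m)) * (P0 * S 1) = r * t * m * S 1 * (q₀ ^ X * P0) := by ring
      _ = r * t * m * S 1 * ((q₀ - 1) * C) := by rw [e0]
      _ = (q₀ ^ k - 1) * (r * t * (C * m)) := by rw [hT]; ring
      _ = _ := e1
      _ = _ := by rw [hsplit]; ring
  rcases (Fact.out : r.Prime).prime.dvd_mul.mp (Dvd.intro _ key) with h3 | h3
  · rw [← pow_mul] at h3
    exact absurd ((Fact.out : r.Prime).dvd_of_dvd_pow h3) hr0
  · obtain ⟨i, hi, h4⟩ := (Fact.out : r.Prime).prime.exists_mem_finset_dvd h3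
    refine ⟨i + 1 + 1, by omega, by rw [Finset.mem_range] at hi; omega, ?_, ?_⟩
    · intro hone
      rw [← ZMod.natCast_eq_zero_iff] at h4
      simp only [S, Nat.cast_sum, Nat.cast_pow, hone, one_pow, Finset.sum_const, Finset.card_range, nsmul_eq_mul,
        mul_one] at h4
      exact hrk ((Nat.prime_dvd_prime_iff_eq Fact.out hkp).mp ((ZMod.natCast_eq_zero_iff _ _).mp h4))
    · rw [← ZMod.natCast_eq_zero_iff] at h4
      simp only [S, Nat.cast_sum, Nat.cast_pow] at h4
      have := geom_sum_mul ((q₀ : ZMod r) ^ (i + 1 + 1)) k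
      rw [h4, zero_mul] at this
      rw [mul_comm k, pow_mul]
      exact sub_eq_zero.mp this.symm

/-- For `r ∤ q - 1`: one non-trivial block gives no conjugate in the subfield group. -/
theorem exists_subfield_counter_block {p : ℕ} [Fact p.Prime] [CharP F p] {e k j : ℕ} (hk : k.Prime)
    (hF₀ : Nat.card F₀ = p ^ e) (hq : Fintype.card F = (p ^ e) ^ k) {r : ℕ} [Fact r.Prime] (hrp : r ≠ p)
    (hr1 : ¬ r ∣ Fintype.card F - 1) (hjn : j ≤ n) (hne : ((p ^ e : ℕ) : ZMod r) ^ j ≠ 1)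
    (heq : ((p ^ e : ℕ) : ZMod r) ^ (k * j) = 1) :
    ∃ x : Matrix.SpecialLinearGroup (Fin n) F,
      (∃ z : F, ((x ^ r : Matrix.SpecialLinearGroup (Fin n) F) : Matrix (Fin n) (Fin n) F) = z • (1 : Matrix (Fin n) (Fin n) F)) ∧
      (∀ z : F, (x : Matrix (Fin n) (Fin n) F) ≠ z • (1 : Matrix (Fin n) (Fin n) F)) ∧
      ∀ P : Matrix.SpecialLinearGroup (Fin n) F, P⁻¹ * x * P ∉ subfieldSL n F₀ := by
  have hj0 : j ≠ 0 := fun h => hne (by rw [h, pow_zero])
  haveI : NeZero j := ⟨hj0⟩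
  haveI : Nonempty (Fin n) := ⟨⟨0, by omega⟩⟩
  have hr := (Fact.out : r.Prime)
  set Q : ZMod r := ((p ^ e : ℕ) : ZMod r) with hQ
  have hqj : r ∣ Fintype.card F ^ j - 1 := by
    rw [← ZMod.natCast_eq_zero_iff, Nat.cast_sub (Nat.one_le_pow _ _ Fintype.card_pos), Nat.cast_pow, hq, Nat.cast_pow,
      Nat.cast_one, ← pow_mul, ← hQ, heq, sub_self]
  obtain ⟨x, ζ, hdet, hxr, hns, hord, hζroot, heig⟩ := CfsgLib.Twist.exists_block_element (p := p) (n := n) hr1 hjn hqj
  refine ⟨⟨(x : Matrix (Fin n) (Fin n) F), congrArg Units.val hdet⟩,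
    ⟨1, (Matrix.SpecialLinearGroup.coe_pow _ r).trans (hxr.trans (one_smul F _).symm)⟩, hns, fun P hP => ?_⟩
  let σ : F →+* F := iterateFrobenius F p e
  have hσ : ∀ a ∈ F₀, σ a = a := fun a ha => by
    haveI := Fintype.ofFinite F₀
    have h1 := FiniteField.pow_card (⟨a, ha⟩ : F₀)
    rw [← Nat.card_eq_fintype_card, hF₀] at h1
    show iterateFrobenius F p e a = a
    rw [iterateFrobenius_def]
    exact congrArg Subtype.val h1
  obtain ⟨M, τ, hM, hτ, hMx⟩ := exists_scaled_of_mem hσ hP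
  obtain rfl : τ = 1 := by
    have h1 := multiplier_pow_scaled hM hMx (r := r) (z := 1) (by rw [one_smul]; exact hxr)
    rw [map_one, mul_one] at h1
    rcases (Nat.dvd_prime hr).mp (orderOf_dvd_of_pow_eq_one h1.symm) with h | h
    · exact orderOf_eq_one_iff.mp h
    · exact absurd (h ▸ orderOf_dvd_of_pow_eq_one (FiniteField.pow_card_sub_one_eq_one τ hτ)) hr1
  haveI : CharP (FiniteField.Extension F p j) p :=
    charP_of_injective_algebraMap (algebraMap F (FiniteField.Extension F p j)).injective p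
  have hr' := root_scaled (algebraMap F (FiniteField.Extension F p j)) (iterateFrobenius _ p e) (fun a => by
      show iterateFrobenius _ p e (algebraMap F _ a) = algebraMap F _ (iterateFrobenius F p e a)
      rw [iterateFrobenius_def, iterateFrobenius_def, map_pow]) hM hτ hMx hζroot
  rw [map_one, div_one, iterateFrobenius_def] at hr'
  have hζ : ζ ^ r = 1 := hord ▸ pow_orderOf_eq_one ζ
  rcases heig _ hr' with h | ⟨t, ht⟩
  · have h1 := hord ▸ orderOf_dvd_of_pow_eq_one h
    exact hrp ((Nat.prime_dvd_prime_iff_eq hr Fact.out).mp (hr.dvd_of_dvd_pow h1))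
  · have hpow : ζ ≠ 0 := fun e0 => by rw [e0, orderOf_zero] at hord; exact hr.ne_zero hord.symm
    have h2 : p ^ e ≡ Fintype.card F ^ t [MOD r] := by
      have := (pow_eq_pow_iff_modEq (x := Units.mk0 ζ hpow)).mp (Units.ext (by simpa using ht))
      rwa [← orderOf_units, Units.val_mk0, hord] at this
    have h3 : Q ^ 1 = Q ^ (k * t) := by
      rw [pow_one, pow_mul, hQ, ← Nat.cast_pow _ k, ← hq, ← Nat.cast_pow]
      exact (ZMod.natCast_eq_natCast_iff _ _ _).mpr h2
    have hQ0 : Q ≠ 0 := fun e0 => by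
      rw [e0, zero_pow (Nat.mul_ne_zero hk.ne_zero hj0)] at heq
      exact zero_ne_one heq
    have hd : IsOfFinOrder Q := isOfFinOrder_iff_pow_eq_one.mpr ⟨k * j, Nat.pos_of_ne_zero (Nat.mul_ne_zero hk.ne_zero hj0), heq⟩
    have hkd : k ∣ orderOf Q := by
      by_contra hkd
      have := (Nat.Coprime.symm (hk.coprime_iff_not_dvd.mpr hkd)).dvd_of_dvd_mul_left (orderOf_dvd_of_pow_eq_one heq)
      exact hne (orderOf_dvd_iff_pow_eq_one.mp this)
    have h5 : 1 ≡ k * t [MOD orderOf Q] := (hd.pow_eq_pow_iff_modEq).mp h3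
    have h6 := h5.of_dvd hkd
    rw [Nat.ModEq, Nat.mul_mod_right, Nat.mod_eq_of_lt hk.one_lt] at h6
    exact one_ne_zero h6

/-- A tuple with product one whose spectrum is in no subfield. -/
theorem exists_subfield_counter_diag {σ : F →+* F} (hσ : ∀ a ∈ F₀, σ a = a) {r : ℕ} [Fact r.Prime] {l : Fin n → F}
    (hprod : ∏ i, l i = 1) {z : F} (hlr : ∀ i, l i ^ r = z) (hne : ∃ i j, l i ≠ l j)
    (hno : ∀ τ : F, τ ≠ 0 → σ z = τ ^ r * z → τ ^ n = 1 → ∀ M : Matrix (Fin n) (Fin n) F, M.det ≠ 0 →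
      (Matrix.diagonal l).map σ * M ≠ τ • (M * Matrix.diagonal l)) :
    ∃ x : Matrix.SpecialLinearGroup (Fin n) F,
      (∃ z : F, ((x ^ r : Matrix.SpecialLinearGroup (Fin n) F) : Matrix (Fin n) (Fin n) F) = z • (1 : Matrix (Fin n) (Fin n) F)) ∧
      (∀ z : F, (x : Matrix (Fin n) (Fin n) F) ≠ z • (1 : Matrix (Fin n) (Fin n) F)) ∧
      ∀ P : Matrix.SpecialLinearGroup (Fin n) F, P⁻¹ * x * P ∉ subfieldSL n F₀ := by
  obtain ⟨i, j, hij⟩ := hne
  haveI : Nonempty (Fin n) := ⟨i⟩
  refine ⟨⟨Matrix.diagonal l, by rw [Matrix.det_diagonal, hprod]⟩, ⟨z, ?_⟩, fun c hc => ?_, fun P hP => ?_⟩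
  · refine (Matrix.SpecialLinearGroup.coe_pow _ r).trans ?_
    show Matrix.diagonal l ^ r = _
    rw [Matrix.diagonal_pow, Matrix.smul_one_eq_diagonal]
    congr 1
    funext i
    rw [Pi.pow_apply, hlr]
  · have ei : Matrix.diagonal l i i = (c • (1 : Matrix (Fin n) (Fin n) F)) i i := congrFun (congrFun hc i) i
    have ej : Matrix.diagonal l j j = (c • (1 : Matrix (Fin n) (Fin n) F)) j j := congrFun (congrFun hc j) j
    simp at ei ej
    exact hij (ei.trans ej.symm)
  · obtain ⟨M, τ, hM, hτ, hMx⟩ := exists_scaled_of_mem hσ hP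
    have hxr : (Matrix.diagonal l) ^ r = z • (1 : Matrix (Fin n) (Fin n) F) := by
      rw [Matrix.diagonal_pow, Matrix.smul_one_eq_diagonal]
      congr 1
      funext i
      rw [Pi.pow_apply, hlr]
    have hd := det_scaled hM hMx
    simp only [Matrix.det_diagonal, hprod, map_one, mul_one] at hd
    exact hno τ hτ (multiplier_pow_scaled hM hMx hxr) hd.symm M hM hMx

end CfsgLib.LinearElements
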