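import Cfsg.Agent.LinearElements.RClassify
import Cfsg.Agent.LinearElements.BlockLayout
import Cfsg.Agent.Aschbacher.Subfield
import Cfsg.Agent.Linear.Basic

/-! Conjugating elements of `SL` into subfield groups. -/

set_option autoImplicit false

namespace CfsgLib.LinearElements

open Module

variable {F : Type*} [Field F] {n : ℕ}

/-- The subfield group inside `SL`. -/
abbrev subfieldSL (n : ℕ) (F₀ : Subfield F) : Subgroup (Matrix.SpecialLinearGroup (Fin n) F) :=
  (Cfsg.Geo.subfieldSubgroup F₀ 1).comap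
    (Matrix.SpecialLinearGroup.toGL : Matrix.SpecialLinearGroup (Fin n) F →* GL (Fin n) F)

theorem mem_subfieldSL_iff {F₀ : Subfield F} {y : Matrix.SpecialLinearGroup (Fin n) F} :
    y ∈ subfieldSL n F₀ ↔ ∃ c : F, c ≠ 0 ∧ ∀ i j, c * (y : Matrix (Fin n) (Fin n) F) i j ∈ F₀ := by
  constructor
  · intro h
    obtain ⟨c, hc, hij⟩ := Aschbacher.exists_smul_of_mem_subfieldSubgroup h
    exact ⟨c, hc, fun i j => by simpa [Aschbacher.mat] using hij i j⟩
  · rintro ⟨c, hc, hij⟩
    exact Aschbacher.mem_subfieldSubgroup_of hc fun i j => by simpa [Aschbacher.mat] using hij i j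

/-- A basis in which the matrix is realised over `F₀`, of determinant one, gives a conjugation into the subfield
group. -/
theorem exists_conj_mem_subfield {F₀ : Subfield F} (x : Matrix.SpecialLinearGroup (Fin n) F)
    (B : Basis (Fin n) F (Fin n → F)) (hdet : ((Pi.basisFun F (Fin n)).toMatrix B).det = 1) {c : F} (hc : c ≠ 0)
    (hent : ∀ i j, c * B.repr (Matrix.toLin' (x : Matrix (Fin n) (Fin n) F) (B j)) i ∈ F₀) :
    ∃ P : Matrix.SpecialLinearGroup (Fin n) F, P⁻¹ * x * P ∈ subfieldSL n F₀ := by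
  let P : Matrix.SpecialLinearGroup (Fin n) F := ⟨(Pi.basisFun F (Fin n)).toMatrix B, hdet⟩
  refine ⟨P, mem_subfieldSL_iff.mpr ⟨c, hc, fun i j => ?_⟩⟩
  have h1 : (P : Matrix (Fin n) (Fin n) F) * LinearMap.toMatrix B B (Matrix.toLin' (x : Matrix (Fin n) (Fin n) F)) =
      (x : Matrix (Fin n) (Fin n) F) * (P : Matrix (Fin n) (Fin n) F) := by
    show (Pi.basisFun F (Fin n)).toMatrix B * _ = _ * (Pi.basisFun F (Fin n)).toMatrix B
    rw [basis_toMatrix_mul_linearMap_toMatrix]
    conv_rhs => rw [← LinearMap.toMatrix'_toLin' (x : Matrix (Fin n) (Fin n) F), ← LinearMap.toMatrix_eq_toMatrix',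
      linearMap_toMatrix_mul_basis_toMatrix]
  have h2 : ((P⁻¹ * x * P : Matrix.SpecialLinearGroup (Fin n) F) : Matrix (Fin n) (Fin n) F) =
      LinearMap.toMatrix B B (Matrix.toLin' (x : Matrix (Fin n) (Fin n) F)) := by
    rw [mul_assoc, Matrix.SpecialLinearGroup.coe_mul, Matrix.SpecialLinearGroup.coe_mul, ← h1, ← mul_assoc,
      ← Matrix.SpecialLinearGroup.coe_mul, inv_mul_cancel, Matrix.SpecialLinearGroup.coe_one, one_mul]
  rw [h2, LinearMap.toMatrix_apply]
  exact hent i j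

/-- The monomial case: the determinant can be corrected by scalings constant on the orbits. -/
theorem exists_conj_mem_subfield_of_monomial {F₀ : Subfield F} (x : Matrix.SpecialLinearGroup (Fin n) F)
    {ι : Type*} [Fintype ι] (b : Basis ι F (Fin n → F)) (π : ι → ι) (ν : ι → F) {c : F} (hc : c ≠ 0)
    (hν : ∀ i, c * ν i ∈ F₀) (hg : ∀ i, Matrix.toLin' (x : Matrix (Fin n) (Fin n) F) (b i) = ν i • b (π i))
    (hscale : ∀ δ : F, δ ≠ 0 → ∃ d : ι → F, (∀ i, d i ≠ 0) ∧ (∀ i, d (π i) = d i) ∧ ∏ i, d i = δ) :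
    ∃ P : Matrix.SpecialLinearGroup (Fin n) F, P⁻¹ * x * P ∈ subfieldSL n F₀ := by
  classical
  let e : ι ≃ Fin n := Fintype.equivFinOfCardEq (by rw [← Module.finrank_eq_card_basis b, Module.finrank_fin_fun])
  let b' := b.reindex e
  have hunit : IsUnit ((Pi.basisFun F (Fin n)).toMatrix b').det := by
    haveI := (Pi.basisFun F (Fin n)).invertibleToMatrix b'
    exact Matrix.isUnit_det_of_invertible _
  obtain ⟨d, hd0, hdπ, hdprod⟩ := hscale (((Pi.basisFun F (Fin n)).toMatrix b').det)⁻¹ (inv_ne_zero hunit.ne_zero)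
  let B := b'.unitsSMul fun i => Units.mk0 (d (e.symm i)) (hd0 _)
  have hB : ∀ i, B i = d (e.symm i) • b (e.symm i) := fun i => by
    rw [Basis.unitsSMul_apply, Units.smul_def, Basis.reindex_apply]
    rfl
  refine exists_conj_mem_subfield x B ?_ hc fun i j => ?_
  · have : (Pi.basisFun F (Fin n)).toMatrix B =
        (Pi.basisFun F (Fin n)).toMatrix b' * Matrix.diagonal fun i => d (e.symm i) := by
      ext i j
      rw [Matrix.mul_diagonal, Basis.toMatrix_apply, Basis.toMatrix_apply, hB, Basis.reindex_apply]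
      simp [mul_comm]
    rw [this, Matrix.det_mul, Matrix.det_diagonal, e.symm.prod_comp d, hdprod, mul_inv_cancel₀ hunit.ne_zero]
  · have hgB : Matrix.toLin' (x : Matrix (Fin n) (Fin n) F) (B j) =
        ν (e.symm j) • B (e (π (e.symm j))) := by
      rw [hB, map_smul, hg, hB, Equiv.symm_apply_apply, hdπ, smul_comm]
    rw [hgB, map_smul, Basis.repr_self, Finsupp.smul_apply, Finsupp.single_apply, smul_eq_mul, mul_ite, mul_one,
      mul_zero]
    split
    · exact hν _
    · rw [mul_zero]; exact F₀.zero_mem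

theorem isSquare_of_mem [Fintype F] {F₀ : Subfield F} {q₀ : ℕ} (hF₀ : Nat.card F₀ = q₀)
    (hq : Fintype.card F = q₀ ^ 2) {a : F} (ha : a ∈ F₀) : IsSquare a := by
  rcases eq_or_ne a 0 with rfl | ha0
  · exact IsSquare.zero
  by_cases h2 : ringChar F = 2
  · exact FiniteField.isSquare_of_char_two h2 a
  rw [FiniteField.isSquare_iff h2 ha0]
  haveI := Fintype.ofFinite F₀
  rw [Nat.card_eq_fintype_card] at hF₀
  have h1 : a ^ (q₀ - 1) = 1 := by
    have := FiniteField.pow_card_sub_one_eq_one (⟨a, ha⟩ : F₀) (fun e => ha0 (congrArg Subtype.val e))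
    rw [hF₀] at this
    exact congrArg Subtype.val this
  have hodd : q₀ % 2 = 1 := by
    have := FiniteField.odd_card_of_char_ne_two h2
    rw [hq, Nat.pow_mod] at this
    rcases Nat.mod_two_eq_zero_or_one q₀ with e | e
    · rw [e] at this; norm_num at this
    · exact e
  have : Fintype.card F / 2 = (q₀ - 1) * ((q₀ + 1) / 2) := by
    obtain ⟨m, rfl⟩ : ∃ m, q₀ = 2 * m + 1 := ⟨q₀ / 2, by omega⟩
    rw [hq, show 2 * m + 1 - 1 = 2 * m from rfl, show (2 * m + 1 + 1) / 2 = m + 1 by omega]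
    ring_nf
    omega
  rw [this, pow_mul, h1, one_pow]

theorem exists_subfieldSL_hom (F₀ : Subfield F) :
    ∃ f : Matrix.SpecialLinearGroup (Fin n) F₀ →* subfieldSL n F₀, Function.Injective f :=
  ⟨(Matrix.SpecialLinearGroup.map F₀.subtype).codRestrict _ fun A =>
      mem_subfieldSL_iff.mpr ⟨1, one_ne_zero, fun i j => by
        rw [one_mul]
        exact (A.1 i j).2⟩,
    fun A B h => by
      apply Subtype.ext
      have h1 := congrArg (fun y : subfieldSL n F₀ => ((y : Matrix.SpecialLinearGroup (Fin n) F) : Matrix (Fin n) (Fin n) F)) h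
      exact Matrix.ext fun i j => Subtype.ext (congrFun (congrFun h1 i) j)⟩

/-- For odd degree, the index has odd order. -/
theorem not_two_dvd_index [Fintype F] (hn : 0 < n) (hodd : Odd (Fintype.card F)) {F₀ : Subfield F} {k q₀ : ℕ}
    (hk : Odd k) (hF₀ : Nat.card F₀ = q₀) (hq : Fintype.card F = q₀ ^ k) :
    ¬ 2 ∣ (subfieldSL n F₀).index := by
  classical
  intro h2
  haveI : Nonempty (Fin n) := ⟨⟨0, hn⟩⟩
  haveI := Fintype.ofFinite F₀
  rw [Nat.card_eq_fintype_card] at hF₀
  obtain ⟨f, hf⟩ := exists_subfieldSL_hom (n := n) F₀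
  obtain ⟨m, hm⟩ := Subgroup.card_dvd_of_injective f hf
  obtain ⟨t, ht⟩ := h2
  have hcard := Subgroup.index_mul_card (subfieldSL n F₀)
  rw [hm, ht] at hcard
  have e1 := CfsgLib.Linear.card_SL_mul (n := Fin n) (F := F)
  have e0 := CfsgLib.Linear.card_SL_mul (n := Fin n) (F := F₀)
  rw [Matrix.card_GL_field] at e1 e0
  rw [hq] at e1 hodd
  rw [hF₀] at e0
  have hq0 : Odd q₀ := (Nat.odd_pow_iff hk.pos.ne').mp hodd
  have key : ∀ a b : ℕ, Odd a → Odd b → b ≤ a → ∃ S, Odd S ∧ a ^ k - b ^ k = S * (a - b) := by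
    intro a b ha hb hab
    refine ⟨_, ?_, (geom_sum₂_mul_of_ge hab k).symm⟩
    rw [Finset.odd_sum_iff_odd_card_odd, Finset.filter_true_of_mem fun j _ => ?_, Finset.card_range]
    · exact hk
    · exact (ha.pow).mul hb.pow
  have hfac : ∀ i : Fin n, ∃ S, Odd S ∧ (q₀ ^ k) ^ n - (q₀ ^ k) ^ (i : ℕ) = S * (q₀ ^ n - q₀ ^ (i : ℕ)) := fun i => by
    rw [← pow_mul, ← pow_mul, mul_comm k, mul_comm k, pow_mul, pow_mul]
    exact key _ _ hq0.pow hq0.pow (Nat.pow_le_pow_right hq0.pos i.2.le)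
  choose S hS hSe using hfac
  obtain ⟨T, hT, hTe⟩ := key q₀ 1 hq0 odd_one hq0.pos
  rw [one_pow] at hTe
  rw [Finset.prod_congr rfl (fun i _ => hSe i), Finset.prod_mul_distrib, ← e0, hTe] at e1
  rw [← hcard] at e1
  have hpos : 0 < (q₀ - 1) * Nat.card (Matrix.SpecialLinearGroup (Fin n) F₀) := by
    refine Nat.mul_pos ?_ Nat.card_pos
    have := Fintype.one_lt_card (α := F₀)
    omega
  have h3 : T * (2 * t * m) = ∏ i, S i := by
    refine Nat.eq_of_mul_eq_mul_right hpos ?_
    rw [← e1]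
    ring
  have hodd' : Odd (∏ i, S i) := Finset.prod_induction _ Odd (fun a b => Odd.mul) odd_one (fun i _ => hS i)
  rw [← h3] at hodd'
  exact (Nat.not_even_iff_odd.mpr hodd') ⟨T * t * m, by ring⟩

end CfsgLib.LinearElements
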