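import Cfsg.Agent.LinearElements.RClassify
import Cfsg.Agent.LinearElements.TwistedForms
import Cfsg.Agent.Forms.SymplecticOrder
import Cfsg.Agent.SpSum.Tower
import Cfsg.Agent.DefectRank.RankMap
import Cfsg.Prelude.Def_ClassicalGeometry

/-!
The smallest symplectic blocks of an element of odd prime order `r`, and their eigenvalues.
-/

set_option autoImplicit false

namespace CfsgLib.LinearElements

open Matrix

variable {F : Type*} [Field F]

/-- An element of the symplectic group, inside the general linear group. -/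
theorem exists_spGL_of_mem {d : ℕ} (A : ↥(Matrix.symplecticGroup (Fin d) F)) :
    ∃ g ∈ Cfsg.spGL d F, (g : Matrix (Fin d ⊕ Fin d) (Fin d ⊕ Fin d) F) = A :=
  ⟨⟨A.1, (A⁻¹).1, congrArg Subtype.val (mul_inv_cancel A), congrArg Subtype.val (inv_mul_cancel A)⟩,
    CfsgLib.Forms.mem_symplecticGroup_iff_form.mp A.2, rfl⟩

theorem card_spGL_eq [Fintype F] (d : ℕ) :
    Nat.card (Cfsg.spGL d F) = Nat.card (Matrix.symplecticGroup (Fin d) F) := by
  refine Nat.card_eq_of_bijective
    (fun g => ⟨(g.1 : Matrix _ _ F), CfsgLib.Forms.mem_symplecticGroup_iff_form.mpr fun u v => g.2 u v⟩)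
    ⟨fun g h e => Subtype.ext (Units.ext (congrArg Subtype.val e)), fun A => ?_⟩
  obtain ⟨g, hg, hA⟩ := exists_spGL_of_mem A
  exact ⟨⟨g, hg⟩, Subtype.ext hA⟩

variable [Fintype F] {r : ℕ} [Fact r.Prime]

/-- A prime dividing the order of `Sp_{2d}` lives in a block of dimension `c ≤ 2d`. -/
theorem exists_symp_atom {p : ℕ} [Fact p.Prime] [CharP F p] (hrp : r ≠ p) {d : ℕ}
    (hdvd : r ∣ Nat.card (Matrix.symplecticGroup (Fin d) F)) :
    ∃ m, 0 < m ∧ m ≤ d ∧
      2 * m = (if Even (orderOf (Fintype.card F : ZMod r)) then orderOf (Fintype.card F : ZMod r)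
        else 2 * orderOf (Fintype.card F : ZMod r)) ∧
      ∃ h : ↥(Matrix.symplecticGroup (Fin m) F), h ^ r = 1 ∧ h ≠ 1 := by
  classical
  have hr := (Fact.out : r.Prime)
  have hq0 := cast_card_ne_zero (F := F) hrp
  set i := orderOf (Fintype.card F : ZMod r) with hi
  have hi0 : 0 < i := by
    rw [hi, orderOf_pos_iff, isOfFinOrder_iff_pow_eq_one]
    exact ⟨r - 1, by have := hr.two_le; omega, ZMod.pow_card_sub_one_eq_one hq0⟩
  have hiff : ∀ j, r ∣ Fintype.card F ^ j - 1 ↔ i ∣ j := fun j => by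
    rw [hi, orderOf_dvd_iff_pow_eq_one, ← ZMod.natCast_eq_zero_iff, Nat.cast_sub (Nat.one_le_pow _ _ Fintype.card_pos),
      Nat.cast_pow, Nat.cast_one, sub_eq_zero]
  rw [CfsgLib.Forms.card_symplecticGroup] at hdvd
  rcases hr.prime.dvd_or_dvd hdvd with h | h
  · obtain ⟨f, -, hf⟩ := FiniteField.card F p
    rw [hf] at h
    exact absurd ((Nat.prime_dvd_prime_iff_eq hr Fact.out).mp (hr.dvd_of_dvd_pow (hr.dvd_of_dvd_pow h))) hrp
  obtain ⟨j, hj, hrj⟩ := (hr.prime.dvd_finsetProd_iff _).mp h
  rw [Finset.mem_range] at hj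
  rw [hiff] at hrj
  obtain ⟨m, hm, hm0, hmd, him⟩ : ∃ m, 2 * m = (if Even i then i else 2 * i) ∧ 0 < m ∧ m ≤ d ∧ i ∣ 2 * m := by
    by_cases he : Even i
    · obtain ⟨m, hm⟩ := he
      refine ⟨m, by rw [if_pos ⟨m, hm⟩]; omega, by omega, ?_, by rw [hm, two_mul]⟩
      have := Nat.le_of_dvd (by omega) hrj
      omega
    · refine ⟨i, by rw [if_neg he], hi0, ?_, dvd_mul_left i 2⟩
      have := Nat.le_of_dvd (by omega)
        ((Nat.Coprime.dvd_mul_left (Nat.coprime_two_right.mpr (Nat.not_even_iff_odd.mp he))).mp hrj)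
      omega
  refine ⟨m, hm0, hmd, hm, ?_⟩
  have hcard : r ∣ Nat.card (Matrix.symplecticGroup (Fin m) F) := by
    rw [CfsgLib.Forms.card_symplecticGroup]
    refine Dvd.dvd.mul_left (dvd_trans ?_ (Finset.dvd_prod_of_mem _ (Finset.mem_range.mpr (show m - 1 < m by omega)))) _
    rw [Nat.sub_add_cancel hm0, hiff]
    exact him
  obtain ⟨h, hh⟩ := exists_prime_orderOf_dvd_card' r hcard
  exact ⟨h, hh ▸ pow_orderOf_eq_one h, fun e => hr.one_lt.ne' (by rw [← hh, e, orderOf_one])⟩

omit [Fintype F] in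
/-- The rank of a diagonalised matrix minus a scalar. -/
theorem rank_frame_sub {ι : Type*} [Fintype ι] [DecidableEq ι] [DecidableEq F] {X H H' : Matrix ι ι F} {l : ι → F}
    (e1 : H * H' = 1) (e2 : H' * H = 1) (e3 : X * H = H * Matrix.diagonal l) (γ : F) :
    (X - γ • 1).rank = Fintype.card ι - (Finset.univ.filter fun v => l v = γ).card := by
  have h : X - γ • 1 = H * (Matrix.diagonal l - γ • 1) * H' := by
    rw [Matrix.mul_sub, ← e3, Matrix.sub_mul, Matrix.mul_assoc, e1, Matrix.mul_one, Matrix.mul_smul, Matrix.mul_one,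
      Matrix.smul_mul, e1]
  have hd1 : IsUnit H.det := isUnit_iff_ne_zero.mpr fun e0 => by
    have := congrArg Matrix.det e1
    rw [Matrix.det_mul, e0, zero_mul, Matrix.det_one] at this
    exact zero_ne_one this
  have hd2 : IsUnit H'.det := isUnit_iff_ne_zero.mpr fun e0 => by
    have := congrArg Matrix.det e1
    rw [Matrix.det_mul, e0, mul_zero, Matrix.det_one] at this
    exact zero_ne_one this
  rw [h, Matrix.rank_mul_eq_left_of_isUnit_det _ _ hd2, Matrix.rank_mul_eq_right_of_isUnit_det _ _ hd1,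
    Matrix.smul_one_eq_diagonal, Matrix.diagonal_sub, Matrix.rank_diagonal, Fintype.card_subtype,
    ← Finset.card_compl]
  congr 1
  ext v
  simp [sub_eq_zero]

/-- The eigenvalues of a smallest block are the `c` distinct conjugates and inverses of one root of unity. -/
theorem atom_spectrum (hr2 : r ≠ 2) {m : ℕ}
    (hm : 2 * m = (if Even (orderOf (Fintype.card F : ZMod r)) then orderOf (Fintype.card F : ZMod r)
      else 2 * orderOf (Fintype.card F : ZMod r)))
    {h : ↥(Matrix.symplecticGroup (Fin m) F)} (hh : h ^ r = 1) (hh1 : h ≠ 1)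
    {L : Type*} [Field L] [Finite L] [Algebra F L] (hrL : (r : L) ≠ 0) {ζ : L} (hζ : IsPrimitiveRoot ζ r) :
    ∃ (H H' : Matrix (Fin m ⊕ Fin m) (Fin m ⊕ Fin m) L) (l : Fin m ⊕ Fin m → L), H * H' = 1 ∧ H' * H = 1 ∧
      (h : Matrix (Fin m ⊕ Fin m) (Fin m ⊕ Fin m) F).map (algebraMap F L) * H = H * Matrix.diagonal l ∧
      Function.Injective l ∧ ∀ v, l v ≠ 1 := by
  classical
  have hr := (Fact.out : r.Prime)
  set φ := algebraMap F L
  set X := (h : Matrix (Fin m ⊕ Fin m) (Fin m ⊕ Fin m) F).map φ with hX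
  have hXr : X ^ r = 1 := by
    have h1 := congrArg Subtype.val hh
    rw [SubmonoidClass.coe_pow, OneMemClass.coe_one] at h1
    rw [hX, ← RingHom.mapMatrix_apply, ← map_pow, h1, map_one]
  let e := finSumFinEquiv (m := m) (n := m)
  obtain ⟨H0, H0', l0, a1, a2, a3, a4⟩ := CfsgLib.Twist.exists_eigen_frame hr.pos hrL hζ one_ne_zero
    (x := Matrix.reindexAlgEquiv L L e X) (by rw [← map_pow, hXr, map_one, one_pow, one_smul])
  set H := (Matrix.reindexAlgEquiv L L e).symm H0
  set H' := (Matrix.reindexAlgEquiv L L e).symm H0'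
  set l : Fin m ⊕ Fin m → L := l0 ∘ e
  have e1 : H * H' = 1 := by rw [← map_mul, a1, map_one]
  have e2 : H' * H = 1 := by rw [← map_mul, a2, map_one]
  have e3 : X * H = H * Matrix.diagonal l := by
    have := congrArg (Matrix.reindexAlgEquiv L L e).symm a3
    rw [map_mul, map_mul, AlgEquiv.symm_apply_apply] at this
    rw [this]
    congr 1
    simp [l, Matrix.submatrix_diagonal_equiv]
  have hl : ∀ v, l v ^ r = 1 := fun v => by
    obtain ⟨j, -, hj⟩ := a4 (e v)
    show l0 (e v) ^ r = 1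
    rw [hj, one_mul, ← pow_mul, mul_comm, pow_mul, hζ.pow_eq_one, one_pow]
  have hfib : ∀ γ : L, γ ≠ 0 → ((∃ v, l v = γ) ↔ (X - γ • 1).rank < Fintype.card (Fin m ⊕ Fin m)) := fun γ _ => by
    rw [rank_frame_sub e1 e2 e3]
    constructor
    · rintro ⟨v, hv⟩
      exact Nat.sub_lt (Fintype.card_pos_iff.mpr ⟨v⟩) (Finset.card_pos.mpr ⟨v, by simpa using hv⟩)
    · intro hlt
      obtain ⟨v, hv⟩ := Finset.nonempty_iff_ne_empty.mpr (show (Finset.univ.filter fun v => l v = γ) ≠ ∅ from fun e0 => by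
        rw [e0, Finset.card_empty, Nat.sub_zero] at hlt
        exact lt_irrefl _ hlt)
      exact ⟨v, (Finset.mem_filter.mp hv).2⟩
  -- invariance under the Frobenius and under inversion
  have hfrob : ∀ γ : L, γ ≠ 0 → (∃ v, l v = γ) → ∃ v, l v = γ ^ Fintype.card F := fun γ hγ hv => by
    rw [hfib _ (pow_ne_zero _ hγ)]
    rw [hfib _ hγ] at hv
    let σ := (FiniteField.frobeniusAlgHom F L).toRingHom
    have e0 : (X - γ • 1).map σ = X - γ ^ Fintype.card F • 1 := by
      ext a b
      show σ ((X - γ • 1) a b) = _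
      have hσ : ∀ z : L, σ z = z ^ Fintype.card F := fun z => rfl
      rw [Matrix.sub_apply, map_sub, Matrix.sub_apply, hσ, hσ]
      congr 1
      · show φ (h.1 a b) ^ _ = φ (h.1 a b)
        rw [← map_pow, FiniteField.pow_card]
      · rcases eq_or_ne a b with rfl | hab
        · simp
        · simp [Matrix.one_apply_ne hab, zero_pow Fintype.card_ne_zero]
    rwa [← e0, CfsgLib.DefectRank.rank_map_eq]
  have hinv : ∀ γ : L, γ ≠ 0 → (∃ v, l v = γ) → ∃ v, l v = γ⁻¹ := fun γ hγ hv => by
    rw [hfib _ (inv_ne_zero hγ)]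
    rw [hfib _ hγ] at hv
    have hJ : X * (Matrix.J (Fin m) L) * Xᵀ = Matrix.J (Fin m) L := by
      have h1 := congrArg (fun M : Matrix _ _ F => φ.mapMatrix M) (SymplecticGroup.mem_iff.mp h.2)
      simp only [map_mul, RingHom.mapMatrix_apply] at h1
      rw [show (Matrix.J (Fin m) F).map φ = Matrix.J (Fin m) L by
        ext (a | a) (b | b) <;> simp [Matrix.J, Matrix.one_apply, apply_ite φ],
        Matrix.transpose_map] at h1
      exact h1
    have hJu : IsUnit (Matrix.J (Fin m) L).det := Matrix.isUnit_det_J _ _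
    have hXu : IsUnit X.det := isUnit_iff_ne_zero.mpr fun e0 => by
      have := congrArg Matrix.det hXr
      rw [Matrix.det_pow, e0, zero_pow hr.ne_zero, Matrix.det_one] at this
      exact zero_ne_one this
    have key : (X - γ⁻¹ • 1) * (Matrix.J (Fin m) L) * Xᵀ = (-γ⁻¹) • (Matrix.J (Fin m) L * (X - γ • 1)ᵀ) := by
      rw [Matrix.sub_mul, Matrix.sub_mul, hJ, Matrix.transpose_sub, Matrix.transpose_smul, Matrix.transpose_one,
        Matrix.mul_sub, smul_sub, Matrix.smul_mul, Matrix.one_mul, Matrix.smul_mul, Matrix.mul_smul, Matrix.mul_one,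
        smul_smul, neg_mul, inv_mul_cancel₀ hγ, neg_one_smul, neg_smul]
      abel
    have h1 := congrArg Matrix.rank key
    rw [Matrix.rank_mul_eq_left_of_isUnit_det _ _ (by rwa [Matrix.det_transpose]),
      Matrix.rank_mul_eq_left_of_isUnit_det _ _ hJu,
      Matrix.rank_smul_of_mem_nonZeroDivisors _ (mem_nonZeroDivisors_of_ne_zero (neg_ne_zero.mpr (inv_ne_zero hγ))), Matrix.rank_mul_eq_right_of_isUnit_det _ _ hJu,
      Matrix.rank_transpose] at h1
    omega
  obtain ⟨v0, hv0⟩ : ∃ v, l v ≠ 1 := by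
    by_contra hall
    push Not at hall
    rw [show l = fun _ => 1 from funext hall, Matrix.diagonal_one, Matrix.mul_one] at e3
    have h1 : X = 1 := by
      have := congrArg (· * H') e3
      simpa [Matrix.mul_assoc, e1] using this
    refine hh1 (Subtype.ext (Matrix.map_injective φ.injective ?_))
    show X = ((1 : ↥(Matrix.symplecticGroup (Fin m) F)) : Matrix (Fin m ⊕ Fin m) (Fin m ⊕ Fin m) F).map φ
    rw [h1, OneMemClass.coe_one, Matrix.map_one _ (map_zero φ) (map_one φ)]
  set γ0 := l v0 with hγ0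
  have hord : orderOf γ0 = r :=
    ((Nat.dvd_prime hr).mp (orderOf_dvd_of_pow_eq_one (hl v0))).resolve_left fun e0 => hv0 (orderOf_eq_one_iff.mp e0)
  have hγne : γ0 ≠ 0 := fun e0 => by
    have := hl v0
    rw [← hγ0, e0, zero_pow hr.ne_zero] at this
    exact zero_ne_one this
  set i := orderOf (Fintype.card F : ZMod r) with hi
  have hqk : ∀ k : ℕ, ∃ v, l v = γ0 ^ (Fintype.card F ^ k) := fun k => by
    induction k with
    | zero => exact ⟨v0, by simp [← hγ0]⟩
    | succ k ih =>
      rw [pow_succ (Fintype.card F), pow_mul]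
      exact hfrob _ (pow_ne_zero _ hγne) ih
  have hpow : ∀ j j' : ℕ, γ0 ^ j = γ0 ^ j' → (j : ZMod r) = (j' : ZMod r) := fun j j' h' => by
    rw [(orderOf_pos_iff.mp (hord.symm ▸ hr.pos)).pow_inj_mod, hord] at h'
    exact (ZMod.natCast_eq_natCast_iff' _ _ _).mpr h'
  set S := Finset.univ.image l
  have hS : Fintype.card (Fin m ⊕ Fin m) ≤ (S.filter fun γ => γ ≠ 1).card := by
    have hne : ∀ j : ℕ, (j : ZMod r) ≠ 0 → γ0 ^ j ≠ 1 := fun j hj e0 => hj (by
      have := hpow j 0 (by rw [e0, pow_zero]); simpa using this)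
    have hq0 : (Fintype.card F : ZMod r) ≠ 0 := fun e0 => by
      rw [hi, e0, orderOf_zero] at hm
      simp at hm
      subst hm
      exact hh1 (Subtype.ext (Matrix.ext fun a => Sum.elim (fun x => x.elim0) (fun x => x.elim0) a))
    have hinj : ∀ k k' : ℕ, k < i → k' < i → (Fintype.card F : ZMod r) ^ k = (Fintype.card F : ZMod r) ^ k' → k = k' :=
      fun k k' hk hk' e0 => by
        rw [(orderOf_pos_iff.mp (show 0 < orderOf (Fintype.card F : ZMod r) by omega)).pow_inj_mod, ← hi,
          Nat.mod_eq_of_lt hk, Nat.mod_eq_of_lt hk'] at e0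
        exact e0
    by_cases he : Even i
    · rw [if_pos he] at hm
      refine le_trans ?_ (Finset.card_le_card_of_injOn (s := Finset.range i) (fun k => γ0 ^ (Fintype.card F ^ k))
        (fun k _ => ?_) (fun k hk k' hk' h' => ?_))
      · rw [Finset.card_range, Fintype.card_sum, Fintype.card_fin]; omega
      · obtain ⟨v, hv⟩ := hqk k
        simp only [Finset.coe_filter, Set.mem_setOf_eq, S, Finset.mem_image]
        exact ⟨⟨v, Finset.mem_univ _, hv⟩, hne _ (by simpa using pow_ne_zero k hq0)⟩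
      · simp only [Finset.coe_range, Set.mem_Iio] at hk hk'
        exact hinj k k' hk hk' (by simpa using hpow _ _ h')
    · rw [if_neg he] at hm
      refine le_trans ?_ (Finset.card_le_card_of_injOn (s := (Finset.range i).disjSum (Finset.range i))
        (Sum.elim (fun k => γ0 ^ (Fintype.card F ^ k)) (fun k => (γ0 ^ (Fintype.card F ^ k))⁻¹))
        (fun k _ => ?_) (fun k hk k' hk' h' => ?_))
      · rw [Finset.card_disjSum, Finset.card_range, Fintype.card_sum, Fintype.card_fin]; omega
      · have hn : ∀ k : ℕ, γ0 ^ (Fintype.card F ^ k) ≠ 1 := fun k => hne _ (by simpa using pow_ne_zero k hq0)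
        simp only [Finset.coe_filter, Set.mem_setOf_eq, S, Finset.mem_image]
        rcases k with k | k
        · obtain ⟨v, hv⟩ := hqk k
          exact ⟨⟨v, Finset.mem_univ _, hv⟩, hn k⟩
        · obtain ⟨v, hv⟩ := hinv _ (pow_ne_zero _ hγne) (hqk k)
          exact ⟨⟨v, Finset.mem_univ _, hv⟩, fun e0 => hn k (inv_eq_one.mp e0)⟩
      · have hmix : ∀ k k' : ℕ, γ0 ^ (Fintype.card F ^ k) ≠ (γ0 ^ (Fintype.card F ^ k'))⁻¹ := by
          intro k k' e0
          have e1' := hpow (Fintype.card F ^ k + Fintype.card F ^ k') 0 (by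
            rw [pow_add, e0, inv_mul_cancel₀ (pow_ne_zero _ hγne), pow_zero])
          push_cast at e1'
          have hodd : ((Fintype.card F : ZMod r) ^ k) ^ i = (-(Fintype.card F : ZMod r) ^ k') ^ i := by
            rw [show (Fintype.card F : ZMod r) ^ k = -(Fintype.card F : ZMod r) ^ k' by linear_combination e1']
          rw [(Nat.not_even_iff_odd.mp he).neg_pow, ← pow_mul, mul_comm, pow_mul, hi, pow_orderOf_eq_one, one_pow,
            ← pow_mul, mul_comm, pow_mul, pow_orderOf_eq_one, one_pow] at hodd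
          have h2 : ((2 : ℕ) : ZMod r) = 0 := by push_cast; linear_combination hodd
          rw [ZMod.natCast_eq_zero_iff] at h2
          exact hr2 ((Nat.prime_dvd_prime_iff_eq hr Nat.prime_two).mp h2)
        rcases k with k | k <;> rcases k' with k' | k' <;>
          simp only [Finset.mem_coe, Finset.inl_mem_disjSum, Finset.inr_mem_disjSum, Finset.mem_range,
            Sum.elim_inl, Sum.elim_inr] at hk hk' h'
        · exact congrArg Sum.inl (hinj k k' hk hk' (by simpa using hpow _ _ h'))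
        · exact absurd h' (hmix k k')
        · exact absurd h'.symm (hmix k' k)
        · exact congrArg Sum.inr (hinj k k' hk hk' (by simpa using hpow _ _ (inv_injective h')))
  have hle : (S.filter fun γ => γ ≠ 1).card ≤ S.card := Finset.card_filter_le _ _
  have hSle : S.card ≤ Fintype.card (Fin m ⊕ Fin m) := Finset.card_image_le
  refine ⟨H, H', l, e1, e2, e3, fun v w hvw => ?_, fun v hv => ?_⟩
  · exact Finset.card_image_iff.mp (show (Finset.univ.image l).card = (Finset.univ : Finset _).card from by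
      rw [Finset.card_univ]; exact le_antisymm hSle (hS.trans hle)) (Finset.mem_coe.mpr (Finset.mem_univ v))
      (Finset.mem_coe.mpr (Finset.mem_univ w)) hvw
  · have := Finset.filter_eq_self.mp (Finset.eq_of_subset_of_card_le (Finset.filter_subset _ S) (hSle.trans hS))
      1 (Finset.mem_image.mpr ⟨v, Finset.mem_univ _, hv⟩)
    exact this rfl

end CfsgLib.LinearElements
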