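import Cfsg.Agent.Forms.Diagonal

/-!
Hyperbolic frames of an alternating form adapted to an isometry whose square is a scalar.
-/

set_option autoImplicit false

namespace CfsgLib.LinearElements

open Module Submodule

variable {F V : Type*} [Field F] [AddCommGroup V] [Module F V] [FiniteDimensional F V]

section
variable {B : LinearMap.BilinForm F V} (hA : B.IsAlt) {g : V →ₗ[F] V} (hg : ∀ u v, B (g u) (g v) = B u v)

include hA

theorem pair_alt (u v : V) : B u v = -B v u := by
  rw [LinearMap.IsAlt.neg hA v u]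

include hg

/-- Generic induction: pairs found one at a time give a frame. -/
theorem exists_pair_frame {z : F} (hz : z ≠ 0) (hgg : ∀ v, g (g v) = z • v) (Q : V → V → Prop)
    (hQ : ∀ u v, Q u v → g u ∈ span F {u, v} ∧ g v ∈ span F {u, v})
    (hstep : ∀ W : Submodule F V, (∀ w ∈ W, g w ∈ W) → (∀ w ∈ W, w ≠ 0 → ∃ y ∈ W, B w y ≠ 0) → W ≠ ⊥ →
      ∀ d : F, d ≠ 0 → ∃ u ∈ W, ∃ v ∈ W, B u v = d ∧ Q u v) :
    ∀ {m : ℕ} (W : Submodule F V), (∀ w ∈ W, g w ∈ W) → (∀ w ∈ W, w ≠ 0 → ∃ y ∈ W, B w y ≠ 0) →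
      finrank F W = 2 * m → ∀ δ : Fin m → F, (∀ j, δ j ≠ 0) →
      ∃ u v : Fin m → V, (∀ j, u j ∈ W ∧ v j ∈ W) ∧ (∀ i j, B (u i) (u j) = 0) ∧ (∀ i j, B (v i) (v j) = 0) ∧
        (∀ i j, B (u i) (v j) = if i = j then δ i else 0) ∧ ∀ j, Q (u j) (v j) := by
  intro m
  induction m with
  | zero =>
    intro W _ _ _ δ _
    exact ⟨fun j => j.elim0, fun j => j.elim0, fun j => j.elim0, fun j => j.elim0, fun j => j.elim0,
      fun j => j.elim0, fun j => j.elim0⟩
  | succ m ih =>
    intro W hW hnd hdim δ hδ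
    have hWne : W ≠ ⊥ := fun e => by rw [e, finrank_bot] at hdim; omega
    obtain ⟨u0, hu0, v0, hv0, hd, hQ0⟩ := hstep W hW hnd hWne (δ 0) (hδ 0)
    obtain ⟨hgu, hgv⟩ := hQ u0 v0 hQ0
    let f : W →ₗ[F] (Fin 2 → F) := LinearMap.pi ![(B.flip u0).comp W.subtype, (B.flip v0).comp W.subtype]
    have hf0 : ∀ w : W, f w 0 = B (w : V) u0 := fun w => rfl
    have hf1 : ∀ w : W, f w 1 = B (w : V) v0 := fun w => rfl
    let W' : Submodule F V := (LinearMap.ker f).map W.subtype
    have hmem : ∀ w, w ∈ W' ↔ w ∈ W ∧ B w u0 = 0 ∧ B w v0 = 0 := by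
      intro w
      simp only [W', Submodule.mem_map, LinearMap.mem_ker]
      constructor
      · rintro ⟨y, hy, rfl⟩
        exact ⟨y.2, by rw [Submodule.subtype_apply, ← hf0, hy, Pi.zero_apply],
          by rw [Submodule.subtype_apply, ← hf1, hy, Pi.zero_apply]⟩
      · rintro ⟨h1, h2, h3⟩
        exact ⟨⟨w, h1⟩, funext (Fin.forall_fin_two.mpr ⟨h2, h3⟩), rfl⟩
    have hvu : B v0 u0 = -δ 0 := by rw [pair_alt hA, hd]
    -- projection to the complement of the pair
    have hproj : ∀ y ∈ W, ∃ a b : F, y - (a • u0 + b • v0) ∈ W' := fun y hy => by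
      refine ⟨B y v0 / δ 0, -(B y u0 / δ 0), (hmem _).mpr ⟨W.sub_mem hy (W.add_mem (W.smul_mem _ hu0) (W.smul_mem _ hv0)),
        ?_, ?_⟩⟩
      · simp only [map_sub, map_add, map_smul, LinearMap.sub_apply, LinearMap.add_apply, LinearMap.smul_apply,
          hA u0, hvu, smul_eq_mul]
        field_simp [hδ 0]
        ring
      · simp only [map_sub, map_add, map_smul, LinearMap.sub_apply, LinearMap.add_apply, LinearMap.smul_apply,
          hA v0, hd, smul_eq_mul]
        field_simp [hδ 0]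
        ring
    have hsurj : Function.Surjective f := fun c => by
      refine ⟨⟨(c 1 / δ 0) • u0 + (-(c 0 / δ 0)) • v0, W.add_mem (W.smul_mem _ hu0) (W.smul_mem _ hv0)⟩, funext ?_⟩
      refine Fin.forall_fin_two.mpr ⟨?_, ?_⟩
      · rw [hf0]
        simp only [map_add, map_smul, LinearMap.add_apply, LinearMap.smul_apply, hA u0, hvu, smul_eq_mul]
        field_simp [hδ 0]
        ring
      · rw [hf1]
        simp only [map_add, map_smul, LinearMap.add_apply, LinearMap.smul_apply, hA v0, hd, smul_eq_mul]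
        field_simp [hδ 0]
        ring
    have hdim' : finrank F W' = 2 * m := by
      have h1 := LinearMap.finrank_range_add_finrank_ker f
      rw [LinearMap.range_eq_top.mpr hsurj, finrank_top, Module.finrank_fin_fun] at h1
      have h2 : finrank F W' = finrank F (LinearMap.ker f) :=
        (Submodule.equivMapOfInjective _ W.injective_subtype _).finrank_eq.symm
      omega
    have hW' : ∀ w ∈ W', g w ∈ W' := by
      intro w hw
      obtain ⟨h1, h2, h3⟩ := (hmem w).mp hw
      have hsp : ∀ y ∈ span F ({u0, v0} : Set V), B w y = 0 := fun y hy => by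
        obtain ⟨a, b, rfl⟩ := Submodule.mem_span_pair.mp hy
        simp [h2, h3]
      have hpre : ∀ y : V, g y ∈ span F ({u0, v0} : Set V) → B (g w) y = 0 := fun y hy => by
        have h4 := hg w (g y)
        rw [hgg, map_smul, hsp _ hy, smul_eq_mul] at h4
        exact (mul_eq_zero.mp h4).resolve_left hz
      exact (hmem _).mpr ⟨hW w h1, hpre u0 hgu, hpre v0 hgv⟩
    have hnd' : ∀ w ∈ W', w ≠ 0 → ∃ y ∈ W', B w y ≠ 0 := by
      intro w hw hne
      obtain ⟨h1, h2, h3⟩ := (hmem w).mp hw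
      obtain ⟨y, hy, hby⟩ := hnd w h1 hne
      obtain ⟨a, b, hab⟩ := hproj y hy
      exact ⟨_, hab, by simpa [h2, h3] using hby⟩
    obtain ⟨u, v, hm', huu, hvv, huv, hQs⟩ := ih W' hW' hnd' hdim' (fun j => δ j.succ) fun j => hδ _
    have hu' : ∀ j, B (u j) u0 = 0 ∧ B (u j) v0 = 0 := fun j => ((hmem _).mp (hm' j).1).2
    have hv' : ∀ j, B (v j) u0 = 0 ∧ B (v j) v0 = 0 := fun j => ((hmem _).mp (hm' j).2).2
    have hu'' : ∀ j, B u0 (u j) = 0 ∧ B v0 (u j) = 0 := fun j =>
      ⟨by rw [pair_alt hA, (hu' j).1, neg_zero], by rw [pair_alt hA, (hu' j).2, neg_zero]⟩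
    have hv'' : ∀ j, B u0 (v j) = 0 ∧ B v0 (v j) = 0 := fun j =>
      ⟨by rw [pair_alt hA, (hv' j).1, neg_zero], by rw [pair_alt hA, (hv' j).2, neg_zero]⟩
    refine ⟨Fin.cons u0 u, Fin.cons v0 v, Fin.cases ⟨hu0, hv0⟩ fun j => ⟨((hmem _).mp (hm' j).1).1,
      ((hmem _).mp (hm' j).2).1⟩, ?_, ?_, ?_, Fin.cases hQ0 fun j => hQs j⟩
    · intro i j
      induction i using Fin.cases <;> induction j using Fin.cases <;>
        simp [hA u0, huu, hu', hu'']
    · intro i j
      induction i using Fin.cases <;> induction j using Fin.cases <;>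
        simp [hA v0, hvv, hv', hv'']
    · intro i j
      induction i using Fin.cases <;> induction j using Fin.cases <;>
        simp [hd, huv, hu', hv'', (Fin.succ_ne_zero _).symm]

/-- An involution has a hyperbolic frame of eigenvectors with prescribed pairings. -/
theorem exists_pair_frame_involution (h2 : (2 : F) ≠ 0) (hgg : ∀ v, g (g v) = v)
    (hB : ∀ x, (∀ y, B x y = 0) → x = 0) {m : ℕ} (hdim : finrank F V = 2 * m) (δ : Fin m → F) (hδ : ∀ j, δ j ≠ 0) :
    ∃ (u v : Fin m → V) (s : Fin m → F), (∀ i j, B (u i) (u j) = 0) ∧ (∀ i j, B (v i) (v j) = 0) ∧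
      (∀ i j, B (u i) (v j) = if i = j then δ i else 0) ∧ (∀ j, s j ≠ 0) ∧
      ∀ j, g (u j) = s j • u j ∧ g (v j) = s j • v j := by
  let Q : V → V → Prop := fun u v => ∃ s : F, s ≠ 0 ∧ g u = s • u ∧ g v = s • v
  obtain ⟨u, v, -, h1, h2', h3, h4⟩ := exists_pair_frame hA hg one_ne_zero (fun v => by rw [hgg, one_smul]) Q
    (fun u v ⟨s, _, e1, e2⟩ => ⟨e1 ▸ smul_mem _ s (subset_span (by simp)), e2 ▸ smul_mem _ s (subset_span (by simp))⟩)
    (fun W hW hnd hne d hd => by
      obtain ⟨w, hw, hw0⟩ := (Submodule.ne_bot_iff _).mp hne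
      obtain ⟨e, he, u, hu, hu0, hgu⟩ : ∃ e : F, e * e = 1 ∧ ∃ u ∈ W, u ≠ 0 ∧ g u = e • u := by
        by_cases hp : w + g w = 0
        · exact ⟨-1, by ring, w, hw, hw0, by rw [neg_one_smul]; exact (eq_neg_of_add_eq_zero_right hp)⟩
        · exact ⟨1, one_mul 1, _, W.add_mem hw (hW w hw), hp, by rw [map_add, hgg, one_smul, add_comm]⟩
      obtain ⟨y, hy, huy⟩ := hnd u hu hu0
      refine ⟨u, hu, (d / B u y / 2) • (y + e • g y), W.smul_mem _ (W.add_mem hy (W.smul_mem _ (hW y hy))), ?_,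
        e, fun e0 => by simp [e0] at he, hgu, ?_⟩
      · have hb : B u (g y) = e * B u y := by
          have := hg u (g y)
          rw [hgu, hgg, map_smul, LinearMap.smul_apply, smul_eq_mul] at this
          rw [this]
        simp only [map_smul, map_add, hb, smul_eq_mul, ← mul_assoc, he, one_mul]
        field_simp
        ring
      · rw [map_smul, map_add, map_smul, hgg, smul_comm e, smul_add e, smul_smul e e, he, one_smul, add_comm])
    (m := m) ⊤ (fun _ _ => trivial) (fun w _ hw => by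
      by_contra hall
      push Not at hall
      exact hw (hB w fun y => hall y trivial)) (by rw [finrank_top, hdim]) δ hδ
  choose s hs0 hs using h4
  exact ⟨u, v, s, h1, h2', h3, hs0, hs⟩

/-- An isometry with square `-1` has a hyperbolic frame it rotates, with prescribed pairings. -/
theorem exists_pair_frame_quarter [Finite F] (h2 : (2 : F) ≠ 0) (hgg : ∀ v, g (g v) = -v)
    (hB : ∀ x, (∀ y, B x y = 0) → x = 0) {m : ℕ} (hdim : finrank F V = 2 * m) (δ : Fin m → F) (hδ : ∀ j, δ j ≠ 0) :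
    ∃ (u v : Fin m → V), (∀ i j, B (u i) (u j) = 0) ∧ (∀ i j, B (v i) (v j) = 0) ∧
      (∀ i j, B (u i) (v j) = if i = j then δ i else 0) ∧ ∀ j, g (u j) = v j ∧ g (v j) = -u j := by
  let Q : V → V → Prop := fun u v => g u = v ∧ g v = -u
  have hz : (-1 : F) ≠ 0 := neg_ne_zero.mpr one_ne_zero
  obtain ⟨u, v, -, h1, h2', h3, h4⟩ := exists_pair_frame hA hg hz (fun v => by rw [hgg, neg_one_smul]) Q
    (fun u v ⟨e1, e2⟩ => ⟨e1 ▸ subset_span (by simp), e2 ▸ neg_mem (subset_span (by simp))⟩)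
    (fun W hW hnd hne d hd => by
      have hsym : ∀ a b : V, B a (g b) = B b (g a) := fun a b => by
        have := hg a (g b)
        rw [hgg, map_neg] at this
        rw [← this, pair_alt hA (g a) b, neg_neg]
      obtain ⟨w, hw, hwq⟩ : ∃ w ∈ W, B w (g w) ≠ 0 := by
        by_contra hall
        push Not at hall
        obtain ⟨w, hw, hw0⟩ := (Submodule.ne_bot_iff _).mp hne
        obtain ⟨y, hy, hwy⟩ := hnd w hw hw0
        have h5 := hall (w + g y) (W.add_mem hw (hW y hy))
        simp only [map_add, LinearMap.add_apply] at h5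
        rw [hall w hw, hall _ (hW y hy), hsym (g y) w, hgg, map_neg] at h5
        have h6 : (2 : F) * B w y = 0 := by linear_combination -h5
        exact hwy ((mul_eq_zero.mp h6).resolve_left h2)
      obtain ⟨s, t, hst⟩ := CfsgLib.Forms.exists_diag_binary h2 hwq hwq d
      refine ⟨s • w + t • g w, W.add_mem (W.smul_mem _ hw) (W.smul_mem _ (hW w hw)), g (s • w + t • g w),
        hW _ (W.add_mem (W.smul_mem _ hw) (W.smul_mem _ (hW w hw))), ?_, rfl, hgg _⟩
      simp only [map_add, map_smul, hgg, map_neg, LinearMap.add_apply, LinearMap.smul_apply, hg, smul_eq_mul,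
        hA w, pair_alt hA (g w) w, smul_neg]
      linear_combination hst)
    (m := m) ⊤ (fun _ _ => trivial) (fun w _ hw => by
      by_contra hall
      push Not at hall
      exact hw (hB w fun y => hall y trivial)) (by rw [finrank_top, hdim]) δ hδ
  exact ⟨u, v, h1, h2', h3, h4⟩

end

end CfsgLib.LinearElements
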