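import Cfsg.Agent.LinearElements.SympAtom
import Cfsg.Agent.LinearElements.SympPairs
import Cfsg.Agent.LinearElements.SympInvariant
import Cfsg.Agent.LinearElements.JordanType
import Cfsg.Prelude.Def_GeometricClasses

/-!
Model elements of odd prime order in symplectic groups, and the transitivity of the symplectic group on orthogonal
decompositions into nondegenerate subspaces of equal dimension.
-/

set_option autoImplicit false

namespace CfsgLib.LinearElements

open Matrix Module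

variable {F : Type*} [Field F]

theorem blk_mulVec {l k d : ℕ} (E : Fin l ⊕ Fin k ≃ Fin d) (A : ↥(Matrix.symplecticGroup (Fin l) F))
    (C : ↥(Matrix.symplecticGroup (Fin k) F)) (v : Fin d ⊕ Fin d → F) :
    ((CfsgLib.SpSum.blk E (A, C) : ↥(Matrix.symplecticGroup (Fin d) F)) : Matrix (Fin d ⊕ Fin d) (Fin d ⊕ Fin d) F) *ᵥ v =
      Sum.elim ((A : Matrix (Fin l ⊕ Fin l) (Fin l ⊕ Fin l) F) *ᵥ (v ∘ CfsgLib.SpSum.shuffle E ∘ Sum.inl))
        ((C : Matrix (Fin k ⊕ Fin k) (Fin k ⊕ Fin k) F) *ᵥ (v ∘ CfsgLib.SpSum.shuffle E ∘ Sum.inr)) ∘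
          (CfsgLib.SpSum.shuffle E).symm := by
  show (Matrix.fromBlocks (A : Matrix (Fin l ⊕ Fin l) (Fin l ⊕ Fin l) F) 0 0
    (C : Matrix (Fin k ⊕ Fin k) (Fin k ⊕ Fin k) F)).submatrix (CfsgLib.SpSum.shuffle E).symm
      (CfsgLib.SpSum.shuffle E).symm *ᵥ v = _
  rw [Matrix.submatrix_mulVec_equiv]
  funext w
  simp [Matrix.fromBlocks_mulVec, Function.comp_def]

/-- Any number of atoms, without fixed vectors. -/
theorem exists_free_block {r : ℕ} [Fact r.Prime] {m : ℕ} (h : ↥(Matrix.symplecticGroup (Fin m) F)) (hh : h ^ r = 1)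
    (hfree : ∀ v, (h : Matrix (Fin m ⊕ Fin m) (Fin m ⊕ Fin m) F) *ᵥ v = v → v = 0) :
    ∀ j : ℕ, ∃ H : ↥(Matrix.symplecticGroup (Fin (j * m)) F), H ^ r = 1 ∧
      ∀ v, (H : Matrix (Fin (j * m) ⊕ Fin (j * m)) (Fin (j * m) ⊕ Fin (j * m)) F) *ᵥ v = v → v = 0 := by
  intro j
  induction j with
  | zero =>
    refine ⟨1, one_pow r, fun v _ => funext fun w => ?_⟩
    rcases w with w | w <;> exact absurd w.2 (by simp)
  | succ j ih =>
    obtain ⟨H, hH, hHf⟩ := ih
    let E : Fin (j * m) ⊕ Fin m ≃ Fin ((j + 1) * m) := finSumFinEquiv.trans (finCongr (Nat.succ_mul j m).symm)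
    refine ⟨CfsgLib.SpSum.blk E (H, h), by rw [← map_pow, Prod.pow_mk, hH, hh, Prod.mk_one_one, map_one], fun v hv => ?_⟩
    rw [blk_mulVec] at hv
    have h1 := congrArg (fun f => f ∘ CfsgLib.SpSum.shuffle E) hv
    simp only [Function.comp_assoc, Equiv.symm_comp_self, Function.comp_id] at h1
    have hl := hHf _ (funext fun w => congrFun h1 (Sum.inl w))
    have hr := hfree _ (funext fun w => congrFun h1 (Sum.inr w))
    funext w
    obtain ⟨s, rfl⟩ := (CfsgLib.SpSum.shuffle E).surjective w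
    rcases s with s | s
    · exact congrFun hl s
    · exact congrFun hr s

variable [Fintype F] {r : ℕ} [Fact r.Prime]

/-- Elements with a prescribed number of atoms. -/
theorem exists_symp_model {p : ℕ} [Fact p.Prime] [CharP F p] (hrp : r ≠ p) (hr2 : r ≠ 2) {d : ℕ}
    (hdvd : r ∣ Nat.card (Matrix.symplecticGroup (Fin d) F)) {c : ℕ}
    (hc : c = if Even (orderOf (Fintype.card F : ZMod r)) then orderOf (Fintype.card F : ZMod r)
      else 2 * orderOf (Fintype.card F : ZMod r)) :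
    c ≤ 2 * d ∧ ∀ j, j * c ≤ 2 * d → ∃ x : ↥(Matrix.symplecticGroup (Fin d) F), x ^ r = 1 ∧
      finrank F (fixedIn (Matrix.toLin' (x : Matrix (Fin d ⊕ Fin d) (Fin d ⊕ Fin d) F)) ⊤) + j * c = 2 * d := by
  obtain ⟨m, hm0, hmd, hm, h, hh, hh1⟩ := exists_symp_atom hrp hdvd
  rw [← hc] at hm
  refine ⟨by omega, fun j hj => ?_⟩
  have hfree : ∀ v, (h : Matrix (Fin m ⊕ Fin m) (Fin m ⊕ Fin m) F) *ᵥ v = v → v = 0 := by
    set g : Module.End F (Fin m ⊕ Fin m → F) := Matrix.toLin' (h : Matrix (Fin m ⊕ Fin m) (Fin m ⊕ Fin m) F)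
    have hg : g ^ r = 1 := by
      show Matrix.toLinAlgEquiv' (h : Matrix (Fin m ⊕ Fin m) (Fin m ⊕ Fin m) F) ^ r = 1
      rw [← map_pow, ← SubmonoidClass.coe_pow, hh, OneMemClass.coe_one, map_one]
    have hrF : (r : F) ≠ 0 := fun e0 => by
      rw [CharP.cast_eq_zero_iff F p] at e0
      exact hrp ((Nat.prime_dvd_prime_iff_eq Fact.out (Fact.out : r.Prime)).mp e0).symm
    obtain ⟨k, hk⟩ := dvd_finrank_moved (B := CfsgLib.Forms.sympBilin m F) CfsgLib.Forms.sympBilin_isAlt
      (fun u v => by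
        simp only [CfsgLib.Forms.sympBilin_apply, g, Matrix.toLin'_apply]
        exact CfsgLib.Forms.mem_symplecticGroup_iff_form.mp h.2 u v)
      hg hr2 hrF (cast_card_ne_zero hrp) hc (invBy_top (g := g))
      (fun w _ hw => by
        by_contra hall
        push Not at hall
        exact hw (CfsgLib.Forms.sympBilin_nondegenerate.1 w fun y => hall y trivial))
    rw [finrank_top, CfsgLib.Forms.finrank_sympSpace, hm] at hk
    have hk0 : finrank F (fixedIn g ⊤) = 0 := by
      rcases Nat.eq_zero_or_pos k with rfl | hk1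
      · exfalso
        rw [Nat.zero_mul, Nat.add_zero] at hk
        have : fixedIn g (⊤ : Submodule F (Fin m ⊕ Fin m → F)) = ⊤ := Submodule.eq_top_of_finrank_eq
          (by rw [← hk, CfsgLib.Forms.finrank_sympSpace, hm])
        refine hh1 (Subtype.ext (Matrix.toLin'.injective (LinearMap.ext fun v => ?_)))
        rw [OneMemClass.coe_one, Matrix.toLin'_one]
        exact (mem_fixedIn.mp (this.ge (Submodule.mem_top (x := v)))).2
      · have := Nat.le_mul_of_pos_left c hk1
        omega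
    intro v hv
    exact (Submodule.eq_bot_iff _).mp (Submodule.finrank_eq_zero.mp hk0) v (mem_fixedIn.mpr ⟨trivial, hv⟩)
  obtain ⟨H, hH, hHf⟩ := exists_free_block h hh hfree j
  have hjm : j * m ≤ d := by
    rw [← hm, ← Nat.mul_assoc, Nat.mul_comm j 2, Nat.mul_assoc] at hj
    omega
  let E : Fin (j * m) ⊕ Fin (d - j * m) ≃ Fin d := finSumFinEquiv.trans (finCongr (Nat.add_sub_cancel' hjm))
  refine ⟨CfsgLib.SpSum.blk E (H, 1), by rw [← map_pow, Prod.pow_mk, hH, one_pow, Prod.mk_one_one, map_one], ?_⟩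
  let ι : (Fin (d - j * m) ⊕ Fin (d - j * m) → F) →ₗ[F] (Fin d ⊕ Fin d → F) :=
    { toFun := fun f => Sum.elim 0 f ∘ (CfsgLib.SpSum.shuffle E).symm
      map_add' := fun f f' => funext fun w => by
        rcases hw : (CfsgLib.SpSum.shuffle E).symm w with s | s <;> simp [hw]
      map_smul' := fun a f => funext fun w => by
        rcases hw : (CfsgLib.SpSum.shuffle E).symm w with s | s <;> simp [hw] }
  have hι : Function.Injective ι := fun f f' e => funext fun s => by
    simpa [ι] using congrFun e (CfsgLib.SpSum.shuffle E (Sum.inr s))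
  have hfix : fixedIn (Matrix.toLin' ((CfsgLib.SpSum.blk E (H, 1) : ↥(Matrix.symplecticGroup (Fin d) F)) :
      Matrix (Fin d ⊕ Fin d) (Fin d ⊕ Fin d) F)) ⊤ = LinearMap.range ι := by
    ext v
    rw [mem_fixedIn, Matrix.toLin'_apply, blk_mulVec]
    simp only [Submodule.mem_top, true_and, LinearMap.mem_range]
    constructor
    · intro hv
      have h1 := congrArg (fun f => f ∘ CfsgLib.SpSum.shuffle E) hv
      simp only [Function.comp_assoc, Equiv.symm_comp_self, Function.comp_id] at h1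
      have hl := hHf _ (funext fun w => congrFun h1 (Sum.inl w))
      refine ⟨v ∘ CfsgLib.SpSum.shuffle E ∘ Sum.inr, funext fun w => ?_⟩
      obtain ⟨s, rfl⟩ := (CfsgLib.SpSum.shuffle E).surjective w
      rcases s with s | s
      · simpa [ι] using (congrFun hl s).symm
      · simp [ι]
    · rintro ⟨f, rfl⟩
      funext w
      obtain ⟨s, rfl⟩ := (CfsgLib.SpSum.shuffle E).surjective w
      rcases s with s | s
      · simp [ι, Function.comp_def, show (fun _ : Fin (j * m) ⊕ Fin (j * m) => (0 : F)) = 0 from rfl]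
      · simp [ι, Function.comp_def]
  rw [hfix, LinearMap.finrank_range_of_inj hι, Module.finrank_fintype_fun_eq_card, Fintype.card_sum, Fintype.card_fin,
    ← hm, ← Nat.mul_assoc, Nat.mul_comm j 2, Nat.mul_assoc]
  omega

/-- An orthogonal decomposition into nondegenerate subspaces of dimension `a`. -/
def IsSympDecomp (d a t : ℕ) (D : Fin t → Submodule F (Fin d ⊕ Fin d → F)) : Prop :=
  Cfsg.Geo.IsMDecomposition a D ∧ (∀ j, ∀ u ∈ D j, u ≠ 0 → ∃ v ∈ D j, Cfsg.sympForm d F u v ≠ 0) ∧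
    ∀ j j', j ≠ j' → ∀ u ∈ D j, ∀ v ∈ D j', Cfsg.sympForm d F u v = 0

omit [Fintype F] in
/-- A basis adapted to a decomposition with standard pairings. -/
theorem exists_decomp_basis {d h t : ℕ} (hd : 2 * d = (2 * h) * t) {D : Fin t → Submodule F (Fin d ⊕ Fin d → F)}
    (hD : IsSympDecomp d (2 * h) t D) :
    ∃ b : Basis (Fin t × Fin 2 × Fin h) F (Fin d ⊕ Fin d → F), (∀ p, b p ∈ D p.1) ∧
      ∀ p p', CfsgLib.Forms.sympBilin d F (b p) (b p') =
        if p.1 = p'.1 ∧ p.2.2 = p'.2.2 then ![![(0 : F), 1], ![-1, 0]] p.2.1 p'.2.1 else 0 := by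
  classical
  set B := CfsgLib.Forms.sympBilin d F
  have hA : B.IsAlt := CfsgLib.Forms.sympBilin_isAlt
  have hB : ∀ u v, B u v = Cfsg.sympForm d F u v := CfsgLib.Forms.sympBilin_apply
  have key : ∀ j, ∃ u v : Fin h → (Fin d ⊕ Fin d → F), (∀ k, u k ∈ D j ∧ v k ∈ D j) ∧
      (∀ k l, B (u k) (u l) = 0) ∧ (∀ k l, B (v k) (v l) = 0) ∧ ∀ k l, B (u k) (v l) = if k = l then 1 else 0 := by
    intro j
    obtain ⟨u, v, h1, h2, h3, h4, -⟩ := exists_pair_frame hA (g := LinearMap.id) (fun _ _ => rfl) (z := 1) one_ne_zero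
      (fun v => (one_smul F v).symm) (fun _ _ => True)
      (fun u v _ => ⟨Submodule.subset_span (by simp), Submodule.subset_span (by simp)⟩)
      (fun W _ hW hne c _ => by
        obtain ⟨u, hu, hu0⟩ := (Submodule.ne_bot_iff _).mp hne
        obtain ⟨y, hy, huy⟩ := hW u hu hu0
        exact ⟨u, hu, (c / B u y) • y, W.smul_mem _ hy, by rw [map_smul, smul_eq_mul, div_mul_cancel₀ _ huy], trivial⟩)
      (m := h) (D j) (fun w hw => hw) (fun w hw hw0 => by
        obtain ⟨y, hy, hwy⟩ := hD.2.1 j w hw hw0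
        exact ⟨y, hy, by rwa [hB]⟩) (hD.1.finrank_eq j) (fun _ => 1) fun _ => one_ne_zero
    exact ⟨u, v, h1, h2, h3, h4⟩
  choose u v hmem huu hvv huv using key
  let col : Fin t × Fin 2 × Fin h → (Fin d ⊕ Fin d → F) := fun p => ![u p.1 p.2.2, v p.1 p.2.2] p.2.1
  have hcol : ∀ p, col p ∈ D p.1 := by
    rintro ⟨j, s, k⟩
    fin_cases s
    · exact (hmem j k).1
    · exact (hmem j k).2
  have hgram : ∀ p p', B (col p) (col p') =
      if p.1 = p'.1 ∧ p.2.2 = p'.2.2 then ![![(0 : F), 1], ![-1, 0]] p.2.1 p'.2.1 else 0 := by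
    rintro ⟨j, s, k⟩ ⟨j', s', k'⟩
    rcases eq_or_ne j j' with rfl | hj
    · have hvu : B (v j k) (u j k') = -if k' = k then 1 else 0 := by rw [pair_alt hA, huv]
      fin_cases s <;> fin_cases s' <;> simp [col, huu, hvv, huv, hvu, eq_comm]
      split_ifs <;> simp
    · rw [if_neg fun e => hj e.1, hB]
      exact hD.2.2 j j' hj _ (hcol (j, s, k)) _ (hcol (j', s', k'))
  have hli : LinearIndependent F col := by
    rw [Fintype.linearIndependent_iff]
    rintro c hc ⟨j, s, k⟩
    have h1 := congrArg (fun w => B w (col (j, 1 - s, k))) hc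
    simp only [map_sum, map_smul, LinearMap.sum_apply, LinearMap.smul_apply, hgram, map_zero, LinearMap.zero_apply,
      smul_eq_mul] at h1
    rw [Finset.sum_eq_single (j, s, k)] at h1
    · fin_cases s <;> simpa using h1
    · rintro ⟨j', s', k'⟩ - hne
      split_ifs with hcond
      · obtain ⟨e1, e2⟩ := hcond
        simp only at e1 e2
        subst e1; subst e2
        fin_cases s <;> fin_cases s' <;> first | exact absurd rfl hne | simp
      · exact mul_zero _
    · simp
  refine ⟨basisOfLinearIndependentOfCardEqFinrank' col hli ?_, fun p => ?_, fun p p' => ?_⟩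
  · rw [CfsgLib.Forms.finrank_sympSpace, hd]
    simp only [Fintype.card_prod, Fintype.card_fin]
    ring
  · rw [coe_basisOfLinearIndependentOfCardEqFinrank']; exact hcol p
  · rw [coe_basisOfLinearIndependentOfCardEqFinrank']; exact hgram p p'

/-- The number of unordered decompositions divides the order of the symplectic group. -/
theorem dvd_card_symp_decompositions {d a t : ℕ} (hat : 2 * d = a * t) (hae : Even a) (ha : 0 < a) (ht : 2 ≤ t)
    (hne : Nonempty {D : Fin t → Submodule F (Fin d ⊕ Fin d → F) // IsSympDecomp d a t D}) :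
    Nat.card {D : Fin t → Submodule F (Fin d ⊕ Fin d → F) // IsSympDecomp d a t D} / t.factorial ∣
      Nat.card (Matrix.symplecticGroup (Fin d) F) := by
  classical
  obtain ⟨h, rfl⟩ : ∃ h, a = 2 * h := ⟨a / 2, (Nat.two_mul_div_two_of_even hae).symm⟩
  let 𝒟 := {D : Fin t → Submodule F (Fin d ⊕ Fin d → F) // IsSympDecomp d (2 * h) t D}
  haveI : Finite (Submodule F (Fin d ⊕ Fin d → F)) :=
    Finite.of_injective (fun W => (W : Set (Fin d ⊕ Fin d → F))) SetLike.coe_injective
  haveI : Finite 𝒟 := Subtype.finite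
  haveI := Fintype.ofFinite 𝒟
  haveI := Fintype.ofFinite (Submodule F (Fin d ⊕ Fin d → F))
  have hinj : ∀ D : 𝒟, Function.Injective D.1 := by
    intro D j k hjk
    by_contra hne
    have h1 : Disjoint (D.1 j) (D.1 k) := D.2.1.indep.pairwiseDisjoint hne
    rw [hjk, disjoint_self] at h1
    have h2 := D.2.1.finrank_eq k
    rw [h1, finrank_bot] at h2
    omega
  have hfact : t.factorial ∣ Nat.card 𝒟 := by
    let img : 𝒟 → Finset (Submodule F (Fin d ⊕ Fin d → F)) := fun D => Finset.univ.image D.1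
    rw [Nat.card_eq_fintype_card, ← Finset.card_univ,
      Finset.card_eq_sum_card_image img (Finset.univ : Finset 𝒟)]
    refine Finset.dvd_sum fun s hs => ?_
    obtain ⟨D₀, -, rfl⟩ := Finset.mem_image.mp hs
    refine dvd_of_eq ?_
    let act : Equiv.Perm (Fin t) → 𝒟 := fun σ => ⟨fun j => D₀.1 (σ j),
      ⟨ht, ha, fun j => D₀.2.1.finrank_eq _, D₀.2.1.indep.comp σ.injective,
        (σ.surjective.iSup_comp D₀.1).trans D₀.2.1.iSup_eq_top⟩, fun j => D₀.2.2.1 _,
        fun j j' hjj => D₀.2.2.2 _ _ (σ.injective.ne hjj)⟩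
    have hact : ∀ D, img D = img D₀ ↔ ∃ σ, act σ = D := by
      intro D
      constructor
      · intro h
        have hex : ∀ j, ∃ k, D₀.1 k = D.1 j := fun j => by
          have : D.1 j ∈ img D₀ := h ▸ Finset.mem_image_of_mem _ (Finset.mem_univ j)
          obtain ⟨k, -, hk⟩ := Finset.mem_image.mp this
          exact ⟨k, hk⟩
        choose k hk using hex
        have hkinj : Function.Injective k := fun i j hij => hinj D (by rw [← hk, ← hk, hij])
        exact ⟨Equiv.ofBijective k (Finite.injective_iff_bijective.mp hkinj), Subtype.ext (funext hk)⟩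
      · rintro ⟨σ, rfl⟩
        ext x
        simp only [img, act, Finset.mem_image, Finset.mem_univ, true_and]
        exact ⟨fun ⟨i, hi⟩ => ⟨σ i, hi⟩, fun ⟨i, hi⟩ => ⟨σ.symm i, by simpa using hi⟩⟩
    have hact_inj : Function.Injective act := fun σ τ h => Equiv.ext fun j =>
      hinj D₀ (congrFun (congrArg Subtype.val h) j)
    rw [show (Finset.univ.filter fun D => img D = img D₀) = Finset.univ.image act by
      ext D; simp [hact],
      Finset.card_image_of_injective _ hact_inj, Finset.card_univ, Fintype.card_perm, Fintype.card_fin]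
  refine (Nat.div_dvd_of_dvd hfact).trans ?_
  rw [← card_spGL_eq]
  obtain ⟨D₀⟩ := hne
  letI : MulAction ↥(Cfsg.spGL d F) (Fin t → Submodule F (Fin d ⊕ Fin d → F)) :=
    { smul := fun g D j => (D j).map (Matrix.toLin' ((g : GL (Fin d ⊕ Fin d) F) : Matrix (Fin d ⊕ Fin d) (Fin d ⊕ Fin d) F))
      one_smul := fun D => funext fun j => by
        show (D j).map _ = D j
        rw [OneMemClass.coe_one, Units.val_one, Matrix.toLin'_one, Submodule.map_id]
      mul_smul := fun g g' D => funext fun j => by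
        show (D j).map _ = ((D j).map _).map _
        rw [Subgroup.coe_mul, Units.val_mul, Matrix.toLin'_mul, Submodule.map_comp] }
  have horb : MulAction.orbit ↥(Cfsg.spGL d F) D₀.1 = {D | IsSympDecomp d (2 * h) t D} := by
    ext D
    constructor
    · rintro ⟨g, rfl⟩
      set M := ((g : GL (Fin d ⊕ Fin d) F) : Matrix (Fin d ⊕ Fin d) (Fin d ⊕ Fin d) F)
      let e : (Fin d ⊕ Fin d → F) ≃ₗ[F] (Fin d ⊕ Fin d → F) := LinearEquiv.ofLinear (Matrix.toLin' M)
        (Matrix.toLin' (((g : GL (Fin d ⊕ Fin d) F)⁻¹ : GL (Fin d ⊕ Fin d) F) : Matrix (Fin d ⊕ Fin d) (Fin d ⊕ Fin d) F))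
        (by rw [← Matrix.toLin'_mul, ← Units.val_mul, mul_inv_cancel, Units.val_one, Matrix.toLin'_one])
        (by rw [← Matrix.toLin'_mul, ← Units.val_mul, inv_mul_cancel, Units.val_one, Matrix.toLin'_one])
      have hpres : ∀ u v, Cfsg.sympForm d F (e u) (e v) = Cfsg.sympForm d F u v := fun u v => g.2 u v
      refine ⟨⟨ht, ha, fun j => ?_, ?_, ?_⟩, ?_, ?_⟩
      · show finrank F ((D₀.1 j).map e.toLinearMap) = _
        rw [LinearEquiv.finrank_map_eq, D₀.2.1.finrank_eq]
      · show iSupIndep fun j => (D₀.1 j).map e.toLinearMap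
        exact D₀.2.1.indep.map_orderIso (Submodule.orderIsoMapComap e)
      · show ⨆ j, (D₀.1 j).map e.toLinearMap = ⊤
        rw [← Submodule.map_iSup, D₀.2.1.iSup_eq_top, Submodule.map_top, LinearEquiv.range]
      · rintro j _ ⟨u, hu, rfl⟩ hne
        obtain ⟨v, hv, huv⟩ := D₀.2.2.1 j u hu fun e0 => hne (by rw [e0, map_zero])
        exact ⟨_, ⟨v, hv, rfl⟩, (hpres u v).trans_ne huv⟩
      · rintro j j' hjj _ ⟨u, hu, rfl⟩ _ ⟨v, hv, rfl⟩
        exact (hpres u v).trans (D₀.2.2.2 j j' hjj u hu v hv)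
    · intro hD
      obtain ⟨b, hb, hbg⟩ := exists_decomp_basis hat D₀.2
      obtain ⟨b', hb', hbg'⟩ := exists_decomp_basis hat hD
      let f : (Fin d ⊕ Fin d → F) ≃ₗ[F] (Fin d ⊕ Fin d → F) := b.equiv b' (Equiv.refl _)
      have hf : ∀ u v, CfsgLib.Forms.sympBilin d F (f u) (f v) = CfsgLib.Forms.sympBilin d F u v := by
        have : (CfsgLib.Forms.sympBilin d F).compl₁₂ f.toLinearMap f.toLinearMap = CfsgLib.Forms.sympBilin d F :=
          b.ext fun p => b.ext fun p' => by simp [f, hbg, hbg']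
        exact fun u v => LinearMap.congr_fun₂ this u v
      let A : GL (Fin d ⊕ Fin d) F :=
        ⟨LinearMap.toMatrix' f.toLinearMap, LinearMap.toMatrix' f.symm.toLinearMap,
          by rw [← LinearMap.toMatrix'_comp]; simp, by rw [← LinearMap.toMatrix'_comp]; simp⟩
      have hAv : Matrix.toLin' (A : Matrix (Fin d ⊕ Fin d) (Fin d ⊕ Fin d) F) = f.toLinearMap :=
        Matrix.toLin'_toMatrix' _
      have hmem : A ∈ Cfsg.spGL d F := fun u v => by
        have h1 := hf u v
        simp only [CfsgLib.Forms.sympBilin_apply] at h1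
        show Cfsg.sympForm d F (Matrix.toLin' (A : Matrix (Fin d ⊕ Fin d) (Fin d ⊕ Fin d) F) u) _ = _
        rw [show Cfsg.glToMat (Fin d ⊕ Fin d) F A = (A : Matrix (Fin d ⊕ Fin d) (Fin d ⊕ Fin d) F) from rfl,
          ← Matrix.toLin'_apply, hAv]
        exact h1
      refine ⟨⟨A, hmem⟩, funext fun j => ?_⟩
      show (D₀.1 j).map (Matrix.toLin' _) = D j
      rw [hAv]
      have hspan : D₀.1 j = Submodule.span F (Set.range fun q : Fin 2 × Fin h => b (j, q)) := by
        refine (Submodule.eq_of_le_of_finrank_eq (Submodule.span_le.mpr ?_) ?_).symm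
        · rintro _ ⟨q, rfl⟩; exact hb (j, q)
        · rw [D₀.2.1.finrank_eq, show (fun q : Fin 2 × Fin h => b (j, q)) = b ∘ Prod.mk j from rfl,
            finrank_span_eq_card (b.linearIndependent.comp _ (Prod.mk_right_injective j)),
            Fintype.card_prod, Fintype.card_fin, Fintype.card_fin]
      refine Submodule.eq_of_le_of_finrank_eq ?_ (by rw [LinearEquiv.finrank_map_eq, D₀.2.1.finrank_eq, hD.1.finrank_eq])
      rw [hspan, Submodule.map_span, Submodule.span_le]
      rintro _ ⟨_, ⟨q, rfl⟩, rfl⟩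
      simp only [f, LinearEquiv.coe_coe, Basis.equiv_apply, Equiv.refl_apply]
      exact hb' (j, q)
  have h1 : Nat.card 𝒟 = Nat.card (MulAction.orbit ↥(Cfsg.spGL d F) D₀.1) := by rw [horb]; rfl
  rw [h1, Nat.card_congr (MulAction.orbitEquivQuotientStabilizer _ D₀.1)]
  exact Subgroup.index_dvd_card _

omit [Fintype F] in
theorem toLin_isometry {d : ℕ} (x : ↥(Matrix.symplecticGroup (Fin d) F)) (u v : Fin d ⊕ Fin d → F) :
    CfsgLib.Forms.sympBilin d F (Matrix.toLin' (x : Matrix (Fin d ⊕ Fin d) (Fin d ⊕ Fin d) F) u)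
      (Matrix.toLin' (x : Matrix (Fin d ⊕ Fin d) (Fin d ⊕ Fin d) F) v) = CfsgLib.Forms.sympBilin d F u v := by
  simp only [CfsgLib.Forms.sympBilin_apply, Matrix.toLin'_apply]
  exact CfsgLib.Forms.mem_symplecticGroup_iff_form.mp x.2 u v

omit [Fintype F] in
theorem sepOn_top {d : ℕ} : SepOn (CfsgLib.Forms.sympBilin d F) ⊤ := fun w _ hw => by
  by_contra hall
  push Not at hall
  exact hw (CfsgLib.Forms.sympBilin_nondegenerate.1 w fun y => hall y trivial)

omit [Fintype F] in
theorem toLin_pow {d : ℕ} (x : ↥(Matrix.symplecticGroup (Fin d) F)) (k : ℕ) :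
    (Matrix.toLin' (x : Matrix (Fin d ⊕ Fin d) (Fin d ⊕ Fin d) F) : Module.End F (Fin d ⊕ Fin d → F)) ^ k =
      Matrix.toLin' ((x ^ k : ↥(Matrix.symplecticGroup (Fin d) F)) : Matrix (Fin d ⊕ Fin d) (Fin d ⊕ Fin d) F) := by
  rw [SubmonoidClass.coe_pow]
  exact (map_pow Matrix.toLinAlgEquiv' (x : Matrix (Fin d ⊕ Fin d) (Fin d ⊕ Fin d) F) k).symm

omit [Fintype F] in
/-- An element of odd order `r` modulo scalars, scaled to have order `r`. -/
theorem exists_normalised (hr2 : r ≠ 2) {d : ℕ} (hd : 0 < d) (x : ↥(Matrix.symplecticGroup (Fin d) F))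
    (hxr : ∃ z : F, ((x ^ r : ↥(Matrix.symplecticGroup (Fin d) F)) : Matrix (Fin d ⊕ Fin d) (Fin d ⊕ Fin d) F) =
      z • (1 : Matrix (Fin d ⊕ Fin d) (Fin d ⊕ Fin d) F)) :
    ∃ g : Module.End F (Fin d ⊕ Fin d → F), g ^ r = 1 ∧
      (∀ u v, CfsgLib.Forms.sympBilin d F (g u) (g v) = CfsgLib.Forms.sympBilin d F u v) ∧
      (∃ z : F, z ≠ 0 ∧ g = z • Matrix.toLin' (x : Matrix (Fin d ⊕ Fin d) (Fin d ⊕ Fin d) F)) ∧
      ∀ W : Submodule F (Fin d ⊕ Fin d → F), InvBy g W →
        W.map (Matrix.toLin' (x : Matrix (Fin d ⊕ Fin d) (Fin d ⊕ Fin d) F)) = W := by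
  obtain ⟨z, hz⟩ := hxr
  set g0 : Module.End F (Fin d ⊕ Fin d → F) := Matrix.toLin' (x : Matrix (Fin d ⊕ Fin d) (Fin d ⊕ Fin d) F)
  have h0 : g0 ^ r = z • 1 := by
    rw [toLin_pow, hz, map_smul, Matrix.toLin'_one]
    rfl
  have hz1 : z * z = 1 := by
    set w : Fin d ⊕ Fin d → F := Pi.single (Sum.inl ⟨0, hd⟩) 1
    obtain ⟨y, hy⟩ : ∃ y, CfsgLib.Forms.sympBilin d F w y ≠ 0 := by
      obtain ⟨y, -, hy⟩ := sepOn_top (d := d) (F := F) w trivial (by simp [w])
      exact ⟨y, hy⟩
    have hk : ∀ (k : ℕ) u v, CfsgLib.Forms.sympBilin d F ((g0 ^ k) u) ((g0 ^ k) v) = CfsgLib.Forms.sympBilin d F u v := by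
      intro k
      induction k with
      | zero => intro u v; rfl
      | succ k ih => intro u v; rw [pow_succ', Module.End.mul_apply, Module.End.mul_apply, toLin_isometry, ih]
    have h1 := hk r w y
    rw [h0] at h1
    simp only [LinearMap.smul_apply, Module.End.one_apply, map_smul, smul_eq_mul] at h1
    exact mul_right_cancel₀ hy (by linear_combination h1)
  have hz0 : z ≠ 0 := left_ne_zero_of_mul_eq_one hz1
  refine ⟨z • g0, ?_, fun u v => ?_, ⟨z, hz0, rfl⟩, fun W hW => ?_⟩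
  · obtain ⟨k, hk⟩ := (Fact.out : r.Prime).odd_of_ne_two hr2
    rw [smul_pow, h0, smul_smul, ← pow_succ, hk, show 2 * k + 1 + 1 = (k + 1) * 2 by ring, pow_mul', pow_two, hz1,
      one_pow, one_smul]
  · simp only [LinearMap.smul_apply, map_smul, smul_eq_mul, g0, toLin_isometry]
    rw [← mul_assoc, hz1, one_mul]
  · refine Submodule.eq_of_le_of_finrank_eq ?_ ?_
    · rintro _ ⟨v, hv, rfl⟩
      exact ((InvBy.smul_iff hz0).mp hW) v hv
    · refine (Submodule.equivMapOfInjective g0 (fun u v e => ?_) W).finrank_eq.symm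
      have h1 : (g0 ^ r) u = (g0 ^ r) v := by
        rw [← Nat.sub_add_cancel (Fact.out : r.Prime).one_le, pow_succ, Module.End.mul_apply, Module.End.mul_apply, e]
      rw [h0, LinearMap.smul_apply, LinearMap.smul_apply, Module.End.one_apply, Module.End.one_apply] at h1
      exact smul_right_injective _ hz0 h1

omit [Fact r.Prime] in
/-- Mutually orthogonal nondegenerate subspaces of the right total dimension form a decomposition. -/
theorem isSympDecomp_of_orth {d a t : ℕ} (hat : 2 * d = a * t) (ha : 0 < a) (ht : 2 ≤ t)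
    {D : Fin t → Submodule F (Fin d ⊕ Fin d → F)} (hs : ∀ j, SepOn (CfsgLib.Forms.sympBilin d F) (D j))
    (hd : ∀ j, finrank F (D j) = a)
    (ho : ∀ j j', j ≠ j' → ∀ u ∈ D j, ∀ v ∈ D j', CfsgLib.Forms.sympBilin d F u v = 0) : IsSympDecomp d a t D := by
  classical
  have hind : iSupIndep D := fun j => by
    rw [disjoint_iff]
    refine sepOn_disjoint CfsgLib.Forms.sympBilin_isAlt (hs j) fun x hx y hy => ?_
    have hle : (⨆ (k) (_ : k ≠ j), D k) ≤ LinearMap.ker (CfsgLib.Forms.sympBilin d F x) :=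
      iSup₂_le fun k hk v hv => LinearMap.mem_ker.mpr (ho j k (Ne.symm hk) x hx v hv)
    exact LinearMap.mem_ker.mp (hle hy)
  refine ⟨⟨ht, ha, hd, hind, Submodule.eq_top_of_finrank_eq ?_⟩, fun j u hu hu0 => ?_, fun j j' hne u hu v hv => ?_⟩
  · rw [finrank_iSup_of_indep D hind, Finset.sum_congr rfl fun j _ => hd j, CfsgLib.Forms.finrank_sympSpace, hat,
      Finset.sum_const, Finset.card_univ, Fintype.card_fin, smul_eq_mul, mul_comm]
  · obtain ⟨v, hv, h⟩ := hs j u hu hu0
    exact ⟨v, hv, by rwa [← CfsgLib.Forms.sympBilin_apply]⟩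
  · rw [← CfsgLib.Forms.sympBilin_apply]; exact ho j j' hne u hu v hv

end CfsgLib.LinearElements
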