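import Cfsg.Agent.LinearElements.SympIsotropic
import Cfsg.Agent.LinearElements.SympPairs
import Cfsg.Agent.UnipotentForms.Models

/-!
Nondegenerate subspaces of a fixed dimension: transitivity, the primes dividing their number, and special elements.
-/

set_option autoImplicit false

namespace CfsgLib.LinearElements

open Module Matrix

variable {F : Type*} [Field F] {d : ℕ}

/-- An isometric image of a standard space is nondegenerate, of full dimension. -/
theorem range_iso_emb {h : ℕ} (f : (Fin h ⊕ Fin h → F) →ₗ[F] (Fin d ⊕ Fin d → F))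
    (hf : ∀ a b, CfsgLib.Forms.sympBilin d F (f a) (f b) = CfsgLib.Forms.sympBilin h F a b) :
    SepOn (CfsgLib.Forms.sympBilin d F) (LinearMap.range f) ∧ finrank F (LinearMap.range f) = 2 * h ∧
      Function.Injective f := by
  have hinj : Function.Injective f := by
    rw [← LinearMap.ker_eq_bot, Submodule.eq_bot_iff]
    intro a ha
    refine CfsgLib.Forms.sympBilin_nondegenerate.1 a fun b => ?_
    rw [← hf, LinearMap.mem_ker.mp ha, map_zero, LinearMap.zero_apply]
  refine ⟨?_, by rw [LinearMap.finrank_range_of_inj hinj, CfsgLib.Forms.finrank_sympSpace], hinj⟩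
  rintro _ ⟨a, rfl⟩ hne
  by_contra hall
  push Not at hall
  refine hne ?_
  rw [CfsgLib.Forms.sympBilin_nondegenerate.1 a fun b => (hf a b).symm.trans (hall _ ⟨b, rfl⟩), map_zero]

/-- A hyperbolic family gives an isometric embedding. -/
theorem exists_iso_emb {h : ℕ} {u v : Fin h → (Fin d ⊕ Fin d → F)}
    (huu : ∀ i j, CfsgLib.Forms.sympBilin d F (u i) (u j) = 0)
    (hvv : ∀ i j, CfsgLib.Forms.sympBilin d F (v i) (v j) = 0)
    (huv : ∀ i j, CfsgLib.Forms.sympBilin d F (u i) (v j) = if i = j then 1 else 0) :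
    ∃ f : (Fin h ⊕ Fin h → F) →ₗ[F] (Fin d ⊕ Fin d → F),
      (∀ a b, CfsgLib.Forms.sympBilin d F (f a) (f b) = CfsgLib.Forms.sympBilin h F a b) ∧
      LinearMap.range f = Submodule.span F (Set.range (Sum.elim v u)) := by
  refine ⟨Fintype.linearCombination F (Sum.elim v u), fun a b => ?_, Fintype.range_linearCombination F _⟩
  have hvu : ∀ i j, CfsgLib.Forms.sympBilin d F (v i) (u j) = if j = i then -1 else 0 := fun i j => by
    rw [pair_alt CfsgLib.Forms.sympBilin_isAlt, huv]; split_ifs <;> simp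
  conv_rhs => rw [CfsgLib.Forms.sympBilin_apply, CfsgLib.Forms.sympForm_eq_sum]
  simp only [Fintype.linearCombination_apply, Fintype.sum_sum_type, Sum.elim_inl, Sum.elim_inr, map_add, map_sum,
    map_smul, LinearMap.add_apply, LinearMap.sum_apply, LinearMap.smul_apply, huu, hvv, huv, hvu, smul_eq_mul]
  simp [Finset.sum_sub_distrib, mul_comm]
  try ring

/-- A nondegenerate subspace is an isometric image of the standard space. -/
theorem exists_iso_emb_eq {h : ℕ} {W : Submodule F (Fin d ⊕ Fin d → F)}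
    (hWs : SepOn (CfsgLib.Forms.sympBilin d F) W) (hdim : finrank F W = 2 * h) :
    ∃ f : (Fin h ⊕ Fin h → F) →ₗ[F] (Fin d ⊕ Fin d → F),
      (∀ a b, CfsgLib.Forms.sympBilin d F (f a) (f b) = CfsgLib.Forms.sympBilin h F a b) ∧ LinearMap.range f = W := by
  obtain ⟨u, v, hmem, h1, h2, h3, -⟩ := exists_pair_frame CfsgLib.Forms.sympBilin_isAlt (g := LinearMap.id)
    (fun _ _ => rfl) (z := 1) one_ne_zero (fun v => (one_smul F v).symm) (fun _ _ => True)
    (fun u v _ => ⟨Submodule.subset_span (by simp), Submodule.subset_span (by simp)⟩)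
    (fun W _ hW hne c _ => by
      obtain ⟨u, hu, hu0⟩ := (Submodule.ne_bot_iff _).mp hne
      obtain ⟨y, hy, huy⟩ := hW u hu hu0
      exact ⟨u, hu, (c / _) • y, W.smul_mem _ hy, by rw [map_smul, smul_eq_mul, div_mul_cancel₀ _ huy], trivial⟩)
    (m := h) W (fun w hw => hw) hWs hdim (fun _ => 1) fun _ => one_ne_zero
  obtain ⟨f, hf, hr⟩ := exists_iso_emb h1 h2 h3
  refine ⟨f, hf, Submodule.eq_of_le_of_finrank_eq ?_ ((range_iso_emb f hf).2.1.trans hdim.symm)⟩
  rw [hr, Submodule.span_le, Set.range_subset_iff]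
  rintro (i | i)
  · exact (hmem i).2
  · exact (hmem i).1

/-- The standard nondegenerate subspace. -/
theorem sepOn_ker_blkSnd {h k : ℕ} (E : Fin h ⊕ Fin k ≃ Fin d) :
    SepOn (CfsgLib.Forms.sympBilin d F) (LinearMap.ker (blkSnd (F := F) E)) ∧
      finrank F (LinearMap.ker (blkSnd (F := F) E)) = 2 * h := by
  have hd : h + k = d := by simpa using Fintype.card_congr E
  refine ⟨fun w hw hw0 => ?_, ?_⟩
  · rw [LinearMap.mem_ker] at hw
    have h1 : blkFst E w ≠ 0 := fun e => hw0 (blk_components_ext E (by rw [e, map_zero]) (by rw [hw, map_zero]))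
    obtain ⟨y, -, hy⟩ := sepOn_top (blkFst E w) trivial h1
    refine ⟨Sum.elim y 0 ∘ (CfsgLib.SpSum.shuffle E).symm, ?_, ?_⟩
    · rw [LinearMap.mem_ker]
      funext s
      simp [blkSnd, LinearMap.funLeft_apply]
    · rw [CfsgLib.Forms.sympBilin_apply] at hy ⊢
      rw [blk_form E, hw, show blkFst E (Sum.elim y 0 ∘ (CfsgLib.SpSum.shuffle E).symm) = y from
        funext fun s => by simp [blkFst, LinearMap.funLeft_apply]]
      simpa [← CfsgLib.Forms.sympBilin_apply] using hy
  · have h1 := LinearMap.finrank_range_add_finrank_ker (blkSnd (F := F) E)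
    rw [LinearMap.range_eq_top.mpr (show Function.Surjective (blkSnd (F := F) E) from
      LinearMap.funLeft_surjective_of_injective _ _ _ ((CfsgLib.SpSum.shuffle E).injective.comp Sum.inr_injective)),
      finrank_top, CfsgLib.Forms.finrank_sympSpace, CfsgLib.Forms.finrank_sympSpace] at h1
    omega

/-- The symplectic group is transitive on nondegenerate subspaces of a given dimension. -/
theorem exists_symp_map_nondeg {h k : ℕ} (E : Fin h ⊕ Fin k ≃ Fin d) {W : Submodule F (Fin d ⊕ Fin d → F)}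
    (hWs : SepOn (CfsgLib.Forms.sympBilin d F) W) (hdim : finrank F W = 2 * h) :
    ∃ M : ↥(Matrix.symplecticGroup (Fin d) F),
      (LinearMap.ker (blkSnd (F := F) E)).map (Matrix.toLin' (M : Matrix (Fin d ⊕ Fin d) (Fin d ⊕ Fin d) F)) = W := by
  have hA : (CfsgLib.Forms.sympBilin d F).IsAlt := CfsgLib.Forms.sympBilin_isAlt
  have hd : h + k = d := by simpa using Fintype.card_congr E
  set X := (CfsgLib.Forms.sympBilin d F).orthogonal W
  have horth : ∀ x ∈ W, ∀ y ∈ X, CfsgLib.Forms.sympBilin d F x y = 0 := fun x hx y hy => hy x hx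
  have hdis : Disjoint W X := disjoint_iff.mpr (sepOn_disjoint hA hWs horth)
  have hcompl := (LinearMap.BilinForm.isCompl_orthogonal_iff_disjoint hA.isRefl).mpr hdis
  have hXs : SepOn (CfsgLib.Forms.sympBilin d F) X := by
    intro y hy hy0
    obtain ⟨z, -, hyz⟩ := sepOn_top y trivial hy0
    obtain ⟨z1, hz1, z2, hz2, rfl⟩ := Submodule.mem_sup.mp (hcompl.sup_eq_top.ge (Submodule.mem_top (x := z)))
    refine ⟨z2, hz2, fun e => hyz ?_⟩
    rw [map_add, e, pair_alt hA, horth z1 hz1 y hy, neg_zero, add_zero]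
  have hXd : finrank F X = 2 * k := by
    have h1 := Submodule.finrank_add_eq_of_isCompl hcompl
    rw [hdim, CfsgLib.Forms.finrank_sympSpace] at h1
    show finrank F ↥((CfsgLib.Forms.sympBilin d F).orthogonal W) = _
    omega
  obtain ⟨f, hf, hfW⟩ := exists_iso_emb_eq hWs hdim
  obtain ⟨f', hf', hfX⟩ := exists_iso_emb_eq hXs hXd
  set T := f ∘ₗ blkFst E + f' ∘ₗ blkSnd E
  have hT : ∀ u v, CfsgLib.Forms.sympBilin d F (T u) (T v) = CfsgLib.Forms.sympBilin d F u v := fun u v => by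
    have hW' : ∀ a, f a ∈ W := fun a => hfW ▸ LinearMap.mem_range_self f a
    have hX' : ∀ a, f' a ∈ X := fun a => hfX ▸ LinearMap.mem_range_self f' a
    simp only [T, LinearMap.add_apply, LinearMap.comp_apply, map_add, hf, hf']
    rw [horth _ (hW' _) _ (hX' _), pair_alt hA (f' _) (f _), horth _ (hW' _) _ (hX' _), neg_zero, add_zero, zero_add]
    simp only [CfsgLib.Forms.sympBilin_apply]
    exact (blk_form E u v).symm
  have hmem : LinearMap.toMatrix' T ∈ Matrix.symplecticGroup (Fin d) F :=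
    CfsgLib.Forms.mem_symplecticGroup_iff_form.mpr fun u v => by
      rw [← Matrix.toLin'_apply, ← Matrix.toLin'_apply, Matrix.toLin'_toMatrix', ← CfsgLib.Forms.sympBilin_apply,
        ← CfsgLib.Forms.sympBilin_apply, hT]
  refine ⟨⟨_, hmem⟩, ?_⟩
  rw [Matrix.toLin'_toMatrix']
  obtain ⟨-, hk⟩ := sepOn_ker_blkSnd (F := F) E
  refine Submodule.eq_of_le_of_finrank_eq ?_ ?_
  · rintro _ ⟨v, hv, rfl⟩
    rw [SetLike.mem_coe, LinearMap.mem_ker] at hv
    rw [← hfW]
    exact ⟨blkFst E v, by simp [T, hv]⟩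
  · rw [hdim, ← hk]
    exact (Submodule.equivMapOfInjective _ (range_iso_emb T hT).2.2 _).finrank_eq.symm

/-- The number of nondegenerate subspaces times the order of the complementary group divides the group order. -/
theorem dvd_card_nondeg [Fintype F] {h k : ℕ} (E : Fin h ⊕ Fin k ≃ Fin d) :
    Nat.card {W : Submodule F (Fin d ⊕ Fin d → F) // finrank F W = 2 * h ∧ SepOn (CfsgLib.Forms.sympBilin d F) W} *
      Nat.card (Matrix.symplecticGroup (Fin k) F) ∣ Nat.card (Matrix.symplecticGroup (Fin d) F) := by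
  classical
  let G := ↥(Matrix.symplecticGroup (Fin d) F)
  let act : MulAction G (Submodule F (Fin d ⊕ Fin d → F)) :=
    { smul := fun g W => W.map (Matrix.toLin' (g : Matrix (Fin d ⊕ Fin d) (Fin d ⊕ Fin d) F))
      one_smul := fun W => by
        show W.map _ = W
        rw [OneMemClass.coe_one, Matrix.toLin'_one, Submodule.map_id]
      mul_smul := fun g g' W => by
        show W.map _ = (W.map _).map _
        rw [Submonoid.coe_mul, Matrix.toLin'_mul, Submodule.map_comp] }
  letI := act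
  set W0 := LinearMap.ker (blkSnd (F := F) E)
  obtain ⟨hW0s, hW0d⟩ := sepOn_ker_blkSnd (F := F) E
  have horb : MulAction.orbit G W0 =
      {W : Submodule F (Fin d ⊕ Fin d → F) | finrank F W = 2 * h ∧ SepOn (CfsgLib.Forms.sympBilin d F) W} := by
    ext W
    constructor
    · rintro ⟨g, rfl⟩
      have hinj := (range_iso_emb _ (toLin_isometry g)).2.2
      refine ⟨(Submodule.equivMapOfInjective _ hinj W0).finrank_eq.symm.trans hW0d, ?_⟩
      rintro _ ⟨w, hw, rfl⟩ hne
      obtain ⟨y, hy, hwy⟩ := hW0s w hw fun e => hne (by rw [e, map_zero])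
      exact ⟨_, ⟨y, hy, rfl⟩, by rwa [toLin_isometry]⟩
    · rintro ⟨hd, hs⟩
      obtain ⟨M, hM⟩ := exists_symp_map_nondeg E hs hd
      exact ⟨M, hM⟩
  let φ : ↥(Matrix.symplecticGroup (Fin k) F) →* ↥(MulAction.stabilizer G W0) :=
    ((CfsgLib.SpSum.blk E).comp (MonoidHom.inr _ _)).codRestrict _ fun C => by
      rw [MulAction.mem_stabilizer_iff]
      show W0.map (Matrix.toLin' ((CfsgLib.SpSum.blk E (1, C) : G) : Matrix (Fin d ⊕ Fin d) (Fin d ⊕ Fin d) F)) = W0
      refine Submodule.eq_of_le_of_finrank_eq ?_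
        (Submodule.equivMapOfInjective _ (range_iso_emb _ (toLin_isometry _)).2.2 _).finrank_eq.symm
      rintro _ ⟨v, hv, rfl⟩
      rw [SetLike.mem_coe, LinearMap.mem_ker] at hv
      rw [LinearMap.mem_ker, blkSnd_apply, hv, map_zero]
  have hφ : Function.Injective φ := fun a b hab => by
    have h1 := congrArg Subtype.val hab
    exact congrArg Prod.snd (CfsgLib.SpSum.blk_injective _ h1)
  have h1 : Nat.card {W : Submodule F (Fin d ⊕ Fin d → F) //
      finrank F W = 2 * h ∧ SepOn (CfsgLib.Forms.sympBilin d F) W} = (MulAction.stabilizer G W0).index := by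
    rw [show Nat.card {W : Submodule F (Fin d ⊕ Fin d → F) //
      finrank F W = 2 * h ∧ SepOn (CfsgLib.Forms.sympBilin d F) W} = Nat.card (MulAction.orbit G W0) by rw [horb]; rfl]
    exact Nat.card_congr (MulAction.orbitEquivQuotientStabilizer _ W0)
  rw [h1, ← Subgroup.index_mul_card (MulAction.stabilizer G W0)]
  exact mul_dvd_mul_left _ (Subgroup.card_dvd_of_injective φ hφ)

/-- A prime other than the characteristic dividing the number of nondegenerate subspaces. -/
theorem exists_level_of_dvd_nondeg [Fintype F] {p r : ℕ} [Fact p.Prime] [CharP F p] [Fact r.Prime] (hrp : r ≠ p)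
    {h k : ℕ} (E : Fin h ⊕ Fin k ≃ Fin d)
    (hdvd : r ∣ Nat.card {W : Submodule F (Fin d ⊕ Fin d → F) //
      finrank F W = 2 * h ∧ SepOn (CfsgLib.Forms.sympBilin d F) W}) :
    r ∣ Nat.card (Matrix.symplecticGroup (Fin d) F) ∧
      ∃ l, k < l ∧ l ≤ d ∧ orderOf (Fintype.card F : ZMod r) ∣ 2 * l := by
  have hr := (Fact.out : r.Prime)
  have hkd : k ≤ d := by
    have : h + k = d := by simpa using Fintype.card_congr E
    omega
  have h0 := dvd_card_nondeg (F := F) E
  refine ⟨hdvd.trans (dvd_of_mul_right_dvd h0), ?_⟩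
  obtain ⟨f, -, hf⟩ := FiniteField.card F p
  set q := Fintype.card F
  have hq1 : 1 < q := Fintype.one_lt_card
  rw [CfsgLib.Forms.card_symplecticGroup, CfsgLib.Forms.card_symplecticGroup,
    ← Finset.prod_range_mul_prod_Ico (fun i => q ^ (2 * (i + 1)) - 1) hkd] at h0
  set N := Nat.card {W : Submodule F (Fin d ⊕ Fin d → F) //
    finrank F W = 2 * h ∧ SepOn (CfsgLib.Forms.sympBilin d F) W}
  have hpos : 0 < ∏ i ∈ Finset.range k, (q ^ (2 * (i + 1)) - 1) :=
    Finset.prod_pos fun i _ => Nat.sub_pos_of_lt (Nat.one_lt_pow (by omega) hq1)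
  have h1 : N * q ^ (k ^ 2) ∣ q ^ (d ^ 2) * ∏ i ∈ Finset.Ico k d, (q ^ (2 * (i + 1)) - 1) :=
    Nat.dvd_of_mul_dvd_mul_right hpos (by
      convert h0 using 1
      · ring
      · ring)
  rcases hr.dvd_mul.mp (hdvd.trans ((dvd_mul_right N _).trans h1)) with h2 | h2
  · exfalso
    have h3 := hr.dvd_of_dvd_pow h2
    rw [hf] at h3
    exact hrp ((Nat.prime_dvd_prime_iff_eq hr Fact.out).mp (hr.dvd_of_dvd_pow h3))
  · obtain ⟨i, hi, h3⟩ := hr.prime.exists_mem_finset_dvd h2
    rw [Finset.mem_Ico] at hi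
    refine ⟨i + 1, by omega, by omega, orderOf_dvd_of_pow_eq_one ?_⟩
    rw [← ZMod.natCast_eq_zero_iff, Nat.cast_sub (Nat.one_le_pow _ _ (by omega)), Nat.cast_pow, Nat.cast_one,
      sub_eq_zero] at h3
    exact h3

/-- In characteristic two, a transvection-like involution all whose invariant nondegenerate subspaces have dimension
divisible by four. -/
theorem exists_char_two_counter [Fintype F] (h2 : (2 : F) = 0) (hde : Even d) (hd : 0 < d) :
    ∃ x : ↥(Matrix.symplecticGroup (Fin d) F), x ^ 2 = 1 ∧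
      (∀ z : F, (x : Matrix (Fin d ⊕ Fin d) (Fin d ⊕ Fin d) F) ≠ z • 1) ∧
      ∀ W : Submodule F (Fin d ⊕ Fin d → F), SepOn (CfsgLib.Forms.sympBilin d F) W →
        InvBy (Matrix.toLin' (x : Matrix (Fin d ⊕ Fin d) (Fin d ⊕ Fin d) F)) W → 4 ∣ finrank F W := by
  classical
  obtain ⟨e, rfl⟩ := hde
  let E : Fin e ⊕ Fin e ≃ Fin (e + e) := finSumFinEquiv
  set S : Matrix (Fin (e + e)) (Fin (e + e)) F := (Matrix.J (Fin e) F).submatrix E.symm E.symm
  have hneg : ∀ a : F, -a = a := fun a => by linear_combination (-a) * h2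
  have hST : Sᵀ = S := by
    rw [Matrix.transpose_submatrix, Matrix.J_transpose]
    ext i j
    simp [hneg, S]
  have hSdot : ∀ b : Fin (e + e) → F, b ⬝ᵥ S *ᵥ b = 0 := fun b => by
    rw [Matrix.submatrix_mulVec_equiv, dotProduct_comp_equiv_symm, Equiv.symm_symm]
    exact CfsgLib.Forms.sympForm_self (b ∘ E)
  have hSinj : ∀ b, S *ᵥ b = 0 → b = 0 := fun b hb => by
    have hu : IsUnit S := by
      rw [Matrix.isUnit_iff_isUnit_det, Matrix.det_submatrix_equiv_self]
      exact Matrix.isUnit_det_J _ _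
    exact Matrix.mulVec_injective_iff_isUnit.mpr hu (by rw [hb, Matrix.mulVec_zero])
  set X : Matrix (Fin (e + e) ⊕ Fin (e + e)) (Fin (e + e) ⊕ Fin (e + e)) F := Matrix.fromBlocks 1 S 0 1
  have hmem : X ∈ Matrix.symplecticGroup (Fin (e + e)) F := by
    rw [SymplecticGroup.mem_iff', Matrix.fromBlocks_transpose, Matrix.J, Matrix.fromBlocks_multiply,
      Matrix.fromBlocks_multiply]
    simp [hST]
  have hX2 : X * X = 1 := by
    rw [Matrix.fromBlocks_multiply, ← Matrix.fromBlocks_one]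
    simp only [Matrix.one_mul, Matrix.mul_one, Matrix.mul_zero, Matrix.zero_mul, add_zero, zero_add]
    congr 1
    ext i j
    rw [Matrix.add_apply, Matrix.zero_apply]
    linear_combination (S i j) * h2
  set g : Module.End F (Fin (e + e) ⊕ Fin (e + e) → F) := Matrix.toLin' X
  have hN : ∀ v, (g - 1) v = Sum.elim (S *ᵥ (v ∘ Sum.inr)) 0 := fun v => by
    rw [LinearMap.sub_apply, Module.End.one_apply, Matrix.toLin'_apply, Matrix.fromBlocks_mulVec]
    funext w
    rcases w with w | w <;> simp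
  refine ⟨⟨X, hmem⟩, Subtype.ext (by rw [SubmonoidClass.coe_pow, pow_two, hX2]; rfl), fun z hz => ?_,
    fun W hWs hW => ?_⟩
  · have h1 : ∀ b, S *ᵥ b = 0 := fun b => by
      have h0 := hN (Sum.elim 0 b)
      rw [LinearMap.sub_apply, Module.End.one_apply, Matrix.toLin'_apply, show X = z • 1 from hz,
        Matrix.smul_mulVec, Matrix.one_mulVec] at h0
      funext i
      simpa using (congrFun h0 (Sum.inl i)).symm
    exact one_ne_zero (congrFun (hSinj _ (h1 1)) ⟨0, hd⟩)
  set B := CfsgLib.Forms.sympBilin (e + e) F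
  have hA : B.IsAlt := CfsgLib.Forms.sympBilin_isAlt
  set N : Module.End F (Fin (e + e) ⊕ Fin (e + e) → F) := g - 1
  let β : LinearMap.BilinForm F (Fin (e + e) ⊕ Fin (e + e) → F) := B.compl₂ N
  have hβ : ∀ u v, β u v = (u ∘ Sum.inr) ⬝ᵥ S *ᵥ (v ∘ Sum.inr) := fun u v => by
    show B u (N v) = _
    rw [hN, CfsgLib.Forms.sympBilin_apply, CfsgLib.Forms.sympForm_eq_sum]
    simp [dotProduct]
  have hβA : β.IsAlt := fun v => by rw [hβ]; exact hSdot _
  have hker : ∀ v, v ∈ LinearMap.ker N → v ∘ Sum.inr = 0 := fun v hv => hSinj _ (by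
    rw [LinearMap.mem_ker, hN] at hv
    funext i
    exact congrFun hv (Sum.inl i))
  have hiso : ∀ u ∈ LinearMap.ker N, ∀ v ∈ LinearMap.ker N, B u v = 0 := fun u hu v hv => by
    rw [CfsgLib.Forms.sympBilin_apply, CfsgLib.Forms.sympForm_eq_sum]
    refine Finset.sum_eq_zero fun i _ => ?_
    rw [show u (Sum.inr i) = 0 from congrFun (hker u hu) i, show v (Sum.inr i) = 0 from congrFun (hker v hv) i]
    ring
  have hNN : ∀ v, N (N v) = 0 := fun v => by
    rw [hN, hN]
    funext w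
    rcases w with w | w <;> simp [Function.comp_def, show (fun _ : Fin (e + e) => (0 : F)) = 0 from rfl]
  have hWN : ∀ v ∈ W, N v ∈ W := fun v hv => W.sub_mem (hW v hv) hv
  set K := W ⊓ LinearMap.ker N
  obtain ⟨T', hT'⟩ := exists_isCompl K
  set T := T' ⊓ W
  have hKT : K ⊔ T = W := by
    rw [← sup_inf_assoc_of_le _ inf_le_left, hT'.sup_eq_top, top_inf_eq]
  have hKTd : finrank F K + finrank F T = finrank F W := by
    have h1 := Submodule.finrank_sup_add_finrank_inf_eq K T
    rw [hKT, show K ⊓ T = ⊥ from le_bot_iff.mp ((inf_le_inf_left _ inf_le_left).trans hT'.inf_eq_bot.le),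
      finrank_bot, Nat.add_zero] at h1
    omega
  have hTinj : ∀ t ∈ T, N t = 0 → t = 0 := fun t ht h0 =>
    (Submodule.eq_bot_iff _).mp hT'.inf_eq_bot t ⟨⟨ht.2, h0⟩, ht.1⟩
  have hTs : SepOn β T := fun w hw hw0 => by
    obtain ⟨y, hy, hyw⟩ := hWs _ (hWN w hw.2) fun e => hw0 (hTinj w hw e)
    rw [← hKT] at hy
    obtain ⟨k, hk, t, ht, rfl⟩ := Submodule.mem_sup.mp hy
    refine ⟨t, ht, fun e => hyw ?_⟩
    rw [map_add, hiso _ (LinearMap.mem_ker.mpr (hNN w)) k hk.2, zero_add, pair_alt hA]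
    rw [pair_alt hβA] at e
    exact e
  have hle1 : finrank F T ≤ finrank F K := by
    refine LinearMap.finrank_le_finrank_of_injective
      (f := ((N.domRestrict T).codRestrict K fun t => ⟨hWN _ t.2.2, LinearMap.mem_ker.mpr (hNN _)⟩)) ?_
    rw [← LinearMap.ker_eq_bot, Submodule.eq_bot_iff]
    intro t ht
    exact Subtype.ext (hTinj _ t.2 (congrArg Subtype.val (LinearMap.mem_ker.mp ht)))
  have hle2 : finrank F K ≤ finrank F T := by
    rw [← Subspace.dual_finrank_eq (V := T)]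
    refine LinearMap.finrank_le_finrank_of_injective (f := (B.compl₂ T.subtype).domRestrict K) ?_
    rw [← LinearMap.ker_eq_bot, Submodule.eq_bot_iff]
    intro k hk
    by_contra hk0
    obtain ⟨y, hy, hky⟩ := hWs _ k.2.1 fun e => hk0 (Subtype.ext e)
    rw [← hKT] at hy
    obtain ⟨k', hk', t, ht, rfl⟩ := Submodule.mem_sup.mp hy
    refine hky ?_
    rw [map_add, hiso _ k.2.2 k' hk'.2, zero_add]
    exact LinearMap.congr_fun (LinearMap.mem_ker.mp hk) ⟨t, ht⟩
  obtain ⟨j, hj⟩ := even_finrank_sepOn hβA hTs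
  exact ⟨j, by omega⟩

/-- A symplectic element with a given type. -/
theorem exists_symp_of_type {μ : Multiset ℕ} (hpos : ∀ a ∈ μ, 1 ≤ a) (hev : ∀ a : ℕ, Odd a → Even (μ.count a))
    (hsum : μ.sum = 2 * d) :
    ∃ x : ↥(Matrix.symplecticGroup (Fin d) F),
      ∀ k, (((x : Matrix (Fin d ⊕ Fin d) (Fin d ⊕ Fin d) F) - 1) ^ k).rank = (μ.map fun j => j - k).sum := by
  classical
  obtain ⟨n, H, U, hH, hU, -, hr⟩ : CfsgLib.UnipotentForms.Occ F (-1 : F) μ := by
    refine CfsgLib.UnipotentForms.occ_of_even (by ring) (fun j => Even j) (fun j hj h1 => ?_) _ hpos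
      fun j hj => hev j (Nat.not_even_iff_odd.1 hj)
    obtain ⟨k, rfl⟩ := hj
    rw [← two_mul]
    exact CfsgLib.UnipotentForms.occ_single_alt (by omega)
  have hn : n = 2 * d := by
    rw [← hsum]
    simpa using hr 0
  obtain ⟨e, P, hP, hPJ⟩ := CfsgLib.UnipotentForms.exists_congr_J hH (m := d) (by simpa using hn)
  have hPd := (Matrix.isUnit_iff_isUnit_det _).1 hP
  set G := Matrix.reindex e e H
  set U' := Matrix.reindex e e U
  have hU' : U'ᵀ * G * U' = G := CfsgLib.UnipotentForms.isometry_reindex e hU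
  have hPP : P * P⁻¹ = 1 := Matrix.mul_nonsing_inv _ hPd
  have hmem : P⁻¹ * U' * P ∈ Matrix.symplecticGroup (Fin d) F := by
    rw [SymplecticGroup.mem_iff', ← hPJ]
    calc (P⁻¹ * U' * P)ᵀ * (Pᵀ * G * P) * (P⁻¹ * U' * P)
        = Pᵀ * U'ᵀ * ((P * P⁻¹)ᵀ) * G * (P * P⁻¹) * U' * P := by
          simp only [Matrix.transpose_mul, Matrix.mul_assoc]
      _ = Pᵀ * (U'ᵀ * G * U') * P := by rw [hPP, Matrix.transpose_one]; simp [Matrix.mul_assoc]
      _ = _ := by rw [hU']
  refine ⟨⟨_, hmem⟩, fun k => ?_⟩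
  have hPP' : P⁻¹ * P = 1 := Matrix.nonsing_inv_mul _ hPd
  let u : (Matrix (Fin d ⊕ Fin d) (Fin d ⊕ Fin d) F)ˣ := ⟨P⁻¹, P, hPP', hPP⟩
  have h1 : P⁻¹ * U' * P - 1 = (u : Matrix (Fin d ⊕ Fin d) (Fin d ⊕ Fin d) F) * (U' - 1) * (↑u⁻¹ : Matrix _ _ F) := by
    show _ = P⁻¹ * (U' - 1) * P
    rw [Matrix.mul_sub, Matrix.sub_mul, Matrix.mul_one, hPP']
  show ((P⁻¹ * U' * P - 1) ^ k).rank = _
  rw [h1, Units.conj_pow, show (U' - 1) ^ k = Matrix.reindex e e ((U - 1) ^ k) by
      rw [← Matrix.coe_reindexAlgEquiv F F, map_pow, map_sub, map_one]; rfl]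
  show (P⁻¹ * _ * P).rank = _
  rw [Matrix.rank_mul_eq_left_of_isUnit_det _ _ hPd,
    Matrix.rank_mul_eq_right_of_isUnit_det _ _ (Matrix.isUnit_nonsing_inv_det _ hPd), Matrix.rank_reindex, hr]

end CfsgLib.LinearElements
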