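import Cfsg.Agent.LinearElements.SympIsotropic
import Cfsg.Agent.LinearElements.TwistedForms

/-!
The types of smallest blocks for even `i`, and the split of an isotropic invariant subspace into fixed and moved part.
-/

set_option autoImplicit false

namespace CfsgLib.LinearElements

open Matrix Module Polynomial

variable {F : Type*} [Field F] [Fintype F] {r : ℕ} [Fact r.Prime]

omit [Fintype F] in
theorem aeval_toLin_eq_zero {l : ℕ} (A : Matrix (Fin l ⊕ Fin l) (Fin l ⊕ Fin l) F) {f : F[X]} (h : aeval A f = 0) :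
    aeval (Matrix.toLin' A : Module.End F (Fin l ⊕ Fin l → F)) f = 0 :=
  (Polynomial.aeval_algHom_apply (Matrix.toLinAlgEquiv' (R := F) (n := Fin l ⊕ Fin l)).toAlgHom A f).trans
    (by rw [h, map_zero])

/-- The eigenvalues of a smallest block form one orbit when `i` is even. -/
theorem atom_orbit {m : ℕ} (hm : 2 * m = orderOf (Fintype.card F : ZMod r))
    (hq : (Fintype.card F : ZMod r) ≠ 0)
    {h : Matrix (Fin m ⊕ Fin m) (Fin m ⊕ Fin m) F} {L : Type*} [Field L] [Finite L] [Algebra F L]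
    {H H' : Matrix (Fin m ⊕ Fin m) (Fin m ⊕ Fin m) L} {l : Fin m ⊕ Fin m → L} (e1 : H * H' = 1) (e2 : H' * H = 1)
    (e3 : h.map (algebraMap F L) * H = H * Matrix.diagonal l) (hinj : Function.Injective l)
    (hord : ∀ v, orderOf (l v) = r) (v w : Fin m ⊕ Fin m) : ∃ k : ℕ, l w = l v ^ (Fintype.card F ^ k) := by
  classical
  set φ := algebraMap F L
  let σ := (FiniteField.frobeniusAlgHom F L).toRingHom
  have hσ : ∀ z : L, σ z = z ^ Fintype.card F := fun z => rfl
  have hstep : ∀ γ, (∃ v, l v = γ) → ∃ v, l v = γ ^ Fintype.card F := fun γ hv => by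
    have e0 : (h.map φ - γ • 1).map σ = h.map φ - γ ^ Fintype.card F • 1 := by
      ext a b
      show σ ((h.map φ - γ • 1) a b) = _
      rw [Matrix.sub_apply, map_sub, Matrix.sub_apply, hσ, hσ]
      congr 1
      · show φ (h a b) ^ _ = φ (h a b)
        rw [← map_pow, FiniteField.pow_card]
      · rcases eq_or_ne a b with rfl | hab
        · simp
        · simp [Matrix.one_apply_ne hab, zero_pow Fintype.card_ne_zero]
    have h1 := CfsgLib.DefectRank.rank_map_eq σ (h.map φ - γ • 1)
    rw [e0, rank_frame_sub e1 e2 e3, rank_frame_sub e1 e2 e3] at h1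
    obtain ⟨v, hv⟩ := hv
    have h2 : 0 < (Finset.univ.filter fun v => l v = γ).card := Finset.card_pos.mpr ⟨v, by simp [hv]⟩
    have h3 := (Finset.univ.filter fun v => l v = γ).card_le_univ
    obtain ⟨u, hu⟩ : (Finset.univ.filter fun v => l v = γ ^ Fintype.card F).Nonempty := Finset.card_pos.mp (by omega)
    exact ⟨u, (Finset.mem_filter.mp hu).2⟩
  have hqk : ∀ k : ℕ, ∃ u, l u = l v ^ (Fintype.card F ^ k) := fun k => by
    induction k with
    | zero => exact ⟨v, by simp⟩
    | succ k ih => rw [pow_succ (Fintype.card F), pow_mul]; exact hstep _ ih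
  choose u hu using hqk
  have hne : l v ≠ 0 := fun e0 => by
    have := hord v
    rw [e0, orderOf_zero] at this
    exact (Fact.out : r.Prime).ne_zero this.symm
  have hpos : 0 < orderOf (Fintype.card F : ZMod r) := orderOf_pos_iff.mpr (isOfFinOrder_iff_pow_eq_one.mpr
    ⟨r - 1, by have := (Fact.out : r.Prime).two_le; omega, ZMod.pow_card_sub_one_eq_one hq⟩)
  have himg : (Finset.range (orderOf (Fintype.card F : ZMod r))).image u = Finset.univ := by
    refine Finset.eq_univ_of_card _ ?_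
    rw [Finset.card_image_of_injOn, Finset.card_range, Fintype.card_sum, Fintype.card_fin]
    · omega
    intro k hk k' hk' e
    have h1 : l v ^ (Fintype.card F ^ k) = l v ^ (Fintype.card F ^ k') := by rw [← hu, ← hu, e]
    rw [(orderOf_pos_iff.mp ((hord v).symm ▸ (Fact.out : r.Prime).pos)).pow_inj_mod, hord v] at h1
    have h2 := (ZMod.natCast_eq_natCast_iff' _ _ _).mpr h1
    rw [Nat.cast_pow, Nat.cast_pow, (orderOf_pos_iff.mp hpos).pow_inj_mod] at h2
    simp only [Finset.coe_range, Set.mem_Iio] at hk hk'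
    rwa [Nat.mod_eq_of_lt hk, Nat.mod_eq_of_lt hk'] at h2
  obtain ⟨k, -, hk⟩ := Finset.mem_image.mp (himg.ge (Finset.mem_univ w))
  exact ⟨k, by rw [← hu, hk]⟩

/-- Pairwise coprime types of smallest blocks, as many as there are cosets of `⟨q⟩`. -/
theorem exists_typed_atoms {p : ℕ} [Fact p.Prime] [CharP F p] (hrp : r ≠ p) (hr2 : r ≠ 2) {d : ℕ}
    (hdvd : r ∣ Nat.card (Matrix.symplecticGroup (Fin d) F)) (heven : Even (orderOf (Fintype.card F : ZMod r))) :
    ∃ (m : ℕ) (f : Fin ((r - 1) / orderOf (Fintype.card F : ZMod r)) → F[X]),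
      2 * m = orderOf (Fintype.card F : ZMod r) ∧ (∀ a, (f a).eval 1 ≠ 0) ∧ (∀ a, IsCoprime (f a) (X - C 1)) ∧
      (∀ a b, a ≠ b → IsCoprime (f a) (f b)) ∧ ∀ a, Piece r m (f a) 0 := by
  classical
  obtain ⟨m, hm0, -, hm, h, hh, hh1⟩ := exists_symp_atom hrp hdvd
  have hq0 := cast_card_ne_zero (F := F) hrp
  set i := orderOf (Fintype.card F : ZMod r) with hi
  have hm' : 2 * m = i := by rw [if_pos heven] at hm; exact hm
  haveI : NeZero i := ⟨by omega⟩
  let L := FiniteField.Extension F p i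
  haveI : Finite L := Module.finite_of_finite F
  haveI := Fintype.ofFinite L
  haveI : CharP L p := charP_of_injective_algebraMap (algebraMap F L).injective p
  have hdvdL : r ∣ Fintype.card L - 1 := by
    rw [Module.card_eq_pow_finrank (K := F), FiniteField.finrank_extension F p i, ← ZMod.natCast_eq_zero_iff,
      Nat.cast_sub (Nat.one_le_pow _ _ Fintype.card_pos), Nat.cast_pow, Nat.cast_one, hi, pow_orderOf_eq_one, sub_self]
  obtain ⟨u, hu⟩ := exists_prime_orderOf_dvd_card (G := Lˣ) r (by rwa [Fintype.card_units])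
  have hζ : IsPrimitiveRoot (u : L) r := by
    rw [← hu, ← orderOf_units]; exact IsPrimitiveRoot.orderOf _
  have hrL : (r : L) ≠ 0 := fun e0 => by
    rw [CharP.cast_eq_zero_iff L p] at e0
    exact hrp ((Nat.prime_dvd_prime_iff_eq Fact.out Fact.out).mp e0).symm
  set φ := algebraMap F L
  obtain ⟨H, H', l, e1, e2, e3, hinj, hne⟩ := atom_spectrum hr2 hm hh hh1 hrL hζ
  set X0 := (h : Matrix (Fin m ⊕ Fin m) (Fin m ⊕ Fin m) F)
  have hpow : ∀ a : ℕ, (X0 ^ a).map φ * H = H * Matrix.diagonal (fun v => l v ^ a) := fun a => by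
    induction a with
    | zero => simp
    | succ a ih =>
      rw [pow_succ, Matrix.map_mul, Matrix.mul_assoc, e3, ← Matrix.mul_assoc, ih, Matrix.mul_assoc,
        Matrix.diagonal_mul_diagonal]
      simp only [pow_succ]
  have hord : ∀ v, orderOf (l v) = r := fun v => by
    refine ((Nat.dvd_prime (Fact.out : r.Prime)).mp (orderOf_dvd_of_pow_eq_one ?_)).resolve_left
      fun e0 => hne v (orderOf_eq_one_iff.mp e0)
    have h1 := hpow r
    rw [show X0 ^ r = 1 by rw [← SubmonoidClass.coe_pow, hh, OneMemClass.coe_one], Matrix.map_one _ (map_zero φ) (map_one φ),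
      Matrix.one_mul] at h1
    have h2 := congrArg (fun M => (H' * M) v v) h1
    simp only [← Matrix.mul_assoc, e2, Matrix.one_mul, Matrix.one_apply_eq, Matrix.diagonal_apply_eq] at h2
    exact h2.symm
  -- exponents: one for each coset of `⟨q⟩`
  let Q : Subgroup (ZMod r)ˣ := Subgroup.zpowers (Units.mk0 _ hq0)
  have hQ : Fintype.card ((ZMod r)ˣ ⧸ Q) = (r - 1) / i := by
    have h1 := Q.index_mul_card
    rw [Nat.card_zpowers, ← orderOf_units, Units.val_mk0, Nat.card_units, Nat.card_zmod, Subgroup.index,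
      Nat.card_eq_fintype_card] at h1
    rw [← h1, Nat.mul_div_cancel _ (NeZero.pos i)]
  let ex : Fin ((r - 1) / i) → ℕ := fun a => ((((Fintype.equivFinOfCardEq hQ).symm a).out : (ZMod r)ˣ) : ZMod r).val
  let f : Fin ((r - 1) / i) → F[X] := fun a => (X0 ^ ex a).charpoly
  have hmap : ∀ a, (f a).map φ = ∏ v, (X - C (l v ^ ex a)) := fun a => by
    rw [← Matrix.charpoly_map, ← Matrix.charpoly_diagonal,
      show (X0 ^ ex a).map φ = H * (Matrix.diagonal (fun v => l v ^ ex a) * H') by
        rw [← Matrix.mul_assoc, ← hpow, Matrix.mul_assoc, e1, Matrix.mul_one],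
      Matrix.charpoly_mul_comm, Matrix.mul_assoc, e2, Matrix.mul_one]
  have hex : ∀ a, ((ex a : ℕ) : ZMod r) = (((Fintype.equivFinOfCardEq hQ).symm a).out : (ZMod r)ˣ) := fun a =>
    ZMod.natCast_zmod_val _
  have hlv : ∀ v a, l v ^ ex a ≠ 1 := fun v a e0 => by
    have h1 := orderOf_dvd_of_pow_eq_one e0
    rw [hord, ← ZMod.natCast_eq_zero_iff, hex] at h1
    exact Units.ne_zero _ h1
  have hf1 : ∀ a, (f a).eval 1 ≠ 0 := fun a e0 => by
    have h1 : ((f a).map φ).eval 1 = 0 := by
      rw [← map_one φ, Polynomial.eval_map, Polynomial.eval₂_at_apply, e0, map_zero]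
    rw [hmap, Polynomial.eval_prod, Finset.prod_eq_zero_iff] at h1
    obtain ⟨v, -, hv⟩ := h1
    rw [Polynomial.eval_sub, Polynomial.eval_X, Polynomial.eval_C, sub_eq_zero] at hv
    exact hlv v a hv.symm
  refine ⟨m, f, hm', hf1, fun a => ?_, fun a b hab => ?_, fun a => ?_⟩
  · rw [← Polynomial.isCoprime_map φ, hmap, Polynomial.map_sub, Polynomial.map_X, Polynomial.map_C, map_one]
    exact IsCoprime.prod_left fun v _ =>
      Polynomial.isCoprime_X_sub_C_of_isUnit_sub (sub_ne_zero.mpr (hlv v a)).isUnit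
  · rw [← Polynomial.isCoprime_map φ, hmap, hmap]
    refine IsCoprime.prod_left fun v _ => IsCoprime.prod_right fun w _ =>
      Polynomial.isCoprime_X_sub_C_of_isUnit_sub (sub_ne_zero.mpr fun e0 => hab ?_).isUnit
    obtain ⟨k, hk⟩ := atom_orbit hm' hq0 e1 e2 e3 hinj hord v w
    rw [hk, ← pow_mul, (orderOf_pos_iff.mp ((hord v).symm ▸ (Fact.out : r.Prime).pos)).pow_inj_mod, hord v] at e0
    have h1 := (ZMod.natCast_eq_natCast_iff' _ _ _).mpr e0
    push_cast at h1
    rw [hex, hex] at h1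
    refine (Fintype.equivFinOfCardEq hQ).symm.injective ?_
    rw [← Quotient.out_eq' ((Fintype.equivFinOfCardEq hQ).symm a), ← Quotient.out_eq' ((Fintype.equivFinOfCardEq hQ).symm b)]
    refine QuotientGroup.eq.mpr (Subgroup.mem_zpowers_iff.mpr ⟨-(k : ℤ), ?_⟩)
    have h2 : ((Fintype.equivFinOfCardEq hQ).symm a).out =
        Units.mk0 _ hq0 ^ k * ((Fintype.equivFinOfCardEq hQ).symm b).out := Units.ext (by
      rw [Units.val_mul, Units.val_pow_eq_pow_val, Units.val_mk0, h1])
    rw [h2, _root_.zpow_neg, zpow_natCast, _root_.mul_inv_rev, mul_comm (Quotient.out ((Fintype.equivFinOfCardEq hQ).symm b))⁻¹,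
      mul_assoc, inv_mul_cancel, mul_one]
  · refine ⟨h ^ ex a, by rw [← pow_mul, mul_comm, pow_mul, hh, one_pow], ?_, ?_⟩
    · refine aeval_toLin_eq_zero _ ?_
      rw [SubmonoidClass.coe_pow]
      exact Matrix.aeval_self_charpoly _
    · intro Z hZ hiso
      have h1 := isoBound_round (r := r) hq0 (s := 0) (f := f a) (b := m)
        (g := Matrix.toLin' ((h ^ ex a : ↥(Matrix.symplecticGroup (Fin m) F)) : Matrix (Fin m ⊕ Fin m) (Fin m ⊕ Fin m) F))
        (by rw [toLin_pow, ← pow_mul, mul_comm, pow_mul, hh, one_pow]; exact Matrix.toLin'_one)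
        (aeval_toLin_eq_zero _ (by rw [SubmonoidClass.coe_pow]; exact Matrix.aeval_self_charpoly _))
        (hf1 a) (isoBound_half _) (by omega) Z hZ hiso
      omega

variable {V : Type*} [AddCommGroup V] [Module F V] [FiniteDimensional F V]

omit [Fintype F] [Fact r.Prime] in
/-- An isotropic subspace of a nondegenerate subspace has at most half its dimension. -/
theorem isotropic_le_half {B : LinearMap.BilinForm F V} (hA : B.IsAlt) {W Z : Submodule F V} (hWs : SepOn B W)
    (hZW : Z ≤ W) (hiso : ∀ u ∈ Z, ∀ v ∈ Z, B u v = 0) : 2 * finrank F Z ≤ finrank F W := by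
  let BW : LinearMap.BilinForm F W := B.restrict W
  have hBW : BW.Nondegenerate := by
    refine ⟨fun v hv => ?_, fun v hv => ?_⟩ <;> by_contra hne <;>
      obtain ⟨y, hy, hvy⟩ := hWs v v.2 (fun e => hne (Subtype.ext e))
    · exact hvy (hv ⟨y, hy⟩)
    · exact hvy (by rw [← LinearMap.IsAlt.neg hA y (v : V)]; exact neg_eq_zero.mpr (hv ⟨y, hy⟩))
  have h1 := LinearMap.BilinForm.finrank_orthogonal hBW (Z.comap W.subtype)
  have h2 : Z.comap W.subtype ≤ BW.orthogonal (Z.comap W.subtype) := fun v hv x hx => hiso _ hx _ hv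
  have h3 := Submodule.finrank_mono h2
  rw [h1, (Submodule.comapSubtypeEquivOfLe hZW).finrank_eq] at h3
  omega

/-- An isotropic invariant subspace: fixed part and moved part. -/
theorem isotropic_split {B : LinearMap.BilinForm F V} (hA : B.IsAlt) {g : Module.End F V}
    (hgB : ∀ u v, B (g u) (g v) = B u v) (hg : g ^ r = 1) (hrF : (r : F) ≠ 0) (hq : (Fintype.card F : ZMod r) ≠ 0)
    (hsep : SepOn B ⊤) {Z : Submodule F V} (hZ : InvBy g Z) (hiso : ∀ u ∈ Z, ∀ v ∈ Z, B u v = 0) :
    ∃ f s, finrank F Z = f + s * orderOf (Fintype.card F : ZMod r) ∧ 2 * f ≤ finrank F (fixedIn g ⊤) ∧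
      2 * (s * orderOf (Fintype.card F : ZMod r)) + finrank F (fixedIn g ⊤) ≤ finrank F V := by
  have hr := (Fact.out : r.Prime)
  have hfs := sepOn_fixedIn hA hgB hg hr.pos hrF (invBy_top (g := g)) hsep
  have hfix : InvBy g (fixedIn g Z) := fun v hv => by rw [(mem_fixedIn.mp hv).2]; exact hv
  obtain ⟨Y, hY, hYZ, hinf, hsup⟩ :=
    exists_invBy_compl hr.pos hrF one_ne_zero (by rw [hg, one_smul]) hZ hfix inf_le_left
  have hY0 : fixedIn g Y = ⊥ := le_bot_iff.mp (by
    rw [← hinf]; exact le_inf (inf_le_inf_right _ hYZ) inf_le_left)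
  obtain ⟨c', j, hc', hj⟩ := finrank_invBy_eq hg hq hY
  rw [hY0, finrank_bot] at hc'
  subst hc'
  have hfixT : InvBy g (fixedIn g (⊤ : Submodule F V)) := fun v hv => by rw [(mem_fixedIn.mp hv).2]; exact hv
  obtain ⟨M, -, -, hMs, horth, hsupT, hd⟩ := exists_perp_in hA hgB hg hr.pos (invBy_top (g := g)) hsep hfixT hfs le_top
  -- the moved part is orthogonal to the fixed space
  let ψ : Y →ₗ[F] Y := ((g - 1).restrict (p := Y) (q := Y) fun v hv => Y.sub_mem (hY v hv) hv)
  have hψ : Function.Surjective ψ := LinearMap.surjective_of_injective (fun a b e => Subtype.ext (by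
    have h1 : g ((a : V) - b) = (a : V) - b := by
      have h2 := congrArg Subtype.val e
      simp [ψ, LinearMap.restrict_apply] at h2
      rw [map_sub]
      linear_combination (norm := module) h2
    have h3 := (Submodule.eq_bot_iff _).mp hY0 _ (mem_fixedIn.mpr ⟨Y.sub_mem a.2 b.2, h1⟩)
    exact sub_eq_zero.mp h3))
  have hYM : Y ≤ M := fun y hy => by
    obtain ⟨y', hy'⟩ := hψ ⟨y, hy⟩
    have hy'' : g (y' : V) - y' = y := congrArg Subtype.val hy'
    obtain ⟨x, hx, z, hz, hxz⟩ := Submodule.mem_sup.mp (hsupT.ge (Submodule.mem_top (x := y)))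
    have hx0 : x = 0 := by
      by_contra hne
      obtain ⟨w, hw, hxw⟩ := hfs x hx hne
      refine hxw ?_
      have hwz : B w z = 0 := horth w hw z hz
      have hwy : B w y = 0 := by
        rw [← hy'', map_sub]
        conv_lhs => arg 1; rw [← (mem_fixedIn.mp hw).2]
        rw [hgB, sub_self]
      rw [← hxz, map_add, hwz, add_zero] at hwy
      rw [← LinearMap.IsAlt.neg hA w x, hwy, neg_zero]
    rw [← hxz, hx0, zero_add]; exact hz
  refine ⟨finrank F (fixedIn g Z), j, ?_, ?_, ?_⟩
  · have hz := finrank_sup_of_disjoint hinf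
    rw [hsup] at hz
    omega
  · exact isotropic_le_half hA hfs (inf_le_inf_right _ le_top) fun u hu v hv => hiso u hu.1 v hv.1
  · have h1 := isotropic_le_half hA hMs hYM fun u hu v hv => hiso u (hYZ hu) v (hYZ hv)
    rw [finrank_top] at hd
    omega

end CfsgLib.LinearElements
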