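import Cfsg.Agent.LinearElements.SympInvariant

/-!
Isometries of order `p` of alternating forms in characteristic `p`: orthogonal splitting into Jordan atoms, and the
invariant nondegenerate subspaces this gives.
-/

set_option autoImplicit false

namespace CfsgLib.LinearElements

open Module Submodule

variable {F V : Type*} [Field F] [Fintype F] [AddCommGroup V] [Module F V] [FiniteDimensional F V]
  {B : LinearMap.BilinForm F V} (hA : B.IsAlt) {g : Module.End F V} (hgB : ∀ u v, B (g u) (g v) = B u v)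
  {p : ℕ} [Fact p.Prime] [CharP F p] (hg : g ^ p = 1)

include hg

omit [FiniteDimensional F V] in
theorem sub_one_pow_char : (g - 1 : Module.End F V) ^ p = 0 := by
  cases subsingleton_or_nontrivial V
  · exact LinearMap.ext fun v => Subsingleton.elim _ _
  haveI : CharP (Module.End F V) p := charP_of_injective_algebraMap (algebraMap F (Module.End F V)).injective p
  rw [sub_pow_char_of_commute _ (Commute.one_right g), hg, one_pow, sub_self]

omit [FiniteDimensional F V] in
theorem invBy_sub_one {W : Submodule F V} (hW : InvBy g W) (e : ℕ) : InvBy ((g - 1) ^ e) W :=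
  (show InvBy (g - 1) W from fun v hv => W.sub_mem (hW v hv) hv).pow e

include hgB

omit [FiniteDimensional F V] [CharP F p] in
theorem form_sub_one_pow (e : ℕ) : ∀ a b : V,
    B (((g - 1) ^ e) a) b = (-1) ^ e * B a (((g - 1) ^ e) (((g ^ (p - 1)) ^ e) b)) := by
  have h1 : ∀ a b : V, B ((g - 1) a) b = -B a ((g - 1) ((g ^ (p - 1)) b)) := fun a b => by
    have h2 : g ((g ^ (p - 1)) b) = b := by
      rw [← Module.End.mul_apply, ← pow_succ', Nat.sub_add_cancel (Fact.out : p.Prime).pos, hg, Module.End.one_apply]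
    have h3 : B (g a) b = B a ((g ^ (p - 1)) b) := by conv_lhs => rw [← h2, hgB]
    simp only [LinearMap.sub_apply, Module.End.one_apply, map_sub, h3, h2]
    ring
  induction e with
  | zero => intro a b; simp
  | succ e ih =>
    intro a b
    have hc : ∀ y, ((g - 1) ^ e) ((g - 1) y) = (g - 1) (((g - 1) ^ e) y) := fun y => by
      rw [← Module.End.mul_apply, ← Module.End.mul_apply, (Commute.self_pow (g - 1) e).eq]
    have hc3 : ∀ y, ((g ^ (p - 1)) ^ e) ((g - 1) y) = (g - 1) (((g ^ (p - 1)) ^ e) y) := fun y => by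
      rw [← Module.End.mul_apply, ← Module.End.mul_apply,
        ((Commute.sub_right ((Commute.refl g).pow_left (p - 1)) (Commute.one_right _)).pow_left e).eq]
    rw [pow_succ' (g - 1) e, Module.End.mul_apply, h1, ih, Module.End.mul_apply, ← hc, hc3, pow_succ, pow_succ,
      Module.End.mul_apply]
    ring

include hA

/-- A Jordan atom: the span of the chains of a family with nondegenerate top pairing. -/
theorem exists_chain_atom {W : Submodule F V} (hW : InvBy g W) {k s : ℕ} (hk : 1 ≤ k)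
    (hkill : ∀ v ∈ W, ((g - 1) ^ k) v = 0) (vs : Fin s → V) (hvs : ∀ i, vs i ∈ W)
    (hnd : ∀ c : Fin s → F, (∀ i, ∑ j, c j * B (vs i) (((g - 1) ^ (k - 1)) (vs j)) = 0) → c = 0) :
    ∃ U, U ≤ W ∧ InvBy g U ∧ SepOn B U ∧ finrank F U = s * k ∧
      ∀ e, finrank F (U.map ((g - 1) ^ e)) = s * (k - e) := by
  classical
  set N : Module.End F V := g - 1
  let fam : Fin s × Fin k → V := fun x => (N ^ (x.2 : ℕ)) (vs x.1)
  have hzero : ∀ i e, k ≤ e → (N ^ e) (vs i) = 0 := fun i e he => by
    rw [← Nat.sub_add_cancel he, pow_add, Module.End.mul_apply, hkill _ (hvs i), map_zero]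
  have hsum : ∀ (c : Fin s × Fin k → F) (a : ℕ) (ha : a < k), (∀ x : Fin s × Fin k, (x.2 : ℕ) < a → c x = 0) →
      (N ^ (k - 1 - a)) (∑ x, c x • fam x) = ∑ i, c (i, ⟨a, ha⟩) • (N ^ (k - 1)) (vs i) := fun c a ha hlow => by
    rw [map_sum, Fintype.sum_prod_type]
    refine Finset.sum_congr rfl fun i _ => ?_
    rw [Finset.sum_eq_single (⟨a, ha⟩ : Fin k)]
    · simp only [fam, map_smul]
      rw [← Module.End.mul_apply, ← pow_add, show k - 1 - a + a = k - 1 by omega]
    · intro b _ hb
      rcases Nat.lt_or_ge (b : ℕ) a with h | h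
      · rw [hlow (i, b) h, zero_smul, map_zero]
      · have hb' : a < (b : ℕ) := lt_of_le_of_ne h fun e => hb (Fin.ext e.symm)
        simp only [fam, map_smul]
        rw [← Module.End.mul_apply, ← pow_add, hzero i _ (by omega), smul_zero]
    · exact fun h => absurd (Finset.mem_univ _) h
  have htop : ∀ c : Fin s → F, (∀ i, B (vs i) (∑ j, c j • (N ^ (k - 1)) (vs j)) = 0) → c = 0 := fun c h =>
    hnd c fun i => by simpa [map_sum] using h i
  have hli : LinearIndependent F fam := by
    rw [Fintype.linearIndependent_iff]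
    intro c hc
    suffices ∀ a, ∀ x : Fin s × Fin k, (x.2 : ℕ) < a → c x = 0 from fun x => this _ x (Nat.lt_succ_self _)
    intro a
    induction a with
    | zero => intro x h; omega
    | succ a ih =>
      rintro ⟨i, b⟩ hb
      rcases Nat.lt_or_ge (b : ℕ) a with h | h
      · exact ih _ h
      have hba : (b : ℕ) = a := by simp only at hb; omega
      have h1 := hsum c a (hba ▸ b.2) ih
      rw [hc, map_zero] at h1
      have h2 := congrFun (htop (fun i => c (i, ⟨a, hba ▸ b.2⟩)) fun i => by rw [← h1, map_zero]) i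
      rwa [show b = ⟨a, hba ▸ b.2⟩ from Fin.ext hba]
  set U := span F (Set.range fam)
  have hNfam : ∀ e x, (N ^ e) (fam x) ∈ U := fun e x => by
    simp only [fam]
    rw [← Module.End.mul_apply, ← pow_add]
    rcases Nat.lt_or_ge (e + (x.2 : ℕ)) k with h | h
    · exact subset_span ⟨(x.1, ⟨_, h⟩), rfl⟩
    · rw [hzero _ _ h]; exact U.zero_mem
  have hNU : ∀ e, InvBy (N ^ e) U := fun e => invBy_iff_map_le.mpr (by
    rw [Submodule.map_span, span_le]; rintro _ ⟨_, ⟨x, rfl⟩, rfl⟩; exact hNfam e x)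
  have hUi : InvBy g U := fun v hv => by
    have h1 := U.add_mem (hNU 1 v hv) hv
    simpa [N] using h1
  have hUW : U ≤ W := span_le.mpr (by rintro _ ⟨x, rfl⟩; exact invBy_sub_one hg hW _ _ (hvs _))
  refine ⟨U, hUW, hUi, fun w hw hw0 => ?_, by rw [finrank_span_eq_card hli, Fintype.card_prod, Fintype.card_fin,
    Fintype.card_fin], fun e => ?_⟩
  · by_contra hall
    push Not at hall
    -- push the vector to the bottom of the chains
    have hex : ∃ e, (N ^ e) w = 0 := ⟨k, hkill w (hUW hw)⟩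
    classical
    have he0 := Nat.find_spec hex
    set e0 := Nat.find hex
    have he1 : 0 < e0 := by
      rw [Nat.pos_iff_ne_zero]; intro e; rw [e, pow_zero] at he0; exact hw0 he0
    set y := (N ^ (e0 - 1)) w
    have hy0 : y ≠ 0 := Nat.find_min hex (by omega)
    have hyU : y ∈ U := hNU _ w hw
    have horth : ∀ u ∈ U, B y u = 0 := fun u hu => by
      rw [form_sub_one_pow hgB hg, hall _ (hNU _ _ ?_), mul_zero]
      have h1 : InvBy (g ^ (p - 1)) U := hUi.pow _
      exact h1.pow _ u hu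
    obtain ⟨c, hc⟩ := (mem_span_range_iff_exists_fun F).mp hyU
    have hNy : N y = 0 := by rw [← Module.End.mul_apply, ← pow_succ', Nat.sub_add_cancel he1]; exact he0
    have hlow : ∀ a, a + 1 ≤ k → ∀ x : Fin s × Fin k, (x.2 : ℕ) < a → c x = 0 := by
      intro a
      induction a with
      | zero => intro _ x h; omega
      | succ a ih =>
        rintro ha ⟨i, b⟩ hb
        rcases Nat.lt_or_ge (b : ℕ) a with h | h
        · exact ih (by omega) _ h
        have hba : (b : ℕ) = a := by simp only at hb; omega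
        have h1 := hsum c a (by omega) (ih (by omega))
        rw [hc, show k - 1 - a = k - 1 - a - 1 + 1 by omega, pow_succ, Module.End.mul_apply, hNy, map_zero] at h1
        have h2 := congrFun (htop (fun i => c (i, ⟨a, by omega⟩)) fun i => by rw [← h1, map_zero]) i
        rwa [show b = ⟨a, by omega⟩ from Fin.ext hba]
    have h1 := hsum c (k - 1) (by omega) (hlow (k - 1) (by omega))
    rw [hc, Nat.sub_self, pow_zero, Module.End.one_apply] at h1
    have h2 := htop (fun i => c (i, ⟨k - 1, by omega⟩)) fun i => by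
      rw [← h1, ← LinearMap.IsAlt.neg hA, horth _ ?_, neg_zero]
      exact subset_span ⟨(i, ⟨0, hk⟩), by simp [fam]⟩
    exact hy0 (by rw [h1]; simp [congrFun h2])
  · let fe : Fin s × Fin (k - e) → V := fun x => fam (x.1, ⟨(x.2 : ℕ) + e, by omega⟩)
    have hmap : U.map (N ^ e) = span F (Set.range fe) := by
      rw [Submodule.map_span]
      refine le_antisymm (span_le.mpr ?_) (span_le.mpr ?_)
      · rintro _ ⟨_, ⟨x, rfl⟩, rfl⟩
        simp only [fam]
        rw [← Module.End.mul_apply, ← pow_add]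
        rcases Nat.lt_or_ge ((x.2 : ℕ) + e) k with h | h
        · exact subset_span ⟨(x.1, ⟨x.2, by omega⟩), by simp [fe, fam, add_comm]⟩
        · rw [hzero _ _ (by omega)]; exact Submodule.zero_mem _
      · rintro _ ⟨x, rfl⟩
        refine subset_span ⟨fam (x.1, ⟨x.2, by omega⟩), ⟨_, rfl⟩, ?_⟩
        simp only [fe, fam]
        rw [← Module.End.mul_apply, ← pow_add, add_comm]
    rw [hmap, show fe = fam ∘ fun x => (x.1, ⟨(x.2 : ℕ) + e, by omega⟩) from rfl,
      finrank_span_eq_card (hli.comp _ ?_), Fintype.card_prod, Fintype.card_fin, Fintype.card_fin]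
    intro x y h
    simp only [Prod.mk.injEq, Fin.mk.injEq] at h
    exact Prod.ext h.1 (Fin.ext (by omega))

/-- Every nondegenerate invariant subspace starts with an atom: one chain of even length, or two chains. -/
theorem exists_jordan_atom {W : Submodule F V} (hW : InvBy g W) (hWs : SepOn B W) (hne : W ≠ ⊥) :
    ∃ k s, 1 ≤ k ∧ k ≤ p ∧ (s = 1 ∧ Even k ∨ s = 2 ∧ ((2 : F) ≠ 0 → Odd k)) ∧
      ∃ U, U ≤ W ∧ InvBy g U ∧ SepOn B U ∧ finrank F U = s * k ∧
        ∀ e, finrank F (U.map ((g - 1) ^ e)) = s * (k - e) := by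
  classical
  set N : Module.End F V := g - 1
  have hex : ∃ k, ∀ v ∈ W, (N ^ k) v = 0 := ⟨p, fun v _ => by rw [sub_one_pow_char hg]; rfl⟩
  set k := Nat.find hex
  have hkill : ∀ v ∈ W, (N ^ k) v = 0 := Nat.find_spec hex
  have hk : 1 ≤ k := by
    rw [Nat.one_le_iff_ne_zero]
    intro e
    obtain ⟨w, hw, hw0⟩ := (Submodule.ne_bot_iff _).mp hne
    have := hkill w hw
    rw [e, pow_zero] at this
    exact hw0 this
  have hkp : k ≤ p := Nat.find_min' hex fun v _ => by rw [sub_one_pow_char hg]; rfl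
  -- the top pairing
  have hsymm : ∀ v ∈ W, ∀ w ∈ W, B w ((N ^ (k - 1)) v) = (-1) ^ k * B v ((N ^ (k - 1)) w) := fun v hv w hw => by
    have hshift : ∀ (e : ℕ) (y : V), y ∈ W → (N ^ (k - 1)) (((g ^ (p - 1)) ^ e) y) = (N ^ (k - 1)) y := by
      intro e
      induction e with
      | zero => intro y _; rfl
      | succ e ih =>
        intro y hy
        set z := (g ^ (p - 1)) y
        have hz : z ∈ W := hW.pow _ y hy
        rw [pow_succ, Module.End.mul_apply, ih z hz]
        have h1 : y = z + N z := by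
          simp only [z, N, LinearMap.sub_apply, Module.End.one_apply, add_sub_cancel]
          rw [← Module.End.mul_apply, ← pow_succ', Nat.sub_add_cancel (Fact.out : p.Prime).pos, hg, Module.End.one_apply]
        rw [h1, map_add, ← Module.End.mul_apply (N ^ (k - 1)) N, ← pow_succ, Nat.sub_add_cancel hk, hkill z hz, add_zero]
    rw [← LinearMap.IsAlt.neg hA ((N ^ (k - 1)) v) w, form_sub_one_pow hgB hg, hshift _ w hw]
    conv_rhs => rw [← Nat.sub_add_cancel hk, pow_succ]
    simp only [Nat.add_sub_cancel]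
    ring
  obtain ⟨w0, hw0, v0, hv0, hne0⟩ : ∃ w ∈ W, ∃ v ∈ W, B w ((N ^ (k - 1)) v) ≠ 0 := by
    have hmin := Nat.find_min hex (show k - 1 < k by omega)
    push Not at hmin
    obtain ⟨v, hv, hv0⟩ := hmin
    obtain ⟨y, hy, hvy⟩ := hWs _ (invBy_sub_one hg hW _ v hv) hv0
    refine ⟨y, hy, v, hv, fun e => hvy ?_⟩
    rw [← LinearMap.IsAlt.neg hA, e, neg_zero]
  by_cases hdiag : ∃ v ∈ W, B v ((N ^ (k - 1)) v) ≠ 0
  · obtain ⟨v, hv, hvv⟩ := hdiag
    refine ⟨k, 1, hk, hkp, Or.inl ⟨rfl, ?_⟩, exists_chain_atom hA hgB hg hW hk hkill ![v] (fun i => by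
      fin_cases i; exact hv) fun c hc => funext fun i => ?_⟩
    · rcases Nat.even_or_odd k with h | h
      · exact h
      exfalso
      have h1 := hsymm v hv v hv
      rw [h.neg_one_pow, neg_one_mul] at h1
      by_cases h2 : (2 : F) = 0
      · -- in characteristic two `k = 1`
        have hp2 : p = 2 := by
          have h3 : ((2 : ℕ) : F) = 0 := by exact_mod_cast h2
          rw [CharP.cast_eq_zero_iff F p] at h3
          exact (Nat.prime_dvd_prime_iff_eq Fact.out Nat.prime_two).mp h3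
        obtain ⟨j, hj⟩ := h
        rw [show k - 1 = 0 by omega, pow_zero] at hvv
        exact hvv (hA v)
      · have h3 : (2 : F) * B v ((N ^ (k - 1)) v) = 0 := by linear_combination h1
        exact hvv ((mul_eq_zero.mp h3).resolve_left h2)
    · have h1 := hc 0
      simp only [Fin.sum_univ_one, Matrix.cons_val_fin_one, Matrix.cons_val_zero] at h1
      rw [Subsingleton.elim i 0]
      exact (mul_eq_zero.mp h1).resolve_right hvv
  push Not at hdiag
  refine ⟨k, 2, hk, hkp, Or.inr ⟨rfl, fun h2 => ?_⟩, exists_chain_atom hA hgB hg hW hk hkill ![w0, v0] (fun i => by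
    fin_cases i; exacts [hw0, hv0]) fun c hc => ?_⟩
  · rcases Nat.even_or_odd k with h | h
    swap
    · exact h
    exfalso
    have h1 := hsymm v0 hv0 w0 hw0
    have h3 := hdiag (w0 + v0) (W.add_mem hw0 hv0)
    simp only [map_add, LinearMap.add_apply, hdiag w0 hw0, hdiag v0 hv0] at h3
    rw [h.neg_one_pow, one_mul] at h1
    have h4 : (2 : F) * B w0 ((N ^ (k - 1)) v0) = 0 := by linear_combination h3 + h1
    exact hne0 ((mul_eq_zero.mp h4).resolve_left h2)
  · have h0 := hc 0
    have h1 := hc 1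
    have hne1 : B v0 ((N ^ (k - 1)) w0) ≠ 0 := fun e => hne0 (by rw [hsymm v0 hv0 w0 hw0, e, mul_zero])
    simp only [Fin.sum_univ_two, Matrix.cons_val_zero, Matrix.cons_val_one] at h0 h1
    rw [show B w0 (((g - 1) ^ (k - 1)) w0) = 0 from hdiag w0 hw0, mul_zero, zero_add] at h0
    rw [show B v0 (((g - 1) ^ (k - 1)) v0) = 0 from hdiag v0 hv0, mul_zero, add_zero] at h1
    funext i
    fin_cases i
    · exact (mul_eq_zero.mp h1).resolve_right hne1
    · exact (mul_eq_zero.mp h0).resolve_right hne0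

omit hA hgB in
/-- Ranks of powers of `g - 1` add over invariant direct sums. -/
theorem finrank_map_pow_sup {X Y : Submodule F V} (hX : InvBy g X) (hY : InvBy g Y) (hXY : X ⊓ Y = ⊥) (e : ℕ) :
    finrank F ((X ⊔ Y).map ((g - 1) ^ e)) =
      finrank F (X.map ((g - 1) ^ e)) + finrank F (Y.map ((g - 1) ^ e)) := by
  have hle : ∀ Z : Submodule F V, InvBy g Z → Z.map ((g - 1) ^ e) ≤ Z := fun Z hZ => (invBy_sub_one hg hZ e).map_le
  have h := Submodule.finrank_sup_add_finrank_inf_eq (X.map ((g - 1) ^ e)) (Y.map ((g - 1) ^ e))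
  rw [show X.map ((g - 1) ^ e) ⊓ Y.map ((g - 1) ^ e) = ⊥ from
    le_bot_iff.mp ((inf_le_inf (hle X hX) (hle Y hY)).trans hXY.le), finrank_bot, Nat.add_zero] at h
  rw [Submodule.map_sup]
  exact h

/-- The type of `W`, and the subspaces carrying its admissible subtypes (odd characteristic). -/
theorem exists_jordan_type (h2 : (2 : F) ≠ 0) :
    ∀ (W : Submodule F V), InvBy g W → SepOn B W → ∃ μ : Multiset ℕ, (∀ a ∈ μ, 0 < a ∧ a ≤ p) ∧
      (∀ a : ℕ, Odd a → Even (μ.count a)) ∧ μ.sum = finrank F W ∧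
      (∀ e, finrank F (W.map ((g - 1) ^ e)) = (μ.map fun j => j - e).sum) ∧
      ∀ ν : Multiset ℕ, ν ≤ μ → (∀ a : ℕ, Odd a → Even (ν.count a)) →
        ∃ X, X ≤ W ∧ InvBy g X ∧ SepOn B X ∧ finrank F X = ν.sum := by
  classical
  intro W
  induction hn : finrank F W using Nat.strong_induction_on generalizing W with
  | _ n ih =>
  intro hW hWs
  rcases eq_or_ne W ⊥ with rfl | hne
  · refine ⟨0, by simp, by simp, by simp [← hn, finrank_bot F V], fun e => by
      rw [Submodule.map_bot, finrank_bot]; simp, fun ν hν _ => ⟨⊥, le_rfl, invBy_bot, sepOn_bot, ?_⟩⟩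
    rw [Multiset.le_zero.mp hν, finrank_bot]; simp
  obtain ⟨k, s, hk, hkp, hcase, U, hUW, hU, hUs, hUd, hUr⟩ := exists_jordan_atom hA hgB hg hW hWs hne
  obtain ⟨Y, hYW, hY, hYs, horth, hsup, hd⟩ :=
    exists_perp_in hA hgB hg (Fact.out : p.Prime).pos hW hWs hU hUs hUW
  have hs : s = 1 ∨ s = 2 := hcase.imp (·.1) (·.1)
  obtain ⟨μ', hμ1, hμ2, hμ3, hμ4, hμ5⟩ := ih (finrank F Y) (by
    have : 0 < s * k := Nat.mul_pos (by omega) hk
    omega) Y rfl hY hYs
  have hdis := sepOn_disjoint hA hUs horth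
  refine ⟨Multiset.replicate s k + μ', fun a ha => ?_, fun a ha => ?_, ?_, fun e => ?_, fun ν hν hev => ?_⟩
  · rcases Multiset.mem_add.mp ha with h | h
    · rw [Multiset.eq_of_mem_replicate h]; exact ⟨hk, hkp⟩
    · exact hμ1 a h
  · rw [Multiset.count_add, Multiset.count_replicate]
    refine Even.add ?_ (hμ2 a ha)
    split_ifs with h
    · subst h
      rcases hcase with ⟨-, he⟩ | ⟨rfl, -⟩
      · exact absurd he (Nat.not_even_iff_odd.mpr ha)
      · exact even_two
    · exact Even.zero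
  · rw [Multiset.sum_add, Multiset.sum_replicate, smul_eq_mul, hμ3, ← hn, hd, hUd]
  · rw [Multiset.map_add, Multiset.sum_add, Multiset.map_replicate, Multiset.sum_replicate, smul_eq_mul, ← hUr e,
      ← hμ4 e, ← finrank_map_pow_sup hg hU hY hdis e, hsup]
  · by_cases hle : ν ≤ μ'
    · obtain ⟨X, h1, h3, h4, h5⟩ := hμ5 ν hle hev
      exact ⟨X, h1.trans hYW, h3, h4, h5⟩
    have hcount : s ≤ ν.count k := by
      have h1 : μ'.count k < ν.count k := by
        by_contra h
        refine hle (Multiset.le_iff_count.mpr fun a => ?_)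
        have h3 := Multiset.le_iff_count.mp hν a
        rw [Multiset.count_add, Multiset.count_replicate] at h3
        rcases eq_or_ne a k with rfl | hak
        · omega
        · rw [if_neg (Ne.symm hak)] at h3; omega
      rcases hcase with ⟨rfl, -⟩ | ⟨rfl, hodd⟩
      · omega
      · obtain ⟨x, hx⟩ := hμ2 k (hodd h2)
        obtain ⟨y, hy⟩ := hev k (hodd h2)
        omega
    have hrep : Multiset.replicate s k ≤ ν := Multiset.le_count_iff_replicate_le.mp hcount
    obtain ⟨X, h1, h3, h4, h5⟩ := hμ5 (ν - Multiset.replicate s k) (tsub_le_iff_left.mpr hν) fun a ha => by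
      rw [Multiset.count_sub, Multiset.count_replicate]
      split_ifs with h
      · subst h
        rcases hcase with ⟨-, he⟩ | ⟨rfl, -⟩
        · exact absurd he (Nat.not_even_iff_odd.mpr ha)
        · exact (Nat.even_sub (by omega)).mpr (iff_of_true (hev k ha) even_two)
      · simpa using hev a ha
    have horth' : ∀ x ∈ U, ∀ y ∈ X, B x y = 0 := fun x hx y hy => horth x hx y (h1 hy)
    refine ⟨U ⊔ X, sup_le hUW (h1.trans hYW), hU.sup h3, sepOn_sup hA hUs h4 horth', ?_⟩
    have h := Submodule.finrank_sup_add_finrank_inf_eq U X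
    rw [sepOn_disjoint hA hUs horth', finrank_bot, Nat.add_zero] at h
    conv_rhs => rw [← add_tsub_cancel_of_le hrep, Multiset.sum_add, Multiset.sum_replicate, smul_eq_mul]
    omega

/-- Invariant nondegenerate subspaces of an involution in characteristic two. -/
theorem exists_sub_char_two (hp : p = 2) :
    ∀ (W : Submodule F V), InvBy g W → SepOn B W → ∀ s, Even s → s ≤ finrank F W →
      (s % 4 = 0 ∨ finrank F W % 4 = 2) → ∃ X, X ≤ W ∧ InvBy g X ∧ SepOn B X ∧ finrank F X = s := by
  intro W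
  induction hn : finrank F W using Nat.strong_induction_on generalizing W with
  | _ n ih =>
  intro hW hWs s hse hsW hcond
  rcases Nat.eq_zero_or_pos s with rfl | hspos
  · exact ⟨⊥, bot_le, invBy_bot, sepOn_bot, finrank_bot F V⟩
  rcases Nat.lt_or_ge s n with hlt | hge
  swap
  · exact ⟨W, le_rfl, hW, hWs, by omega⟩
  obtain ⟨k, s', hk, hkp, hcase, U, hUW, hU, hUs, hUd, -⟩ := exists_jordan_atom hA hgB hg hW hWs (fun e => by
    rw [e, finrank_bot] at hn; omega)
  obtain ⟨Y, hYW, hY, hYs, horth, -, hd⟩ := exists_perp_in hA hgB hg (Fact.out : p.Prime).pos hW hWs hU hUs hUW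
  obtain ⟨l, hl⟩ := even_finrank_sepOn hA hUs
  obtain ⟨l', hl'⟩ := even_finrank_sepOn hA hYs
  have hk2 : k ≤ 2 := hp ▸ hkp
  have hUd' : finrank F U = 2 ∨ finrank F U = 4 := by
    rcases hcase with ⟨rfl, he⟩ | ⟨rfl, -⟩
    · obtain ⟨x, hx⟩ := he; omega
    · omega
  obtain ⟨w, hw⟩ := hse
  have key : ∀ t, Even t → t ≤ finrank F Y → (t % 4 = 0 ∨ finrank F Y % 4 = 2) → finrank F U + t = s →
      ∃ X, X ≤ W ∧ InvBy g X ∧ SepOn B X ∧ finrank F X = s := fun t ht htY htc hts => by
    obtain ⟨X, h1, h3, h4, h5⟩ := ih (finrank F Y) (by omega) Y rfl hY hYs t ht htY htc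
    have horth' : ∀ x ∈ U, ∀ y ∈ X, B x y = 0 := fun x hx y hy => horth x hx y (h1 hy)
    refine ⟨U ⊔ X, sup_le hUW (h1.trans hYW), hU.sup h3, sepOn_sup hA hUs h4 horth', ?_⟩
    have h := Submodule.finrank_sup_add_finrank_inf_eq U X
    rw [sepOn_disjoint hA hUs horth', finrank_bot, Nat.add_zero] at h
    omega
  have keyY : (s ≤ finrank F Y ∧ (s % 4 = 0 ∨ finrank F Y % 4 = 2)) →
      ∃ X, X ≤ W ∧ InvBy g X ∧ SepOn B X ∧ finrank F X = s := fun ⟨h1, h2⟩ => by
    obtain ⟨X, h3, h4, h5, h6⟩ := ih (finrank F Y) (by omega) Y rfl hY hYs s ⟨w, hw⟩ h1 h2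
    exact ⟨X, h3.trans hYW, h4, h5, h6⟩
  rcases hUd' with hU2 | hU4
  · rcases (show s % 4 = 0 ∨ s % 4 = 2 by omega) with h0 | h0
    · exact keyY ⟨by omega, Or.inl h0⟩
    · exact key (s - 2) ⟨w - 1, by omega⟩ (by omega) (Or.inl (by omega)) (by omega)
  · by_cases h4 : 4 ≤ s
    · exact key (s - 4) ⟨w - 2, by omega⟩ (by omega) (by omega) (by omega)
    · exact keyY ⟨by omega, Or.inr (by omega)⟩

end CfsgLib.LinearElements
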