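import Cfsg.Prelude.Def_GeometricClasses
import Cfsg.Agent.Forms.SymplecticBasis
import Cfsg.Agent.Forms.SymplecticOrder
import Cfsg.Agent.Linear.Basic

/-! Maps of determinant one that are conjugate into the similarity group of a symplectic form.

Main results: `exists_conj_mem_similarity` (a stable splitting into planes of equal block determinant suffices),
`exists_form_of_conj`, `pow_eq_one_of_scaled`, `even_finrank_of_fixed`, `index_similarity_dvd`. -/

set_option autoImplicit false

namespace CfsgLib.LinearElements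

open Module Matrix Cfsg.Geo

variable {F : Type*} [Field F] {n : ℕ}

/-- The similarity group of `f` inside `SL`. -/
abbrev similaritySL (f : (Fin n → F) → (Fin n → F) → F) : Subgroup (Matrix.SpecialLinearGroup (Fin n) F) :=
  (similarityGroup f).comap (Matrix.SpecialLinearGroup.toGL : Matrix.SpecialLinearGroup (Fin n) F →* GL (Fin n) F)

theorem mem_similaritySL_iff {f : (Fin n → F) → (Fin n → F) → F} {x : Matrix.SpecialLinearGroup (Fin n) F} :
    x ∈ similaritySL f ↔ ∃ c : Fˣ, ∀ u v,
      f ((x : Matrix (Fin n) (Fin n) F) *ᵥ u) ((x : Matrix (Fin n) (Fin n) F) *ᵥ v) = (c : F) * f u v :=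
  Iff.rfl

/-- A symplectic form as a bilinear map. -/
def formBilin {f : (Fin n → F) → (Fin n → F) → F} (hf : IsSymplecticForm f) :
    LinearMap.BilinForm F (Fin n → F) :=
  LinearMap.mk₂ F f hf.bilinear.add_left hf.bilinear.smul_left hf.bilinear.add_right hf.bilinear.smul_right

theorem formBilin_apply {f : (Fin n → F) → (Fin n → F) → F} (hf : IsSymplecticForm f) (u v : Fin n → F) :
    formBilin hf u v = f u v := rfl

theorem isAlt_formBilin {f : (Fin n → F) → (Fin n → F) → F} (hf : IsSymplecticForm f) :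
    (formBilin hf).IsAlt := fun v => hf.alternating v

theorem nondegenerate_formBilin {f : (Fin n → F) → (Fin n → F) → F} (hf : IsSymplecticForm f) :
    (formBilin hf).Nondegenerate :=
  (isAlt_formBilin hf).isRefl.nondegenerate_iff_separatingLeft.mpr fun u hu => by
    by_contra h0
    obtain ⟨v, hv⟩ := (hf.nondegenerate u h0).2
    exact hv (hu v)

theorem exists_formBasis {f : (Fin n → F) → (Fin n → F) → F} (hf : IsSymplecticForm f) :
    ∃ (m : ℕ) (b : Basis (Fin m ⊕ Fin m) F (Fin n → F)), n = 2 * m ∧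
      (∀ i j, f (b (.inl i)) (b (.inr j)) = if i = j then 1 else 0) ∧
      (∀ i j, f (b (.inl i)) (b (.inl j)) = 0) ∧ (∀ i j, f (b (.inr i)) (b (.inr j)) = 0) := by
  obtain ⟨m, b, h1, h2, h3⟩ :=
    CfsgLib.Forms.exists_symplectic_basis_nondeg (formBilin hf) (isAlt_formBilin hf) (nondegenerate_formBilin hf)
  refine ⟨m, b, ?_, h1, h2, h3⟩
  have := Module.finrank_eq_card_basis b
  rw [Module.finrank_fin_fun, Fintype.card_sum, Fintype.card_fin] at this
  omega

/-- The matrix of the change of basis has determinant `b.det B`. -/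
theorem det_equiv_eq {ι V : Type*} [Fintype ι] [DecidableEq ι] [AddCommGroup V] [Module F V] (b B : Basis ι F V) :
    LinearMap.det (b.equiv B (Equiv.refl ι)).toLinearMap = b.det B := by
  rw [← LinearMap.det_toMatrix b, Basis.det_apply]
  congr 1
  ext i j
  simp [LinearMap.toMatrix_apply, Basis.toMatrix_apply]

/-- A map that preserves planes with one common block determinant is conjugate into the similarity group. -/
theorem exists_conj_mem_similarity {f : (Fin n → F) → (Fin n → F) → F} (hf : IsSymplecticForm f)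
    {κ : Type*} [Fintype κ] (x : Matrix.SpecialLinearGroup (Fin n) F)
    (B₀ : Basis (κ ⊕ κ) F (Fin n → F)) {τ : F} (hτ : τ ≠ 0) (a b c d : κ → F)
    (hl : ∀ i, Matrix.toLin' (x : Matrix (Fin n) (Fin n) F) (B₀ (.inl i)) = a i • B₀ (.inl i) + c i • B₀ (.inr i))
    (hr : ∀ i, Matrix.toLin' (x : Matrix (Fin n) (Fin n) F) (B₀ (.inr i)) = b i • B₀ (.inl i) + d i • B₀ (.inr i))
    (hdet : ∀ i, a i * d i - b i * c i = τ) :
    ∃ P : Matrix.SpecialLinearGroup (Fin n) F, P⁻¹ * x * P ∈ similaritySL f := by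
  classical
  obtain ⟨m, bf, hm, h1, h2, h3⟩ := exists_formBasis hf
  have hκ : Fintype.card κ = m := by
    have := Module.finrank_eq_card_basis B₀
    rw [Module.finrank_fin_fun, Fintype.card_sum] at this
    omega
  let ε : κ ≃ Fin m := Fintype.equivFinOfCardEq hκ
  set B₁ := B₀.reindex (ε.sumCongr ε) with hB₁
  -- adjust the determinant by scaling the first vector of every plane
  obtain ⟨δ, hδ0, hδ⟩ : ∃ δ : Fin m → F, (∀ i, δ i ≠ 0) ∧ (∏ i, δ i) * bf.det B₁ = 1 := by
    have hd0 : bf.det B₁ ≠ 0 := (bf.isUnit_det B₁).ne_zero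
    rcases Nat.eq_zero_or_pos m with rfl | hmpos
    · refine ⟨1, fun i => i.elim0, ?_⟩
      have e : (B₁ : Fin 0 ⊕ Fin 0 → Fin n → F) = bf := funext fun i => (IsEmpty.false i).elim
      simp [e, bf.det_self]
    · refine ⟨Function.update 1 ⟨0, hmpos⟩ (bf.det B₁)⁻¹, fun i => ?_, ?_⟩
      · rw [Function.update_apply]; split <;> simp [hd0]
      · rw [Finset.prod_eq_single ⟨0, hmpos⟩ (fun i _ hi => by simp [hi]) (fun h => absurd (Finset.mem_univ _) h),
          Function.update_self, inv_mul_cancel₀ hd0]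
  set B := B₁.unitsSMul (Sum.elim (fun i => Units.mk0 (δ i) (hδ0 i)) 1) with hB
  have hBl : ∀ i, B (.inl i) = δ i • B₀ (.inl (ε.symm i)) := fun i => by
    simp [hB, hB₁, Basis.unitsSMul_apply, Units.smul_def]
  have hBr : ∀ i, B (.inr i) = B₀ (.inr (ε.symm i)) := fun i => by
    simp [hB, hB₁, Basis.unitsSMul_apply, Units.smul_def]
  have hBdet : bf.det B = 1 := by
    rw [Basis.det_apply, show bf.toMatrix B = bf.toMatrix B₁ *
        Matrix.diagonal (Sum.elim δ 1) from ?_, Matrix.det_mul, Matrix.det_diagonal, Fintype.prod_sum_type,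
      ← Basis.det_apply]
    · simpa [mul_comm] using hδ
    · ext p q
      rw [Matrix.mul_diagonal, Basis.toMatrix_apply, Basis.toMatrix_apply]
      rcases q with i | i <;> simp [hB, Basis.unitsSMul_apply, Units.smul_def, mul_comm]
  let e := bf.equiv B (Equiv.refl _)
  let P : Matrix.SpecialLinearGroup (Fin n) F := ⟨LinearMap.toMatrix' e.toLinearMap, by
    rw [LinearMap.det_toMatrix', det_equiv_eq, hBdet]⟩
  refine ⟨P, mem_similaritySL_iff.mpr ⟨Units.mk0 τ hτ, ?_⟩⟩
  set y : Module.End F (Fin n → F) := Matrix.toLin' ((P⁻¹ * x * P : Matrix.SpecialLinearGroup (Fin n) F) :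
    Matrix (Fin n) (Fin n) F) with hy
  have hye : ∀ v, e (y v) = Matrix.toLin' (x : Matrix (Fin n) (Fin n) F) (e v) := fun v => by
    have hP : (Matrix.toLin' (P : Matrix (Fin n) (Fin n) F)) = e.toLinearMap := Matrix.toLin'_toMatrix' _
    have hM : (P : Matrix (Fin n) (Fin n) F) * ((P⁻¹ * x * P : Matrix.SpecialLinearGroup (Fin n) F) :
        Matrix (Fin n) (Fin n) F) = (x : Matrix (Fin n) (Fin n) F) * (P : Matrix (Fin n) (Fin n) F) := by
      rw [← Matrix.SpecialLinearGroup.coe_mul, show P * (P⁻¹ * x * P) = x * P by simp [mul_assoc],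
        Matrix.SpecialLinearGroup.coe_mul]
    rw [← LinearEquiv.coe_coe e, ← hP, hy, ← LinearMap.comp_apply, ← LinearMap.comp_apply, ← Matrix.toLin'_mul,
      ← Matrix.toLin'_mul, hM]
  have hel : ∀ i, e (bf (.inl i)) = B (.inl i) := fun i => by simp [e]
  have her : ∀ i, e (bf (.inr i)) = B (.inr i) := fun i => by simp [e]
  have hyl : ∀ i, y (bf (.inl i)) =
      a (ε.symm i) • bf (.inl i) + (δ i * c (ε.symm i)) • bf (.inr i) := fun i => e.injective (by
    rw [hye, hel, map_add, map_smul, map_smul, hel, her, hBl, hBr, map_smul, hl]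
    module)
  have hyr : ∀ i, y (bf (.inr i)) =
      ((δ i)⁻¹ * b (ε.symm i)) • bf (.inl i) + d (ε.symm i) • bf (.inr i) := fun i => e.injective (by
    rw [hye, her, map_add, map_smul, map_smul, hel, her, hBl, hBr, hr, smul_smul,
      show (δ i)⁻¹ * b (ε.symm i) * δ i = b (ε.symm i) by have := hδ0 i; field_simp])
  have key : (formBilin hf).compl₁₂ y y = τ • formBilin hf := by
    refine LinearMap.ext_basis bf bf fun p q => ?_
    have hsk : ∀ i j, f (bf (.inr i)) (bf (.inl j)) = - if j = i then 1 else 0 := fun i j => by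
      rw [hf.skew, h1]
    rw [LinearMap.compl₁₂_apply, LinearMap.smul_apply, LinearMap.smul_apply, smul_eq_mul]
    rcases p with i | i <;> rcases q with j | j <;>
      simp only [hyl, hyr, map_add, map_smul, LinearMap.add_apply, LinearMap.smul_apply, smul_eq_mul,
        formBilin_apply, h1, h2, h3, hsk] <;>
      by_cases hij : i = j <;> first
        | (subst hij; simp only [if_true]; have hd := hdet (ε.symm i); have := hδ0 i; field_simp; first | linear_combination hd | linear_combination -hd | linear_combination δ i * hd | linear_combination -(δ i) * hd | ring)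
        | simp [hij, Ne.symm hij]
  intro u v
  have h := congrArg (fun T : LinearMap.BilinForm F (Fin n → F) => T u v) key
  simpa only [hy, Matrix.toLin'_apply, LinearMap.compl₁₂_apply, LinearMap.smul_apply, smul_eq_mul, formBilin_apply,
    Units.val_mk0] using h

/-- A map conjugate into the similarity group scales some non-degenerate alternating form. -/
theorem exists_form_of_conj {f : (Fin n → F) → (Fin n → F) → F} (hf : IsSymplecticForm f)
    {x P : Matrix.SpecialLinearGroup (Fin n) F} (h : P⁻¹ * x * P ∈ similaritySL f) :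
    ∃ (B : LinearMap.BilinForm F (Fin n → F)) (τ : F), B.IsAlt ∧ B.Nondegenerate ∧ τ ≠ 0 ∧
      ∀ u v, B (Matrix.toLin' (x : Matrix (Fin n) (Fin n) F) u) (Matrix.toLin' (x : Matrix (Fin n) (Fin n) F) v) =
        τ * B u v := by
  obtain ⟨c, hc⟩ := mem_similaritySL_iff.mp h
  let L : Module.End F (Fin n → F) :=
    Matrix.toLin' ((P⁻¹ : Matrix.SpecialLinearGroup (Fin n) F) : Matrix (Fin n) (Fin n) F)
  have hA : ((formBilin hf).compl₁₂ L L).IsAlt := fun v => isAlt_formBilin hf (L v)
  refine ⟨(formBilin hf).compl₁₂ L L, c, hA,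
    hA.isRefl.nondegenerate_iff_separatingLeft.mpr fun u hu => ?_, c.ne_zero, fun u v => ?_⟩
  · have hinj : ∀ w, Matrix.toLin' (P : Matrix (Fin n) (Fin n) F) (L w) = w := fun w => by
      rw [← LinearMap.comp_apply, ← Matrix.toLin'_mul, ← Matrix.SpecialLinearGroup.coe_mul, mul_inv_cancel]
      simp
    have h0 : L u = 0 := (nondegenerate_formBilin hf).1 _ fun v => by
      have h1 := hu (Matrix.toLin' (P : Matrix (Fin n) (Fin n) F) v)
      have h2 : L (Matrix.toLin' (P : Matrix (Fin n) (Fin n) F) v) = v := by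
        rw [← LinearMap.comp_apply, ← Matrix.toLin'_mul, ← Matrix.SpecialLinearGroup.coe_mul, inv_mul_cancel]
        simp
      rw [LinearMap.compl₁₂_apply, h2] at h1
      exact h1
    rw [← hinj u, h0, map_zero]
  · have e : ∀ w, L (Matrix.toLin' (x : Matrix (Fin n) (Fin n) F) w) =
        ((P⁻¹ * x * P : Matrix.SpecialLinearGroup (Fin n) F) : Matrix (Fin n) (Fin n) F) *ᵥ (L w) := fun w => by
      simp only [L, Matrix.toLin'_apply, Matrix.mulVec_mulVec, ← Matrix.SpecialLinearGroup.coe_mul]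
      simp [mul_assoc]
    simp only [LinearMap.compl₁₂_apply, formBilin_apply, e, hc]

section
variable {V : Type*} [AddCommGroup V] [Module F V] [FiniteDimensional F V] {B : LinearMap.BilinForm F V}
  {g : Module.End F V} {τ : F}

theorem scaled_pow (hg : ∀ u v, B (g u) (g v) = τ * B u v) :
    ∀ (k : ℕ) (u v : V), B ((g ^ k) u) ((g ^ k) v) = τ ^ k * B u v
  | 0, u, v => by simp
  | k + 1, u, v => by
    rw [pow_succ', Module.End.mul_apply, Module.End.mul_apply, hg, scaled_pow hg k, pow_succ', mul_assoc]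

/-- The multiplier of a map of order dividing `r`. -/
theorem multiplier_pow_eq_one [Nontrivial V] (hB : B.Nondegenerate) (hg : ∀ u v, B (g u) (g v) = τ * B u v) {r : ℕ}
    (hr : g ^ r = 1) : τ ^ r = 1 := by
  obtain ⟨u, hu⟩ := exists_ne (0 : V)
  obtain ⟨v, hv⟩ : ∃ v, B u v ≠ 0 := by
    by_contra hall
    push Not at hall
    exact hu (hB.1 u hall)
  have := scaled_pow hg r u v
  rw [hr, Module.End.one_apply, Module.End.one_apply] at this
  exact (mul_eq_right₀ hv).mp this.symm

/-- The multiplier of a map of determinant one is a `dim V`-th root of unity. -/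
theorem multiplier_pow_finrank (hB : B.Nondegenerate) (hg : ∀ u v, B (g u) (g v) = τ * B u v)
    (hd : LinearMap.det g = 1) : τ ^ finrank F V = 1 := by
  classical
  let b := Module.finBasis F V
  have h0 : (LinearMap.BilinForm.toMatrix b B).det ≠ 0 :=
    (LinearMap.BilinForm.nondegenerate_iff_det_ne_zero b).mp hB
  have e : B.comp g g = τ • B := LinearMap.ext₂ fun u v => by simp [LinearMap.BilinForm.comp_apply, hg]
  have := congrArg (fun T => (LinearMap.BilinForm.toMatrix b T).det) e
  simp only [LinearMap.BilinForm.toMatrix_comp b b, map_smul, Matrix.det_mul, Matrix.det_transpose,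
    LinearMap.det_toMatrix, hd, one_mul, mul_one, Matrix.det_smul, Fintype.card_fin] at this
  exact (mul_eq_right₀ h0).mp this.symm

/-- An isometry that is trivial on `W` and has every vector of a complement `U` of the shape `g v - v` forces `U` to
have even dimension. -/
theorem even_finrank_of_fixed (hA : B.IsAlt) (hB : B.Nondegenerate) (hg : ∀ u v, B (g u) (g v) = B u v)
    {U W : Submodule F V} (hUW : U ⊔ W = ⊤) (hW : ∀ w ∈ W, g w = w) (hU : ∀ u ∈ U, ∃ v, g v - v = u) :
    Even (finrank F U) := by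
  have horth : ∀ u ∈ U, ∀ w ∈ W, B u w = 0 := by
    intro u hu w hw
    obtain ⟨v, rfl⟩ := hU u hu
    rw [map_sub, LinearMap.sub_apply]
    conv_lhs => arg 1; rw [← hW w hw]
    rw [hg, sub_self]
  have hA' : (B.restrict U).IsAlt := fun u => hA u
  have hnd : (B.restrict U).Nondegenerate := by
    refine hA'.isRefl.nondegenerate_iff_separatingLeft.mpr fun u hu => ?_
    refine Subtype.ext (hB.1 u fun v => ?_)
    obtain ⟨u', hu', w, hw, rfl⟩ := Submodule.mem_sup.mp (hUW.ge (Submodule.mem_top : v ∈ ⊤))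
    rw [map_add, horth _ u.2 _ hw, add_zero]
    exact hu ⟨u', hu'⟩
  obtain ⟨m, b, -⟩ := CfsgLib.Forms.exists_symplectic_basis_nondeg (B.restrict U) hA' hnd
  exact ⟨m, by rw [Module.finrank_eq_card_basis b]; simp⟩

end

theorem prod_range_two_mul {M : Type*} [CommMonoid M] (h : ℕ → M) : ∀ m : ℕ,
    ∏ i ∈ Finset.range (2 * m), h i =
      (∏ i ∈ Finset.range m, h (2 * i)) * ∏ i ∈ Finset.range m, h (2 * i + 1)
  | 0 => by simp
  | m + 1 => by
    rw [show 2 * (m + 1) = 2 * m + 1 + 1 by ring, Finset.prod_range_succ, Finset.prod_range_succ,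
      prod_range_two_mul h m, Finset.prod_range_succ, Finset.prod_range_succ]
    ac_rfl

/-- The symplectic group of the same rank embeds in the similarity group. -/
theorem exists_symplectic_hom [Fintype F] {f : (Fin n → F) → (Fin n → F) → F} (hf : IsSymplecticForm f) :
    ∃ m, n = 2 * m ∧ Nat.card (Matrix.symplecticGroup (Fin m) F) ∣ Nat.card (similaritySL f) := by
  obtain ⟨m, b, hm, h1, h2, h3⟩ := exists_formBasis hf
  refine ⟨m, hm, ?_⟩
  let E : (Fin m ⊕ Fin m → F) ≃ₗ[F] (Fin n → F) := b.equivFun.symm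
  let Φ : Module.End F (Fin m ⊕ Fin m → F) →* Module.End F (Fin n → F) := (E.conjAlgEquiv F).toMonoidHom
  have hΦ : ∀ T v, Φ T v = E (T (E.symm v)) := fun T v => rfl
  let τ : Matrix (Fin n) (Fin n) F ≃ₐ[F] Module.End F (Fin n → F) := Matrix.toLinAlgEquiv'
  let τ' : Matrix (Fin m ⊕ Fin m) (Fin m ⊕ Fin m) F ≃ₐ[F] Module.End F (Fin m ⊕ Fin m → F) :=
    Matrix.toLinAlgEquiv'
  let ψ₀ : Matrix (Fin m ⊕ Fin m) (Fin m ⊕ Fin m) F →* Matrix (Fin n) (Fin n) F :=
    (τ.symm.toMonoidHom.comp Φ).comp τ'.toMonoidHom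
  have hdet : ∀ A, (ψ₀ A).det = A.det := fun A => by
    show (τ.symm (Φ (τ' A))).det = A.det
    rw [← LinearMap.det_toLin', show Matrix.toLin' (τ.symm (Φ (τ' A))) = Φ (τ' A) from τ.apply_symm_apply _]
    show LinearMap.det ((E : (Fin m ⊕ Fin m → F) →ₗ[F] (Fin n → F)) ∘ₗ (τ' A) ∘ₗ
      (E.symm : (Fin n → F) →ₗ[F] (Fin m ⊕ Fin m → F))) = A.det
    rw [LinearMap.det_conj]
    exact LinearMap.det_toLin' A
  let ψ : Matrix.symplecticGroup (Fin m) F →* Matrix.SpecialLinearGroup (Fin n) F :=
    { toFun := fun A => ⟨ψ₀ A.1, by rw [hdet, SymplecticGroup.det_eq_one A.2]⟩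
      map_one' := Subtype.ext (map_one ψ₀)
      map_mul' := fun A A' => Subtype.ext (map_mul ψ₀ A.1 A'.1) }
  have hform : (formBilin hf).compl₁₂ E.toLinearMap E.toLinearMap = - CfsgLib.Forms.sympBilin m F := by
    refine LinearMap.ext_basis (Pi.basisFun F _) (Pi.basisFun F _) fun p q => ?_
    have hb : ∀ p, E (Pi.single p 1) = b p := fun p => by simp [E]
    rw [LinearMap.compl₁₂_apply, LinearMap.neg_apply, LinearMap.neg_apply, CfsgLib.Forms.sympBilin_apply,
      Pi.basisFun_apply, Pi.basisFun_apply, LinearEquiv.coe_coe, hb, hb, formBilin_apply]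
    rcases q with j | j
    · rw [CfsgLib.Forms.sympForm_single_inl]
      rcases p with i | i
      · simp [h2]
      · rw [hf.skew, h1]
        simp [Pi.single_apply, eq_comm]
    · rw [CfsgLib.Forms.sympForm_single_inr]
      rcases p with i | i
      · rw [h1]
        simp [Pi.single_apply, eq_comm]
      · simp [h3]
  have hfE : ∀ u v, f (E u) (E v) = - Cfsg.sympForm m F u v := fun u v => by
    have := congrArg (fun T : LinearMap.BilinForm F (Fin m ⊕ Fin m → F) => T u v) hform
    simpa [formBilin_apply, CfsgLib.Forms.sympBilin_apply] using this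
  have hmem : ∀ A, ψ A ∈ similaritySL f := fun A => by
    refine mem_similaritySL_iff.mpr ⟨1, fun u v => ?_⟩
    have e : ∀ w, (ψ A : Matrix (Fin n) (Fin n) F) *ᵥ w = E ((A : Matrix (Fin m ⊕ Fin m) (Fin m ⊕ Fin m) F) *ᵥ E.symm w) :=
      fun w => by
      rw [← Matrix.toLin'_apply]
      show τ (τ.symm (Φ (τ' A.1))) w = _
      rw [τ.apply_symm_apply, hΦ]
      rfl
    rw [e, e, hfE, CfsgLib.Forms.sympForm_map, Units.val_one, one_mul, ← hfE, E.apply_symm_apply,
      E.apply_symm_apply]
  refine Subgroup.card_dvd_of_injective (ψ.codRestrict _ hmem) fun A A' h => ?_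
  have h' : ψ₀ A.1 = ψ₀ A'.1 := congrArg (fun z : similaritySL f => z.1.1) h
  exact Subtype.ext (τ'.injective ((E.conjAlgEquiv F).injective (τ.symm.injective h')))

/-- A prime dividing the index of the similarity group divides `q` or some `q^j - 1`, `j` odd, `3 ≤ j ≤ n`. -/
theorem prime_dvd_index_similarity [Fintype F] {f : (Fin n → F) → (Fin n → F) → F} (hf : IsSymplecticForm f)
    {r : ℕ} (hr : r.Prime) (h : r ∣ (similaritySL f).index) :
    r ∣ Fintype.card F ∨ ∃ j, Odd j ∧ 3 ≤ j ∧ j ≤ n ∧ r ∣ Fintype.card F ^ j - 1 := by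
  obtain ⟨m, rfl, t, ht⟩ := exists_symplectic_hom hf
  rcases Nat.eq_zero_or_pos m with rfl | hmpos
  · haveI : Subsingleton (Matrix.SpecialLinearGroup (Fin (2 * 0)) F) :=
      ⟨fun a b => Subtype.ext (Matrix.ext fun i => absurd i.2 (by omega))⟩
    rw [Subsingleton.elim (similaritySL f) ⊤, Subgroup.index_top, Nat.dvd_one] at h
    exact absurd h hr.one_lt.ne'
  haveI : Nonempty (Fin (2 * m)) := ⟨⟨0, by omega⟩⟩
  have e := CfsgLib.Linear.card_SL_mul (n := Fin (2 * m)) (F := F)
  rw [← Subgroup.index_mul_card (similaritySL f), ht, CfsgLib.Forms.card_symplecticGroup, Matrix.card_GL_field,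
    CfsgLib.Linear.prod_pow_sub_pow, prod_range_two_mul] at e
  obtain ⟨m', rfl⟩ : ∃ m', m = m' + 1 := ⟨m - 1, by omega⟩
  rw [Finset.prod_range_succ' (fun i => Fintype.card F ^ (2 * i + 1) - 1)] at e
  set Q := Fintype.card F with hQ
  have hQ1 : 1 < Q := Fintype.one_lt_card
  set S := ∏ i ∈ Finset.range (m' + 1), (Q ^ (2 * (i + 1)) - 1) with hS
  have hS' : ∏ i ∈ Finset.range (m' + 1), (Q ^ (2 * i + 1 + 1) - 1) = S :=
    Finset.prod_congr rfl fun i _ => by ring_nf
  rw [hS', show Q ^ (2 * 0 + 1) = Q by simp] at e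
  set O := ∏ i ∈ Finset.range m', (Q ^ (2 * (i + 1) + 1) - 1) with hO
  set X := 2 * (m' + 1) * (2 * (m' + 1) - 1) / 2 with hX
  have hpos : 0 < (Q - 1) * S := Nat.mul_pos (by omega) (Finset.prod_pos fun i _ => by
    have : 1 < Q ^ (2 * (i + 1)) := Nat.one_lt_pow (by omega) hQ1
    omega)
  have e' : (similaritySL f).index * (Q ^ ((m' + 1) ^ 2) * t) = Q ^ X * O := by
    refine Nat.eq_of_mul_eq_mul_right hpos ?_
    calc _ = (Q - 1) * ((similaritySL f).index * (Q ^ ((m' + 1) ^ 2) * S * t)) := by ring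
      _ = _ := e
      _ = _ := by ring
  have h2 : r ∣ Q ^ X * O := e' ▸ Dvd.dvd.mul_right h _
  rcases hr.prime.dvd_mul.mp h2 with h3 | h3
  · exact Or.inl (hr.dvd_of_dvd_pow h3)
  · obtain ⟨i, hi, h4⟩ := hr.prime.exists_mem_finset_dvd h3
    exact Or.inr ⟨2 * (i + 1) + 1, odd_two_mul_add_one _, by omega,
      by rw [Finset.mem_range] at hi; omega, h4⟩

end CfsgLib.LinearElements
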