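import Cfsg.Agent.LinearElements.TwistedCounters
import Cfsg.Agent.LinearElements.RModels
import Cfsg.Agent.LinearElements.BlockLayout

/-! Normal forms, with a scaled form and a centraliser of all determinants, of the elements of prime order that
always lie in the similarity group of a twisted form. -/

set_option autoImplicit false

namespace CfsgLib.Twist

open Matrix

variable {F : Type*} [Field F] {n : ℕ} {σ : F →+* F}

theorem exists_centralizer_diag {κ : Type*} [Fintype κ] [DecidableEq κ] (i₀ : κ) (d : κ → F) {δ : F} :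
    ∃ C : Matrix κ κ F, C * Matrix.diagonal d = Matrix.diagonal d * C ∧ C.det = δ := by
  refine ⟨Matrix.diagonal (Function.update 1 i₀ δ), ?_, ?_⟩
  · rw [Matrix.diagonal_mul_diagonal, Matrix.diagonal_mul_diagonal]
    congr 1
    funext i
    exact mul_comm _ _
  · rw [Matrix.det_diagonal, Finset.prod_eq_single i₀ (fun i _ hi => by simp [hi])
      (fun h => absurd (Finset.mem_univ _) h), Function.update_self]

/-- In dimension `r ∈ {3, 5}` with `(q - 1)_r = r` every element of order `r` has a symmetrical spectrum. -/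
theorem exists_pairing_spectrum [Fintype F] {r : ℕ} [Fact r.Prime] (hr : r = 3 ∨ r = 5) (hn : n = r)
    (hv : padicValNat r (Fintype.card F - 1) = 1) (x : GL (Fin n) F)
    (hdet : Matrix.GeneralLinearGroup.det x = 1) {z : F}
    (hz : ((x ^ r : GL (Fin n) F) : Matrix (Fin n) (Fin n) F) = z • (1 : Matrix (Fin n) (Fin n) F)) :
    ∃ (h h' : Matrix (Fin n) (Fin n) F) (d : Fin n → F) (π : Equiv.Perm (Fin n)) (τ : F),
      h * h' = 1 ∧ h' * h = 1 ∧ (x : Matrix (Fin n) (Fin n) F) * h = h * Matrix.diagonal d ∧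
      τ ^ r = 1 ∧ (∀ i, d i ^ r = 1) ∧ (∀ i, π (π i) = i) ∧ ∀ i, d i * d (π i) = τ := by
  classical
  subst hn
  have hrp := (Fact.out : n.Prime)
  have hn3 : 3 ≤ n := by omega
  haveI : NeZero n := ⟨by omega⟩
  set N := Fintype.card F - 1 with hN
  have hN0 : N ≠ 0 := by have := Fintype.one_lt_card (α := F); omega
  have hrN : n ∣ N := by
    have := pow_padicValNat_dvd (p := n) (n := N)
    rwa [hv, pow_one] at this
  have hx1 : (x : Matrix (Fin n) (Fin n) F).det = 1 := congrArg Units.val hdet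
  rw [Units.val_pow_eq_pow_val] at hz
  have hzr : z ^ n = 1 := by
    have := congrArg Matrix.det hz
    rw [Matrix.det_pow, hx1, one_pow, Matrix.det_smul, Matrix.det_one, mul_one, Fintype.card_fin] at this
    exact this.symm
  have hz1 : z = 1 := by
    by_cases hpow : ∃ μ : F, μ ^ n = z
    · obtain ⟨μ, rfl⟩ := hpow
      have hμ0 : μ ≠ 0 := fun e => by simp [e, hrp.ne_zero] at hzr
      obtain ⟨t, ht⟩ := hrN
      have hcop : n.Coprime t := hrp.coprime_iff_not_dvd.mpr fun ⟨s, hs⟩ => by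
        have : 2 ≤ padicValNat n N := (padicValNat_dvd_iff_le hN0).mp ⟨s, by rw [ht, hs]; ring⟩
        omega
      have h1 : (μ ^ n) ^ t = 1 := by rw [← pow_mul, ← ht, hN, FiniteField.pow_card_sub_one_eq_one μ hμ0]
      simpa [hcop.gcd_eq_one] using pow_gcd_eq_one.mpr ⟨hzr, h1⟩
    · push Not at hpow
      have hg : (Matrix.toLin' (x : Matrix (Fin n) (Fin n) F)) ^ n = z • 1 := by
        show Matrix.toLinAlgEquiv' (x : Matrix (Fin n) (Fin n) F) ^ n = _
        rw [← map_pow, hz, map_smul, map_one]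
      obtain ⟨t, ht, hdt⟩ := CfsgLib.LinearElements.det_of_nonpower hpow hg
      rw [Module.finrank_fin_fun] at ht
      have : t = 1 := by nlinarith
      subst this
      rw [LinearMap.det_toLin', hx1, pow_one, Even.neg_one_pow (by rcases hr with rfl | rfl <;> decide), one_mul] at hdt
      exact absurd hdt.symm (fun e => hpow 1 (by rw [one_pow, e]))
  subst hz1
  obtain ⟨u, hu⟩ := exists_prime_orderOf_dvd_card (G := Fˣ) n (by rwa [Fintype.card_units])
  set ζ : F := (u : F) with hζdef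
  have hζo : orderOf ζ = n := by rw [hζdef, orderOf_units, hu]
  have hζ : IsPrimitiveRoot ζ n := hζo ▸ IsPrimitiveRoot.orderOf ζ
  have hζ0 : ζ ≠ 0 := u.ne_zero
  have hnF : (n : F) ≠ 0 := fun e => by
    obtain ⟨p, hp⟩ := CharP.exists F
    haveI : Fact p.Prime := ⟨CharP.char_is_prime F p⟩
    have hpn : p = n := (Nat.prime_dvd_prime_iff_eq Fact.out hrp).mp ((CharP.cast_eq_zero_iff F p n).mp e)
    subst hpn
    have hζ1 : ζ = 1 := frobenius_inj F p (by simp [frobenius_def, hζ.pow_eq_one])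
    exact hζ.ne_one (by omega) hζ1
  obtain ⟨h, h', l, e1, e2, e3, hl⟩ := exists_eigen_frame (μ := 1) (by omega) hnF hζ one_ne_zero
    (x := (x : Matrix (Fin n) (Fin n) F)) (by rw [hz, one_pow])
  choose j hj hlj using hl
  have hsum : ∑ i, ((j i : ℕ) : ZMod n) = 0 := by
    rw [← Nat.cast_sum, ZMod.natCast_eq_zero_iff]
    refine (dvd_of_eq hζo.symm).trans (orderOf_dvd_of_pow_eq_one ?_)
    have hd : (x : Matrix (Fin n) (Fin n) F).det = ∏ i, l i := by
      rw [← Matrix.det_diagonal, ← Matrix.det_conj_of_mul_eq_one e1 e2 (N := Matrix.diagonal l), ← e3,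
        Matrix.mul_assoc, e1, Matrix.mul_one]
    rw [hx1, Finset.prod_congr rfl fun i _ => (hlj i).trans (one_mul _), Finset.prod_pow_eq_pow_sum] at hd
    exact hd.symm
  obtain ⟨c, π, hππ, hπ⟩ := exists_pairing hr _ hsum
  refine ⟨h, h', l, π, ζ ^ c.val, e1, e2, e3, by rw [← pow_mul, mul_comm, pow_mul, hζ.pow_eq_one, one_pow],
    fun i => by rw [hlj, one_mul, ← pow_mul, mul_comm, pow_mul, hζ.pow_eq_one, one_pow], hππ, fun i => ?_⟩
  rw [hlj, hlj, one_mul, one_mul, ← pow_add]
  rw [← pow_mod_orderOf ζ (j i + j (π i)), ← pow_mod_orderOf ζ c.val, hζo]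
  congr 1
  have hc : ((j i + j (π i) : ℕ) : ZMod n) = ((c.val : ℕ) : ZMod n) := by
    rw [Nat.cast_add, ZMod.natCast_val, ZMod.cast_id]
    exact hπ i
  rwa [ZMod.natCast_eq_natCast_iff] at hc

/-- The permutation matrix of the symmetry is a scaled form. -/
theorem exists_pairing_model [Fintype F] {r : ℕ} [Fact r.Prime] (hr : r = 3 ∨ r = 5) (hn : n = r)
    (hv : padicValNat r (Fintype.card F - 1) = 1) (hσ : ∀ a : F, a ^ r = 1 → σ a = a) (x : GL (Fin n) F)
    (hdet : Matrix.GeneralLinearGroup.det x = 1) {z : F}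
    (hz : ((x ^ r : GL (Fin n) F) : Matrix (Fin n) (Fin n) F) = z • (1 : Matrix (Fin n) (Fin n) F)) :
    ∃ (h h' : Matrix (Fin n) (Fin n) F) (d : Fin n → F) (M : Matrix (Fin n) (Fin n) F) (τ : F),
      h * h' = 1 ∧ h' * h = 1 ∧ (x : Matrix (Fin n) (Fin n) F) * h = h * Matrix.diagonal d ∧ τ ≠ 0 ∧
      (Matrix.diagonal d)ᵀ * M * (Matrix.diagonal d).map σ = τ • M ∧ M.det ≠ 0 ∧ Mᵀ = M ∧ M.map σ = M := by
  classical
  obtain ⟨h, h', l, π, τ, e1, e2, e3, hτr, hlr, hππ, hpair⟩ := exists_pairing_spectrum hr hn hv x hdet hz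
  have hτ : τ ≠ 0 := fun e => by simp [e, (Fact.out : r.Prime).ne_zero] at hτr
  let M : Matrix (Fin n) (Fin n) F := (Equiv.toPEquiv π).toMatrix
  have hMapply : ∀ i k, M i k = if π i = k then 1 else 0 := fun i k => by simp [M, PEquiv.toMatrix_apply]
  have hpow : ∀ i, l i * σ (l (π i)) = τ := fun i => by rw [hσ _ (hlr _), hpair]
  refine ⟨h, h', l, M, τ, e1, e2, e3, hτ, ?_, ?_, ?_, ?_⟩
  · ext i k
    rw [Matrix.diagonal_transpose, Matrix.diagonal_map (map_zero σ), Matrix.mul_diagonal, Matrix.diagonal_mul,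
      Matrix.smul_apply, smul_eq_mul, hMapply]
    by_cases hik : π i = k
    · subst hik
      simp only [if_true, mul_one, Function.comp_apply]
      exact hpow i
    · simp [hik]
  · show (Equiv.Perm.permMatrix F π).det ≠ 0
    rw [Matrix.det_permutation]
    rcases Int.units_eq_one_or (Equiv.Perm.sign π) with h | h <;> simp [h]
  · ext i k
    rw [Matrix.transpose_apply, hMapply, hMapply]
    congr 1
    exact propext ⟨fun e => by rw [← e, hππ], fun e => by rw [← e, hππ]⟩
  · ext i k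
    rw [Matrix.map_apply, hMapply]
    split <;> simp

/-- The pair frame for a non-square multiplier. -/
theorem exists_pair_frame [Fintype F] {x : Matrix (Fin n) (Fin n) F} {z : F} (hz0 : z ≠ 0) (hz : ¬ IsSquare z)
    (hx : x ^ 2 = z • (1 : Matrix (Fin n) (Fin n) F)) :
    ∃ (b : ℕ) (h : Matrix (Fin n) (Fin 2 × Fin b) F) (h' : Matrix (Fin 2 × Fin b) (Fin n) F),
      n = 2 * b ∧ h * h' = 1 ∧ h' * h = 1 ∧
      x * h = h * Matrix.blockDiagonal (fun _ : Fin b => !![0, z; 1, 0]) := by
  classical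
  have hg : ∀ v, Matrix.toLin' x (Matrix.toLin' x v) = z • v := fun v => by
    rw [Matrix.toLin'_apply, Matrix.toLin'_apply, Matrix.mulVec_mulVec, ← sq, hx, Matrix.smul_mulVec,
      Matrix.one_mulVec]
  obtain ⟨P⟩ := CfsgLib.LinearElements.exists_pairBasis _ hz0 hg
  have hc : P.c = 0 := by
    by_contra hc
    obtain ⟨μ, hμ⟩ := P.single ⟨0, Nat.pos_of_ne_zero hc⟩
    refine hz ⟨μ, ?_⟩
    have h2 := congrArg (Matrix.toLin' x) hμ
    rw [hg, map_smul, hμ, smul_smul] at h2
    exact smul_left_injective F (P.basis.ne_zero _) h2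
  let e : (Fin P.b × Fin 2) ⊕ Fin P.c ≃ Fin 2 × Fin P.b :=
    ((Equiv.refl _).sumCongr (finCongr hc)).trans ((Equiv.sumEmpty _ _).trans (Equiv.prodComm _ _))
  let B := P.basis.reindex e
  have hB : ∀ s i, B (s, i) = P.basis (.inl (i, s)) := fun s i => by simp [B, e]
  have hb : n = 2 * P.b := by
    have := Module.finrank_eq_card_basis B
    rw [Module.finrank_fin_fun, Fintype.card_prod, Fintype.card_fin, Fintype.card_fin] at this
    exact this
  obtain ⟨h, h', e1, e2, e3⟩ := exists_frame x B (Matrix.blockDiagonal fun _ : Fin P.b => !![0, z; 1, 0]) fun t => by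
    obtain ⟨s, i⟩ := t
    rw [Fintype.sum_prod_type]
    simp only [Fin.sum_univ_two, Matrix.blockDiagonal_apply]
    simp only [ite_smul, zero_smul, Finset.sum_ite_eq', Finset.mem_univ, if_true]
    rw [← Matrix.toLin'_apply, hB, hB, hB]
    fin_cases s
    · rw [show P.basis (Sum.inl (i, (0 : Fin 2))) = P.basis (.inl (i, 0)) from rfl]
      simpa using P.pair i
    · have h2 := hg (P.basis (.inl (i, 0)))
      rw [P.pair i] at h2
      simpa using h2
  exact ⟨P.b, h, h', hb, e1, e2, e3⟩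

/-- A centraliser of a pair frame of prescribed determinant. -/
theorem exists_centralizer_pair [Finite F] (h2 : (2 : F) ≠ 0) {b : ℕ} (hb : 0 < b) {z : F} (hz : z ≠ 0) (δ : F) :
    ∃ C : Matrix (Fin 2 × Fin b) (Fin 2 × Fin b) F,
      C * Matrix.blockDiagonal (fun _ : Fin b => !![0, z; 1, 0]) =
        Matrix.blockDiagonal (fun _ : Fin b => !![0, z; 1, 0]) * C ∧ C.det = δ := by
  obtain ⟨s, t, hst⟩ := CfsgLib.Forms.exists_diag_binary h2 one_ne_zero (neg_ne_zero.mpr hz) δ
  refine ⟨Matrix.blockDiagonal (Function.update (fun _ => 1) ⟨0, hb⟩ !![s, z * t; t, s]), ?_, ?_⟩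
  · rw [← Matrix.blockDiagonal_mul, ← Matrix.blockDiagonal_mul]
    congr 1
    funext i
    by_cases hi : i = ⟨0, hb⟩
    · subst hi
      rw [Function.update_self]
      ext a b
      fin_cases a <;> fin_cases b <;> simp [Matrix.mul_apply, Fin.sum_univ_two] <;> ring
    · simp [hi]
  · rw [Matrix.det_blockDiagonal, Finset.prod_eq_single ⟨0, hb⟩ (fun i _ hi => by simp [hi])
      (fun h => absurd (Finset.mem_univ _) h), Function.update_self, Matrix.det_fin_two]
    simp
    linear_combination hst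

end CfsgLib.Twist
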