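import Cfsg.Agent.LinearElements.UnitarySpaces

/-!
Unitary isometries of odd prime order `r` prime to the characteristic: the smallest invariant nondegenerate
subspaces have dimension `c`, the order of `-q` modulo `r`; two of them with the same minimal polynomial contain
an invariant totally isotropic subspace.
-/

set_option autoImplicit false

namespace CfsgLib.UnitaryInv

open Module Submodule Polynomial CfsgLib.LinearElements

section Nat

variable {r q : ℕ} [Fact r.Prime]

/-- The order of `q²` and the order of `-q`. -/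
theorem ord_facts (hq : (q : ZMod r) ≠ 0) :
    (Odd (orderOf (-(q : ZMod r))) ∧ orderOf ((q : ZMod r) ^ 2) = orderOf (-(q : ZMod r))) ∨
      (Even (orderOf (-(q : ZMod r))) ∧ orderOf (-(q : ZMod r)) = 2 * orderOf ((q : ZMod r) ^ 2)) := by
  have hfin : IsOfFinOrder (-(q : ZMod r)) := isOfFinOrder_iff_pow_eq_one.mpr
    ⟨r - 1, by have := (Fact.out : r.Prime).two_le; omega, ZMod.pow_card_sub_one_eq_one (neg_ne_zero.mpr hq)⟩
  rw [← neg_sq (q : ZMod r), orderOf_pow' (-(q : ZMod r)) two_ne_zero]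
  rcases Nat.even_or_odd (orderOf (-(q : ZMod r))) with he | ho
  · obtain ⟨j, hj⟩ := he
    refine Or.inr ⟨⟨j, hj⟩, ?_⟩
    rw [Nat.gcd_eq_right ⟨j, by omega⟩]
    omega
  · exact Or.inl ⟨ho, by rw [Nat.coprime_iff_gcd_eq_one.mp (Nat.coprime_two_right.mpr ho), Nat.div_one]⟩

/-- When `r` divides `q^j - (-1)^j`. -/
theorem dvd_u_iff (hq1 : 1 ≤ q) (j : ℕ) : r ∣ Forms.u q j ↔ (-(q : ZMod r)) ^ j = 1 := by
  have e : ((Forms.u q j : ℕ) : ZMod r) = (q : ZMod r) ^ j - (-1) ^ j := by
    have h := congrArg (fun z : ℤ => (z : ZMod r)) (Forms.u_cast hq1 j)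
    simpa using h
  rw [← ZMod.natCast_eq_zero_iff, e, sub_eq_zero, neg_pow (q : ZMod r)]
  have h2 : ((-1 : ZMod r) ^ j) * (-1) ^ j = 1 := by rw [← mul_pow]; simp
  exact ⟨fun h => by rw [h, h2], fun h => by
    calc (q : ZMod r) ^ j = (-1) ^ j * (-1) ^ j * (q : ZMod r) ^ j := by rw [h2, one_mul]
      _ = _ := by rw [mul_assoc, h, mul_one]⟩

end Nat

variable {F V : Type*} [Field F] [Fintype F] [AddCommGroup V] [Module F V] [FiniteDimensional F V] {σ : F →+* F}
  {B : V →ₛₗ[σ] V →ₗ[F] F} (hS : B.IsSymm) {q : ℕ} (hF : Fintype.card F = q ^ 2) (hσ : ∀ x, σ x = x ^ q)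
  {g : Module.End F V} (hg : ∀ u v, B (g u) (g v) = B u v)
  {r : ℕ} [Fact r.Prime] (hgr : g ^ r = 1) (hrq : (q : ZMod r) ≠ 0)

local notation "bb" => orderOf (((Fintype.card F : ℕ) : ZMod r))
local notation "cc" => orderOf (-(q : ZMod r))

include hF in
omit [Field F] in
theorem card_cast : ((Fintype.card F : ℕ) : ZMod r) = (q : ZMod r) ^ 2 := by rw [hF, Nat.cast_pow]

include hF in
omit [Field F] in
theorem b_cases (hrq : (q : ZMod r) ≠ 0) : (Odd cc ∧ bb = cc) ∨ (Even cc ∧ cc = 2 * bb) := by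
  rw [card_cast hF]; exact ord_facts hrq

include hF hrq in
omit [Field F] in
theorem b_pos : 0 < bb := by
  rw [card_cast hF]
  exact orderOf_pos_iff.mpr (isOfFinOrder_iff_pow_eq_one.mpr
    ⟨r - 1, by have := (Fact.out : r.Prime).two_le; omega, ZMod.pow_card_sub_one_eq_one (pow_ne_zero 2 hrq)⟩)

include hF hrq in
omit [Field F] in
theorem c_pos : 0 < cc := by
  have := b_pos (F := F) hF hrq
  rcases b_cases (F := F) hF hrq with ⟨-, h⟩ | ⟨-, h⟩ <;> omega

include hF hrq in
omit [FiniteDimensional F V] in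
theorem char_ne : (r : F) ≠ 0 := by
  intro e
  obtain ⟨p, hp⟩ := CharP.exists F
  obtain ⟨n, hpp, hn⟩ := FiniteField.card F p
  have hpr : p = r := (Nat.prime_dvd_prime_iff_eq hpp Fact.out).mp ((CharP.cast_eq_zero_iff F p r).mp e)
  have hdvd : r ∣ q ^ 2 := by rw [← hF, hn, ← hpr]; exact dvd_pow_self _ n.ne_zero
  exact hrq ((ZMod.natCast_eq_zero_iff _ _).mpr ((Fact.out : r.Prime).dvd_of_dvd_pow hdvd))

include hg hgr in
omit [Fintype F] [FiniteDimensional F V] in
theorem adj_gen (u v : V) : B (g u) v = B u ((g ^ (r - 1)) v) := by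
  conv_lhs => rw [show v = g ((g ^ (r - 1)) v) by
    rw [← Module.End.mul_apply, ← pow_succ', Nat.sub_add_cancel (Fact.out : r.Prime).one_le, hgr,
      Module.End.one_apply]]
  rw [hg]

include hS hg hgr in
omit [Fintype F] [FiniteDimensional F V] in
/-- The orthogonal of an invariant subspace inside an invariant one is invariant. -/
theorem invBy_orth {W X Y : Submodule F V} (hW : InvBy g W) (hX : InvBy g X)
    (hY : ∀ y, y ∈ Y ↔ y ∈ W ∧ ∀ x ∈ X, B x y = 0) : InvBy g Y := by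
  intro y hy
  obtain ⟨hyW, hyX⟩ := (hY y).mp hy
  refine (hY _).mpr ⟨hW y hyW, fun x hx => swap_zero hS ?_⟩
  rw [adj_gen hg hgr]
  exact swap_zero hS (hyX _ (hX.pow _ x hx))

include hS hF hσ hg hgr in
/-- The complement of a nondegenerate invariant subspace. -/
theorem exists_compl_inv {W X : Submodule F V} (hW : InvBy g W) (hWs : SepH B W) (hX : InvBy g X)
    (hXs : SepH B X) (hXW : X ≤ W) :
    ∃ Y, Y ≤ W ∧ InvBy g Y ∧ SepH B Y ∧ (∀ x ∈ X, ∀ y ∈ Y, B x y = 0) ∧ X ⊔ Y = W ∧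
      finrank F X + finrank F Y = finrank F W := by
  obtain ⟨Y, hYW, hmem, hYs, horth, hsup, hd⟩ := exists_compl hS (conj_conj hF hσ) hWs hXs hXW
  exact ⟨Y, hYW, invBy_orth hS hg hgr hW hX hmem, hYs, horth, hsup, hd⟩

include hF hrq hg hgr in
omit [FiniteDimensional F V] in
theorem sepH_fixedIn {W : Submodule F V} (hW : InvBy g W) (hWs : SepH B W) : SepH B (fixedIn g W) := by
  intro w hw hw0
  obtain ⟨hwW, hgw⟩ := mem_fixedIn.mp hw
  obtain ⟨y, hy, hwy⟩ := hWs w hwW hw0
  refine ⟨(∑ k ∈ Finset.range r, g ^ k) y, mem_fixedIn.mpr ⟨?_, ?_⟩, ?_⟩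
  · rw [LinearMap.sum_apply]
    exact Submodule.sum_mem _ fun k _ => hW.pow k y hy
  · have h2 := mul_geom_sum g r
    rw [hgr, sub_self, sub_mul, one_mul, sub_eq_zero] at h2
    exact congrArg (fun f : Module.End F V => f y) h2
  · have hk : ∀ k : ℕ, B w ((g ^ k) y) = B w y := fun k => by
      induction k with
      | zero => simp
      | succ k ih =>
        rw [pow_succ', Module.End.mul_apply]
        conv_lhs => rw [← hgw]
        rw [hg, ih]
    rw [LinearMap.sum_apply, map_sum, Finset.sum_congr rfl fun k _ => hk k, Finset.sum_const, Finset.card_range,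
      nsmul_eq_mul]
    exact mul_ne_zero (char_ne hF hrq) hwy

include hS hF hσ hg hgr hrq in
/-- The moving part. -/
theorem exists_moving {W : Submodule F V} (hW : InvBy g W) (hWs : SepH B W) :
    ∃ M, M ≤ W ∧ InvBy g M ∧ SepH B M ∧ fixedIn g M = ⊥ ∧ (∀ x ∈ fixedIn g W, ∀ y ∈ M, B x y = 0) ∧
      fixedIn g W ⊔ M = W ∧ finrank F (fixedIn g W) + finrank F M = finrank F W := by
  have hfix : InvBy g (fixedIn g W) := fun v hv => by rw [(mem_fixedIn.mp hv).2]; exact hv
  have hfs := sepH_fixedIn hF hg hgr hrq hW hWs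
  obtain ⟨M, hMW, hM, hMs, horth, hsup, hd⟩ := exists_compl_inv hS hF hσ hg hgr hW hWs hfix hfs inf_le_left
  refine ⟨M, hMW, hM, hMs, ?_, horth, hsup, hd⟩
  rw [← le_bot_iff, ← orth_disjoint hS hfs horth]
  exact le_inf (inf_le_inf_right _ hMW) inf_le_left

include hF hgr hrq in
theorem dim_ge {X : Submodule F V} (hX : InvBy g X) (hX0 : fixedIn g X = ⊥) : bb ∣ finrank F X := by
  have h := orderOf_dvd_finrank_sub hgr (by rw [card_cast hF]; exact pow_ne_zero 2 hrq) hX
  rwa [hX0, finrank_bot, Nat.sub_zero] at h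

include hF hgr hrq in
/-- An invariant subspace without fixed vectors contains one of dimension `b`. -/
theorem exists_irr {M : Submodule F V} (hM : InvBy g M) (hM0 : fixedIn g M = ⊥) (hne : M ≠ ⊥) :
    ∃ U, U ≤ M ∧ InvBy g U ∧ finrank F U = bb := by
  obtain ⟨U, hUM, hU, hU0, hUd⟩ :=
    exists_small_invBy hgr (by rw [card_cast hF]; exact pow_ne_zero 2 hrq) hM hne
  have hdvd := dim_ge hF hgr hrq hU (le_bot_iff.mp ((inf_le_inf_right _ hUM).trans hM0.le))
  exact ⟨U, hUM, hU, le_antisymm hUd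
    (Nat.le_of_dvd (Nat.pos_of_ne_zero fun e => hU0 (Submodule.finrank_eq_zero.mp e)) hdvd)⟩

include hF hgr hrq in
/-- Subspaces of dimension `b` are irreducible. -/
theorem irr_cases {U X : Submodule F V} (hUd : finrank F U = bb) (hU0 : fixedIn g U = ⊥) (hX : InvBy g X)
    (hXU : X ≤ U) : X = ⊥ ∨ X = U := by
  refine or_iff_not_imp_left.mpr fun hX0 => Submodule.eq_of_le_of_finrank_le hXU (hUd.trans_le ?_)
  exact Nat.le_of_dvd (Nat.pos_of_ne_zero fun e => hX0 (Submodule.finrank_eq_zero.mp e))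
    (dim_ge hF hgr hrq hX (le_bot_iff.mp ((inf_le_inf_right _ hXU).trans hU0.le)))

include hS hF hgr hg hrq in
/-- An irreducible subspace is nondegenerate or totally isotropic. -/
theorem sep_or_iso {U : Submodule F V} (hU : InvBy g U) (hU0 : fixedIn g U = ⊥) (hUd : finrank F U = bb) :
    SepH B U ∨ IsoH B U := by
  let R : Submodule F V := U ⊓ ⨅ u : U, LinearMap.ker (B (u : V))
  have hR : ∀ y, y ∈ R ↔ y ∈ U ∧ ∀ x ∈ U, B x y = 0 := fun y => by simp [R]
  rcases irr_cases hF hgr hrq hUd hU0 (invBy_orth hS hg hgr hU hU hR) inf_le_left with h | h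
  · refine Or.inl fun w hw hw0 => ?_
    by_contra hall
    push Not at hall
    exact hw0 ((Submodule.eq_bot_iff _).mp h w ((hR w).mpr ⟨hw, fun x hx => swap_zero hS (hall x hx)⟩))
  · exact Or.inr fun u hu v hv => ((hR v).mp (h.ge hv)).2 u hu

include hS hF hσ hg hgr hrq in
/-- No nondegenerate subspace of dimension `b` when the order of `-q` is even. -/
theorem c_odd_of_sep {X : Submodule F V} (hX : InvBy g X) (hX0 : fixedIn g X = ⊥) (hXs : SepH B X)
    (hXd : finrank F X = bb) : Odd cc ∧ bb = cc := by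
  rcases b_cases (F := F) hF hrq with h | ⟨-, hc⟩
  · exact h
  exfalso
  have hrP := (Fact.out : r.Prime)
  have hfin : Finite V := Module.finite_of_finite F
  let f : ∀ k, X →ₗ[F] X := fun k => LinearMap.restrict (g ^ k) (hX.pow k)
  have hinv : ∀ a b', a + b' = r → ∀ x : X, f a (f b' x) = x := fun a b' hab x => Subtype.ext (by
    show (g ^ a) ((g ^ b') (x : V)) = x
    rw [← Module.End.mul_apply, ← pow_add, hab, hgr, Module.End.one_apply])
  let e : X ≃ₗ[F] X := LinearEquiv.ofLinearMap (f 1) (f (r - 1))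
    (LinearMap.ext (hinv _ _ (Nat.add_sub_cancel' hrP.one_le)))
    (LinearMap.ext (hinv _ _ (Nat.sub_add_cancel hrP.one_le)))
  let e' : Forms.isoGroup (Forms.restrictForm B X) := ⟨e, fun u v => by
    show B ((g ^ 1) (u : V)) ((g ^ 1) (v : V)) = _
    rw [pow_one, hg]
    rfl⟩
  have he : ∀ k (x : X), (((e' ^ k).1 x : X) : V) = (g ^ k) x := fun k => by
    induction k with
    | zero => exact fun _ => rfl
    | succ k ih =>
      intro x
      rw [pow_succ', pow_succ', Module.End.mul_apply, ← ih]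
      show (g ^ 1) ((((e' ^ k).1 x : X)) : V) = _
      rw [pow_one]
  have horder : orderOf e' = r := orderOf_eq_prime
    (Subtype.ext (LinearEquiv.ext fun x => Subtype.ext (by rw [he, hgr]; rfl))) fun h => by
      obtain ⟨x, hx, hx0⟩ := (Submodule.ne_bot_iff X).mp fun e0 => by
        have := b_pos (F := F) hF hrq
        rw [e0, finrank_bot] at hXd
        omega
      refine hx0 ((Submodule.eq_bot_iff _).mp hX0 x (mem_fixedIn.mpr ⟨hx, ?_⟩))
      have := congrArg Subtype.val (congrArg (fun a : Forms.isoGroup (Forms.restrictForm B X) => a.1 ⟨x, hx⟩) h)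
      show g x = x
      rw [← pow_one g]
      exact this
  have hdvd := orderOf_dvd_natCard e'
  rw [horder, Forms.card_isoGroup_herm (V := X) hF hσ (conj_conj hF hσ) (Forms.restrictForm B X) ⟨fun u v => hS.eq _ _⟩ (fun x hx => by
    by_contra hx0
    obtain ⟨y, hy, hxy⟩ := hXs x x.2 (fun e0 => hx0 (Subtype.ext e0))
    exact hxy (hx ⟨y, hy⟩)) hXd] at hdvd
  rcases hrP.prime.dvd_or_dvd hdvd with h | h
  · exact hrq ((ZMod.natCast_eq_zero_iff _ _).mpr (hrP.dvd_of_dvd_pow h))
  · obtain ⟨i, hi, hri⟩ := (hrP.prime.dvd_finsetProd_iff _).mp h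
    rw [Finset.mem_range] at hi
    have hc' := Nat.le_of_dvd (Nat.succ_pos i)
      (orderOf_dvd_of_pow_eq_one ((dvd_u_iff (by have := Forms.two_le_q hF; omega) _).mp hri))
    omega

include hS hF hσ hg hgr hrq in
/-- A nondegenerate subspace of dimension `b`, or a pair of isotropic ones. -/
theorem atom_cases {M : Submodule F V} (hM : InvBy g M) (hMs : SepH B M) (hM0 : fixedIn g M = ⊥) (hne : M ≠ ⊥) :
    (∃ X, X ≤ M ∧ InvBy g X ∧ SepH B X ∧ finrank F X = bb) ∨
      ∃ U Y, U ≤ M ∧ Y ≤ M ∧ InvBy g U ∧ InvBy g Y ∧ IsoH B U ∧ finrank F U = bb ∧ finrank F Y = bb ∧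
        SepH B (U ⊔ Y) ∧ finrank F ↥(U ⊔ Y) = 2 * bb ∧ (∀ y ∈ Y, (∀ u ∈ U, B u y = 0) → y = 0) ∧
        ∀ u ∈ U, (∀ y ∈ Y, B u y = 0) → u = 0 := by
  obtain ⟨U, hUM, hU, hUd⟩ := exists_irr hF hgr hrq hM hM0 hne
  have hU0 : fixedIn g U = ⊥ := le_bot_iff.mp ((inf_le_inf_right _ hUM).trans hM0.le)
  rcases sep_or_iso hS hF hg hgr hrq hU hU0 hUd with h | hUi
  · exact Or.inl ⟨U, hUM, hU, h, hUd⟩
  refine Or.inr ?_
  obtain ⟨O, hOM, hmem, hd⟩ := exists_orth (conj_conj hF hσ) hMs hUM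
  obtain ⟨Y, hY, hYM, hinf, hsup⟩ := exists_invBy_compl (Fact.out : r.Prime).pos (char_ne hF hrq) one_ne_zero
    (by rw [hgr, one_smul]) hM (invBy_orth hS hg hgr hM hU hmem) hOM
  have hYd : finrank F Y = bb := by
    have h1 := finrank_sup_of_disjoint hinf
    rw [hsup] at h1
    omega
  have hUO : U ≤ O := fun u hu => (hmem u).mpr ⟨hUM hu, fun x hx => hUi x hx u hu⟩
  have hY' : ∀ y ∈ Y, (∀ u ∈ U, B u y = 0) → y = 0 := fun y hy h => by
    have h1 : y ∈ O ⊓ Y := ⟨(hmem y).mpr ⟨hYM hy, h⟩, hy⟩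
    rwa [hinf, Submodule.mem_bot] at h1
  have hU' : ∀ u ∈ U, (∀ y ∈ Y, B u y = 0) → u = 0 := fun u hu h => by
    by_contra hu0
    obtain ⟨z, hz, huz⟩ := hMs u (hUM hu) hu0
    rw [← hsup] at hz
    obtain ⟨o, ho, y, hy, rfl⟩ := Submodule.mem_sup.mp hz
    exact huz (by rw [map_add, h y hy, ((hmem o).mp ho).2 u hu, add_zero])
  have hinf' : U ⊓ Y = ⊥ := le_bot_iff.mp ((inf_le_inf_right _ hUO).trans hinf.le)
  refine ⟨U, Y, hUM, hYM, hU, hY, hUi, hUd, hYd, fun w hw hw0 => ?_, ?_, hY', hU'⟩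
  · obtain ⟨u, hu, y, hy, rfl⟩ := Submodule.mem_sup.mp hw
    by_contra hall
    push Not at hall
    have h1 : y = 0 := hY' y hy fun x hx => swap_zero hS (by
      have := hall x (Submodule.mem_sup_left hx)
      rwa [map_add, LinearMap.add_apply, hUi u hu x hx, zero_add] at this)
    subst h1
    rw [add_zero] at hw0 hall
    exact hw0 (hU' u hu fun y' hy' => hall y' (Submodule.mem_sup_right hy'))
  · rw [finrank_sup_of_disjoint hinf', hUd, hYd, two_mul]

section Poly

omit [Fintype F] [FiniteDimensional F V] in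
theorem invBy_aeval {X : Submodule F V} (hX : InvBy g X) (R : F[X]) : InvBy (aeval g R) X := by
  induction R using Polynomial.induction_on' with
  | add P R hP hR =>
    intro v hv
    rw [map_add, LinearMap.add_apply]
    exact X.add_mem (hP v hv) (hR v hv)
  | monomial k a =>
    intro v hv
    rw [aeval_monomial, Module.End.mul_apply, Module.algebraMap_end_apply]
    exact X.smul_mem _ (hX.pow k v hv)

omit [Fintype F] [FiniteDimensional F V] in
/-- The orbit of a vector killed by `P`, as a map from the field of `P`. -/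
theorem exists_orbit {P : F[X]} (hP : P.Monic) {v : V} (hv : aeval g P v = 0) :
    ∃ L : AdjoinRoot P →ₗ[F] V, ∀ R, L (AdjoinRoot.mk P R) = aeval g R v := by
  let A : F[X] →ₗ[F] V := (LinearMap.applyₗ v).comp (aeval g).toLinearMap
  refine ⟨A.comp (AdjoinRoot.modByMonicHom hP), fun R => ?_⟩
  show aeval g (AdjoinRoot.modByMonicHom hP (AdjoinRoot.mk P R)) v = _
  rw [AdjoinRoot.modByMonicHom_mk]
  conv_rhs => rw [← modByMonic_add_div R P]
  rw [map_add, LinearMap.add_apply, mul_comm, map_mul, Module.End.mul_apply, hv, map_zero, add_zero]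

omit [Fintype F] [FiniteDimensional F V] in
theorem orbit_injective {P : F[X]} [Fact (Irreducible P)] {v : V} (hv0 : v ≠ 0) {L : AdjoinRoot P →ₗ[F] V}
    (hL : ∀ R, L (AdjoinRoot.mk P R) = aeval g R v) : Function.Injective L := by
  rw [← LinearMap.ker_eq_bot, LinearMap.ker_eq_bot']
  intro k hk
  by_contra hk0
  obtain ⟨R, rfl⟩ := AdjoinRoot.mk_surjective k
  obtain ⟨S, hS'⟩ := AdjoinRoot.mk_surjective (AdjoinRoot.mk P R)⁻¹
  refine hv0 ?_
  have e : L (AdjoinRoot.mk P (S * R)) = v := by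
    rw [map_mul, hS', inv_mul_cancel₀ hk0, ← map_one (AdjoinRoot.mk P), hL]
    simp
  rw [hL, map_mul, Module.End.mul_apply, ← hL R, hk, map_zero] at e
  exact e.symm

omit [Fintype F] [FiniteDimensional F V] in
theorem finrank_field {P : F[X]} (hP : P.Monic) : finrank F (AdjoinRoot P) = P.natDegree := by
  rw [(AdjoinRoot.powerBasis' hP).finrank, AdjoinRoot.powerBasis'_dim]

omit [Fintype F] in
/-- The range of the orbit map. -/
theorem orbit_range {P : F[X]} (hP : P.Monic) [Fact (Irreducible P)] {X : Submodule F V} (hX : InvBy g X)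
    (hXd : finrank F X = P.natDegree) {v : V} (hvX : v ∈ X) (hv0 : v ≠ 0) {L : AdjoinRoot P →ₗ[F] V}
    (hL : ∀ R, L (AdjoinRoot.mk P R) = aeval g R v) : LinearMap.range L = X := by
  refine Submodule.eq_of_le_of_finrank_eq ?_ ?_
  · rintro _ ⟨k, rfl⟩
    obtain ⟨R, rfl⟩ := AdjoinRoot.mk_surjective k
    rw [hL]
    exact invBy_aeval hX R v hvX
  · rw [LinearMap.finrank_range_of_inj (orbit_injective hv0 hL), finrank_field hP, hXd]

include hF hgr hrq in
/-- The minimal polynomial of an irreducible subspace. -/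
theorem exists_poly {U : Submodule F V} (hU : InvBy g U) (hU0 : fixedIn g U = ⊥) (hUd : finrank F U = bb) :
    ∃ P : F[X], P.Monic ∧ Irreducible P ∧ P.natDegree = bb ∧ ∀ u ∈ U, aeval g P u = 0 := by
  have hb := b_pos (F := F) hF hrq
  have : Nontrivial U := Module.nontrivial_of_finrank_pos (R := F) (by omega)
  set G : Module.End F U := g.restrict hU with hG
  have hrest : ∀ (R : F[X]) (u : U), ((aeval G R u : U) : V) = aeval g R u := fun R => by
    induction R using Polynomial.induction_on' with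
    | add P R hP hR => intro u; simp [hP, hR]
    | monomial k a =>
      intro u
      simp only [aeval_monomial, Module.End.mul_apply, Module.algebraMap_end_apply, Submodule.coe_smul]
      congr 1
      induction k with
      | zero => rfl
      | succ k ih =>
        rw [pow_succ', pow_succ', Module.End.mul_apply, Module.End.mul_apply, ← ih]
        rfl
  set P := minpoly F G
  have hint : IsIntegral F G := Algebra.IsIntegral.isIntegral G
  have hmon : P.Monic := minpoly.monic hint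
  have hker : ∀ A : F[X], aeval G A = 0 ∨ Function.Injective (aeval G A) := fun A => by
    let K0 : Submodule F V := U ⊓ LinearMap.ker (aeval g A)
    have hK : InvBy g K0 := fun v hv => ⟨hU v hv.1, by
      show aeval g A (g v) = 0
      rw [show g v = aeval g (Polynomial.X : F[X]) v by simp, ← Module.End.mul_apply, ← map_mul, mul_comm, map_mul, Module.End.mul_apply,
        show aeval g A v = 0 from hv.2, map_zero]⟩
    rcases irr_cases hF hgr hrq hUd hU0 hK inf_le_left with h | h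
    · refine Or.inr ?_
      rw [← LinearMap.ker_eq_bot, LinearMap.ker_eq_bot']
      exact fun u hu => Subtype.ext ((Submodule.eq_bot_iff _).mp h u ⟨u.2, by
        show aeval g A (u : V) = 0
        rw [← hrest, hu]; rfl⟩)
    · exact Or.inl (LinearMap.ext fun u => Subtype.ext (by rw [hrest]; exact (h.ge u.2).2))
  have hirr : Irreducible P := by
    refine ⟨minpoly.not_isUnit F G, fun A C hAC => ?_⟩
    have hA0 : A ≠ 0 := fun e => hmon.ne_zero (by rw [hAC, e, zero_mul])
    have hC0 : C ≠ 0 := fun e => hmon.ne_zero (by rw [hAC, e, mul_zero])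
    have hdeg : P.natDegree = A.natDegree + C.natDegree := by rw [hAC, natDegree_mul hA0 hC0]
    rcases hker A with h | h
    · refine Or.inr ?_
      have : P.natDegree ≤ A.natDegree := natDegree_le_of_dvd (minpoly.dvd F G h) hA0
      exact isUnit_iff_degree_eq_zero.mpr (by rw [degree_eq_natDegree hC0, show C.natDegree = 0 by omega]; rfl)
    · refine Or.inl ?_
      have hC : aeval G C = 0 := LinearMap.ext fun u => h (by
        rw [← Module.End.mul_apply, ← map_mul, ← hAC, minpoly.aeval, LinearMap.zero_apply, map_zero])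
      have : P.natDegree ≤ C.natDegree := natDegree_le_of_dvd (minpoly.dvd F G hC) hC0
      exact isUnit_iff_degree_eq_zero.mpr (by rw [degree_eq_natDegree hA0, show A.natDegree = 0 by omega]; rfl)
  have : Fact (Irreducible P) := ⟨hirr⟩
  have hkill : ∀ u ∈ U, aeval g P u = 0 := fun u hu => by
    have := hrest P ⟨u, hu⟩
    rw [minpoly.aeval, LinearMap.zero_apply] at this
    exact this.symm
  refine ⟨P, hmon, hirr, le_antisymm ?_ ?_, hkill⟩
  · rw [← hUd, ← LinearMap.charpoly_natDegree G]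
    exact natDegree_le_of_dvd (LinearMap.minpoly_dvd_charpoly G) (LinearMap.charpoly_monic G).ne_zero
  · obtain ⟨u, hu, hu0⟩ := (Submodule.ne_bot_iff U).mp fun e => by rw [e, finrank_bot] at hUd; omega
    obtain ⟨L, hL⟩ := exists_orbit (g := g) hmon (hkill u hu)
    have hinv : InvBy g (LinearMap.range L) := by
      rintro _ ⟨k, rfl⟩
      obtain ⟨R, rfl⟩ := AdjoinRoot.mk_surjective k
      exact ⟨AdjoinRoot.mk P (X * R), by rw [hL, hL, map_mul, aeval_X, Module.End.mul_apply]⟩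
    have hle : LinearMap.range L ≤ U := by
      rintro _ ⟨k, rfl⟩
      obtain ⟨R, rfl⟩ := AdjoinRoot.mk_surjective k
      rw [hL]
      exact invBy_aeval hU R u hu
    rcases irr_cases hF hgr hrq hUd hU0 hinv hle with h | h
    · refine absurd ?_ hu0
      have : L (AdjoinRoot.mk P 1) ∈ LinearMap.range L := ⟨_, rfl⟩
      rw [h, Submodule.mem_bot, hL, map_one, Module.End.one_apply] at this
      exact this
    · have : FiniteDimensional F (AdjoinRoot P) := (AdjoinRoot.powerBasis' hmon).finite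
      rw [← hUd, ← h, ← finrank_field hmon]
      exact LinearMap.finrank_range_le L

include hF hσ hg hgr hrq in
omit [FiniteDimensional F V] in
/-- The adjoint of a polynomial when the order of `-q` is odd. -/
theorem adj_poly (hodd : Odd cc) (R : F[X]) (u v : V) :
    B (aeval g R u) v = B u (aeval g (R ^ q ^ bb) v) := by
  obtain ⟨p, hp⟩ := CharP.exists F
  obtain ⟨n, hpp, hn⟩ := FiniteField.card F p
  have : Fact p.Prime := ⟨hpp⟩
  obtain ⟨k, -, hk⟩ := (Nat.dvd_prime_pow hpp).mp (show q ∣ p ^ (n : ℕ) by rw [← hn, hF, pow_two]; exact dvd_mul_right q q)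
  have hbc : bb = cc := by
    rcases b_cases (F := F) hF hrq with ⟨-, h⟩ | ⟨h, -⟩
    · exact h
    · exact absurd h (Nat.not_even_iff_odd.mpr hodd)
  obtain ⟨j, hj⟩ : Odd bb := hbc ▸ hodd
  have hmod : q ^ bb % r = (r - 1) % r := by
    refine (ZMod.natCast_eq_natCast_iff' _ _ _).mp ?_
    have h1 : (-(q : ZMod r)) ^ bb = 1 := by rw [hbc]; exact pow_orderOf_eq_one _
    rw [Odd.neg_pow ⟨j, hj⟩] at h1
    rw [Nat.cast_pow, Nat.cast_sub (Fact.out : r.Prime).one_le, ZMod.natCast_self, Nat.cast_one, zero_sub,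
      ← h1, neg_neg]
  have hge : g ^ (q ^ bb) = g ^ (r - 1) := by rw [pow_eq_pow_mod _ hgr, hmod, ← pow_eq_pow_mod _ hgr]
  have hsc : ∀ a : F, a ^ (q ^ bb) = σ a := fun a => by
    rw [hj, pow_succ, pow_mul q 2 j, ← hF, pow_mul, FiniteField.pow_card_pow, hσ]
  induction R using Polynomial.induction_on' generalizing u v with
  | add P R hP hR =>
    have e : (P + R) ^ q ^ bb = P ^ q ^ bb + R ^ q ^ bb := by rw [hk, ← pow_mul, add_pow_char_pow]
    rw [e, map_add, map_add, LinearMap.add_apply, map_add, LinearMap.add_apply, LinearMap.add_apply, map_add, hP, hR]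
  | monomial m a =>
    rw [monomial_pow, aeval_monomial, aeval_monomial, Module.End.mul_apply, Module.End.mul_apply,
      Module.algebraMap_end_apply, Module.algebraMap_end_apply, LinearMap.map_smulₛₗ, LinearMap.smul_apply, map_smul,
      hsc, mul_comm, pow_mul, hge]
    congr 1
    induction m generalizing u v with
    | zero => rfl
    | succ m ih =>
      rw [pow_succ', Module.End.mul_apply, adj_gen hg hgr, ih, pow_succ, Module.End.mul_apply]

include hS hF hσ hg hgr hrq in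
/-- A nondegenerate subspace of dimension `b` inside a pair when the order of `-q` is odd. -/
theorem exists_sep_in_pair (hodd : Odd cc) {M U Y : Submodule F V} (hM0 : fixedIn g M = ⊥) (hUM : U ≤ M) (hYM : Y ≤ M)
    (hU : InvBy g U) (hY : InvBy g Y) (hUi : IsoH B U) (hUd : finrank F U = bb) (hYd : finrank F Y = bb)
    (hY' : ∀ y ∈ Y, (∀ u ∈ U, B u y = 0) → y = 0) (hU' : ∀ u ∈ U, (∀ y ∈ Y, B u y = 0) → u = 0) :
    ∃ X, X ≤ M ∧ InvBy g X ∧ SepH B X ∧ finrank F X = bb := by
  have hU0 : fixedIn g U = ⊥ := le_bot_iff.mp ((inf_le_inf_right _ hUM).trans hM0.le)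
  have hY0 : fixedIn g Y = ⊥ := le_bot_iff.mp ((inf_le_inf_right _ hYM).trans hM0.le)
  rcases sep_or_iso hS hF hg hgr hrq hY hY0 hYd with h | hYi
  · exact ⟨Y, hYM, hY, h, hYd⟩
  obtain ⟨P, hmon, hirr, hdeg, hkill⟩ := exists_poly hF hgr hrq hU hU0 hUd
  have : Fact (Irreducible P) := ⟨hirr⟩
  have hkillY : ∀ y ∈ Y, aeval g P y = 0 := fun y hy => hY' _ (invBy_aeval hY P y hy) fun u hu => swap_zero hS (by
    have h0 : aeval g (P ^ q ^ bb) u = 0 := by
      obtain ⟨N, hN⟩ : ∃ N, q ^ bb = N + 1 :=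
        ⟨q ^ bb - 1, by have := Nat.one_le_pow bb q (by have := Forms.two_le_q hF; omega); omega⟩
      rw [hN, pow_succ, map_mul, Module.End.mul_apply, hkill u hu, map_zero]
    rw [adj_poly hF hσ hg hgr hrq hodd, h0, map_zero])
  have hb := b_pos (F := F) hF hrq
  obtain ⟨u, hu, hu0⟩ := (Submodule.ne_bot_iff U).mp fun e => by rw [e, finrank_bot] at hUd; omega
  obtain ⟨y, hy, hy0⟩ := (Submodule.ne_bot_iff Y).mp fun e => by rw [e, finrank_bot] at hYd; omega
  obtain ⟨Lu, hLu⟩ := exists_orbit (g := g) hmon (hkill u hu)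
  obtain ⟨Ly, hLy⟩ := exists_orbit (g := g) hmon (hkillY y hy)
  have hRu := orbit_range hmon hU (hUd.trans hdeg.symm) hu hu0 hLu
  have hRy := orbit_range hmon hY (hYd.trans hdeg.symm) hy hy0 hLy
  have hinf : U ⊓ Y = ⊥ := by
    rw [Submodule.eq_bot_iff]
    rintro v ⟨hvU, hvY⟩
    exact hY' v hvY fun x hx => hUi x hx v hvU
  have hmemu : ∀ k, Lu k ∈ U := fun k => hRu.le ⟨k, rfl⟩
  have hmemy : ∀ k, Ly k ∈ Y := fun k => hRy.le ⟨k, rfl⟩
  obtain ⟨μ₁, hμ₁⟩ : ∃ a : F, σ a ≠ a := by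
    by_contra hall
    push Not at hall
    exact Forms.conj_ne_id hF hσ (RingHom.ext hall)
  have key : ∀ μ : F, (∃ X, X ≤ M ∧ InvBy g X ∧ SepH B X ∧ finrank F X = bb) ∨
      ∀ h k, μ * B (Lu h) (Ly k) + σ μ * B (Ly h) (Lu k) = 0 := fun μ => by
    let L : AdjoinRoot P →ₗ[F] V := Lu + μ • Ly
    have hLinj : Function.Injective L := by
      rw [← LinearMap.ker_eq_bot, LinearMap.ker_eq_bot']
      intro k hk
      have h1 : Lu k ∈ U ⊓ Y := ⟨hmemu k, by
        rw [show Lu k = -(μ • Ly k) from eq_neg_of_add_eq_zero_left hk]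
        exact Y.neg_mem (Y.smul_mem _ (hmemy k))⟩
      rw [hinf, Submodule.mem_bot] at h1
      exact orbit_injective hu0 hLu (h1.trans (map_zero Lu).symm)
    have hLM : LinearMap.range L ≤ M := by
      rintro _ ⟨k, rfl⟩
      exact M.add_mem (hUM (hmemu k)) (M.smul_mem _ (hYM (hmemy k)))
    have hLinv : InvBy g (LinearMap.range L) := by
      rintro _ ⟨k, rfl⟩
      obtain ⟨R, rfl⟩ := AdjoinRoot.mk_surjective k
      refine ⟨AdjoinRoot.mk P (X * R), ?_⟩
      show Lu _ + μ • Ly _ = g (Lu _ + μ • Ly _)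
      rw [hLu, hLu, hLy, hLy, map_add, map_smul, map_mul, aeval_X, Module.End.mul_apply, Module.End.mul_apply]
    have hLd : finrank F (LinearMap.range L) = bb := by
      rw [LinearMap.finrank_range_of_inj hLinj, finrank_field hmon, hdeg]
    rcases sep_or_iso hS hF hg hgr hrq hLinv (le_bot_iff.mp ((inf_le_inf_right _ hLM).trans hM0.le)) hLd with h | h
    · exact Or.inl ⟨_, hLM, hLinv, h, hLd⟩
    · refine Or.inr fun a k => ?_
      have e := h _ ⟨a, rfl⟩ _ ⟨k, rfl⟩
      simp only [L, LinearMap.add_apply, LinearMap.smul_apply, map_add, LinearMap.map_smulₛₗ, map_smul,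
        hUi _ (hmemu a) _ (hmemu k), hYi _ (hmemy a) _ (hmemy k), smul_eq_mul] at e
      linear_combination e
  rcases key 1 with h | h1
  · exact h
  rcases key μ₁ with h | h2
  · exact h
  exfalso
  refine hu0 (hU' u hu fun z hz => ?_)
  obtain ⟨k, rfl⟩ := hRy.ge hz
  obtain ⟨a, ha⟩ := hRu.ge hu
  rw [← ha]
  have e1 := h1 a k
  have e2 := h2 a k
  rw [map_one, one_mul, one_mul] at e1
  have e3 : (μ₁ - σ μ₁) * B (Lu a) (Ly k) = 0 := by linear_combination e2 - σ μ₁ * e1
  exact (mul_eq_zero.mp e3).resolve_left (sub_ne_zero.mpr (Ne.symm hμ₁))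

end Poly

include hS hF hσ hg hgr hrq in
/-- The atoms have dimension `c`. -/
theorem exists_atom {M : Submodule F V} (hM : InvBy g M) (hMs : SepH B M) (hM0 : fixedIn g M = ⊥) (hne : M ≠ ⊥) :
    ∃ X, X ≤ M ∧ InvBy g X ∧ SepH B X ∧ finrank F X = cc := by
  rcases atom_cases hS hF hσ hg hgr hrq hM hMs hM0 hne with
    ⟨X, hXM, hX, hXs, hXd⟩ | ⟨U, Y, hUM, hYM, hU, hY, hUi, hUd, hYd, hsep, hd, hY', hU'⟩
  · exact ⟨X, hXM, hX, hXs, by
      rw [hXd, (c_odd_of_sep hS hF hσ hg hgr hrq hX (le_bot_iff.mp ((inf_le_inf_right _ hXM).trans hM0.le)) hXs hXd).2]⟩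
  · rcases b_cases (F := F) hF hrq with ⟨hodd, hbc⟩ | ⟨-, hc⟩
    · obtain ⟨X, hXM, hX, hXs, hXd⟩ :=
        exists_sep_in_pair hS hF hσ hg hgr hrq hodd hM0 hUM hYM hU hY hUi hUd hYd hY' hU'
      exact ⟨X, hXM, hX, hXs, by rw [hXd, hbc]⟩
    · exact ⟨U ⊔ Y, sup_le hUM hYM, hU.sup hY, hsep, by rw [hd, hc]⟩

include hS hF hσ hg hgr hrq in
/-- Nondegenerate invariant subspaces of every multiple of `c`, and `c` divides the moved dimension. -/
theorem exists_sep_moved {M : Submodule F V} (hM : InvBy g M) (hMs : SepH B M) (hM0 : fixedIn g M = ⊥) :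
    cc ∣ finrank F M ∧ ∀ j, j * cc ≤ finrank F M → ∃ X, X ≤ M ∧ InvBy g X ∧ SepH B X ∧ finrank F X = j * cc := by
  induction hn : finrank F M using Nat.strong_induction_on generalizing M with
  | _ n ih =>
  have hbot : ∀ j, j = 0 → ∃ X, X ≤ M ∧ InvBy g X ∧ SepH B X ∧ finrank F X = j * cc := fun j hj =>
    ⟨⊥, bot_le, invBy_bot, sepH_bot, by rw [hj, zero_mul, finrank_bot]⟩
  have hc := c_pos (F := F) hF hrq
  rcases eq_or_ne M ⊥ with rfl | hne
  · rw [finrank_bot] at hn
    subst hn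
    exact ⟨dvd_zero _, fun j hj => hbot j (by nlinarith)⟩
  obtain ⟨X, hXM, hX, hXs, hXd⟩ := exists_atom hS hF hσ hg hgr hrq hM hMs hM0 hne
  obtain ⟨Y, hYM, hY, hYs, horth, hsup, hd⟩ := exists_compl_inv hS hF hσ hg hgr hM hMs hX hXs hXM
  obtain ⟨hdvd, hall⟩ := ih (finrank F Y) (by omega) hY hYs (le_bot_iff.mp ((inf_le_inf_right _ hYM).trans hM0.le)) rfl
  refine ⟨by rw [← hn, ← hd, hXd]; exact Nat.dvd_add dvd_rfl hdvd, fun j hj => ?_⟩
  rcases Nat.eq_zero_or_pos j with rfl | hj0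
  · exact hbot 0 rfl
  obtain ⟨j, rfl⟩ : ∃ i, j = i + 1 := ⟨j - 1, by omega⟩
  rw [add_mul, one_mul] at hj ⊢
  obtain ⟨Z, hZY, hZ, hZs, hZd⟩ := hall j (by omega)
  have ho : ∀ x ∈ X, ∀ z ∈ Z, B x z = 0 := fun x hx z hz => horth x hx z (hZY hz)
  exact ⟨X ⊔ Z, sup_le hXM (hZY.trans hYM), hX.sup hZ, sepH_sup hS hXs hZs ho, by
    rw [finrank_sup_of_disjoint (orth_disjoint hS hXs ho), hXd, hZd, add_comm]⟩

end CfsgLib.UnitaryInv
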