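import Cfsg.Agent.LinearElements.UnitaryAtoms

/-!
Invariant totally isotropic subspaces of unitary isometries: inside a component killed by one irreducible polynomial
of odd degree every admissible dimension occurs, and at most `(r - 1) / c` atoms have pairwise distinct polynomials.
-/

set_option autoImplicit false

namespace CfsgLib.UnitaryInv

open Module Submodule Polynomial CfsgLib.LinearElements

variable {F V : Type*} [Field F] [Fintype F] [AddCommGroup V] [Module F V] [FiniteDimensional F V] {σ : F →+* F}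
  {B : V →ₛₗ[σ] V →ₗ[F] F} (hS : B.IsSymm) {q : ℕ} (hF : Fintype.card F = q ^ 2) (hσ : ∀ x, σ x = x ^ q)
  {g : Module.End F V}

include hS hF hσ in
/-- A vector of norm one in a nondegenerate subspace. -/
theorem exists_unit {W : Submodule F V} (hW : SepH B W) (hne : W ≠ ⊥) : ∃ v ∈ W, B v v = 1 := by
  obtain ⟨b, hb⟩ := exists_onb hS hF hσ hW rfl
  have : 0 < finrank F W := Nat.pos_of_ne_zero fun e => hne (Submodule.finrank_eq_zero.mp e)
  exact ⟨b ⟨0, this⟩, (b ⟨0, this⟩).2, by simp [hb]⟩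

section Component

variable {P : F[X]} (hP : P.Monic) [Fact (Irreducible P)]
  (hadj : ∀ (R : F[X]) (u v : V), B (aeval g R u) v = B u (aeval g (R ^ q ^ P.natDegree) v))
  (hginv : ∀ (W X Y : Submodule F V), InvBy g W → InvBy g X →
    (∀ y, y ∈ Y ↔ y ∈ W ∧ ∀ x ∈ X, B x y = 0) → InvBy g Y)

include hP in
omit [Fintype F] in
theorem exists_cyclic {v : V} (hv : aeval g P v = 0) (hv0 : v ≠ 0) :
    ∃ L : AdjoinRoot P →ₗ[F] V, (∀ R, L (AdjoinRoot.mk P R) = aeval g R v) ∧ Function.Injective L ∧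
      InvBy g (LinearMap.range L) ∧ finrank F (LinearMap.range L) = P.natDegree := by
  obtain ⟨L, hL⟩ := exists_orbit (g := g) hP hv
  refine ⟨L, hL, orbit_injective hv0 hL, ?_, ?_⟩
  · rintro _ ⟨k, rfl⟩
    obtain ⟨R, rfl⟩ := AdjoinRoot.mk_surjective k
    exact ⟨AdjoinRoot.mk P (X * R), by rw [hL, hL, map_mul, aeval_X, Module.End.mul_apply]⟩
  · rw [LinearMap.finrank_range_of_inj (orbit_injective hv0 hL), finrank_field hP]

include hadj in
omit [Fintype F] [FiniteDimensional F V] in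
theorem cyclic_form {u v : V} {L M : AdjoinRoot P →ₗ[F] V} (hL : ∀ R, L (AdjoinRoot.mk P R) = aeval g R u)
    (hM : ∀ R, M (AdjoinRoot.mk P R) = aeval g R v) (h k : AdjoinRoot P) :
    B (L h) (M k) = B u (M (h ^ q ^ P.natDegree * k)) := by
  obtain ⟨R, rfl⟩ := AdjoinRoot.mk_surjective h
  obtain ⟨S, rfl⟩ := AdjoinRoot.mk_surjective k
  rw [hL, hM, hadj, ← map_pow, ← map_mul, hM, map_mul, Module.End.mul_apply]

include hF in
omit [FiniteDimensional F V] in
theorem field_frob (hP : P.Monic) : ∃ θ : AdjoinRoot P →+* AdjoinRoot P,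
    (∀ k, θ k = k ^ q ^ P.natDegree) ∧ (∀ k, θ (θ k) = k) ∧ ∀ [Fintype (AdjoinRoot P)],
      Fintype.card (AdjoinRoot P) = (q ^ P.natDegree) ^ 2 := by
  obtain ⟨p, hp⟩ := CharP.exists F
  obtain ⟨n, hpp, hn⟩ := FiniteField.card F p
  have : Fact p.Prime := ⟨hpp⟩
  obtain ⟨k, -, hk⟩ := (Nat.dvd_prime_pow hpp).mp (show q ∣ p ^ (n : ℕ) by
    rw [← hn, hF, pow_two]; exact dvd_mul_right q q)
  have : CharP (AdjoinRoot P) p := charP_of_injective_algebraMap' F p
  have : ExpChar (AdjoinRoot P) p := ExpChar.prime hpp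
  have : Module.Finite F (AdjoinRoot P) := (AdjoinRoot.powerBasis' hP).finite
  have : Finite (AdjoinRoot P) := Module.finite_of_finite F
  have hcard : ∀ [Fintype (AdjoinRoot P)], Fintype.card (AdjoinRoot P) = (q ^ P.natDegree) ^ 2 := fun {_} => by
    rw [Module.card_eq_pow_finrank (K := F), finrank_field hP, hF, ← pow_mul, ← pow_mul, mul_comm]
  refine ⟨iterateFrobenius (AdjoinRoot P) p (k * P.natDegree), fun x => ?_, fun x => ?_, hcard⟩
  · rw [iterateFrobenius_def, hk, pow_mul]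
  · let _ := Fintype.ofFinite (AdjoinRoot P)
    rw [iterateFrobenius_def, iterateFrobenius_def, ← pow_mul]
    conv_lhs => rw [show p ^ (k * P.natDegree) * p ^ (k * P.natDegree) = Fintype.card (AdjoinRoot P) by
      rw [hcard, hk, ← pow_mul, ← pow_mul, ← pow_add]; congr 1; ring]
    exact FiniteField.pow_card x

include hS hF hσ hP hadj in
/-- A nondegenerate cyclic subspace. -/
theorem exists_sep_cyclic {W : Submodule F V} (hW : InvBy g W) (hWs : SepH B W) (hne : W ≠ ⊥)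
    (hkill : ∀ w ∈ W, aeval g P w = 0) :
    ∃ X, X ≤ W ∧ InvBy g X ∧ SepH B X ∧ finrank F X = P.natDegree := by
  obtain ⟨θ, hθ, hθθ, -⟩ := field_frob hF (P := P) hP
  obtain ⟨v, hvW, hvv⟩ := exists_unit hS hF hσ hWs hne
  obtain ⟨L, hL, hinj, hinv, hd⟩ := exists_cyclic (g := g) hP (hkill v hvW)
    (fun e => by simp [e] at hvv)
  refine ⟨_, ?_, hinv, ?_, hd⟩
  · rintro _ ⟨k, rfl⟩
    obtain ⟨R, rfl⟩ := AdjoinRoot.mk_surjective k
    rw [hL]
    exact invBy_aeval hW R v hvW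
  · rintro _ ⟨h, rfl⟩ hne'
    have hh : θ h ≠ 0 := fun e => hne' (by rw [← hθθ h, e, map_zero, map_zero])
    refine ⟨_, ⟨(θ h)⁻¹, rfl⟩, ?_⟩
    rw [cyclic_form hadj hL hL, ← hθ, mul_inv_cancel₀ hh,
      show L 1 = v by rw [← map_one (AdjoinRoot.mk P), hL, map_one, Module.End.one_apply], hvv]
    exact one_ne_zero

include hS hF hσ hP hadj in
/-- Two orthogonal cyclic subspaces with the same polynomial contain an isotropic one. -/
theorem exists_iso_two {U W : Submodule F V} (hU : InvBy g U) (hW : InvBy g W) (hUs : SepH B U)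
    (hWs : SepH B W) (hUd : finrank F U = P.natDegree) (hWd : finrank F W = P.natDegree)
    (horth : ∀ x ∈ U, ∀ y ∈ W, B x y = 0)
    (hkU : ∀ w ∈ U, aeval g P w = 0) (hkW : ∀ w ∈ W, aeval g P w = 0) :
    ∃ X, X ≤ U ⊔ W ∧ InvBy g X ∧ IsoH B X ∧ finrank F X = P.natDegree := by
  have hPd : 0 < P.natDegree := (Fact.out : Irreducible P).natDegree_pos
  obtain ⟨u, hu, huu⟩ := exists_unit hS hF hσ hUs fun e => by rw [e, finrank_bot] at hUd; omega
  obtain ⟨w, hw, hww⟩ := exists_unit hS hF hσ hWs fun e => by rw [e, finrank_bot] at hWd; omega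
  obtain ⟨L, hL, hLinj, -, -⟩ := exists_cyclic (g := g) hP (hkU u hu) (fun e => by simp [e] at huu)
  obtain ⟨M, hM, hMinj, -, -⟩ := exists_cyclic (g := g) hP (hkW w hw) (fun e => by simp [e] at hww)
  have hL1 : L 1 = u := by rw [← map_one (AdjoinRoot.mk P), hL, map_one, Module.End.one_apply]
  have hM1 : M 1 = w := by rw [← map_one (AdjoinRoot.mk P), hM, map_one, Module.End.one_apply]
  have hLU : ∀ k, L k ∈ U := fun k => by
    obtain ⟨R, rfl⟩ := AdjoinRoot.mk_surjective k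
    rw [hL]; exact invBy_aeval hU R u hu
  have hMW : ∀ k, M k ∈ W := fun k => by
    obtain ⟨R, rfl⟩ := AdjoinRoot.mk_surjective k
    rw [hM]; exact invBy_aeval hW R w hw
  obtain ⟨θ, hθ, hθθ, hcard⟩ := field_frob hF (P := P) hP
  have : Module.Finite F (AdjoinRoot P) := (AdjoinRoot.powerBasis' hP).finite
  have : Finite (AdjoinRoot P) := Module.finite_of_finite F
  let _ := Fintype.ofFinite (AdjoinRoot P)
  -- every functional is `k ↦ B u (L (a * k))`
  let T : AdjoinRoot P →ₗ[F] Module.Dual F (AdjoinRoot P) :=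
    LinearMap.mk₂ F (fun a k => B u (L (a * k)))
      (fun a a' k => by rw [add_mul, map_add, map_add])
      (fun c a k => by rw [smul_mul_assoc, map_smul, map_smul])
      (fun a k k' => by rw [mul_add, map_add, map_add])
      (fun c a k => by rw [mul_smul_comm, map_smul, map_smul])
  have hTinj : Function.Injective T := by
    rw [← LinearMap.ker_eq_bot, LinearMap.ker_eq_bot']
    intro a ha
    by_contra ha0
    have h1 : B u (L (a * a⁻¹)) = 0 := LinearMap.congr_fun ha a⁻¹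
    rw [mul_inv_cancel₀ ha0, hL1, huu] at h1
    exact one_ne_zero h1
  have hdim : finrank F (AdjoinRoot P) = finrank F (Module.Dual F (AdjoinRoot P)) := Subspace.dual_finrank_eq.symm
  obtain ⟨a, ha⟩ := (LinearMap.injective_iff_surjective_of_finrank_eq_finrank hdim).mp hTinj ((B w).comp M)
  have ha' : ∀ k, B w (M k) = B u (L (a * k)) := fun k => (LinearMap.congr_fun ha k).symm
  have hswap : ∀ {v : V} {N : AdjoinRoot P →ₗ[F] V}, (∀ R, N (AdjoinRoot.mk P R) = aeval g R v) →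
      ∀ k, B v (N (θ k)) = σ (B v (N k)) := fun {v N} hN k => by
    have hN1 : N 1 = v := by rw [← map_one (AdjoinRoot.mk P), hN, map_one, Module.End.one_apply]
    have h1 := cyclic_form hadj hN hN k 1
    rw [mul_one, ← hθ, hN1] at h1
    rw [← h1, hS.eq]
  have ha0 : a ≠ 0 := fun e => by
    have := ha' 1
    rw [hM1, hww, e, zero_mul, map_zero, map_zero] at this
    exact one_ne_zero this
  have hθa : θ a = a := by
    have h1 : ∀ k, B u (L ((θ a - a) * θ k)) = 0 := fun k => by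
      rw [sub_mul, map_sub, map_sub, ← map_mul, hswap hL, ← ha', ← hswap hM, ha', sub_self]
    by_contra hne
    have h2 := h1 (θ (θ a - a)⁻¹)
    rw [hθθ, mul_inv_cancel₀ (sub_ne_zero.mpr hne), hL1, huu] at h2
    exact one_ne_zero h2
  have hμ : (-a⁻¹) ^ q ^ P.natDegree = -a⁻¹ := by rw [← hθ, map_neg, map_inv₀, hθa]
  have hn := CfsgLib.Forms.card_norm_fiber hcard (-a⁻¹) (neg_ne_zero.mpr (inv_ne_zero ha0)) hμ
  obtain ⟨⟨C, hC⟩⟩ := (Nat.card_pos_iff.mp (by rw [hn]; exact Nat.succ_pos _)).1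
  let N : AdjoinRoot P →ₗ[F] V := L + M.comp (LinearMap.mulLeft F C)
  have hNk : ∀ k, N k = L k + M (C * k) := fun k => rfl
  have hNinj : Function.Injective N := by
    rw [← LinearMap.ker_eq_bot, LinearMap.ker_eq_bot']
    intro k hk
    have h1 : L k ∈ U ⊓ W := ⟨hLU k, by
      rw [show L k = -M (C * k) from eq_neg_of_add_eq_zero_left hk]
      exact W.neg_mem (hMW _)⟩
    rw [orth_disjoint hS hUs horth, Submodule.mem_bot] at h1
    exact hLinj (h1.trans (map_zero L).symm)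
  refine ⟨LinearMap.range N, ?_, ?_, ?_, by rw [LinearMap.finrank_range_of_inj hNinj, finrank_field hP]⟩
  · rintro _ ⟨k, rfl⟩
    rw [hNk]
    exact add_mem (Submodule.mem_sup_left (hLU k)) (Submodule.mem_sup_right (hMW _))
  · rintro _ ⟨k, rfl⟩
    obtain ⟨R, rfl⟩ := AdjoinRoot.mk_surjective k
    obtain ⟨S, hS'⟩ := AdjoinRoot.mk_surjective C
    refine ⟨AdjoinRoot.mk P (X * R), ?_⟩
    rw [hNk, hNk, map_add, ← hS', ← map_mul, ← map_mul, hL, hL, hM, hM, ← mul_assoc, mul_comm S X, mul_assoc,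
      map_mul, map_mul _ X (S * R), aeval_X, Module.End.mul_apply, Module.End.mul_apply]
  · rintro _ ⟨h, rfl⟩ _ ⟨k, rfl⟩
    simp only [hNk, map_add, LinearMap.add_apply, horth _ (hLU h) _ (hMW _),
      swap_zero hS (horth _ (hLU k) _ (hMW _)), zero_add, add_zero]
    rw [cyclic_form hadj hL hL, cyclic_form hadj hM hM, ha', ← map_add, ← map_add, mul_pow]
    have e : h ^ q ^ P.natDegree * k + a * (C ^ q ^ P.natDegree * h ^ q ^ P.natDegree * (C * k)) = 0 := by
      calc _ = h ^ q ^ P.natDegree * k * (1 + a * C ^ (q ^ P.natDegree + 1)) := by ring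
        _ = 0 := by rw [hC, mul_neg, mul_inv_cancel₀ ha0, add_neg_cancel, mul_zero]
    rw [e, map_zero, map_zero]

include hS hF hσ hP hadj hginv in
/-- All admissible dimensions occur in a component. -/
theorem component {W : Submodule F V} (hW : InvBy g W) (hWs : SepH B W) (hkill : ∀ w ∈ W, aeval g P w = 0) :
    P.natDegree ∣ finrank F W ∧
      (∀ a, 2 * a * P.natDegree ≤ finrank F W →
        ∃ X, X ≤ W ∧ InvBy g X ∧ IsoH B X ∧ finrank F X = a * P.natDegree) ∧
      ∀ j, j * P.natDegree ≤ finrank F W →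
        ∃ X, X ≤ W ∧ InvBy g X ∧ SepH B X ∧ finrank F X = j * P.natDegree := by
  induction hn : finrank F W using Nat.strong_induction_on generalizing W with
  | _ n ih =>
  have hPd : 0 < P.natDegree := (Fact.out : Irreducible P).natDegree_pos
  have h0 : ∀ j, j = 0 → (∃ X, X ≤ W ∧ InvBy g X ∧ IsoH B X ∧ finrank F X = j * P.natDegree) ∧
      ∃ X, X ≤ W ∧ InvBy g X ∧ SepH B X ∧ finrank F X = j * P.natDegree := fun j hj =>
    ⟨⟨⊥, bot_le, invBy_bot, isoH_bot, by rw [hj, zero_mul, finrank_bot]⟩,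
      ⟨⊥, bot_le, invBy_bot, sepH_bot, by rw [hj, zero_mul, finrank_bot]⟩⟩
  rcases eq_or_ne W ⊥ with rfl | hne
  · rw [finrank_bot] at hn
    subst hn
    exact ⟨dvd_zero _, fun a ha => (h0 a (by rcases Nat.eq_zero_or_pos a with h | h <;> [exact h; nlinarith])).1,
      fun j hj => (h0 j (by rcases Nat.eq_zero_or_pos j with h | h <;> [exact h; nlinarith])).2⟩
  obtain ⟨X, hXW, hX, hXs, hXd⟩ := exists_sep_cyclic hS hF hσ hP hadj hW hWs hne hkill
  obtain ⟨Y, hYW, hmem, hYs, horth, -, hd⟩ := exists_compl hS (conj_conj hF hσ) hWs hXs hXW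
  have hY : InvBy g Y := hginv W X Y hW hX hmem
  obtain ⟨hdvd, hiso, hsep⟩ := ih (finrank F Y) (by omega) hY hYs (fun w hw => hkill w (hYW hw)) rfl
  refine ⟨by rw [← hn, ← hd, hXd]; exact Nat.dvd_add dvd_rfl hdvd, fun a ha => ?_, fun j hj => ?_⟩
  · rcases Nat.eq_zero_or_pos a with h | h
    · exact (h0 a h).1
    obtain ⟨a, rfl⟩ : ∃ i, a = i + 1 := ⟨a - 1, by omega⟩
    rw [mul_add, add_mul, mul_one] at ha
    obtain ⟨X', hX'Y, hX', hX's, hX'd⟩ := hsep 1 (by omega)
    rw [one_mul] at hX'd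
    obtain ⟨Y', hY'Y, hmem', hY's, horth', -, hd'⟩ := exists_compl hS (conj_conj hF hσ) hYs hX's hX'Y
    have hY' : InvBy g Y' := hginv Y X' Y' hY hX' hmem'
    obtain ⟨-, hiso', -⟩ := ih (finrank F Y') (by omega) hY' hY's (fun w hw => hkill w (hYW (hY'Y hw))) rfl
    obtain ⟨Z, hZY, hZ, hZi, hZd⟩ := hiso' a (by omega)
    obtain ⟨Z', hZ'le, hZ', hZ'i, hZ'd⟩ := exists_iso_two hS hF hσ hP hadj hX hX' hXs hX's hXd hX'd
      (fun x hx y hy => horth x hx y (hX'Y hy)) (fun w hw => hkill w (hXW hw))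
      (fun w hw => hkill w (hYW (hX'Y hw)))
    have ho : ∀ x ∈ X ⊔ X', ∀ z ∈ Z, B x z = 0 := by
      intro x hx z hz
      obtain ⟨x₁, hx₁, x₂, hx₂, rfl⟩ := Submodule.mem_sup.mp hx
      rw [map_add, LinearMap.add_apply, horth x₁ hx₁ z (hY'Y (hZY hz)), horth' x₂ hx₂ z (hZY hz), add_zero]
    refine ⟨Z' ⊔ Z, sup_le (hZ'le.trans (sup_le hXW (hX'Y.trans hYW))) (hZY.trans (hY'Y.trans hYW)), hZ'.sup hZ,
      isoH_sup hS hZ'i hZi (fun x hx z hz => ho x (hZ'le hx) z hz), ?_⟩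
    have hdisj : Z' ⊓ Z = ⊥ := le_bot_iff.mp ((inf_le_inf hZ'le le_rfl).trans (orth_disjoint hS
      (sepH_sup hS hXs hX's fun x hx y hy => horth x hx y (hX'Y hy)) ho).le)
    rw [finrank_sup_of_disjoint hdisj, hZ'd, hZd]
    ring
  · rcases Nat.eq_zero_or_pos j with h | h
    · exact (h0 j h).2
    obtain ⟨j, rfl⟩ : ∃ i, j = i + 1 := ⟨j - 1, by omega⟩
    rw [add_mul, one_mul] at hj ⊢
    obtain ⟨Z, hZY, hZ, hZs, hZd⟩ := hsep j (by omega)
    have ho : ∀ x ∈ X, ∀ z ∈ Z, B x z = 0 := fun x hx z hz => horth x hx z (hZY hz)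
    exact ⟨X ⊔ Z, sup_le hXW (hZY.trans hYW), hX.sup hZ, sepH_sup hS hXs hZs ho, by
      rw [finrank_sup_of_disjoint (orth_disjoint hS hXs ho), hXd, hZd, add_comm]⟩

end Component

section Prime

variable (hg : ∀ u v, B (g u) (g v) = B u v) {r : ℕ} [Fact r.Prime] (hgr : g ^ r = 1) (hrq : (q : ZMod r) ≠ 0)

local notation "bb" => orderOf (((Fintype.card F : ℕ) : ZMod r))
local notation "cc" => orderOf (-(q : ZMod r))

include hS hF hσ hg hgr hrq in
/-- A pair of atoms with one polynomial, or one polynomial for each atom. -/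
theorem pair_or_classes (hodd : Odd cc) {M : Submodule F V} (hM : InvBy g M) (hMs : SepH B M)
    (hM0 : fixedIn g M = ⊥) :
    (∃ P : F[X], P.Monic ∧ Irreducible P ∧ P.natDegree = cc ∧ ∃ U W, U ≤ M ∧ W ≤ M ∧ InvBy g U ∧ InvBy g W ∧
      SepH B U ∧ SepH B W ∧ finrank F U = cc ∧ finrank F W = cc ∧ (∀ x ∈ U, ∀ y ∈ W, B x y = 0) ∧
      (∀ w ∈ U, aeval g P w = 0) ∧ ∀ w ∈ W, aeval g P w = 0) ∨
    ∃ S : Finset F[X], S.card * cc = finrank F M ∧ ∀ P ∈ S, P.Monic ∧ Irreducible P ∧ P.natDegree = cc ∧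
      ∃ U, U ≤ M ∧ InvBy g U ∧ SepH B U ∧ finrank F U = cc ∧ ∀ w ∈ U, aeval g P w = 0 := by
  classical
  induction hn : finrank F M using Nat.strong_induction_on generalizing M with
  | _ n ih =>
  rcases eq_or_ne M ⊥ with rfl | hne
  · rw [finrank_bot] at hn
    exact Or.inr ⟨∅, by simpa using hn, by simp⟩
  have hbc : bb = cc := by
    rcases b_cases (F := F) hF hrq with ⟨-, h⟩ | ⟨h, -⟩
    · exact h
    · exact absurd h (Nat.not_even_iff_odd.mpr hodd)
  have hc := c_pos (F := F) hF hrq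
  obtain ⟨X, hXM, hX, hXs, hXd⟩ := exists_atom hS hF hσ hg hgr hrq hM hMs hM0 hne
  obtain ⟨Y, hYM, hY, hYs, horth, -, hd⟩ := exists_compl_inv hS hF hσ hg hgr hM hMs hX hXs hXM
  obtain ⟨P, hmon, hirr, hdeg, hkill⟩ := exists_poly hF hgr hrq hX
    (le_bot_iff.mp ((inf_le_inf_right _ hXM).trans hM0.le)) (hXd.trans hbc.symm)
  rcases ih (finrank F Y) (by omega) hY hYs (le_bot_iff.mp ((inf_le_inf_right _ hYM).trans hM0.le)) rfl with
    ⟨Q, h1, h2, h3, U, W, hUY, hWY, rest⟩ | ⟨S, hcard, hSP⟩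
  · exact Or.inl ⟨Q, h1, h2, h3, U, W, hUY.trans hYM, hWY.trans hYM, rest⟩
  by_cases hPS : P ∈ S
  · obtain ⟨h1, h2, h3, U, hUY, hU, hUs, hUd, hkU⟩ := hSP P hPS
    exact Or.inl ⟨P, h1, h2, h3, X, U, hXM, hUY.trans hYM, hX, hU, hXs, hUs, hXd, hUd,
      fun x hx y hy => horth x hx y (hUY hy), hkill, hkU⟩
  refine Or.inr ⟨insert P S, ?_, fun Q hQ => ?_⟩
  · rw [Finset.card_insert_of_notMem hPS, add_mul, one_mul, hcard]
    omega
  rcases Finset.mem_insert.mp hQ with rfl | hQ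
  · exact ⟨hmon, hirr, hdeg.trans hbc, X, hXM, hX, hXs, hXd, hkill⟩
  · obtain ⟨h1, h2, h3, U, hUY, rest⟩ := hSP Q hQ
    exact ⟨h1, h2, h3, U, hUY.trans hYM, rest⟩

include hF hgr hrq in
/-- Distinct polynomials of atoms are at most `(r - 1) / c`. -/
theorem classes_le {M : Submodule F V} (hM : InvBy g M) (hM0 : fixedIn g M = ⊥) {e : ℕ} (he : 0 < e)
    {S : Finset F[X]} (hS' : ∀ P ∈ S, P.Monic ∧ Irreducible P ∧ P.natDegree = e ∧
      ∃ U, U ≤ M ∧ U ≠ ⊥ ∧ ∀ w ∈ U, aeval g P w = 0) :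
    S.card * e ≤ r - 1 := by
  have hrP := (Fact.out : r.Prime)
  set Φ : F[X] := ∑ i ∈ Finset.range r, X ^ i with hΦ
  have hdvd : ∀ P ∈ S, P ∣ Φ := fun P hP => by
    obtain ⟨hmon, hirr, -, U, hUM, hU0, hk⟩ := hS' P hP
    have : Fact (Irreducible P) := ⟨hirr⟩
    obtain ⟨v, hv, hv0⟩ := (Submodule.ne_bot_iff U).mp hU0
    obtain ⟨L, hL⟩ := exists_orbit (g := g) hmon (hk v hv)
    refine AdjoinRoot.mk_eq_zero.mp (orbit_injective hv0 hL ?_)
    rw [map_zero, hL, hΦ, map_sum]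
    simp only [map_pow, aeval_X]
    refine (Submodule.eq_bot_iff _).mp hM0 _ (mem_fixedIn.mpr ⟨?_, ?_⟩)
    · rw [LinearMap.sum_apply]
      exact Submodule.sum_mem _ fun k _ => hM.pow k v (hUM hv)
    · have h2 := mul_geom_sum g r
      rw [hgr, sub_self, sub_mul, one_mul, sub_eq_zero] at h2
      exact congrArg (fun f : Module.End F V => f v) h2
  have hΦ0 : Φ ≠ 0 := fun h => by
    have := congrArg (fun R : F[X] => R.coeff 0) h
    simp [hΦ, hrP.pos] at this
  have hprod : (∏ P ∈ S, P) ∣ Φ := Finset.prod_dvd_of_coprime (fun P hP Q hQ hPQ => by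
    obtain ⟨hPm, hPi, -⟩ := hS' P hP
    obtain ⟨hQm, hQi, -⟩ := hS' Q hQ
    refine hPi.coprime_iff_not_dvd.mpr fun h => hPQ ?_
    exact eq_of_monic_of_associated hPm hQm (hPi.associated_of_dvd hQi h)) hdvd
  have hdeg := natDegree_le_of_dvd hprod hΦ0
  rw [natDegree_prod _ _ (fun P hP => (hS' P hP).1.ne_zero), Finset.sum_congr rfl (fun P hP => (hS' P hP).2.2.1),
    Finset.sum_const, smul_eq_mul] at hdeg
  refine hdeg.trans (natDegree_sum_le_of_forall_le _ _ fun i hi => ?_)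
  rw [natDegree_X_pow]
  rw [Finset.mem_range] at hi
  omega

include hS hF hσ hg hgr hrq in
/-- Invariant totally isotropic subspaces when the order of `-q` is odd. -/
theorem exists_iso_moved_odd (hodd : Odd cc) {M : Submodule F V} (hM : InvBy g M) (hMs : SepH B M)
    (hM0 : fixedIn g M = ⊥) {a : ℕ} (ha : (2 * a + (r - 1) / cc) * cc ≤ finrank F M + cc) :
    ∃ X, X ≤ M ∧ InvBy g X ∧ IsoH B X ∧ finrank F X = a * cc := by
  induction a generalizing M with
  | zero => exact ⟨⊥, bot_le, invBy_bot, isoH_bot, by rw [zero_mul, finrank_bot]⟩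
  | succ a ih =>
    have hc := c_pos (F := F) hF hrq
    have hbc : bb = cc := by
      rcases b_cases (F := F) hF hrq with ⟨-, h⟩ | ⟨h, -⟩
      · exact h
      · exact absurd h (Nat.not_even_iff_odd.mpr hodd)
    rcases pair_or_classes hS hF hσ hg hgr hrq hodd hM hMs hM0 with
      ⟨P, hmon, hirr, hdeg, U, W, hUM, hWM, hU, hW, hUs, hWs, hUd, hWd, horth, hkU, hkW⟩ | ⟨S, hcard, hSP⟩
    · have : Fact (Irreducible P) := ⟨hirr⟩
      have hadj : ∀ (R : F[X]) (u v : V), B (aeval g R u) v = B u (aeval g (R ^ q ^ P.natDegree) v) := fun R u v => by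
        rw [hdeg, ← hbc]
        exact adj_poly hF hσ hg hgr hrq hodd R u v
      obtain ⟨X, hXle, hX, hXi, hXd⟩ := exists_iso_two hS hF hσ hmon hadj hU hW hUs hWs (hUd.trans hdeg.symm)
        (hWd.trans hdeg.symm) horth hkU hkW
      have hUWs := sepH_sup hS hUs hWs horth
      obtain ⟨Y, hYM, hY, hYs, ho, -, hd⟩ :=
        exists_compl_inv hS hF hσ hg hgr hM hMs (hU.sup hW) hUWs (sup_le hUM hWM)
      rw [finrank_sup_of_disjoint (orth_disjoint hS hUs horth), hUd, hWd] at hd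
      obtain ⟨Z, hZY, hZ, hZi, hZd⟩ := ih hY hYs (le_bot_iff.mp ((inf_le_inf_right _ hYM).trans hM0.le))
        (by rw [mul_add 2 a 1, add_mul, add_mul, mul_one] at ha; rw [add_mul]; omega)
      refine ⟨X ⊔ Z, sup_le (hXle.trans (sup_le hUM hWM)) (hZY.trans hYM), hX.sup hZ,
        isoH_sup hS hXi hZi fun x hx z hz => ho x (hXle hx) z (hZY hz), ?_⟩
      rw [finrank_sup_of_disjoint (le_bot_iff.mp ((inf_le_inf hXle hZY).trans (orth_disjoint hS hUWs ho).le)),
        hXd, hZd, hdeg, add_mul, one_mul, add_comm]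
    · exfalso
      have h1 := classes_le hF hgr hrq hM hM0 hc (S := S) fun P hP => by
        obtain ⟨h1, h2, h3, U, hUM, -, -, hUd, hk⟩ := hSP P hP
        exact ⟨h1, h2, h3, U, hUM, fun e => by rw [e, finrank_bot] at hUd; omega, hk⟩
      have h2 : S.card ≤ (r - 1) / cc := (Nat.le_div_iff_mul_le hc).mpr h1
      have h3 := Nat.mul_le_mul_right cc h2
      rw [hcard] at h3
      rw [mul_add 2 a 1, add_mul, add_mul, mul_one] at ha
      omega

include hS hF hσ hg hgr hrq in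
/-- Invariant totally isotropic subspaces when the order of `-q` is even. -/
theorem exists_iso_moved_even (heven : Even cc) {M : Submodule F V} (hM : InvBy g M) (hMs : SepH B M)
    (hM0 : fixedIn g M = ⊥) {a : ℕ} (ha : a * cc ≤ finrank F M) :
    ∃ X, X ≤ M ∧ InvBy g X ∧ IsoH B X ∧ finrank F X = a * bb := by
  induction a generalizing M with
  | zero => exact ⟨⊥, bot_le, invBy_bot, isoH_bot, by rw [zero_mul, finrank_bot]⟩
  | succ a ih =>
    have hc := c_pos (F := F) hF hrq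
    have hne : M ≠ ⊥ := fun e => by rw [e, finrank_bot, add_mul, one_mul] at ha; omega
    rcases atom_cases hS hF hσ hg hgr hrq hM hMs hM0 hne with
      ⟨X, hXM, hX, hXs, hXd⟩ | ⟨U, W, hUM, hWM, hU, hW, hUi, hUd, -, hsep, hd2, -, -⟩
    · exact absurd heven (Nat.not_even_iff_odd.mpr (c_odd_of_sep hS hF hσ hg hgr hrq hX
        (le_bot_iff.mp ((inf_le_inf_right _ hXM).trans hM0.le)) hXs hXd).1)
    · have hcb : cc = 2 * bb := by
        rcases b_cases (F := F) hF hrq with ⟨h, -⟩ | ⟨-, h⟩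
        · exact absurd heven (Nat.not_even_iff_odd.mpr h)
        · exact h
      obtain ⟨Y, hYM, hY, hYs, ho, -, hd⟩ :=
        exists_compl_inv hS hF hσ hg hgr hM hMs (hU.sup hW) hsep (sup_le hUM hWM)
      obtain ⟨Z, hZY, hZ, hZi, hZd⟩ := ih hY hYs (le_bot_iff.mp ((inf_le_inf_right _ hYM).trans hM0.le))
        (by rw [add_mul, one_mul] at ha; omega)
      refine ⟨U ⊔ Z, sup_le hUM (hZY.trans hYM), hU.sup hZ,
        isoH_sup hS hUi hZi fun x hx z hz => ho x (Submodule.mem_sup_left hx) z (hZY hz), ?_⟩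
      rw [finrank_sup_of_disjoint (le_bot_iff.mp ((inf_le_inf le_sup_left hZY).trans (orth_disjoint hS hsep ho).le)),
        hUd, hZd, add_mul, one_mul, add_comm]

end Prime

end CfsgLib.UnitaryInv
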