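import Cfsg.Agent.LinearElements.UnitaryModels
import Cfsg.Agent.LinearElements.RClassify
import Cfsg.Prelude.Def_Classical

/-!
Primes dividing the numbers of isotropic and nondegenerate subspaces of a hermitian space, and elements of prime
order of the projective special unitary group as linear maps.
-/

set_option autoImplicit false

namespace CfsgLib.UnitaryInv

open Module Submodule CfsgLib.LinearElements CfsgLib.Forms
open scoped Matrix

variable {F : Type*} [Field F] {σ : F →+* F} {n q : ℕ}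

/-- An element of projective order `r` of the special unitary group. -/
def ProjU (σ : F →+* F) (n r : ℕ) (g : Module.End F (Fin n → F)) : Prop :=
  ProjOrder g r ∧ ∀ u v, hermSesq σ n (g u) (g v) = hermSesq σ n u v

/-- Conversion from special unitary matrices. -/
theorem forall_su_iff [Fintype F] {r : ℕ} (hσ : ∀ x, σ x = x ^ q) (P : Module.End F (Fin n → F) → Prop) :
    (∀ x : Matrix.SpecialLinearGroup (Fin n) F, x ∈ Cfsg.SU n F q →
      (∃ z : F, ((x ^ r : Matrix.SpecialLinearGroup (Fin n) F) : Matrix (Fin n) (Fin n) F) = z • (1 : Matrix (Fin n) (Fin n) F)) →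
      (∀ z : F, (x : Matrix (Fin n) (Fin n) F) ≠ z • (1 : Matrix (Fin n) (Fin n) F)) →
      P (Matrix.toLin' (x : Matrix (Fin n) (Fin n) F))) ↔
    ∀ g, ProjU σ n r g → P g := by
  have hmem : ∀ x : Matrix.SpecialLinearGroup (Fin n) F, x ∈ Cfsg.SU n F q ↔
      ∀ u v, hermSesq σ n (Matrix.toLin' (x : Matrix (Fin n) (Fin n) F) u) (Matrix.toLin' (x : Matrix (Fin n) (Fin n) F) v) =
        hermSesq σ n u v := fun x => by
    constructor
    · intro h u v
      rw [← hermForm_eq_hermSesq hσ, ← hermForm_eq_hermSesq hσ]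
      exact h v u
    · intro h u v
      show Cfsg.hermForm n F q _ _ = Cfsg.hermForm n F q u v
      rw [hermForm_eq_hermSesq hσ, hermForm_eq_hermSesq hσ]
      exact h v u
  have key := forall_sl_iff (r := r) (fun g => (∀ u v, hermSesq σ n (g u) (g v) = hermSesq σ n u v) → P g)
  constructor
  · intro h g hg
    exact key.mp (fun x hx hns hi => h x ((hmem x).mpr hi) hx hns) g hg.1 hg.2
  · intro h x hxSU hx hns
    exact key.mpr (fun g hg hi => h g ⟨hg, hi⟩) x hx hns ((hmem x).mp hxSU)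

theorem iso_iff (hσ : ∀ x, σ x = x ^ q) (W : Submodule F (Fin n → F)) :
    (∀ u ∈ W, ∀ v ∈ W, Cfsg.hermForm n F q u v = 0) ↔ IsoH (hermSesq σ n) W := by
  simp only [IsoH, hermForm_eq_hermSesq hσ]
  exact ⟨fun h u hu v hv => h v hv u hu, fun h u hu v hv => h v hv u hu⟩

theorem sep_iff (hσ : ∀ x, σ x = x ^ q) (hσ2 : ∀ x, σ (σ x) = x) (W : Submodule F (Fin n → F)) :
    (∀ u ∈ W, u ≠ 0 → ∃ v ∈ W, Cfsg.hermForm n F q u v ≠ 0) ↔ SepH (hermSesq σ n) W := by
  simp only [SepH, hermForm_eq_hermSesq hσ]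
  refine forall₂_congr fun u _ => imp_congr_right fun _ => exists_congr fun v => and_congr_right fun _ => not_congr ?_
  exact ⟨swap_zero (hermSesq_isSymm hσ2 n), swap_zero (hermSesq_isSymm hσ2 n)⟩

/-- The scalar of a scalar power has norm one. -/
theorem scalar_norm (hn : 0 < n) {g : Module.End F (Fin n → F)}
    (hg : ∀ u v, hermSesq σ n (g u) (g v) = hermSesq σ n u v) {k : ℕ} {z : F} (hz : g ^ k = z • 1) :
    σ z * z = 1 := by
  classical
  have h := pow_isometry hg k (Pi.single ⟨0, hn⟩ 1) (Pi.single ⟨0, hn⟩ 1)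
  simp only [hz, LinearMap.smul_apply, Module.End.one_apply, hermSesq_apply] at h
  rw [Finset.sum_eq_single ⟨0, hn⟩ (fun x _ hx => by simp [hx]) (by simp),
    Finset.sum_eq_single ⟨0, hn⟩ (fun x _ hx => by simp [hx]) (by simp)] at h
  simpa using h

variable [Fintype F] (hF : Fintype.card F = q ^ 2) (hσ : ∀ x, σ x = x ^ q) {r : ℕ} [Fact r.Prime]

include hF in
omit [Field F] in
theorem prod_u_ne (hq : 2 ≤ q) (s : Finset ℕ) (hs : ∀ i ∈ s, 1 ≤ i) : ∏ i ∈ s, u q i ≠ 0 := by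
  refine Finset.prod_ne_zero_iff.mpr fun i hi => ?_
  have : q ^ 1 ≤ q ^ i := Nat.pow_le_pow_right (by omega) (hs i hi)
  rw [pow_one] at this
  unfold u
  split <;> omega

theorem prod_range_split (f : ℕ → ℕ) {a d : ℕ} (h : d ≤ a) :
    ∏ i ∈ Finset.range a, f (i + 1) = (∏ i ∈ Finset.range d, f (i + 1)) * ∏ i ∈ Finset.Ico (d + 1) (a + 1), f i := by
  rw [← Finset.prod_range_mul_prod_Ico (fun i => f (i + 1)) h, Finset.prod_Ico_add']

omit [Field F] in
theorem exists_dvd_of_prod (hq : 1 ≤ q) {a d : ℕ} (h : r ∣ ∏ i ∈ Finset.Ico (d + 1) (a + 1), u q i) :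
    ∃ j, d < j ∧ j ≤ a ∧ orderOf (-(q : ZMod r)) ∣ j := by
  obtain ⟨j, hj, hr⟩ := ((Fact.out : r.Prime).prime.dvd_finsetProd_iff _).mp h
  rw [Finset.mem_Ico] at hj
  exact ⟨j, by omega, by omega, orderOf_dvd_of_pow_eq_one ((dvd_u_iff hq j).mp hr)⟩

include hF hσ in
/-- A prime dividing the number of totally isotropic `m`-spaces. -/
theorem count_iso {m : ℕ} (hmn : 2 * m ≤ n)
    (hdvd : r ∣ Nat.card {W : Submodule F (Fin n → F) // finrank F ↥W = m ∧ ∀ u ∈ W, ∀ v ∈ W, Cfsg.hermForm n F q u v = 0}) :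
    ¬ r ∣ q ∧ ∃ j, n - 2 * m < j ∧ j ≤ n ∧ orderOf (-(q : ZMod r)) ∣ j := by
  classical
  have hq := two_le_q hF
  have hσ2 := conj_conj hF hσ
  obtain ⟨d, rfl⟩ : ∃ d, n = d + 2 * m := ⟨n - 2 * m, by omega⟩
  rw [Nat.add_sub_cancel]
  have h1 := card_isotropic_mul (hermSesq σ (d + 2 * m)) m
  have h2 := card_frames_herm hF hσ hσ2 (hermSesq σ (d + 2 * m)) (hermSesq_isSymm hσ2 _)
    (hermSesq_sep _) m d (Module.finrank_fin_fun F)
  have h3 : ∏ i : Fin m, (Fintype.card F ^ m - Fintype.card F ^ (i : ℕ)) =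
      (q ^ 2) ^ (∑ i ∈ Finset.range m, i) * ∏ i ∈ Finset.range m, ((q ^ 2) ^ (m - i) - 1) := by
    rw [Fin.prod_univ_eq_prod_range (fun i => Fintype.card F ^ m - Fintype.card F ^ i) m, ← Finset.prod_pow_eq_pow_sum,
      ← Finset.prod_mul_distrib, hF]
    refine Finset.prod_congr rfl fun i hi => ?_
    rw [Finset.mem_range] at hi
    rw [Nat.mul_sub, mul_one, ← pow_add, Nat.add_sub_cancel' hi.le]
  rw [Nat.card_congr (Equiv.subtypeEquivRight fun W => and_congr_right fun _ => iso_iff hσ W)] at hdvd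
  simp only [IsoH] at hdvd
  set N := Nat.card {W : Submodule F (Fin (d + 2 * m) → F) // finrank F ↥W = m ∧ ∀ u ∈ W, ∀ v ∈ W, hermSesq σ _ u v = 0}
  rw [prod_range_split (u q) (Nat.le_add_right d (2 * m)), ← h1, h3] at h2
  have hkey : N * ∏ i ∈ Finset.range m, ((q ^ 2) ^ (m - i) - 1) = ∏ i ∈ Finset.Ico (d + 1) (d + 2 * m + 1), u q i := by
    apply mul_left_cancel₀ (pow_ne_zero (∑ i ∈ Finset.range m, i) (pow_ne_zero 2 (show q ≠ 0 by omega)))
    apply mul_right_cancel₀ (show ∏ i ∈ Finset.range d, u q (i + 1) ≠ 0 by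
      have := prod_u_ne hF hq ((Finset.range d).image (· + 1)) (by simp)
      rwa [Finset.prod_image (by simp)] at this)
    linarith [h2]
  have hdvd' : r ∣ ∏ i ∈ Finset.Ico (d + 1) (d + 2 * m + 1), u q i := hkey ▸ hdvd.mul_right _
  refine ⟨fun hrq => ?_, exists_dvd_of_prod (by omega) hdvd'⟩
  obtain ⟨j, hj, hr⟩ := ((Fact.out : r.Prime).prime.dvd_finsetProd_iff _).mp hdvd'
  rw [Finset.mem_Ico] at hj
  have h0 : (q : ZMod r) = 0 := (ZMod.natCast_eq_zero_iff _ _).mpr hrq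
  have h4 := (dvd_u_iff (r := r) (by omega) j).mp hr
  rw [h0, neg_zero, zero_pow (by omega)] at h4
  exact zero_ne_one h4

include hF hσ in
/-- A prime dividing the number of nondegenerate `m`-spaces. -/
theorem count_sep {m : ℕ} (hmn : m ≤ n) (hrq : ¬ r ∣ q)
    (hdvd : r ∣ Nat.card {W : Submodule F (Fin n → F) // finrank F ↥W = m ∧
      ∀ u ∈ W, u ≠ 0 → ∃ v ∈ W, Cfsg.hermForm n F q u v ≠ 0}) :
    ∃ j, n - m < j ∧ j ≤ n ∧ orderOf (-(q : ZMod r)) ∣ j := by
  classical
  have hq := two_le_q hF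
  have hσ2 := conj_conj hF hσ
  have hS := hermSesq_isSymm hσ2 n
  set B := hermSesq σ n with hBdef
  rw [Nat.card_congr (Equiv.subtypeEquivRight fun W => and_congr_right fun _ => sep_iff hσ hσ2 W)] at hdvd
  set T : Set (Submodule F (Fin n → F)) := {W | finrank F ↥W = m ∧ SepH B W} with hT
  obtain ⟨W₀, -, hW₀, hW₀d⟩ := exists_sep_sub hS hF hσ (W := ⊤) sepH_top (a := m)
    (by rw [finrank_top, Module.finrank_fin_fun]; exact hmn)
  obtain ⟨Y, -, hmem, hYs, horth, hsup, hd⟩ := exists_compl hS hσ2 sepH_top hW₀ le_top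
  rw [finrank_top, Module.finrank_fin_fun] at hd
  have hc : IsCompl W₀ Y := IsCompl.of_eq (orth_disjoint hS hW₀ horth) hsup
  let _ : MulAction (isoGroup B) (Submodule F (Fin n → F)) :=
    { smul := fun x W => W.map x.1.toLinearMap
      one_smul := fun W => Submodule.map_id W
      mul_smul := fun x y W => Submodule.map_comp _ _ W }
  have horb : MulAction.orbit (isoGroup B) W₀ = T := by
    ext W
    constructor
    · rintro ⟨x, rfl⟩
      refine ⟨(LinearEquiv.finrank_map_eq x.1 W₀).trans hW₀d, ?_⟩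
      rintro _ ⟨v, hv, rfl⟩ hne
      obtain ⟨y, hy, hvy⟩ := hW₀ v hv fun e => hne (by rw [e, map_zero])
      exact ⟨x.1 y, Submodule.mem_map_of_mem hy, by
        show B (x.1 v) (x.1 y) ≠ 0
        rwa [x.2]⟩
    · rintro ⟨hWd, hWs⟩
      obtain ⟨b, hb⟩ := exists_onb hS hF hσ hW₀ hW₀d
      obtain ⟨b', hb'⟩ := exists_onb hS hF hσ hWs hWd
      let φ := b.equiv b' (Equiv.refl _)
      obtain ⟨x, hx, hxφ⟩ := witt_hermitian (conj_ne_id hF hσ) hσ2 B hS
        ⟨fun v h => hermSesq_sep n v h, fun v h => hermSesq_sep n v fun y => swap_zero hS (h y)⟩ W₀ W φ (fun v w => by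
          obtain ⟨a, rfl⟩ := b.equivFun.symm.surjective v
          obtain ⟨a', rfl⟩ := b.equivFun.symm.surjective w
          simp [φ, Basis.equivFun_symm_apply, hb, hb'])
      refine ⟨⟨x, hx⟩, Submodule.eq_of_le_of_finrank_eq ?_ ?_⟩
      · rintro _ ⟨v, hv, rfl⟩
        show x v ∈ W
        rw [hxφ ⟨v, hv⟩]
        exact (φ ⟨v, hv⟩).2
      · exact (LinearEquiv.finrank_map_eq x W₀).trans (hW₀d.trans hWd.symm)
  have hstab : MulAction.stabilizer (isoGroup B) W₀ = stabSubmodule B W₀ := by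
    ext x
    rw [MulAction.mem_stabilizer_iff]
    constructor
    · intro h
      exact mem_stabSubmodule_of_le fun v hv => (show W₀.map x.1.toLinearMap = W₀ from h).le (Submodule.mem_map_of_mem hv)
    · intro h
      show W₀.map x.1.toLinearMap = W₀
      refine le_antisymm (by rintro _ ⟨v, hv, rfl⟩; exact (h v).mpr hv) fun v hv => ?_
      exact ⟨x.1.symm v, (h _).mp (by rw [LinearEquiv.apply_symm_apply]; exact hv), x.1.apply_symm_apply v⟩
  have hnd : ∀ X : Submodule F (Fin n → F), SepH B X → ∀ x : X, (∀ y : X, restrictForm B X x y = 0) → x = 0 :=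
    fun X hX x hx => by
      by_contra hx0
      obtain ⟨y, hy, hxy⟩ := hX x x.2 fun e => hx0 (Subtype.ext e)
      exact hxy (hx ⟨y, hy⟩)
  have : Finite (isoGroup B) := finite_isoGroup B
  have hW₀Y : ∀ v, v ∈ Y ↔ ∀ x ∈ W₀, B x v = 0 := fun v => by simpa using hmem v
  have hcard := card_eq_orbit_mul_stabilizer (G := isoGroup B) W₀
  rw [horb, hstab, Nat.card_congr (stabEquivProd hc hW₀Y fun u v h => swap_zero hS h).toEquiv, Nat.card_prod,
    card_isoGroup_herm hF hσ hσ2 B hS (hermSesq_sep n) (Module.finrank_fin_fun F),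
    card_isoGroup_herm hF hσ hσ2 (restrictForm B W₀) ⟨fun u v => hS.eq _ _⟩ (hnd _ hW₀) hW₀d,
    card_isoGroup_herm hF hσ hσ2 (restrictForm B Y) ⟨fun u v => hS.eq _ _⟩ (hnd _ hYs) (show finrank F Y = n - m by omega),
    prod_range_split (u q) (Nat.sub_le n m)] at hcard
  have hdvd' : r ∣ q ^ (∑ i ∈ Finset.range n, i) *
      ((∏ i ∈ Finset.range (n - m), u q (i + 1)) * ∏ i ∈ Finset.Ico (n - m + 1) (n + 1), u q i) := by
    rw [hcard]
    exact Dvd.dvd.mul_right hdvd _
  rcases (Fact.out : r.Prime).prime.dvd_or_dvd hdvd' with h | -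
  · exact absurd ((Fact.out : r.Prime).dvd_of_dvd_pow h) hrq
  have hne : ∏ i ∈ Finset.range (n - m), u q (i + 1) ≠ 0 := by
    have := prod_u_ne hF hq ((Finset.range (n - m)).image (· + 1)) (by simp)
    rwa [Finset.prod_image (by simp)] at this
  have hkey : q ^ (∑ i ∈ Finset.range n, i) * ∏ i ∈ Finset.Ico (n - m + 1) (n + 1), u q i =
      Nat.card T * (q ^ (∑ i ∈ Finset.range m, i) * (∏ i ∈ Finset.range m, u q (i + 1)) *
        q ^ (∑ i ∈ Finset.range (n - m), i)) := by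
    apply mul_right_cancel₀ hne
    linarith [hcard]
  have hdvd'' : r ∣ q ^ (∑ i ∈ Finset.range n, i) * ∏ i ∈ Finset.Ico (n - m + 1) (n + 1), u q i := by
    rw [hkey]
    exact Dvd.dvd.mul_right hdvd _
  rcases (Fact.out : r.Prime).prime.dvd_or_dvd hdvd'' with h | h
  · exact absurd ((Fact.out : r.Prime).dvd_of_dvd_pow h) hrq
  exact exists_dvd_of_prod (by omega) h

end CfsgLib.UnitaryInv
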