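import Cfsg.Agent.LinearElements.UnitaryClasses

/-!
Invariant totally isotropic and nondegenerate subspaces of given dimension for a unitary isometry of odd prime order.
-/

set_option autoImplicit false

namespace CfsgLib.UnitaryInv

open Module Submodule CfsgLib.LinearElements

variable {F V : Type*} [Field F] [Fintype F] [AddCommGroup V] [Module F V] [FiniteDimensional F V] {σ : F →+* F}
  {B : V →ₛₗ[σ] V →ₗ[F] F} (hS : B.IsSymm) (hB : SepH B (⊤ : Submodule F V)) {q : ℕ}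
  (hF : Fintype.card F = q ^ 2) (hσ : ∀ x, σ x = x ^ q)
  {g : Module.End F V} (hg : ∀ u v, B (g u) (g v) = B u v) {r : ℕ} [Fact r.Prime] (hgr : g ^ r = 1)
  (hrq : (q : ZMod r) ≠ 0)

local notation "bb" => orderOf (((Fintype.card F : ℕ) : ZMod r))
local notation "cc" => orderOf (-(q : ZMod r))

include hS hB hF hσ hg hgr hrq in
/-- The fixed and the moved space. -/
theorem exists_split :
    ∃ M, InvBy g M ∧ SepH B M ∧ fixedIn g M = ⊥ ∧ SepH B (fixedIn g ⊤) ∧
      (∀ x ∈ fixedIn g ⊤, ∀ y ∈ M, B x y = 0) ∧ finrank F (fixedIn g ⊤) + finrank F M = finrank F V ∧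
      ∀ X, X ≤ fixedIn g ⊤ → InvBy g X := by
  have hC := sepH_fixedIn hF hg hgr hrq invBy_top hB
  have hCi : ∀ X, X ≤ fixedIn g ⊤ → InvBy g X := fun X hX v hv => by
    rw [(mem_fixedIn.mp (hX hv)).2]; exact hv
  obtain ⟨M, -, hM, hMs, ho, -, hd⟩ := exists_compl_inv hS hF hσ hg hgr invBy_top hB (hCi _ le_rfl) hC le_top
  refine ⟨M, hM, hMs, ?_, hC, ho, by rw [hd, finrank_top], hCi⟩
  refine le_bot_iff.mp (le_trans ?_ (orth_disjoint hS hC ho).le)
  exact fun v hv => ⟨mem_fixedIn.mpr ⟨trivial, (mem_fixedIn.mp hv).2⟩, (mem_fixedIn.mp hv).1⟩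

include hS in
omit [Fintype F] in
theorem combine {C M X Z : Submodule F V} (hC : SepH B C) (ho : ∀ x ∈ C, ∀ y ∈ M, B x y = 0) (hX : X ≤ C) (hZ : Z ≤ M) :
    finrank F ↥(X ⊔ Z) = finrank F X + finrank F Z :=
  finrank_sup_of_disjoint (le_bot_iff.mp ((inf_le_inf hX hZ).trans (orth_disjoint hS hC ho).le))

include hS hF hσ in
/-- An isotropic subspace of the fixed space added to one of the moved space. -/
theorem combine_iso {C M Z : Submodule F V} (hC : SepH B C) (ho : ∀ x ∈ C, ∀ y ∈ M, B x y = 0)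
    (hCi : ∀ X, X ≤ C → InvBy g X) (hZM : Z ≤ M) (hZ : InvBy g Z) (hZi : IsoH B Z) {w m : ℕ}
    (hw : 2 * w ≤ finrank F C) (hm : finrank F Z + w = m) :
    ∃ X : Submodule F V, InvBy g X ∧ IsoH B X ∧ finrank F X = m := by
  obtain ⟨X, hXC, hXi, hXd⟩ := exists_iso_sub hS hF hσ hC hw
  exact ⟨X ⊔ Z, (hCi X hXC).sup hZ, isoH_sup hS hXi hZi fun x hx z hz => ho x (hXC hx) z (hZM hz),
    by rw [combine hS hC ho hXC hZM, hXd, ← hm, add_comm]⟩

include hS hB hF hσ hg hgr hrq in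
theorem exists_iso_of_even (heven : Even cc) {n m : ℕ} (hn : finrank F V = n) (hmn : 2 * m ≤ n)
    (hk : 2 * (m % bb) ≤ n % cc) : ∃ X : Submodule F V, InvBy g X ∧ IsoH B X ∧ finrank F X = m := by
  obtain ⟨M, hM, hMs, hM0, hC, ho, hd, hCi⟩ := exists_split hS hB hF hσ hg hgr hrq
  obtain ⟨⟨J, hJ⟩, -⟩ := exists_sep_moved hS hF hσ hg hgr hrq hM hMs hM0
  obtain ⟨hcb, hb⟩ : cc = 2 * bb ∧ 0 < bb := by
    rcases b_cases (F := F) hF hrq with ⟨h, -⟩ | ⟨-, h⟩
    · exact absurd heven (Nat.not_even_iff_odd.mpr h)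
    · exact ⟨h, b_pos (F := F) hF hrq⟩
  have hcomb : ∀ a, a ≤ J → a * bb ≤ m → 2 * (m - a * bb) ≤ finrank F (fixedIn g ⊤) →
      ∃ X : Submodule F V, InvBy g X ∧ IsoH B X ∧ finrank F X = m := fun a haJ ham hw => by
    obtain ⟨Z, hZM, hZ, hZi, hZd⟩ := exists_iso_moved_even hS hF hσ hg hgr hrq heven hM hMs hM0 (a := a)
      (by rw [hJ, mul_comm cc J]; exact Nat.mul_le_mul_right _ haJ)
    exact combine_iso hS hF hσ hC ho hCi hZM hZ hZi hw (by omega)
  have hmdiv := Nat.div_add_mod m bb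
  rw [mul_comm bb] at hmdiv
  rcases le_total (m / bb) J with h | h
  · refine hcomb (m / bb) h (by omega) ?_
    have hkf : n % cc ≤ finrank F (fixedIn g ⊤) := by
      rw [show n = finrank F (fixedIn g ⊤) + cc * J by omega, Nat.add_mul_mod_self_left]
      exact Nat.mod_le _ _
    omega
  · have h' := Nat.mul_le_mul_right bb h
    refine hcomb J le_rfl (by omega) ?_
    have : cc * J = 2 * (J * bb) := by rw [hcb]; ring
    omega

include hS hB hF hσ hg hgr hrq in
theorem exists_iso_of_odd (hodd : Odd cc) {n m : ℕ} (hn : finrank F V = n)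
    (hk : 2 * (m % cc) ≤ n % cc) (hs : (r - 1) / cc + 2 * (m / cc) ≤ n / cc) :
    ∃ X : Submodule F V, InvBy g X ∧ IsoH B X ∧ finrank F X = m := by
  obtain ⟨M, hM, hMs, hM0, hC, ho, hd, hCi⟩ := exists_split hS hB hF hσ hg hgr hrq
  obtain ⟨⟨J, hJ⟩, -⟩ := exists_sep_moved hS hF hσ hg hgr hrq hM hMs hM0
  have hc := c_pos (F := F) hF hrq
  generalize hs' : (r - 1) / cc = s at hs
  set a := min (m / cc) ((J + 1 - s) / 2) with ha
  obtain ⟨Z, hZM, hZ, hZi, hZd⟩ : ∃ Z, Z ≤ M ∧ InvBy g Z ∧ IsoH B Z ∧ finrank F Z = a * cc := by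
    rcases Nat.eq_zero_or_pos a with h0 | h0
    · exact ⟨⊥, bot_le, invBy_bot, isoH_bot, by rw [h0, zero_mul, finrank_bot]⟩
    · refine exists_iso_moved_odd hS hF hσ hg hgr hrq hodd hM hMs hM0 (a := a) ?_
      have h1 : 2 * a + s ≤ J + 1 := by omega
      rw [hs']
      have h2 := Nat.mul_le_mul_right cc h1
      rw [add_mul J 1, one_mul, mul_comm J, ← hJ] at h2
      exact h2
  have hmdiv := Nat.div_add_mod m cc
  have hndiv := Nat.div_add_mod n cc
  have hac : a * cc ≤ m := (Nat.mul_le_mul_right cc (min_le_left _ _)).trans (Nat.div_mul_le_self m cc)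
  refine combine_iso hS hF hσ hC ho hCi hZM hZ hZi (w := m - a * cc) ?_ (by omega)
  rcases eq_or_ne a (m / cc) with he | hne
  · have hkf : n % cc ≤ finrank F (fixedIn g ⊤) := by
      rw [show n = finrank F (fixedIn g ⊤) + cc * J by omega, Nat.add_mul_mod_self_left]
      exact Nat.mod_le _ _
    rw [he, mul_comm (m / cc) cc]
    omega
  · have h1 : J + 2 * (m / cc) ≤ n / cc + 2 * a := by omega
    have h2 := Nat.mul_le_mul_left cc h1
    rw [mul_add, mul_add] at h2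
    have h3 : cc * (2 * a) = 2 * (a * cc) := by ring
    have h4 : cc * (2 * (m / cc)) = 2 * (cc * (m / cc)) := by ring
    omega

include hS hB hF hσ hg hgr hrq in
theorem exists_sep_of_mod {n m : ℕ} (hn : finrank F V = n) (hmn : m ≤ n) (hk : m % cc ≤ n % cc) :
    ∃ X : Submodule F V, InvBy g X ∧ SepH B X ∧ finrank F X = m := by
  obtain ⟨M, hM, hMs, hM0, hC, ho, hd, hCi⟩ := exists_split hS hB hF hσ hg hgr hrq
  obtain ⟨⟨J, hJ⟩, hall⟩ := exists_sep_moved hS hF hσ hg hgr hrq hM hMs hM0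
  have hcomb : ∀ j, j ≤ J → j * cc ≤ m → m - j * cc ≤ finrank F (fixedIn g ⊤) →
      ∃ X : Submodule F V, InvBy g X ∧ SepH B X ∧ finrank F X = m := fun j hjJ hjm hw => by
    obtain ⟨Z, hZM, hZ, hZs, hZd⟩ := hall j (by rw [hJ, mul_comm cc J]; exact Nat.mul_le_mul_right _ hjJ)
    obtain ⟨X, hXC, hXs, hXd⟩ := exists_sep_sub hS hF hσ hC hw
    exact ⟨X ⊔ Z, (hCi X hXC).sup hZ, sepH_sup hS hXs hZs fun x hx z hz => ho x (hXC hx) z (hZM hz),
      by rw [combine hS hC ho hXC hZM, hXd, hZd]; omega⟩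
  have hmdiv := Nat.div_add_mod m cc
  rw [mul_comm cc] at hmdiv
  rcases le_total (m / cc) J with h | h
  · refine hcomb (m / cc) h (by omega) ?_
    have hkf : n % cc ≤ finrank F (fixedIn g ⊤) := by
      rw [show n = finrank F (fixedIn g ⊤) + cc * J by omega, Nat.add_mul_mod_self_left]
      exact Nat.mod_le _ _
    omega
  · have h' := Nat.mul_le_mul_right cc h
    refine hcomb J le_rfl (by omega) ?_
    rw [mul_comm cc] at hJ
    omega

end CfsgLib.UnitaryInv
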