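import Cfsg.Agent.LinearElements.UnitaryOrders
import Cfsg.Agent.FieldEmb.Basic

/-!
When every element of projective prime order of the special unitary group fixes a totally isotropic subspace of given
dimension.
-/

set_option autoImplicit false

namespace CfsgLib.UnitaryInv

open Module Submodule CfsgLib.LinearElements CfsgLib.Forms

variable {F : Type*} [Field F] [Fintype F] {p : ℕ} [Fact p.Prime] [CharP F p] {q n m : ℕ}
  (hF : Fintype.card F = q ^ 2) {σ : F →+* F} (hσ : ∀ x, σ x = x ^ q)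

omit [Field F] [Fintype F] in
theorem parity_two {a : ℕ} (h : a % 2 = 0) : Even a := Nat.even_iff.mpr h

include hF hσ in
theorem isotropic_iff (hn : 3 ≤ n) (hm : 1 ≤ m) (hmn : 2 * m ≤ n) {r : ℕ} [Fact r.Prime]
    (hdvd : r ∣ Nat.card {W : Submodule F (Fin n → F) // finrank F ↥W = m ∧ ∀ u ∈ W, ∀ v ∈ W, Cfsg.hermForm n F q u v = 0})
    {i b c : ℕ} (hi : i = orderOf (q : ZMod r)) (hb : b = if Even i then i / 2 else i)
    (hc : c = if i % 4 = 0 then i else if i % 4 = 2 then i / 2 else 2 * i) :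
    (∀ g, ProjU σ n r g → ∃ W : Submodule F (Fin n → F), finrank F ↥W = m ∧
      (∀ u ∈ W, ∀ v ∈ W, Cfsg.hermForm n F q u v = 0) ∧ W.map g ≤ W) ↔
    ((r = 2 ∧ p ≠ 2 ∧ (2 * m < n ∨ padicValNat 2 (q + 1) ≤ padicValNat 2 n)) ∨
     (r ≠ p ∧ 2 < r ∧ b ≤ m ∧ 2 * (m % b) ≤ n % c ∧
       (i % 4 ≠ 2 ∨ (i % 4 = 2 ∧ (r - 1) / b + 2 * (m / b) ≤ n / b ∧
         (2 < i ∨ (i = 2 ∧ (r ∣ m ∨ padicValNat r n ≤ padicValNat r (q + 1)))))))) := by
  have hrP := (Fact.out : r.Prime)
  have hσ2 := conj_conj hF hσ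
  have hS := hermSesq_isSymm hσ2 n
  obtain ⟨hrq', j, hj1, hj2, hj3⟩ := count_iso hF hσ hmn hdvd
  have hrp : r ≠ p := by
    obtain ⟨k, hpp, hk⟩ := FiniteField.card F p
    intro h
    subst h
    refine hrq' (hrP.dvd_of_dvd_pow (n := 2) ?_)
    rw [← hF, hk]
    exact dvd_pow_self r k.ne_zero
  have hrq : (q : ZMod r) ≠ 0 := fun h => hrq' ((ZMod.natCast_eq_zero_iff _ _).mp h)
  have key : (∀ g, ProjU σ n r g → ∃ W : Submodule F (Fin n → F), finrank F ↥W = m ∧
      (∀ u ∈ W, ∀ v ∈ W, Cfsg.hermForm n F q u v = 0) ∧ W.map g ≤ W) ↔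
      ∀ g, ProjU σ n r g → ∃ W : Submodule F (Fin n → F), InvBy g W ∧ IsoH (hermSesq σ n) W ∧ finrank F W = m :=
    forall₂_congr fun g _ => exists_congr fun W => by rw [iso_iff hσ, ← invBy_iff_map_le]; tauto
  rw [key]
  clear key hdvd
  rcases hrP.eq_two_or_odd' with hr2 | hrodd
  · subst hr2
    have hodd := odd_q hF (Ne.symm hrp)
    have h1 : -(q : ZMod 2) = 1 := by
      rw [ZMod.natCast_eq_one_iff_odd.mpr hodd]
      rfl
    have hcc : orderOf (-(q : ZMod 2)) = 1 := by rw [h1, orderOf_one]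
    constructor
    · intro h
      refine Or.inl ⟨rfl, Ne.symm hrp, ?_⟩
      by_contra hc'
      simp only [not_or, not_le, not_lt] at hc'
      obtain ⟨g, hg, hno⟩ := exists_counter_iso hF hσ hodd (m := m) hn (le_antisymm hmn hc'.1) hc'.2
      obtain ⟨W, hW, hWi, hWd⟩ := h g hg
      exact hno W hW hWi hWd
    · rintro (⟨-, -, hcond⟩ | ⟨-, h, -⟩)
      swap
      · omega
      intro g ⟨⟨hdet, ⟨z, hz⟩, _⟩, hg⟩
      obtain ⟨μ, hμz, hμ | hμ⟩ := sq_root hF hσ hodd (scalar_norm (by omega) hg hz)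
      · obtain ⟨hy, hyi, hyW⟩ := exists_reduced hg hz hμ hμz
        rcases lt_or_eq_of_le hmn with hlt | heq
        · obtain ⟨W, hW, hWi, hWd⟩ := exists_iso_of_odd hS sepH_top hF hσ hyi hy hrq (by rw [hcc]; exact odd_one)
            (Module.finrank_fin_fun F) (m := m) (by rw [hcc, Nat.mod_one]; omega) (by rw [hcc, Nat.div_one]; omega)
          exact ⟨W, hyW W hW, hWi, hWd⟩
        · obtain ⟨J, hJ, -, hW⟩ := plus_parity hF hσ hodd hy hyi
          have hJe : Even J := by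
            rcases Nat.even_or_odd J with h | h
            · exact h
            exfalso
            rw [LinearMap.det_smul, Module.finrank_fin_fun, hdet, mul_one, h.neg_one_pow, inv_pow] at hJ
            have hμn : μ ^ n = -1 := by rw [← inv_inv (μ ^ n), hJ, inv_neg, inv_one]
            exact two_adic_contra (neg_one_ne hF hodd) (a := q + 1) (b := n) (by omega) (by omega)
              ((norm_iff hσ).mp hμ) hμn (hcond.resolve_left (by omega))
          obtain ⟨W, hW, hWi, hWd⟩ := hW hJe m ⟨m, by omega⟩ hmn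
          exact ⟨W, hyW W hW, hWi, hWd⟩
      · exact minus_iso hF hσ hodd hg (by rw [hz, hμz]) hμ hmn
  have hr2 : 2 < r := lt_of_le_of_ne hrP.two_le fun e => by subst e; exact absurd hrodd (by decide)
  obtain ⟨rfl, rfl, hi0, hiodd, hi2⟩ := orders hF hr2 hrq hi hb hc
  have hcpos := c_pos (F := F) hF hrq
  have hbpos := b_pos (F := F) hF hrq
  have hkc := Nat.mod_lt n hcpos
  have hcj : orderOf (-(q : ZMod r)) ≤ j := Nat.le_of_dvd (by omega) hj3
  have hjn : j ≤ n - n % orderOf (-(q : ZMod r)) := by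
    obtain ⟨d, rfl⟩ := hj3
    have h2 : d ≤ n / orderOf (-(q : ZMod r)) := (Nat.le_div_iff_mul_le hcpos).mpr (by rw [mul_comm]; exact hj2)
    have h1 := Nat.mul_le_mul_left (orderOf (-(q : ZMod r))) h2
    have := Nat.div_add_mod n (orderOf (-(q : ZMod r)))
    omega
  by_cases hI : i = 2
  · have hr1 : r ∣ q + 1 := hi2.mp hI
    have hodd : Odd (orderOf (-(q : ZMod r))) := hiodd.mp (by omega)
    obtain ⟨hcc, hbb⟩ : orderOf (-(q : ZMod r)) = 1 ∧ orderOf (((Fintype.card F : ℕ) : ZMod r)) = 1 := by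
      have h1 : -(q : ZMod r) = 1 := by
        have := (ZMod.natCast_eq_zero_iff (q + 1) r).mpr hr1
        push_cast at this
        linear_combination -this
      have h2 : orderOf (-(q : ZMod r)) = 1 := by rw [h1, orderOf_one]
      rcases b_cases (F := F) hF hrq with ⟨-, h⟩ | ⟨h, -⟩
      · exact ⟨h2, h.trans h2⟩
      · exact absurd h (Nat.not_even_iff_odd.mpr hodd)
    simp only [hcc, hbb, Nat.mod_one, Nat.div_one, mul_zero]
    constructor
    · intro h
      refine Or.inr ⟨hrp, hr2, hm, le_refl _, Or.inr ⟨by omega, ?_, Or.inr ⟨hI, ?_⟩⟩⟩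
      · by_contra hlt
        obtain ⟨g, hg, hno⟩ := exists_diag_counter hF hσ hrodd hr1 hm hmn (by omega)
        obtain ⟨W, hW, hWi, hWd⟩ := h g hg
        exact hno W hW hWi hWd
      · by_contra hno'
        simp only [not_or, not_le] at hno'
        obtain ⟨g, hg, hno⟩ := exists_nonpower_counter hF hσ hrodd hr1 (n := n) (by omega) hno'.2
        obtain ⟨W, hW, -, hWd⟩ := h g hg
        exact hno'.1 (hWd ▸ hno W hW)
    · rintro (⟨h, -⟩ | ⟨-, -, -, -, hcond⟩)
      · omega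
      intro g ⟨⟨hdet, ⟨z, hz⟩, _⟩, hg⟩
      obtain ⟨hs, hv⟩ : r - 1 + 2 * m ≤ n ∧ (r ∣ m ∨ padicValNat r n ≤ padicValNat r (q + 1)) := by
        rcases hcond with h | ⟨-, hs, h | ⟨-, hv⟩⟩
        · omega
        · omega
        · exact ⟨hs, hv⟩
      by_cases hpow : ∃ μ : F, μ ^ r = z
      · obtain ⟨μ, hμz⟩ := hpow
        have hμ := norm_root hσ (not_dvd_sub_one hF hrodd hr1) (fun x => pow_card_eq hF) (scalar_norm (by omega) hg hz) hμz
        obtain ⟨hy, hyi, hyW⟩ := exists_reduced hg hz hμ hμz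
        obtain ⟨W, hW, hWi, hWd⟩ := exists_iso_of_odd hS sepH_top hF hσ hyi hy hrq (by rw [hcc]; exact odd_one)
          (Module.finrank_fin_fun F) (m := m) (by rw [hcc, Nat.mod_one]; omega)
          (by rw [hcc, Nat.div_one, Nat.div_one, Nat.div_one]; exact hs)
        exact ⟨W, hyW W hW, hWi, hWd⟩
      · push Not at hpow
        have hlt := nonpower_padic hF hσ hrodd hr1 (n := n) (by omega) hdet hz hpow
        obtain ⟨a, rfl⟩ := hv.resolve_right (by omega)
        obtain ⟨-, hiso, -⟩ := nonpower_sub hF hσ hrodd hr1 (n := n) (by omega) hg hz hpow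
        obtain ⟨W, hW, hWi, hWd⟩ := hiso a (by rw [mul_assoc, mul_comm a r]; exact hmn)
        exact ⟨W, hW, hWi, by rw [hWd, mul_comm]⟩
  have hr1 : ¬ r ∣ q + 1 := fun h => hI (hi2.mpr h)
  constructor
  · intro h
    have hl : 2 * (m % orderOf (((Fintype.card F : ℕ) : ZMod r))) ≤ n % orderOf (-(q : ZMod r)) := by
      obtain ⟨g, hgr, hgi, hne, hfix⟩ := exists_max_model hF hσ hrq (n := n) (le_trans hcj hj2)
      obtain ⟨W, hW, hWi, hWd⟩ := h g (projU_of_pow hF hσ (by omega) hr1 hgr hgi hne)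
      obtain ⟨w, W', hw, ⟨a, ha⟩, hdim, -⟩ := iso_split hF hσ hrq hgi hgr hfix hW hWi
      have hwb : w < orderOf (((Fintype.card F : ℕ) : ZMod r)) := by
        rcases b_cases (F := F) hF hrq with ⟨-, h⟩ | ⟨-, h⟩ <;> omega
      rw [show m = w + orderOf (((Fintype.card F : ℕ) : ZMod r)) * a by omega, Nat.add_mul_mod_self_left,
        Nat.mod_eq_of_lt hwb]
      exact hw
    have hbm : orderOf (((Fintype.card F : ℕ) : ZMod r)) ≤ m := by
      by_contra hlt
      rw [Nat.mod_eq_of_lt (by omega)] at hl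
      omega
    refine Or.inr ⟨hrp, hr2, hbm, hl, ?_⟩
    by_cases h4 : i % 4 = 2
    swap
    · exact Or.inl h4
    refine Or.inr ⟨h4, ?_, Or.inl (by omega)⟩
    have hodd := hiodd.mp h4
    have hbc : orderOf (((Fintype.card F : ℕ) : ZMod r)) = orderOf (-(q : ZMod r)) := by
      rcases b_cases (F := F) hF hrq with ⟨-, h⟩ | ⟨h, -⟩
      · exact h
      · exact absurd h (Nat.not_even_iff_odd.mpr hodd)
    rw [hbc] at hbm ⊢
    by_contra hlt
    obtain ⟨g, hgr, hgi, hne, hno⟩ := exists_class_counter hF hσ hrq hodd (n := n) hmn hbm (by omega)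
    obtain ⟨W, hW, hWi, hWd⟩ := h g (projU_of_pow hF hσ (by omega) hr1 hgr hgi hne)
    exact hno W hW hWi hWd
  · rintro (⟨h, -⟩ | ⟨-, -, -, hl, hcond⟩)
    · omega
    intro g ⟨⟨_, ⟨z, hz⟩, _⟩, hg⟩
    obtain ⟨μ, hμ, hμz⟩ := exists_root_coprime hσ hr1 (scalar_norm (by omega) hg hz)
    obtain ⟨hy, hyi, hyW⟩ := exists_reduced hg hz hμ hμz
    rcases Nat.even_or_odd (orderOf (-(q : ZMod r))) with he | ho
    · obtain ⟨W, hW, hWi, hWd⟩ := exists_iso_of_even hS sepH_top hF hσ hyi hy hrq he (Module.finrank_fin_fun F) hmn hl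
      exact ⟨W, hyW W hW, hWi, hWd⟩
    · have hbc : orderOf (((Fintype.card F : ℕ) : ZMod r)) = orderOf (-(q : ZMod r)) := by
        rcases b_cases (F := F) hF hrq with ⟨-, h⟩ | ⟨h, -⟩
        · exact h
        · exact absurd h (Nat.not_even_iff_odd.mpr ho)
      rw [hbc] at hl hcond
      obtain ⟨-, hs, -⟩ := hcond.resolve_left (not_not_intro (hiodd.mpr ho))
      obtain ⟨W, hW, hWi, hWd⟩ := exists_iso_of_odd hS sepH_top hF hσ hyi hy hrq ho (Module.finrank_fin_fun F) hl hs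
      exact ⟨W, hyW W hW, hWi, hWd⟩

end CfsgLib.UnitaryInv
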