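import Cfsg.Agent.LinearElements.UnitaryCriteria

/-!
Unitary isometries of order `r` without invariant subspaces of prescribed dimension: atoms from Cauchy's theorem and
block sums of atoms with a fixed space.
-/

set_option autoImplicit false

namespace CfsgLib.UnitaryInv

open Module Submodule Polynomial CfsgLib.LinearElements CfsgLib.Forms

variable {F : Type*} [Field F] {σ : F →+* F} {n : ℕ}

/-- The extension of a vector on a set of coordinates by zero. -/
noncomputable def extendZero (T : Finset (Fin n)) : (T → F) →ₗ[F] (Fin n → F) where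
  toFun v i := if h : i ∈ T then v ⟨i, h⟩ else 0
  map_add' a b := funext fun i => by simp only [Pi.add_apply]; split <;> simp
  map_smul' c a := funext fun i => by simp only [Pi.smul_apply, RingHom.id_apply]; split <;> simp

theorem extendZero_injective (T : Finset (Fin n)) : Function.Injective (extendZero (F := F) T) := by
  intro a b h
  funext ⟨i, hi⟩
  simpa [extendZero, hi] using congrFun h i

theorem sepH_range_extendZero (T : Finset (Fin n)) :
    SepH (hermSesq σ n) (LinearMap.range (extendZero (F := F) T)) := by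
  classical
  rintro _ ⟨v, rfl⟩ hne
  obtain ⟨⟨i, hi⟩, hvi⟩ : ∃ x, v x ≠ 0 := by
    by_contra h
    push Not at h
    exact hne (by rw [show v = 0 from funext h, map_zero])
  refine ⟨_, ⟨Pi.single ⟨i, hi⟩ 1, rfl⟩, ?_⟩
  rw [hermSesq_apply, Finset.sum_eq_single i]
  · simpa [extendZero, hi] using hvi
  · intro b _ hb
    by_cases hbT : b ∈ T <;> simp [extendZero, hbT, hb]
  · simp

/-- A totally isotropic subspace supported on `T` has dimension at most half the size of `T`. -/
theorem iso_support_bound (hσ2 : ∀ x, σ (σ x) = x) {W : Submodule F (Fin n → F)} (hW : IsoH (hermSesq σ n) W)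
    (T : Finset (Fin n)) (h : ∀ w ∈ W, ∀ i ∉ T, w i = 0) : 2 * finrank F W ≤ T.card := by
  have hle : W ≤ LinearMap.range (extendZero (F := F) T) := fun w hw =>
    ⟨fun x => w x, funext fun i => by
      by_cases hi : i ∈ T
      · simp [extendZero, hi]
      · simp [extendZero, hi, h w hw i hi]⟩
  refine (two_mul_le_of_iso hσ2 (sepH_range_extendZero T) hle hW).trans (le_of_eq ?_)
  rw [LinearMap.finrank_range_of_inj (extendZero_injective T), Module.finrank_pi, Fintype.card_coe]

/-- The form of the standard space is nondegenerate. -/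
theorem sepH_top : SepH (hermSesq σ n) (⊤ : Submodule F (Fin n → F)) := fun w _ hw0 => by
  by_contra h
  push Not at h
  exact hw0 (hermSesq_sep n w fun y => h y trivial)

/-- The determinant of an isometry has norm one. -/
theorem det_norm {g : Module.End F (Fin n → F)} (hg : ∀ u v, hermSesq σ n (g u) (g v) = hermSesq σ n u v) :
    σ (LinearMap.det g) * LinearMap.det g = 1 := by
  classical
  set M := LinearMap.toMatrix' g with hM
  have h : (M.map σ).transpose * M = 1 := by
    ext a b
    have e := hg (Pi.single a 1) (Pi.single b 1)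
    rw [hermSesq_apply, hermSesq_apply] at e
    rw [Matrix.mul_apply, Matrix.one_apply]
    simp only [Matrix.transpose_apply, Matrix.map_apply, hM, LinearMap.toMatrix'_apply]
    rw [e, Finset.sum_eq_single a (fun x _ hx => by simp [hx]) (by simp)]
    simp [Pi.single_apply]
  have h2 := congrArg Matrix.det h
  rw [Matrix.det_mul, Matrix.det_transpose, Matrix.det_one, ← RingHom.mapMatrix_apply, ← RingHom.map_det,
    LinearMap.det_toMatrix'] at h2
  exact h2

section Glue

variable {J c f : ℕ}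

/-- The projection to a block. -/
def blockProj (ψ : Fin n ≃ (Fin J × Fin c) ⊕ Fin f) (j : Fin J) : (Fin n → F) →ₗ[F] (Fin c → F) :=
  LinearMap.funLeft F F fun b => ψ.symm (Sum.inl (j, b))

theorem blockProj_apply (ψ : Fin n ≃ (Fin J × Fin c) ⊕ Fin f) (j : Fin J) (v : Fin n → F) (b : Fin c) :
    blockProj ψ j v b = v (ψ.symm (Sum.inl (j, b))) := rfl

/-- A block sum of maps and an identity block. -/
def glueEnd (ψ : Fin n ≃ (Fin J × Fin c) ⊕ Fin f) (A : Fin J → Module.End F (Fin c → F)) :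
    Module.End F (Fin n → F) :=
  LinearMap.pi fun i =>
    match ψ i with
    | Sum.inl p => (LinearMap.proj p.2).comp ((A p.1).comp (blockProj ψ p.1))
    | Sum.inr l => LinearMap.proj (ψ.symm (Sum.inr l))

variable {ψ : Fin n ≃ (Fin J × Fin c) ⊕ Fin f} {A : Fin J → Module.End F (Fin c → F)}

theorem blockProj_glue (j : Fin J) (v : Fin n → F) : blockProj ψ j (glueEnd ψ A v) = A j (blockProj ψ j v) := by
  funext b
  simp [blockProj_apply, glueEnd]

theorem glue_inr (l : Fin f) (v : Fin n → F) : glueEnd ψ A v (ψ.symm (Sum.inr l)) = v (ψ.symm (Sum.inr l)) := by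
  simp [glueEnd]

theorem blockProj_ext (v w : Fin n → F) (h : ∀ j, blockProj ψ j v = blockProj ψ j w)
    (h' : ∀ l, v (ψ.symm (Sum.inr l)) = w (ψ.symm (Sum.inr l))) : v = w := by
  funext i
  obtain ⟨p | l, rfl⟩ := ψ.symm.surjective i
  · exact congrFun (h p.1) p.2
  · exact h' l

theorem hermSesq_split (v w : Fin n → F) : hermSesq σ n v w =
    (∑ j, hermSesq σ c (blockProj ψ j v) (blockProj ψ j w)) +
      ∑ l, σ (v (ψ.symm (Sum.inr l))) * w (ψ.symm (Sum.inr l)) := by
  rw [hermSesq_apply, ← ψ.symm.sum_comp, Fintype.sum_sum_type, Fintype.sum_prod_type]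
  simp only [hermSesq_apply, blockProj_apply]

theorem glue_isometry (hA : ∀ j u v, hermSesq σ c (A j u) (A j v) = hermSesq σ c u v) (u v : Fin n → F) :
    hermSesq σ n (glueEnd ψ A u) (glueEnd ψ A v) = hermSesq σ n u v := by
  rw [hermSesq_split (ψ := ψ), hermSesq_split (ψ := ψ) u v]
  simp only [blockProj_glue, glue_inr, hA]

theorem glue_pow_apply (k : ℕ) (v : Fin n → F) :
    (∀ j, blockProj ψ j ((glueEnd ψ A ^ k) v) = (A j ^ k) (blockProj ψ j v)) ∧
      ∀ l, (glueEnd ψ A ^ k) v (ψ.symm (Sum.inr l)) = v (ψ.symm (Sum.inr l)) := by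
  induction k with
  | zero => exact ⟨fun j => rfl, fun l => rfl⟩
  | succ k ih =>
    exact ⟨fun j => by rw [pow_succ', Module.End.mul_apply, blockProj_glue, ih.1, pow_succ', Module.End.mul_apply],
      fun l => by rw [pow_succ', Module.End.mul_apply, glue_inr, ih.2]⟩

theorem glue_pow_eq_one {r : ℕ} (hA : ∀ j, A j ^ r = 1) : glueEnd ψ A ^ r = 1 :=
  LinearMap.ext fun v => blockProj_ext (ψ := ψ) _ _
    (fun j => by rw [(glue_pow_apply r v).1, hA, Module.End.one_apply, Module.End.one_apply])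
    (fun l => by rw [(glue_pow_apply r v).2, Module.End.one_apply])

theorem glue_fixed_le [Fintype F] (hA : ∀ j, fixedIn (A j) ⊤ = ⊥) : finrank F (fixedIn (glueEnd ψ A) ⊤) ≤ f := by
  let R : fixedIn (glueEnd ψ A) ⊤ →ₗ[F] (Fin f → F) :=
    (LinearMap.funLeft F F fun l => ψ.symm (Sum.inr l)).comp (Submodule.subtype _)
  refine (LinearMap.finrank_le_finrank_of_injective (f := R) ?_).trans (Module.finrank_fin_fun F).le
  rw [← LinearMap.ker_eq_bot, LinearMap.ker_eq_bot']
  intro v hv
  refine Subtype.ext (blockProj_ext (ψ := ψ) _ _ (fun j => ?_) fun l => congrFun hv l)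
  rw [ZeroMemClass.coe_zero, map_zero]
  refine (Submodule.eq_bot_iff _).mp (hA j) _ (mem_fixedIn.mpr ⟨trivial, ?_⟩)
  rw [← blockProj_glue, (mem_fixedIn.mp v.2).2]

end Glue

section Prime

variable [Fintype F] {q : ℕ} (hF : Fintype.card F = q ^ 2) (hσ : ∀ x, σ x = x ^ q) {r : ℕ} [Fact r.Prime]
  (hrq : (q : ZMod r) ≠ 0)

local notation "bb" => orderOf (((Fintype.card F : ℕ) : ZMod r))
local notation "cc" => orderOf (-(q : ZMod r))

include hF hσ hrq in
/-- An isometry of order `r` of the space of dimension `c` without fixed vectors. -/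
theorem exists_atom_model : ∃ A : Module.End F (Fin cc → F), A ^ r = 1 ∧
    (∀ u v, hermSesq σ cc (A u) (A v) = hermSesq σ cc u v) ∧ fixedIn A ⊤ = ⊥ := by
  have hσ2 := conj_conj hF hσ
  have hS := hermSesq_isSymm hσ2 cc
  have hq := Forms.two_le_q hF
  have hc := c_pos (F := F) hF hrq
  have : Finite (isoGroup (hermSesq σ cc)) := finite_isoGroup _
  have hdvd : r ∣ Nat.card (isoGroup (hermSesq σ cc)) := by
    rw [card_isoGroup_herm hF hσ hσ2 _ hS (hermSesq_sep cc) (Module.finrank_fin_fun F)]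
    refine Dvd.dvd.mul_left (dvd_trans ?_ (Finset.dvd_prod_of_mem _ (Finset.mem_range.mpr (show cc - 1 < cc by omega)))) _
    rw [Nat.sub_add_cancel hc, dvd_u_iff (by omega)]
    exact pow_orderOf_eq_one _
  obtain ⟨x, hx⟩ := exists_prime_orderOf_dvd_card' r hdvd
  let φ : isoGroup (hermSesq σ cc) →* Module.End F (Fin cc → F) :=
    { toFun := fun y => y.1.toLinearMap, map_one' := rfl, map_mul' := fun _ _ => rfl }
  have hgr : φ x ^ r = 1 := by rw [← map_pow, orderOf_dvd_iff_pow_eq_one.mp hx.dvd, map_one]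
  have hgi : ∀ u v, hermSesq σ cc (φ x u) (φ x v) = hermSesq σ cc u v := x.2
  refine ⟨φ x, hgr, hgi, ?_⟩
  obtain ⟨M, hM, hMs, hM0, -, -, hd, -⟩ := exists_split hS sepH_top hF hσ hgi hgr hrq
  rw [Module.finrank_fin_fun] at hd
  rcases eq_or_ne M ⊥ with rfl | hne
  · exfalso
    rw [finrank_bot, add_zero] at hd
    have htop : fixedIn (φ x) ⊤ = ⊤ := Submodule.eq_top_of_finrank_eq (by rw [hd, Module.finrank_fin_fun])
    have h1 : x = 1 := Subtype.ext (LinearEquiv.ext fun v => (mem_fixedIn.mp (htop.ge trivial : v ∈ fixedIn (φ x) ⊤)).2)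
    rw [h1, orderOf_one] at hx
    exact (Fact.out : r.Prime).ne_one hx.symm
  · obtain ⟨X, hXM, -, -, hXd⟩ := exists_atom hS hF hσ hgi hgr hrq hM hMs hM0 hne
    have := Submodule.finrank_mono hXM
    exact Submodule.finrank_eq_zero.mp (by omega)

omit [Fintype F] in
/-- Powers of an isometry are isometries. -/
theorem pow_isometry {V : Type*} [AddCommGroup V] [Module F V] {B : V →ₛₗ[σ] V →ₗ[F] F} {A : Module.End F V}
    (hA : ∀ u v, B (A u) (A v) = B u v) (k : ℕ) (u v : V) : B ((A ^ k) u) ((A ^ k) v) = B u v := by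
  induction k generalizing u v with
  | zero => rfl
  | succ k ih => rw [pow_succ', Module.End.mul_apply, Module.End.mul_apply, hA, ih]

include hF hσ hrq in
/-- Atoms with `(r - 1) / c` different polynomials. -/
theorem exists_atom_family (hodd : Odd cc) :
    ∃ (A : Fin ((r - 1) / cc) → Module.End F (Fin cc → F)) (P : Fin ((r - 1) / cc) → F[X]),
      Function.Injective P ∧ ∀ l, A l ^ r = 1 ∧ (∀ u v, hermSesq σ cc (A l u) (A l v) = hermSesq σ cc u v) ∧
        fixedIn (A l) ⊤ = ⊥ ∧ (P l).Monic ∧ Irreducible (P l) ∧ (P l).natDegree = cc ∧ ∀ v, aeval (A l) (P l) v = 0 := by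
  classical
  have hrP := (Fact.out : r.Prime)
  have hbc : bb = cc := by
    rcases b_cases (F := F) hF hrq with ⟨-, h⟩ | ⟨h, -⟩
    · exact h
    · exact absurd h (Nat.not_even_iff_odd.mpr hodd)
  have hc := c_pos (F := F) hF hrq
  obtain ⟨A, hAr, hAi, hA0⟩ := exists_atom_model hF hσ hrq
  have hpow0 : ∀ k, ¬ r ∣ k → fixedIn (A ^ k) ⊤ = ⊥ := fun k hk => by
    rw [Submodule.eq_bot_iff]
    intro v hv
    refine (Submodule.eq_bot_iff _).mp hA0 v (mem_fixedIn.mpr ⟨trivial, ?_⟩)
    have h1 : ∀ l, ((A ^ k) ^ l) v = v := fun l => by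
      induction l with
      | zero => rfl
      | succ l ih => rw [pow_succ', Module.End.mul_apply, ih]; exact (mem_fixedIn.mp hv).2
    obtain ⟨l, hl⟩ : ∃ l, k * l % r = 1 := by
      have hne : (k : ZMod r) ≠ 0 := fun e => hk ((ZMod.natCast_eq_zero_iff _ _).mp e)
      refine ⟨((k : ZMod r)⁻¹).val, ?_⟩
      have h2 : ((k * ((k : ZMod r)⁻¹).val : ℕ) : ZMod r) = ((1 : ℕ) : ZMod r) := by
        rw [Nat.cast_mul, ZMod.natCast_zmod_val, mul_inv_cancel₀ hne, Nat.cast_one]
      rw [ZMod.natCast_eq_natCast_iff'] at h2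
      rwa [Nat.one_mod_eq_one.mpr hrP.ne_one] at h2
    have h3 := h1 l
    rwa [← pow_mul, pow_eq_pow_mod _ hAr, hl, pow_one] at h3
  have hpoly : ∀ k : ℕ, ∃ P : F[X], ¬ r ∣ k →
      (P.Monic ∧ Irreducible P ∧ P.natDegree = cc ∧ ∀ v, aeval (A ^ k) P v = 0) := fun k => by
    by_cases hk : r ∣ k
    · exact ⟨0, fun h => absurd hk h⟩
    obtain ⟨P, h1, h2, h3, h4⟩ := exists_poly hF (g := A ^ k) (r := r) (by rw [← pow_mul, mul_comm, pow_mul, hAr, one_pow])
      hrq invBy_top (hpow0 k hk) (by rw [finrank_top, Module.finrank_fin_fun, hbc])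
    exact ⟨P, fun _ => ⟨h1, h2, h3.trans hbc, fun v => h4 v trivial⟩⟩
  choose Q hQ using hpoly
  set I := Finset.Icc 1 (r - 1)
  have hI : ∀ k ∈ I, ¬ r ∣ k := fun k hk h => by
    rw [Finset.mem_Icc] at hk
    have := Nat.le_of_dvd (by omega) h
    omega
  set S := I.image Q
  obtain ⟨P₀, h0m, h0i, h0d, h0k⟩ : ∃ P : F[X], P.Monic ∧ Irreducible P ∧ P.natDegree = cc ∧ ∀ v, aeval A P v = 0 := by
    have h := hQ 1 fun h => hrP.ne_one (Nat.dvd_one.mp h)
    rw [pow_one] at h
    exact ⟨Q 1, h⟩
  have : Fact (Irreducible P₀) := ⟨h0i⟩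
  obtain ⟨v, hv⟩ : ∃ v : Fin cc → F, v ≠ 0 := ⟨Pi.single ⟨0, hc⟩ 1, fun h => by simpa using congrFun h ⟨0, hc⟩⟩
  obtain ⟨L, hL⟩ := exists_orbit (g := A) h0m (h0k v)
  have hinj := orbit_injective hv hL
  have hmk : ∀ R : F[X], aeval A R v = 0 → AdjoinRoot.mk P₀ R = 0 := fun R hR =>
    hinj (by rw [hL, hR, map_zero])
  set z := AdjoinRoot.mk P₀ X with hz
  have hzr : orderOf z = r := by
    refine orderOf_eq_prime ?_ fun h => hv ((Submodule.eq_bot_iff _).mp hA0 v (mem_fixedIn.mpr ⟨trivial, ?_⟩))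
    · rw [← sub_eq_zero, hz, ← map_pow, ← map_one (AdjoinRoot.mk P₀), ← map_sub]
      refine hmk _ ?_
      rw [map_sub, map_one, map_pow, aeval_X, hAr, sub_self, LinearMap.zero_apply]
    · have h1 := congrArg L h
      rw [hz, hL, aeval_X, ← map_one (AdjoinRoot.mk P₀), hL, map_one, Module.End.one_apply] at h1
      exact h1
  have hfib : I.card ≤ cc * S.card := by
    refine Finset.card_le_mul_card_image _ _ fun P hP => ?_
    obtain ⟨k₀, hk₀, rfl⟩ := Finset.mem_image.mp hP
    obtain ⟨hm, hi, hd, -⟩ := hQ k₀ (hI k₀ hk₀)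
    set P' := (Q k₀).map (algebraMap F (AdjoinRoot P₀))
    calc (I.filter fun k => Q k = Q k₀).card ≤ P'.roots.toFinset.card := by
          refine Finset.card_le_card_of_injOn (fun k => z ^ k) (fun k hk => ?_) (fun a ha b hb hab => ?_)
          · rw [Finset.mem_coe, Finset.mem_filter] at hk
            rw [Finset.mem_coe, Multiset.mem_toFinset, mem_roots (Polynomial.map_ne_zero hm.ne_zero)]
            rw [IsRoot, eval_map, ← hk.2, ← aeval_def]
            show aeval (z ^ k) (Q k) = 0
            rw [hz, ← map_pow, ← AdjoinRoot.coe_mkₐ, Polynomial.aeval_algHom_apply, AdjoinRoot.coe_mkₐ]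
            refine hmk _ ?_
            rw [← aeval_algHom_apply, map_pow, aeval_X]
            exact (hQ k (hI k hk.1)).2.2.2 v
          · simp only [Finset.coe_filter, Set.mem_setOf_eq, I, Finset.mem_Icc] at ha hb
            exact pow_injOn_Iio_orderOf (by rw [Set.mem_Iio, hzr]; have := hrP.two_le; omega)
              (by rw [Set.mem_Iio, hzr]; have := hrP.two_le; omega) hab
      _ ≤ Multiset.card P'.roots := Multiset.toFinset_card_le _
      _ ≤ P'.natDegree := card_roots' _
      _ ≤ cc := by rw [natDegree_map, hd]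
  have hsS : (r - 1) / cc ≤ S.card := by
    rw [Nat.card_Icc, Nat.add_sub_cancel] at hfib
    exact Nat.div_le_of_le_mul hfib
  have hsel : ∀ P : S, ∃ k ∈ I, Q k = (P : F[X]) := fun P => Finset.mem_image.mp P.2
  choose sel hsel₁ hsel₂ using hsel
  let ι : Fin ((r - 1) / cc) → S := fun l => S.equivFin.symm (Fin.castLE hsS l)
  have hι : Function.Injective ι := S.equivFin.symm.injective.comp (Fin.castLE_injective hsS)
  refine ⟨fun l => A ^ sel (ι l), fun l => (ι l : F[X]), Subtype.val_injective.comp hι, fun l => ?_⟩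
  have h := hQ _ (hI _ (hsel₁ (ι l)))
  rw [hsel₂] at h
  exact ⟨by rw [← pow_mul, mul_comm, pow_mul, hAr, one_pow], pow_isometry hAi _, hpow0 _ (hI _ (hsel₁ (ι l))), h⟩

include hF hσ hrq in
/-- The fixed part and the moved part of an invariant isotropic subspace. -/
theorem iso_split {g : Module.End F (Fin n → F)} (hgi : ∀ u v, hermSesq σ n (g u) (g v) = hermSesq σ n u v)
    (hgr : g ^ r = 1) {f : ℕ} (hf : finrank F (fixedIn g ⊤) ≤ f) {W : Submodule F (Fin n → F)} (hW : InvBy g W)
    (hWi : IsoH (hermSesq σ n) W) :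
    ∃ (w : ℕ) (W' : Submodule F (Fin n → F)), 2 * w ≤ f ∧ bb ∣ finrank F W' ∧ finrank F W = w + finrank F W' ∧
      InvBy g W' ∧ W' ≤ W ∧ W' ≤ LinearMap.range (g - 1) := by
  refine ⟨finrank F (fixedIn g W), W.map (g - 1), ?_, ?_, ?_, ?_, ?_, ?_⟩
  · refine le_trans (two_mul_le_of_iso (conj_conj hF hσ) (sepH_fixedIn hF hgi hgr hrq invBy_top sepH_top)
      (inf_le_inf_right _ le_top) (isoH_mono hWi inf_le_left)) hf
  · have h := orderOf_dvd_finrank_sub hgr (by rw [card_cast hF]; exact pow_ne_zero 2 hrq) hW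
    suffices e : finrank F (W.map (g - 1)) = finrank F W - finrank F (fixedIn g W) by rwa [e]
    have := LinearMap.finrank_range_add_finrank_ker ((g - 1).comp W.subtype)
    rw [LinearMap.range_comp, Submodule.range_subtype, LinearMap.ker_comp, ← Submodule.finrank_map_subtype_eq,
      Submodule.map_comap_subtype] at this
    rw [fixedIn]
    omega
  · have := LinearMap.finrank_range_add_finrank_ker ((g - 1).comp W.subtype)
    rw [LinearMap.range_comp, Submodule.range_subtype, LinearMap.ker_comp, ← Submodule.finrank_map_subtype_eq,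
      Submodule.map_comap_subtype] at this
    rw [fixedIn]
    omega
  · rintro _ ⟨v, hv, rfl⟩
    exact ⟨g v, hW v hv, by simp⟩
  · rintro _ ⟨v, hv, rfl⟩
    exact W.sub_mem (hW v hv) hv
  · exact LinearMap.map_le_range

include hF hσ hrq in
/-- An element of order `r` with the smallest fixed space. -/
theorem exists_max_model (hcn : cc ≤ n) :
    ∃ g : Module.End F (Fin n → F), g ^ r = 1 ∧ (∀ u v, hermSesq σ n (g u) (g v) = hermSesq σ n u v) ∧ g ≠ 1 ∧
      finrank F (fixedIn g ⊤) ≤ n % cc := by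
  obtain ⟨A, hAr, hAi, hA0⟩ := exists_atom_model hF hσ hrq
  have hc := c_pos (F := F) hF hrq
  let ψ : Fin n ≃ (Fin (n / cc) × Fin cc) ⊕ Fin (n % cc) := Fintype.equivOfCardEq (by
    rw [Fintype.card_sum, Fintype.card_prod, Fintype.card_fin, Fintype.card_fin, Fintype.card_fin, Fintype.card_fin,
      mul_comm, Nat.div_add_mod])
  have hfix := glue_fixed_le (ψ := ψ) (A := fun _ => A) fun _ => hA0
  refine ⟨glueEnd ψ fun _ => A, glue_pow_eq_one fun _ => hAr, glue_isometry fun _ => hAi, fun h => ?_, hfix⟩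
  have htop : fixedIn (1 : Module.End F (Fin n → F)) ⊤ = ⊤ := eq_top_iff.mpr fun v _ => mem_fixedIn.mpr ⟨trivial, rfl⟩
  rw [h, htop, finrank_top, Module.finrank_fin_fun] at hfix
  have := Nat.mod_lt n hc
  omega

include hF hσ hrq in
/-- An element of order `r` without invariant totally isotropic subspaces of dimension `m`, when the classes of
atoms are too many. -/
theorem exists_class_counter (hodd : Odd cc) {m : ℕ} (hmn : 2 * m ≤ n) (hcm : cc ≤ m)
    (hs : n / cc < (r - 1) / cc + 2 * (m / cc)) :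
    ∃ g : Module.End F (Fin n → F), g ^ r = 1 ∧ (∀ u v, hermSesq σ n (g u) (g v) = hermSesq σ n u v) ∧ g ≠ 1 ∧
      ∀ W : Submodule F (Fin n → F), InvBy g W → IsoH (hermSesq σ n) W → finrank F W ≠ m := by
  classical
  obtain ⟨A, P, hPinj, hAP⟩ := exists_atom_family hF hσ hrq hodd
  have hc := c_pos (F := F) hF hrq
  have hbc : bb = cc := by
    rcases b_cases (F := F) hF hrq with ⟨-, h⟩ | ⟨h, -⟩
    · exact h
    · exact absurd h (Nat.not_even_iff_odd.mpr hodd)
  have hm1 : 1 ≤ m / cc := (Nat.le_div_iff_mul_le hc).mpr (by omega)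
  have hn2 : 2 * (m / cc) ≤ n / cc := by
    rw [Nat.le_div_iff_mul_le hc, mul_assoc]
    exact (Nat.mul_le_mul_left 2 (Nat.div_mul_le_self m cc)).trans hmn
  have hs1 : 1 ≤ (r - 1) / cc := by
    refine (Nat.le_div_iff_mul_le hc).mpr ?_
    rw [one_mul]
    exact Nat.le_of_dvd (by have := (Fact.out : r.Prime).two_le; omega)
      (orderOf_dvd_of_pow_eq_one (ZMod.pow_card_sub_one_eq_one (neg_ne_zero.mpr hrq)))
  set t := (n / cc - 1) - min (n / cc - 1) (2 * (m / cc) - 1) with ht
  have hts : t < (r - 1) / cc := by omega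
  let cls : Fin (n / cc - 1) → Fin ((r - 1) / cc) := fun k => ⟨min k t, by omega⟩
  let ψ : Fin n ≃ (Fin (n / cc - 1) × Fin cc) ⊕ Fin (n % cc + cc) := Fintype.equivOfCardEq (by
    rw [Fintype.card_sum, Fintype.card_prod, Fintype.card_fin, Fintype.card_fin, Fintype.card_fin, Fintype.card_fin]
    have h1 := Nat.div_add_mod n cc
    have h2 : (n / cc - 1) * cc + cc = cc * (n / cc) := by
      rw [← Nat.succ_mul, mul_comm, Nat.succ_eq_add_one, Nat.sub_add_cancel (by omega)]
    omega)
  set g := glueEnd ψ fun k => A (cls k) with hgdef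
  have hgr : g ^ r = 1 := glue_pow_eq_one fun k => (hAP _).1
  have hgi : ∀ u v, hermSesq σ n (g u) (g v) = hermSesq σ n u v := glue_isometry fun k => (hAP _).2.1
  have hfix : finrank F (fixedIn g ⊤) ≤ n % cc + cc := glue_fixed_le fun k => (hAP _).2.2.1
  have hkc := Nat.mod_lt n hc
  refine ⟨g, hgr, hgi, fun h => ?_, fun W hW hWi hWd => ?_⟩
  · have htop : fixedIn (1 : Module.End F (Fin n → F)) ⊤ = ⊤ := eq_top_iff.mpr fun v _ => mem_fixedIn.mpr ⟨trivial, rfl⟩
    rw [h, htop, finrank_top, Module.finrank_fin_fun] at hfix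
    have h1 := Nat.div_add_mod n cc
    have h2 : cc * 2 ≤ cc * (n / cc) := Nat.mul_le_mul_left cc (by omega)
    omega
  obtain ⟨w, W', hw, ⟨a, ha⟩, hdim, hW', hW'W, hW'r⟩ := iso_split hF hσ hrq hgi hgr hfix hW hWi
  rw [hbc] at ha
  have hwa : a = m / cc := by
    symm
    rw [Nat.div_eq_iff hc, mul_comm a cc]
    omega
  have hinr : ∀ v ∈ W', ∀ l, v (ψ.symm (Sum.inr l)) = 0 := by
    intro v hv l
    obtain ⟨x, rfl⟩ := hW'r hv
    rw [LinearMap.sub_apply, Pi.sub_apply, Module.End.one_apply, hgdef, glue_inr, sub_self]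
  have haev : ∀ (R : F[X]) (k : Fin (n / cc - 1)) (v : Fin n → F),
      blockProj ψ k (aeval g R v) = aeval (A (cls k)) R (blockProj ψ k v) := fun R k => by
    induction R using Polynomial.induction_on' with
    | add R S hR hS => intro v; simp [hR, hS]
    | monomial d x =>
      intro v
      simp only [aeval_monomial, Module.End.mul_apply, Module.algebraMap_end_apply, map_smul, hgdef,
        (glue_pow_apply d v).1]
  have hsingle : ∀ k : Fin (n / cc - 1), (k : ℕ) < t → ∀ v ∈ W', blockProj ψ k v = 0 := by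
    intro k hk
    obtain ⟨-, -, -, hm', hi', hd', hkill⟩ := hAP (cls k)
    have : Fact (Irreducible (P (cls k))) := ⟨hi'⟩
    let T : W' →ₗ[F] W' := (aeval g (P (cls k))).restrict (invBy_aeval hW' _)
    have hTinj : Function.Injective T := by
      rw [← LinearMap.ker_eq_bot, LinearMap.ker_eq_bot']
      rintro ⟨v, hv⟩ hTv
      have hTv' : aeval g (P (cls k)) v = 0 := congrArg Subtype.val hTv
      have hother : ∀ l, l ≠ k → blockProj ψ l v = 0 := by
        intro l hl
        by_contra hne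
        obtain ⟨-, -, -, hml, hil, hdl, hkl⟩ := hAP (cls l)
        have : Fact (Irreducible (P (cls l))) := ⟨hil⟩
        obtain ⟨L, hL⟩ := exists_orbit (g := A (cls l)) hml (hkl (blockProj ψ l v))
        have h0 : AdjoinRoot.mk (P (cls l)) (P (cls k)) = 0 := orbit_injective hne hL (by
          rw [map_zero, hL, ← haev, hTv', map_zero])
        have := hPinj (eq_of_monic_of_associated hml hm' (hil.associated_of_dvd hi' (AdjoinRoot.mk_eq_zero.mp h0)))
        simp only [cls, Fin.ext_iff] at this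
        exact hl (Fin.ext (by omega))
      by_contra hv0
      have hk0 : blockProj ψ k v ≠ 0 := fun e => hv0 (Subtype.ext (blockProj_ext (ψ := ψ) _ _
        (fun l => by rcases eq_or_ne l k with rfl | hl <;> simp [*])
        (fun l => by simp [hinr v hv l])))
      obtain ⟨L, hL⟩ := exists_orbit (g := A (cls k)) hm' (hkill (blockProj ψ k v))
      have hrange : LinearMap.range L = ⊤ := orbit_range hm' invBy_top
        (by rw [finrank_top, Module.finrank_fin_fun, hd']) trivial hk0 hL
      refine hk0 (hermSesq_sep (σ := σ) _ _ fun y => ?_)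
      obtain ⟨x, rfl⟩ : y ∈ LinearMap.range L := by rw [hrange]; trivial
      obtain ⟨R, rfl⟩ := AdjoinRoot.mk_surjective x
      have h1 := hWi v (hW'W hv) _ (hW'W (invBy_aeval hW' R v hv))
      rw [hermSesq_split (ψ := ψ), Finset.sum_eq_single k (fun l _ hl => by rw [hother l hl]; simp) (by simp),
        Finset.sum_eq_zero (fun l _ => by rw [hinr v hv l]; simp), add_zero, haev] at h1
      rw [hL]
      exact h1
    intro v hv
    obtain ⟨⟨u, hu⟩, hu'⟩ := (LinearMap.injective_iff_surjective.mp hTinj) ⟨v, hv⟩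
    have hu'' : aeval g (P (cls k)) u = v := congrArg Subtype.val hu'
    rw [← hu'', haev, hkill]
  let T : Finset (Fin n) :=
    (((Finset.univ.filter fun k : Fin (n / cc - 1) => t ≤ (k : ℕ)) ×ˢ (Finset.univ : Finset (Fin cc))).map
      (Function.Embedding.trans ⟨Sum.inl, Sum.inl_injective⟩ ψ.symm.toEmbedding))
  have hb := iso_support_bound (conj_conj hF hσ) (isoH_mono hWi hW'W) T fun v hv i hi => by
    obtain ⟨⟨k, b'⟩ | l, rfl⟩ := ψ.symm.surjective i
    · refine congrFun (hsingle k ?_ v hv) b'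
      by_contra hkt
      exact hi (Finset.mem_map.mpr ⟨(k, b'), by simp; omega, rfl⟩)
    · exact hinr v hv l
  have hcard : (Finset.univ.filter fun k : Fin (n / cc - 1) => t ≤ (k : ℕ)).card ≤ n / cc - 1 - t := by
    refine le_trans (Finset.card_le_card_of_injOn (fun k => (k : ℕ)) (t := Finset.Ico t (n / cc - 1)) (fun k hk => ?_)
      (fun a _ b _ h => Fin.ext h)) (Nat.card_Ico _ _).le
    simp only [Finset.coe_filter, Set.mem_setOf_eq] at hk
    simp [hk.2]
  rw [Finset.card_map, Finset.card_product, Finset.card_univ, Fintype.card_fin, ha, hwa] at hb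
  have h3 := hb.trans (Nat.mul_le_mul_right cc (hcard.trans (show n / cc - 1 - t ≤ 2 * (m / cc) - 1 by omega)))
  rw [Nat.sub_mul, one_mul, mul_assoc 2, mul_comm (m / cc)] at h3
  have h4 : cc ≤ cc * (m / cc) := Nat.le_mul_of_pos_right _ (by omega)
  omega

end Prime

end CfsgLib.UnitaryInv
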