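import Cfsg.Agent.LinearElements.UnitarySpecial
import Cfsg.Agent.LinearElements.PClassify
import Cfsg.Agent.UnipotentJordan.Unitary

/-!
Unipotent unitary elements of order `p`: orthogonal decompositions into nondegenerate cyclic subspaces, and the
nondegenerate invariant subspaces read off from the Jordan type.
-/

set_option autoImplicit false

namespace CfsgLib.UnitaryInv

open Module Submodule CfsgLib.LinearElements CfsgLib.Forms

variable {F V : Type*} [Field F] [Fintype F] [AddCommGroup V] [Module F V] [FiniteDimensional F V] {σ : F →+* F}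
  {B : V →ₛₗ[σ] V →ₗ[F] F} (hS : B.IsSymm) {q : ℕ} (hF : Fintype.card F = q ^ 2) (hσ : ∀ x, σ x = x ^ q)
  {y N : Module.End F V} (hyN : y = 1 + N) (hy : ∀ u v, B (y u) (y v) = B u v) {p : ℕ} (hp : 0 < p) (hN : N ^ p = 0)

omit [Fintype F] [FiniteDimensional F V] in
theorem pow_apply_zero {k j : ℕ} {v : V} (h : (N ^ k) v = 0) (hkj : k ≤ j) : (N ^ j) v = 0 := by
  rw [show j = (j - k) + k by omega, pow_add, Module.End.mul_apply, h, map_zero]

include hyN hy in
omit [Fintype F] [FiniteDimensional F V] in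
theorem form_step (u v : V) : B (N u) v + B u (N v) + B (N u) (N v) = 0 := by
  have h := hy u v
  simp only [hyN, LinearMap.add_apply, Module.End.one_apply, map_add] at h
  linear_combination h

include hyN hy in
omit [Fintype F] [FiniteDimensional F V] in
/-- Pairings of high powers vanish; the top ones agree up to sign. -/
theorem form_pow {v : V} {k : ℕ} (hk : ∀ j, k ≤ j → (N ^ j) v = 0) :
    ∀ i : ℕ, (∀ j, k ≤ i + j → B ((N ^ i) v) ((N ^ j) v) = 0) ∧
      ∀ j, i + j + 1 = k → B ((N ^ i) v) ((N ^ j) v) = (-1) ^ i * B v ((N ^ (k - 1)) v) := by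
  intro i
  induction i with
  | zero =>
    refine ⟨fun j hj => by rw [hk j (by omega), map_zero], fun j hj => ?_⟩
    rw [show j = k - 1 by omega, pow_zero, Module.End.one_apply, pow_zero, one_mul]
  | succ i ih =>
    have hstep : ∀ j, B ((N ^ (i + 1)) v) ((N ^ j) v) =
        -B ((N ^ i) v) ((N ^ (j + 1)) v) - B ((N ^ (i + 1)) v) ((N ^ (j + 1)) v) := fun j => by
      have h := form_step hyN hy ((N ^ i) v) ((N ^ j) v)
      rw [← Module.End.mul_apply, ← Module.End.mul_apply, ← pow_succ', ← pow_succ'] at h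
      linear_combination h
    have hz : ∀ d j, k ≤ i + 1 + j → k ≤ j + d → B ((N ^ (i + 1)) v) ((N ^ j) v) = 0 := by
      intro d
      induction d with
      | zero => exact fun j _ h => by rw [hk j (by omega), map_zero]
      | succ d ihd =>
        intro j h1 h2
        rw [hstep, ih.1 (j + 1) (by omega), ihd (j + 1) (by omega) (by omega), neg_zero, sub_zero]
    refine ⟨fun j hj => hz k j hj (by omega), fun j hj => ?_⟩
    rw [hstep, ih.2 (j + 1) (by omega), hz k (j + 1) (by omega) (by omega), pow_succ]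
    ring

include hS hF hσ hyN hy hN hp in
/-- An orthogonal decomposition into nondegenerate invariant subspaces of dimension at most `p`. -/
theorem exists_cyclic_parts {W : Submodule F V} (hW : InvBy N W) (hWs : SepH B W) :
    ∃ μ : Multiset ℕ, (∀ a ∈ μ, 0 < a ∧ a ≤ p) ∧ μ.sum = finrank F W ∧
      ∀ ν ≤ μ, ∃ U, U ≤ W ∧ InvBy N U ∧ SepH B U ∧ finrank F U = ν.sum := by
  classical
  induction hn : finrank F W using Nat.strong_induction_on generalizing W with
  | _ n ih =>
  rcases eq_or_ne W ⊥ with rfl | hne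
  · rw [finrank_bot] at hn
    refine ⟨0, by simp, by simpa using hn, fun ν hν => ⟨⊥, le_rfl, invBy_bot, sepH_bot, ?_⟩⟩
    rw [Multiset.le_zero.mp hν, Multiset.sum_zero, finrank_bot]
  obtain ⟨k, hk, hkmin⟩ : ∃ k, (∀ w ∈ W, (N ^ k) w = 0) ∧ ∀ l < k, ¬ ∀ w ∈ W, (N ^ l) w = 0 := by
    have hex : ∃ k, ∀ w ∈ W, (N ^ k) w = 0 := ⟨p, fun w _ => by rw [hN, LinearMap.zero_apply]⟩
    exact ⟨Nat.find hex, Nat.find_spec hex, fun l hl => Nat.find_min hex hl⟩
  have hkp : k ≤ p := by
    by_contra hlt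
    exact hkmin p (by omega) fun w _ => by rw [hN, LinearMap.zero_apply]
  have hk0 : 0 < k := Nat.pos_of_ne_zero fun e => hne ((Submodule.eq_bot_iff W).mpr fun w hw => by
    have := hk w hw
    rwa [e, pow_zero, Module.End.one_apply] at this)
  obtain ⟨v, hvW, hv⟩ : ∃ v ∈ W, B v ((N ^ (k - 1)) v) ≠ 0 := by
    by_contra hall
    push Not at hall
    refine hkmin (k - 1) (by omega) fun w hw => ?_
    by_contra hw0
    obtain ⟨u, hu, huw⟩ := hWs _ (hW.pow _ w hw) hw0
    have hskew : ∀ a b, a ∈ W → b ∈ W → B a ((N ^ (k - 1)) b) = 0 := by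
      intro a b ha hb
      obtain ⟨c, hc⟩ : ∃ c : F, σ c ≠ c := by
        by_contra hall'
        push Not at hall'
        exact Forms.conj_ne_id hF hσ (RingHom.ext hall')
      have h1 := hall _ (W.add_mem ha hb)
      have h2 := hall _ (W.add_mem (W.smul_mem c ha) hb)
      simp only [map_add, LinearMap.add_apply, map_smul, LinearMap.map_smulₛₗ, LinearMap.smul_apply, RingHom.id_apply,
        smul_eq_mul, hall a ha, hall b hb, mul_zero, zero_add, add_zero] at h1 h2
      have h3 : (σ c - c) * B a ((N ^ (k - 1)) b) = 0 := by linear_combination h2 - c * h1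
      exact (mul_eq_zero.mp h3).resolve_left (sub_ne_zero.mpr hc)
    exact huw (swap_zero hS (hskew u w hu hw))
  have hkv : ∀ j, k ≤ j → (N ^ j) v = 0 := fun j hj => pow_apply_zero (hk v hvW) hj
  let f : Fin k → V := fun j => (N ^ (j : ℕ)) v
  have hpair : ∀ a : Fin k → F, (∃ l, a l ≠ 0) → ∃ l : Fin k, B (f l) (∑ j, a j • f j) ≠ 0 := by
    intro a ha
    have hS' : (Finset.univ.filter fun l => a l ≠ 0).Nonempty := by
      obtain ⟨l, hl⟩ := ha; exact ⟨l, by simp [hl]⟩
    set l₀ := (Finset.univ.filter fun l => a l ≠ 0).min' hS' with hl₀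
    have hal : a l₀ ≠ 0 := (Finset.mem_filter.mp (Finset.min'_mem _ hS')).2
    refine ⟨⟨k - 1 - l₀, by omega⟩, ?_⟩
    rw [map_sum, Finset.sum_eq_single l₀]
    · rw [map_smul, smul_eq_mul, (form_pow hyN hy hkv _).2 _ (by simp only; omega)]
      exact mul_ne_zero hal (mul_ne_zero (pow_ne_zero _ (neg_ne_zero.mpr one_ne_zero)) hv)
    · intro j _ hj
      rw [map_smul, smul_eq_mul]
      by_cases haj : a j = 0
      · rw [haj, zero_mul]
      · have : l₀ ≤ j := Finset.min'_le _ _ (by simp [haj])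
        have : (l₀ : ℕ) < j := lt_of_le_of_ne this fun e => hj (Fin.ext e.symm)
        rw [(form_pow hyN hy hkv _).1 _ (by simp only; omega), mul_zero]
    · simp
  have hli : LinearIndependent F f := by
    rw [Fintype.linearIndependent_iff]
    intro a ha l
    by_contra hl
    obtain ⟨l', hl'⟩ := hpair a ⟨l, hl⟩
    exact hl' (by rw [ha, map_zero])
  set X := Submodule.span F (Set.range f)
  have hXW : X ≤ W := Submodule.span_le.mpr (by rintro _ ⟨j, rfl⟩; exact hW.pow _ v hvW)
  have hX : InvBy N X := by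
    intro x hx
    induction hx using Submodule.span_induction with
    | mem z hz =>
      obtain ⟨j, rfl⟩ := hz
      show N ((N ^ (j : ℕ)) v) ∈ X
      rw [← Module.End.mul_apply, ← pow_succ']
      by_cases hj : (j : ℕ) + 1 < k
      · exact Submodule.subset_span ⟨⟨_, hj⟩, rfl⟩
      · rw [hkv _ (by omega)]; exact X.zero_mem
    | zero => simp
    | add a b _ _ ha hb => rw [map_add]; exact X.add_mem ha hb
    | smul a b _ hb => rw [map_smul]; exact X.smul_mem _ hb
  have hXs : SepH B X := by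
    intro w hw hw0
    obtain ⟨a, rfl⟩ := (Submodule.mem_span_range_iff_exists_fun F).mp hw
    obtain ⟨l, hl⟩ := hpair a (by
      by_contra h
      push Not at h
      exact hw0 (Finset.sum_eq_zero fun j _ => by rw [h j, zero_smul]))
    exact ⟨f l, Submodule.subset_span ⟨l, rfl⟩, fun e => hl (swap_zero hS e)⟩
  have hXd : finrank F X = k := by rw [finrank_span_eq_card hli, Fintype.card_fin]
  obtain ⟨Y, hYW, hmem, hYs, horth, -, hd⟩ := exists_compl hS (conj_conj hF hσ) hWs hXs hXW
  have hY : InvBy N Y := by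
    intro z hz
    obtain ⟨hzW, hzX⟩ := (hmem z).mp hz
    refine (hmem _).mpr ⟨hW z hzW, ?_⟩
    have hd' : ∀ d x, x ∈ X → (N ^ d) x = 0 → B x (N z) = 0 := by
      intro d
      induction d with
      | zero => intro x _ hx; rw [pow_zero, Module.End.one_apply] at hx; simp [hx]
      | succ d ihd =>
        intro x hxX hx
        have h := form_step hyN hy x z
        rw [ihd (N x) (hX x hxX) (by rwa [← Module.End.mul_apply, ← pow_succ]), hzX _ (hX x hxX), zero_add, add_zero] at h
        exact h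
    exact fun x hx => hd' k x hx (hk x (hXW hx))
  obtain ⟨μ, hμ, hsum, hsub⟩ := ih (finrank F Y) (by omega) hY hYs rfl
  refine ⟨k ::ₘ μ, fun a ha => ?_, by rw [Multiset.sum_cons, hsum, ← hn, ← hd, hXd], fun ν hν => ?_⟩
  · rcases Multiset.mem_cons.mp ha with rfl | ha
    · exact ⟨hk0, hkp⟩
    · exact hμ a ha
  by_cases hkν : k ∈ ν
  · obtain ⟨U, hUY, hU, hUs, hUd⟩ := hsub (ν.erase k) (Multiset.erase_le_iff_le_cons.mpr hν)
    have ho : ∀ x ∈ X, ∀ z ∈ U, B x z = 0 := fun x hx z hz => horth x hx z (hUY hz)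
    refine ⟨X ⊔ U, sup_le hXW (hUY.trans hYW), hX.sup hU, sepH_sup hS hXs hUs ho, ?_⟩
    rw [finrank_sup_of_disjoint (orth_disjoint hS hXs ho), hXd, hUd, ← Multiset.sum_cons, Multiset.cons_erase hkν]
  · obtain ⟨U, hUY, rest⟩ := hsub ν ((Multiset.le_cons_of_notMem hkν).mp hν)
    exact ⟨U, hUY.trans hYW, rest⟩

end CfsgLib.UnitaryInv

namespace CfsgLib.UnitaryInv

open Module Submodule CfsgLib.LinearElements CfsgLib.Forms
open scoped Matrix

variable {F : Type*} [Field F] [Fintype F] {σ : F →+* F} {n q : ℕ} (hF : Fintype.card F = q ^ 2)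
  (hσ : ∀ x, σ x = x ^ q) {p : ℕ} [Fact p.Prime] [CharP F p]

include hF hσ in
/-- Which dimensions of nondegenerate invariant subspaces occur for every element of order `p`. -/
theorem unipotent_iff {m : ℕ} (hn : 0 < n) (hmn : m ≤ n) :
    (∀ g, ProjU σ n p g → ∃ W : Submodule F (Fin n → F), InvBy g W ∧ SepH (hermSesq σ n) W ∧ finrank F W = m) ↔
      ∀ μ : Multiset ℕ, (∀ a ∈ μ, 0 < a ∧ a ≤ p) → μ.sum = n → ∃ ν : Multiset ℕ, ν ≤ μ ∧ ν.sum = m := by
  classical
  have hpP := (Fact.out : p.Prime)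
  have hσ2 := conj_conj hF hσ
  have hS := hermSesq_isSymm hσ2 n
  constructor
  · intro h μ hμ hsum
    by_cases hone : ∀ b ∈ μ, b = 1
    · refine ⟨Multiset.replicate m 1, ?_, by simp⟩
      rw [Multiset.eq_replicate_card.mpr hone]
      refine Multiset.replicate_le_replicate 1 |>.mpr ?_
      have : μ.sum = μ.card := by rw [Multiset.eq_replicate_card.mpr hone]; simp
      omega
    push Not at hone
    obtain ⟨b, hb, hb1⟩ := hone
    obtain ⟨L, d, hd⟩ := exists_list_family μ
    have hd1 : ∀ i, 1 ≤ d i := fun i => (hμ _ (by rw [← hd]; exact Multiset.mem_map.mpr ⟨i, by simp, rfl⟩)).1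
    have hdp : ∀ i, d i ≤ p := fun i => (hμ _ (by rw [← hd]; exact Multiset.mem_map.mpr ⟨i, by simp, rfl⟩)).2
    let e : UnipotentJordan.JI d ≃ Fin n := Fintype.equivFinOfCardEq (by
      rw [Fintype.card_sigma, ← hsum, ← hd]
      simp only [Fintype.card_fin]
      rfl)
    obtain ⟨γ, c, c', -, -, hconj, -⟩ := UnipotentJordan.exists_unitary_model hd1 hF hσ hσ2 e
    set A : Matrix (Fin n) (Fin n) F := ((γ : GL (Fin n) F) : Matrix (Fin n) (Fin n) F) - 1
    have hrank : ∀ k, (A ^ k).rank = ∑ i, (d i - k) := fun k => by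
      rw [← UnipotentJordan.rank_pow_eq_of_isConj hconj, UnipotentJordan.rank_reindex_pow,
        UnipotentJordan.rank_shiftMat_pow hd1]
    set N := Matrix.toLin' A
    have hNp : N ^ p = 0 := by
      have h0 : A ^ p = 0 := UnipotentJordan.eq_zero_of_rank (by
        rw [hrank]; exact Finset.sum_eq_zero fun i _ => by have := hdp i; omega)
      rw [show N ^ p = Matrix.toLinAlgEquiv' (A ^ p) from (map_pow Matrix.toLinAlgEquiv' A p).symm, h0, map_zero]
    obtain ⟨C⟩ := exists_chainBasis (N := N) (W := (⊤ : Submodule F (Fin n → F))) le_top (P := p) (by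
      rw [hNp, Submodule.eq_bot_iff]; rintro _ ⟨v, -, rfl⟩; rfl)
    have hC : C.sizes = μ := by
      rw [← hd]
      exact UnipotentJordan.multiset_eq_of_rank (d := C.sz) C.sz_pos hd1 fun k => by
        rw [← C.rankOn_eq, UnipotentJordan.rankOn_top, hrank]
    obtain ⟨i₀, hi₀⟩ : ∃ i, 2 ≤ C.sz i := by
      rw [← hC] at hb
      obtain ⟨i, -, rfl⟩ := Multiset.mem_map.mp hb
      exact ⟨i, by have := C.sz_pos i; omega⟩
    obtain ⟨hgp, hdet, hns⟩ := one_add_nilpotent p hNp
    have hiso : ∀ u v, hermSesq σ n ((1 + N) u) ((1 + N) v) = hermSesq σ n u v := fun u v => by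
      have e1 : ∀ w, (1 + N) w = ((γ : GL (Fin n) F) : Matrix (Fin n) (Fin n) F) *ᵥ w := fun w => by
        simp [N, A, Matrix.sub_mulVec]
      rw [e1, e1, ← hermForm_eq_hermSesq hσ, ← hermForm_eq_hermSesq hσ]
      exact γ.2 v u
    obtain ⟨U, hU, hUs, hUd⟩ := h (1 + N) ⟨⟨hdet, ⟨1, by rw [hgp, one_smul]⟩, hns (C.ne_zero_of_two_le hi₀)⟩, hiso⟩
    obtain ⟨Y, -, hmem, -, horth, hsup, -⟩ := exists_compl hS hσ2 sepH_top hUs (le_top : U ≤ ⊤)
    have hY : InvBy (1 + N) Y := invBy_orth hS hiso hgp invBy_top hU hmem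
    have hinv : ∀ S : Submodule F (Fin n → F), InvBy (1 + N) S → S.map N ≤ S := by
      rintro S hS' _ ⟨v, hv, rfl⟩
      rw [show N v = (1 + N) v - v by simp]
      exact S.sub_mem (hS' v hv) hv
    let D : Fin 2 → Submodule F (Fin n → F) := ![U, Y]
    have hD : iSupIndep D := by
      rw [iSupIndep_pair (i := (0 : Fin 2)) (j := 1) (by decide) (by decide)]
      exact disjoint_iff.mpr (orth_disjoint hS hUs horth)
    have htop : ⨆ i, D i = ⊤ := eq_top_iff.mpr (hsup.ge.trans (sup_le (le_iSup D 0) (le_iSup D 1)))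
    refine ⟨blockMultiset N U p, ?_, ?_⟩
    · rw [← hC]
      exact blockMultiset_le_sizes C hD htop (Fin.forall_fin_two.mpr ⟨hinv U hU, hinv Y hY⟩) p 0
    · rw [sum_blockMultiset (hinv U hU)]
      · exact hUd
      · rw [hNp, Submodule.eq_bot_iff]
        rintro _ ⟨v, -, rfl⟩
        rfl
  · rintro h g ⟨⟨-, ⟨z, hz⟩, -⟩, hg⟩
    have hzn := scalar_norm hn hg hz
    obtain ⟨μ, hμ⟩ := (Finite.surjective_of_injective (frobenius_inj F p)) z
    rw [frobenius_def] at hμ
    have hμn : σ μ * μ = 1 := by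
      have h1 : (σ μ * μ - 1) ^ p = 0 := by rw [sub_pow_char, mul_pow, ← map_pow, hμ, hzn, one_pow, sub_self]
      exact sub_eq_zero.mp (eq_zero_of_pow_eq_zero h1)
    obtain ⟨hy1, hyi, hyW⟩ := exists_reduced hg hz hμn hμ
    set y := μ⁻¹ • g
    have : Nonempty (Fin n) := ⟨⟨0, hn⟩⟩
    have : CharP (Module.End F (Fin n → F)) p := charP_of_injective_algebraMap' F p
    have hN : (y - 1) ^ p = 0 := by rw [sub_pow_char_of_commute _ (Commute.one_right _), one_pow, hy1, sub_self]
    obtain ⟨μ', hμ', hsum, hsub⟩ := exists_cyclic_parts hS hF hσ (N := y - 1) (by abel) hyi hpP.pos hN invBy_top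
      sepH_top
    rw [finrank_top, Module.finrank_fin_fun] at hsum
    obtain ⟨ν, hν, hνm⟩ := h μ' hμ' hsum
    obtain ⟨U, -, hU, hUs, hUd⟩ := hsub ν hν
    refine ⟨U, hyW U fun v hv => ?_, hUs, hUd.trans hνm⟩
    rw [show y v = (y - 1) v + v by simp]
    exact U.add_mem (hU v hv) hv

end CfsgLib.UnitaryInv
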