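import Cfsg.Agent.LinearElements.UnitaryOrders
import Cfsg.Agent.LinearElements.UnitaryUnipotent
import Cfsg.Agent.FieldEmb.Basic

/-!
When every element of projective prime order of the special unitary group fixes a nondegenerate subspace of given
dimension.
-/

set_option autoImplicit false

namespace CfsgLib.UnitaryInv

open Module Submodule CfsgLib.LinearElements CfsgLib.Forms

variable {F : Type*} [Field F] [Fintype F] {p : ℕ} [Fact p.Prime] [CharP F p] {q n m : ℕ}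
  (hF : Fintype.card F = q ^ 2) {σ : F →+* F} (hσ : ∀ x, σ x = x ^ q)

include hF hσ in
/-- The dimension of an invariant nondegenerate subspace, split into its fixed and moved parts. -/
theorem sep_split {r : ℕ} [Fact r.Prime] (hrq : (q : ZMod r) ≠ 0) {g : Module.End F (Fin n → F)}
    (hgi : ∀ u v, hermSesq σ n (g u) (g v) = hermSesq σ n u v) (hgr : g ^ r = 1) {f : ℕ}
    (hf : finrank F (fixedIn g ⊤) ≤ f) {W : Submodule F (Fin n → F)} (hW : InvBy g W)
    (hWs : SepH (hermSesq σ n) W) :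
    ∃ w a, w ≤ f ∧ finrank F W = w + orderOf (-(q : ZMod r)) * a := by
  have hS := hermSesq_isSymm (conj_conj hF hσ) n
  have hC := sepH_fixedIn hF hgi hgr hrq hW hWs
  have hCi : InvBy g (fixedIn g W) := fun v hv => by rw [(mem_fixedIn.mp hv).2]; exact hv
  obtain ⟨M, hMW, hM, hMs, ho, -, hd⟩ := exists_compl_inv hS hF hσ hgi hgr hW hWs hCi hC inf_le_left
  have hM0 : fixedIn g M = ⊥ := le_bot_iff.mp (le_trans
    (fun v hv => (⟨mem_fixedIn.mpr ⟨hMW (mem_fixedIn.mp hv).1, (mem_fixedIn.mp hv).2⟩, (mem_fixedIn.mp hv).1⟩ :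
      v ∈ fixedIn g W ⊓ M)) (orth_disjoint hS hC ho).le)
  obtain ⟨⟨a, ha⟩, -⟩ := exists_sep_moved hS hF hσ hgi hgr hrq hM hMs hM0
  exact ⟨finrank F (fixedIn g W), a, (Submodule.finrank_mono (inf_le_inf_right _ le_top)).trans hf, by omega⟩

include hF hσ in
theorem nondegenerate_iff (hn : 3 ≤ n) (hmn : 2 * m < n) {r : ℕ} [Fact r.Prime]
    (hdvd : r ∣ Nat.card {W : Submodule F (Fin n → F) // finrank F ↥W = m ∧
      ∀ u ∈ W, u ≠ 0 → ∃ v ∈ W, Cfsg.hermForm n F q u v ≠ 0})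
    {i b c : ℕ} (hi : i = orderOf (q : ZMod r)) (hb : b = if Even i then i / 2 else i)
    (hc : c = if i % 4 = 0 then i else if i % 4 = 2 then i / 2 else 2 * i) :
    (∀ g, ProjU σ n r g → ∃ W : Submodule F (Fin n → F), finrank F ↥W = m ∧
      (∀ u ∈ W, u ≠ 0 → ∃ v ∈ W, Cfsg.hermForm n F q u v ≠ 0) ∧ W.map g ≤ W) ↔
    ((r = p ∧ 2 < p ∧ (∀ μ : Multiset ℕ, (∀ a ∈ μ, 0 < a ∧ a ≤ p) → μ.sum = n → ∃ ν : Multiset ℕ, ν ≤ μ ∧ ν.sum = m)) ∨
     (r = p ∧ p = 2 ∧ (Odd n ∨ Even m)) ∨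
     (r = 2 ∧ p ≠ 2 ∧ (Odd n ∨ Even m ∨ (padicValNat 2 n ≤ padicValNat 2 (q + 1) ∧ q % 4 = 3))) ∨
     (r ≠ p ∧ 2 < r ∧ ((i ≠ 2 ∧ c ≤ m ∧ m % c ≤ n % c) ∨ (i = 2 ∧ (r ∣ m ∨ padicValNat r n ≤ padicValNat r (q + 1)))))) := by
  have hrP := (Fact.out : r.Prime)
  have hσ2 := conj_conj hF hσ
  have hS := hermSesq_isSymm hσ2 n
  have key : (∀ g, ProjU σ n r g → ∃ W : Submodule F (Fin n → F), finrank F ↥W = m ∧
      (∀ u ∈ W, u ≠ 0 → ∃ v ∈ W, Cfsg.hermForm n F q u v ≠ 0) ∧ W.map g ≤ W) ↔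
      ∀ g, ProjU σ n r g → ∃ W : Submodule F (Fin n → F), InvBy g W ∧ SepH (hermSesq σ n) W ∧ finrank F W = m :=
    forall₂_congr fun g _ => exists_congr fun W => by rw [sep_iff hσ hσ2, ← invBy_iff_map_le]; tauto
  rw [key]
  clear key
  by_cases hrp : r = p
  · subst hrp
    rw [unipotent_iff hF hσ (by omega) (by omega)]
    rcases hrP.eq_two_or_odd' with rfl | hodd
    · rw [partition_two_iff (by omega)]
      simp
    · have hr2 : 2 < r := lt_of_le_of_ne hrP.two_le fun e => by subst e; exact absurd hodd (by decide)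
      simp [hr2, show r ≠ 2 by omega]
  have hrq' := not_dvd_q_of_ne (F := F) hF hrP hrp
  have hrq : (q : ZMod r) ≠ 0 := cast_q_ne (F := F) hF hrp
  rcases hrP.eq_two_or_odd' with hr2 | hrodd
  · subst hr2
    have hodd := odd_q hF (Ne.symm hrp)
    have h1 : -(q : ZMod 2) = 1 := by
      rw [ZMod.natCast_eq_one_iff_odd.mpr hodd]
      rfl
    have hcc : orderOf (-(q : ZMod 2)) = 1 := by rw [h1, orderOf_one]
    constructor
    · intro h
      refine Or.inr (Or.inr (Or.inl ⟨rfl, Ne.symm hrp, ?_⟩))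
      by_contra hc'
      obtain ⟨hne, hmo, hcase⟩ : ¬ Odd n ∧ ¬ Even m ∧ ¬ (padicValNat 2 n ≤ padicValNat 2 (q + 1) ∧ q % 4 = 3) :=
        ⟨fun h => hc' (Or.inl h), fun h => hc' (Or.inr (Or.inl h)), fun h => hc' (Or.inr (Or.inr h))⟩
      obtain ⟨k, hk⟩ := Nat.not_odd_iff_even.mp hne
      obtain ⟨g, hg, hev⟩ := exists_counter_sep hF hσ hodd (h := k) (n := n) (by omega) (by omega) hcase
      obtain ⟨W, hW, hWs, hWd⟩ := h g hg
      exact hmo (hWd ▸ hev W hW hWs)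
    · rintro (⟨h, -⟩ | ⟨h, -⟩ | ⟨-, -, hcond⟩ | ⟨-, h, -⟩)
      · exact absurd h hrp
      · exact absurd h hrp
      swap
      · omega
      intro g ⟨⟨hdet, ⟨z, hz⟩, _⟩, hg⟩
      obtain ⟨μ, hμz, hμ | hμ⟩ := sq_root hF hσ hodd (scalar_norm (by omega) hg hz)
      · obtain ⟨hy, hyi, hyW⟩ := exists_reduced hg hz hμ hμz
        obtain ⟨W, hW, hWs, hWd⟩ := exists_sep_of_mod hS sepH_top hF hσ hyi hy hrq (Module.finrank_fin_fun F)
          (m := m) (by omega) (by rw [hcc, Nat.mod_one]; omega)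
        exact ⟨W, hyW W hW, hWs, hWd⟩
      · have hgμ : g ^ 2 = μ ^ 2 • 1 := by rw [hz, hμz]
        obtain ⟨E, E', hc', -, -, hE, hE', hd1, hd2, -⟩ := minus_split hF hσ hodd hg hgμ hμ
        refine minus_sep hF hσ hodd hg hgμ hμ ?_ (by omega)
        rcases hcond with h | h | ⟨hv, hq4⟩
        · obtain ⟨a, ha⟩ := h; omega
        · exact h
        exfalso
        set e := finrank F E with he
        have he' : finrank F E' = e := by omega
        rw [det_two_scalars hc' hE hE', ← he, he', ← mul_pow] at hdet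
        obtain ⟨k, hk⟩ : ∃ k, q + 1 = 2 * k ∧ Even k := ⟨(q + 1) / 2, by omega, ⟨(q + 1) / 4, by omega⟩⟩
        refine two_adic_contra (neg_one_ne hF hodd) (x := μ * -μ) (a := e) (b := k) (by omega) (by omega) hdet ?_ ?_
        · rw [show μ * -μ = -(μ ^ 2) by ring, hk.2.neg_pow, ← pow_mul, ← hk.1, pow_succ, ← hσ]
          exact hμ
        · rw [show n = 2 * e by omega, hk.1, padicValNat.mul two_ne_zero (by omega),
            padicValNat.mul two_ne_zero (by omega)] at hv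
          omega
  have hr2 : 2 < r := lt_of_le_of_ne hrP.two_le fun e => by subst e; exact absurd hrodd (by decide)
  obtain ⟨j, hj1, hj2, hj3⟩ := count_sep hF hσ (by omega) hrq' hdvd
  obtain ⟨rfl, rfl, hi0, hiodd, hi2⟩ := orders hF hr2 hrq hi hb hc
  have hcpos := c_pos (F := F) hF hrq
  have hkc := Nat.mod_lt n hcpos
  have hcj : orderOf (-(q : ZMod r)) ≤ j := Nat.le_of_dvd (by omega) hj3
  have hjn : j ≤ n - n % orderOf (-(q : ZMod r)) := by
    obtain ⟨d, rfl⟩ := hj3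
    have h2 : d ≤ n / orderOf (-(q : ZMod r)) := (Nat.le_div_iff_mul_le hcpos).mpr (by rw [mul_comm]; exact hj2)
    have h1 := Nat.mul_le_mul_left (orderOf (-(q : ZMod r))) h2
    have := Nat.div_add_mod n (orderOf (-(q : ZMod r)))
    omega
  by_cases hI : i = 2
  · have hr1 : r ∣ q + 1 := hi2.mp hI
    have hcc : orderOf (-(q : ZMod r)) = 1 := by
      have h1 : -(q : ZMod r) = 1 := by
        have := (ZMod.natCast_eq_zero_iff (q + 1) r).mpr hr1
        push_cast at this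
        linear_combination -this
      rw [h1, orderOf_one]
    constructor
    · intro h
      refine Or.inr (Or.inr (Or.inr ⟨hrp, hr2, Or.inr ⟨hI, ?_⟩⟩))
      by_contra hno'
      simp only [not_or, not_le] at hno'
      obtain ⟨g, hg, hno⟩ := exists_nonpower_counter hF hσ hrodd hr1 (n := n) (by omega) hno'.2
      obtain ⟨W, hW, -, hWd⟩ := h g hg
      exact hno'.1 (hWd ▸ hno W hW)
    · rintro (⟨h, -⟩ | ⟨h, -⟩ | ⟨h, -⟩ | ⟨-, -, hcond⟩)
      · exact absurd h hrp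
      · exact absurd h hrp
      · omega
      intro g ⟨⟨hdet, ⟨z, hz⟩, _⟩, hg⟩
      have hv : r ∣ m ∨ padicValNat r n ≤ padicValNat r (q + 1) := by
        rcases hcond with ⟨h, -⟩ | ⟨-, hv⟩
        · exact absurd hI h
        · exact hv
      by_cases hpow : ∃ μ : F, μ ^ r = z
      · obtain ⟨μ, hμz⟩ := hpow
        have hμ := norm_root hσ (not_dvd_sub_one hF hrodd hr1) (fun x => pow_card_eq hF) (scalar_norm (by omega) hg hz) hμz
        obtain ⟨hy, hyi, hyW⟩ := exists_reduced hg hz hμ hμz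
        obtain ⟨W, hW, hWs, hWd⟩ := exists_sep_of_mod hS sepH_top hF hσ hyi hy hrq (Module.finrank_fin_fun F)
          (m := m) (by omega) (by rw [hcc, Nat.mod_one]; omega)
        exact ⟨W, hyW W hW, hWs, hWd⟩
      · push Not at hpow
        have hlt := nonpower_padic hF hσ hrodd hr1 (n := n) (by omega) hdet hz hpow
        obtain ⟨a, rfl⟩ := hv.resolve_right (by omega)
        obtain ⟨-, -, hsep⟩ := nonpower_sub hF hσ hrodd hr1 (n := n) (by omega) hg hz hpow
        obtain ⟨W, hW, hWs, hWd⟩ := hsep a (by rw [mul_comm]; omega)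
        exact ⟨W, hW, hWs, by rw [hWd, mul_comm]⟩
  have hr1 : ¬ r ∣ q + 1 := fun h => hI (hi2.mpr h)
  constructor
  · intro h
    obtain ⟨g, hgr, hgi, hne, hfix⟩ := exists_max_model hF hσ hrq (n := n) (le_trans hcj hj2)
    obtain ⟨W, hW, hWs, hWd⟩ := h g (projU_of_pow hF hσ (by omega) hr1 hgr hgi hne)
    obtain ⟨w, a, hw, hdim⟩ := sep_split hF hσ hrq hgi hgr hfix hW hWs
    have hl : m % orderOf (-(q : ZMod r)) ≤ n % orderOf (-(q : ZMod r)) := by
      rw [show m = w + orderOf (-(q : ZMod r)) * a by omega, Nat.add_mul_mod_self_left, Nat.mod_eq_of_lt (by omega)]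
      exact hw
    refine Or.inr (Or.inr (Or.inr ⟨hrp, hr2, Or.inl ⟨hI, ?_, hl⟩⟩))
    by_contra hlt
    rw [Nat.mod_eq_of_lt (by omega : m < orderOf (-(q : ZMod r)))] at hl
    omega
  · rintro (⟨h, -⟩ | ⟨h, -⟩ | ⟨h, -⟩ | ⟨-, -, hcond⟩)
    · exact absurd h hrp
    · exact absurd h hrp
    · omega
    intro g ⟨⟨_, ⟨z, hz⟩, _⟩, hg⟩
    obtain ⟨μ, hμ, hμz⟩ := exists_root_coprime hσ hr1 (scalar_norm (by omega) hg hz)
    obtain ⟨hy, hyi, hyW⟩ := exists_reduced hg hz hμ hμz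
    rcases hcond with ⟨-, -, hl⟩ | ⟨h, -⟩
    · obtain ⟨W, hW, hWs, hWd⟩ := exists_sep_of_mod hS sepH_top hF hσ hyi hy hrq (Module.finrank_fin_fun F)
        (m := m) (by omega) hl
      exact ⟨W, hyW W hW, hWs, hWd⟩
    · exact absurd h hI

end CfsgLib.UnitaryInv
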