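import Cfsg.Agent.LinearElements.UnitaryTwo

/-!
The parameters `b` and `c` of a prime `r` relative to a unitary space in terms of orders modulo `r`.
-/

set_option autoImplicit false

namespace CfsgLib.UnitaryInv

open Module CfsgLib.LinearElements

variable {F : Type*} [Field F] [Fintype F] {p : ℕ} [Fact p.Prime] [CharP F p] {q : ℕ}
  (hF : Fintype.card F = q ^ 2) {r : ℕ} [Fact r.Prime]

include hF in
omit [Fact r.Prime] in
theorem not_dvd_q_of_ne (hr : r.Prime) (hrp : r ≠ p) : ¬ r ∣ q := by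
  intro h
  obtain ⟨k, hpp, hk⟩ := FiniteField.card F p
  have h2 : r ∣ p ^ (k : ℕ) := by rw [← hk, hF]; exact dvd_pow h two_ne_zero
  exact hrp ((Nat.prime_dvd_prime_iff_eq hr hpp).mp (hr.dvd_of_dvd_pow h2))

include hF in
theorem cast_q_ne (hrp : r ≠ p) : (q : ZMod r) ≠ 0 := fun h =>
  not_dvd_q_of_ne (F := F) hF Fact.out hrp ((ZMod.natCast_eq_zero_iff _ _).mp h)

include hF in
theorem odd_q (hp : p ≠ 2) : Odd q := by
  rcases Nat.even_or_odd q with h | h
  · exact absurd (even_iff_two_dvd.mp h) (not_dvd_q_of_ne (F := F) hF Nat.prime_two (Ne.symm hp))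
  · exact h

include hF in
/-- The parameters are orders modulo `r`. -/
theorem orders (hr2 : 2 < r) (hrq : (q : ZMod r) ≠ 0) {i b c : ℕ} (hi : i = orderOf (q : ZMod r))
    (hb : b = if Even i then i / 2 else i) (hc : c = if i % 4 = 0 then i else if i % 4 = 2 then i / 2 else 2 * i) :
    b = orderOf (((Fintype.card F : ℕ) : ZMod r)) ∧ c = orderOf (-(q : ZMod r)) ∧ 0 < i ∧
      (i % 4 = 2 ↔ Odd (orderOf (-(q : ZMod r)))) ∧ (i = 2 ↔ r ∣ q + 1) := by
  have hrP := (Fact.out : r.Prime)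
  have hne : (-1 : ZMod r) ≠ 1 := by
    intro h
    have h2 : ((2 : ℕ) : ZMod r) = 0 := by push_cast; linear_combination -h
    have := Nat.le_of_dvd (by norm_num) ((ZMod.natCast_eq_zero_iff _ _).mp h2)
    omega
  have hi0 : 0 < i := hi ▸ orderOf_pos_iff.mpr (isOfFinOrder_iff_pow_eq_one.mpr
    ⟨r - 1, by omega, ZMod.pow_card_sub_one_eq_one hrq⟩)
  have hib : b = orderOf (((Fintype.card F : ℕ) : ZMod r)) := by
    rw [card_cast hF, orderOf_pow' _ two_ne_zero, ← hi, hb]
    split
    next he => rw [Nat.gcd_eq_right (even_iff_two_dvd.mp he)]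
    next ho =>
      rw [Nat.coprime_iff_gcd_eq_one.mp (Nat.coprime_two_right.mpr (Nat.not_even_iff_odd.mp ho)), Nat.div_one]
  have hpow : (q : ZMod r) ^ i = 1 := hi ▸ pow_orderOf_eq_one _
  have hhalf : Even i → (q : ZMod r) ^ (i / 2) = -1 := fun he => by
    obtain ⟨j, hj⟩ := he
    have h2 : ((q : ZMod r) ^ (i / 2)) ^ 2 = 1 := by rw [← pow_mul, show i / 2 * 2 = i by omega, hpow]
    refine (sq_eq_one_iff.mp h2).resolve_left fun h => ?_
    have := Nat.le_of_dvd (by omega) ((dvd_of_eq hi).trans (orderOf_dvd_of_pow_eq_one h) : i ∣ i / 2)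
    omega
  have hiff : i % 4 = 2 ↔ Odd (orderOf (-(q : ZMod r))) := by
    constructor
    · intro h
      have hodd : Odd (i / 2) := ⟨i / 4, by omega⟩
      refine hodd.of_dvd_nat (orderOf_dvd_of_pow_eq_one ?_)
      rw [hodd.neg_pow, hhalf ⟨i / 2, by omega⟩, neg_neg]
    · intro hodd
      have h1 : (q : ZMod r) ^ orderOf (-(q : ZMod r)) = -1 := by
        have := pow_orderOf_eq_one (-(q : ZMod r))
        rw [hodd.neg_pow] at this
        linear_combination -this
      have h2 : i ∣ 2 * orderOf (-(q : ZMod r)) :=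
        hi ▸ orderOf_dvd_of_pow_eq_one (by rw [mul_comm, pow_mul, h1, neg_one_sq])
      have h3 : ¬ i ∣ orderOf (-(q : ZMod r)) := fun h => hne (by
        obtain ⟨d, hd⟩ := h
        rw [← h1, hd, pow_mul, hpow, one_pow])
      obtain ⟨a, ha⟩ := hodd
      rcases Nat.even_or_odd i with ⟨j, hj⟩ | ho
      · have hjdvd : j ∣ orderOf (-(q : ZMod r)) :=
          Nat.dvd_of_mul_dvd_mul_left two_pos (by rwa [show 2 * j = i by omega])
        obtain ⟨e, he⟩ := (Odd.of_dvd_nat ⟨a, ha⟩ hjdvd : Odd j)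
        omega
      · exact absurd ((Nat.coprime_two_right.mpr ho).dvd_of_dvd_mul_left h2) h3
  refine ⟨hib, ?_, hi0, hiff, ?_⟩
  · rcases b_cases (F := F) hF hrq with ⟨ho, hbc⟩ | ⟨he, hcb⟩
    · have h4 := hiff.mpr ho
      rw [← hbc, ← hib, hc, hb, if_neg (show ¬ i % 4 = 0 by omega), if_pos h4, if_pos (Nat.even_iff.mpr (by omega))]
    · have h4 : i % 4 ≠ 2 := fun h => absurd (hiff.mp h) (Nat.not_odd_iff_even.mpr he)
      rw [hcb, ← hib, hc, hb]
      by_cases h0 : i % 4 = 0
      · rw [if_pos h0, if_pos (Nat.even_iff.mpr (by omega))]; omega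
      · rw [if_neg h0, if_neg h4, if_neg (fun h => by rw [Nat.even_iff] at h; omega)]
  · rw [← ZMod.natCast_eq_zero_iff, Nat.cast_add, Nat.cast_one]
    constructor
    · intro h
      have := hhalf ⟨1, by omega⟩
      rw [h, show 2 / 2 = 1 from rfl, pow_one] at this
      rw [this, neg_add_cancel]
    · intro h
      rw [hi]
      exact orderOf_eq_prime (by rw [show (q : ZMod r) = -1 by linear_combination h, neg_one_sq])
        (fun h1 => hne (by linear_combination h1 - h))

end CfsgLib.UnitaryInv
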