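import Cfsg.Agent.Forms.UnitaryOrder
import Cfsg.Agent.Forms.Diagonal
import Cfsg.Agent.LinearElements.RElements

/-!
Nondegenerate and totally isotropic subspaces of hermitian spaces over a finite field: complements, orthonormal
bases, subspaces of every possible dimension.
-/

set_option autoImplicit false

namespace CfsgLib.UnitaryInv

open Module Submodule CfsgLib.LinearElements

variable {F V : Type*} [Field F] [AddCommGroup V] [Module F V] {σ : F →+* F}

/-- The hermitian form is nondegenerate on `W`. -/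
def SepH (B : V →ₛₗ[σ] V →ₗ[F] F) (W : Submodule F V) : Prop := ∀ w ∈ W, w ≠ 0 → ∃ y ∈ W, B w y ≠ 0

/-- The hermitian form vanishes on `W`. -/
def IsoH (B : V →ₛₗ[σ] V →ₗ[F] F) (W : Submodule F V) : Prop := ∀ u ∈ W, ∀ v ∈ W, B u v = 0

variable {B : V →ₛₗ[σ] V →ₗ[F] F} (hS : B.IsSymm)

include hS in
theorem swap_zero {u v : V} (h : B u v = 0) : B v u = 0 := by rw [← hS.eq, h, map_zero]

theorem sepH_bot : SepH B ⊥ := fun _ hw h0 => absurd ((Submodule.mem_bot F).mp hw) h0

theorem isoH_bot : IsoH B ⊥ := fun u hu v _ => by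
  rw [(Submodule.mem_bot F).mp hu, map_zero, LinearMap.zero_apply]

theorem isoH_mono {U W : Submodule F V} (hW : IsoH B W) (hUW : U ≤ W) : IsoH B U :=
  fun u hu v hv => hW u (hUW hu) v (hUW hv)

include hS in
theorem isoH_sup {X Y : Submodule F V} (hX : IsoH B X) (hY : IsoH B Y) (horth : ∀ x ∈ X, ∀ y ∈ Y, B x y = 0) :
    IsoH B (X ⊔ Y) := by
  intro u hu v hv
  obtain ⟨x, hx, y, hy, rfl⟩ := Submodule.mem_sup.mp hu
  obtain ⟨x', hx', y', hy', rfl⟩ := Submodule.mem_sup.mp hv
  simp only [map_add, LinearMap.add_apply, hX x hx x' hx', hY y hy y' hy', horth x hx y' hy',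
    swap_zero hS (horth x' hx' y hy), add_zero]

include hS in
theorem sepH_sup {X Y : Submodule F V} (hX : SepH B X) (hY : SepH B Y) (horth : ∀ x ∈ X, ∀ y ∈ Y, B x y = 0) :
    SepH B (X ⊔ Y) := by
  intro w hw hne
  obtain ⟨x, hx, y, hy, rfl⟩ := Submodule.mem_sup.mp hw
  rcases eq_or_ne x 0 with rfl | hx0
  · obtain ⟨z, hz, hyz⟩ := hY y hy (by simpa using hne)
    exact ⟨z, Submodule.mem_sup_right hz, by simpa using hyz⟩
  · obtain ⟨z, hz, hxz⟩ := hX x hx hx0
    refine ⟨z, Submodule.mem_sup_left hz, ?_⟩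
    rw [map_add, LinearMap.add_apply, swap_zero hS (horth z hz y hy), add_zero]
    exact hxz

include hS in
theorem orth_disjoint {X Y : Submodule F V} (hX : SepH B X) (horth : ∀ x ∈ X, ∀ y ∈ Y, B x y = 0) :
    X ⊓ Y = ⊥ := by
  rw [Submodule.eq_bot_iff]
  rintro v ⟨hvX, hvY⟩
  by_contra hv
  obtain ⟨z, hz, hzv⟩ := hX v hvX hv
  exact hzv (swap_zero hS (horth z hz v hvY))

section Finite

variable [FiniteDimensional F V] (hσ2 : ∀ x, σ (σ x) = x)

include hσ2 in
/-- The vectors of a nondegenerate `W` orthogonal to a subspace of `W`. -/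
theorem exists_orth {W X : Submodule F V} (hW : SepH B W) (hXW : X ≤ W) :
    ∃ Y, Y ≤ W ∧ (∀ y, y ∈ Y ↔ y ∈ W ∧ ∀ x ∈ X, B x y = 0) ∧ finrank F X + finrank F Y = finrank F W := by
  let b := Module.finBasis F X
  let f : W →ₗ[F] (Fin (finrank F X) → F) := LinearMap.pi fun i => (B (b i : V)).comp W.subtype
  have hf : ∀ (y : W) i, f y i = B (b i : V) y := fun y i => rfl
  have hmem : ∀ y, y ∈ (LinearMap.ker f).map W.subtype ↔ y ∈ W ∧ ∀ x ∈ X, B x y = 0 := by
    intro y
    simp only [Submodule.mem_map, LinearMap.mem_ker, Submodule.subtype_apply]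
    constructor
    · rintro ⟨z, hz, rfl⟩
      refine ⟨z.2, fun x hx => ?_⟩
      rw [show x = ((⟨x, hx⟩ : X) : V) from rfl, ← b.sum_repr ⟨x, hx⟩]
      simp only [Submodule.coe_sum, Submodule.coe_smul, map_sum, LinearMap.map_smulₛₗ, LinearMap.sum_apply,
        LinearMap.smul_apply]
      exact Finset.sum_eq_zero fun i _ => by rw [← hf, hz, Pi.zero_apply, smul_zero]
    · rintro ⟨h1, h2⟩
      exact ⟨⟨y, h1⟩, funext fun i => h2 _ (b i).2, rfl⟩
  have hsurj : LinearMap.range f = ⊤ := by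
    by_contra hne
    obtain ⟨φ, hφ0, hφ⟩ := Submodule.exists_le_ker_of_lt_top _ (Ne.lt_top hne)
    set a : Fin (finrank F X) → F := fun i => φ (Pi.single i 1) with ha
    set x : X := ∑ i, σ (a i) • b i with hx
    have hx0 : (x : V) = 0 := by
      by_contra hx0
      obtain ⟨y, hy, hxy⟩ := hW x (hXW x.2) hx0
      refine hxy ?_
      have e : φ (f ⟨y, hy⟩) = 0 := hφ ⟨⟨y, hy⟩, rfl⟩
      rw [← (Pi.basisFun F (Fin (finrank F X))).sum_repr (f ⟨y, hy⟩)] at e
      simp only [hx, Submodule.coe_sum, Submodule.coe_smul, map_sum, LinearMap.map_smulₛₗ, LinearMap.sum_apply,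
        LinearMap.smul_apply, smul_eq_mul, hσ2]
      rw [← e, map_sum]
      refine Finset.sum_congr rfl fun i _ => ?_
      simp [ha, hf, mul_comm]
    have hxz : x = 0 := Subtype.ext hx0
    have ha0 : ∀ i, a i = 0 := fun i => by
      have h := Fintype.linearIndependent_iff.mp b.linearIndependent (fun i => σ (a i)) (hx ▸ hxz) i
      rw [← hσ2 (a i), h, map_zero]
    exact hφ0 ((Pi.basisFun F (Fin (finrank F X))).ext fun i => by simpa [ha] using ha0 i)
  refine ⟨(LinearMap.ker f).map W.subtype, Submodule.map_subtype_le _ _, hmem, ?_⟩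
  have h1 := LinearMap.finrank_range_add_finrank_ker f
  rw [hsurj, finrank_top, Module.finrank_fin_fun] at h1
  rw [Submodule.finrank_map_subtype_eq, h1]

include hS hσ2 in
/-- The orthogonal complement of a nondegenerate subspace. -/
theorem exists_compl {W X : Submodule F V} (hW : SepH B W) (hX : SepH B X) (hXW : X ≤ W) :
    ∃ Y, Y ≤ W ∧ (∀ y, y ∈ Y ↔ y ∈ W ∧ ∀ x ∈ X, B x y = 0) ∧ SepH B Y ∧ (∀ x ∈ X, ∀ y ∈ Y, B x y = 0) ∧
      X ⊔ Y = W ∧ finrank F X + finrank F Y = finrank F W := by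
  obtain ⟨Y, hYW, hmem, hd⟩ := exists_orth hσ2 hW hXW
  have horth : ∀ x ∈ X, ∀ y ∈ Y, B x y = 0 := fun x hx y hy => ((hmem y).mp hy).2 x hx
  have hsup : X ⊔ Y = W := Submodule.eq_of_le_of_finrank_eq (sup_le hXW hYW)
    (by rw [finrank_sup_of_disjoint (orth_disjoint hS hX horth), hd])
  refine ⟨Y, hYW, hmem, fun y hy hy0 => ?_, horth, hsup, hd⟩
  obtain ⟨z, hz, hyz⟩ := hW y (hYW hy) hy0
  rw [← hsup] at hz
  obtain ⟨z1, hz1, z2, hz2, rfl⟩ := Submodule.mem_sup.mp hz
  exact ⟨z2, hz2, fun e => hyz (by rw [map_add, e, swap_zero hS (horth z1 hz1 y hy), add_zero])⟩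

include hσ2 in
/-- A totally isotropic subspace has at most half the dimension. -/
theorem two_mul_le_of_iso {W X : Submodule F V} (hW : SepH B W) (hXW : X ≤ W) (hX : IsoH B X) :
    2 * finrank F X ≤ finrank F W := by
  obtain ⟨Y, -, hmem, hd⟩ := exists_orth hσ2 hW hXW
  have h : X ≤ Y := fun x hx => (hmem x).mpr ⟨hXW hx, fun x' hx' => hX x' hx' x hx⟩
  have := Submodule.finrank_mono h
  omega

variable [Fintype F] {q : ℕ} (hF : Fintype.card F = q ^ 2) (hσ : ∀ x, σ x = x ^ q)

include hF hσ in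
omit hσ2 [FiniteDimensional F V] in
theorem conj_conj (x : F) : σ (σ x) = x := by
  rw [hσ, hσ, ← pow_mul, ← pow_two, ← hF, FiniteField.pow_card]

include hS hF hσ in
omit hσ2 in
/-- An orthonormal basis of a nondegenerate subspace. -/
theorem exists_onb {W : Submodule F V} (hW : SepH B W) {n : ℕ} (hn : finrank F W = n) :
    ∃ b : Basis (Fin n) F W, ∀ i j, B (b i : V) (b j : V) = if i = j then 1 else 0 :=
  CfsgLib.Forms.exists_orthonormal_basis_hermitian (CfsgLib.Forms.conj_ne_id hF hσ) (conj_conj hF hσ)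
    (CfsgLib.Forms.restrictForm B W) ⟨fun u v => hS.eq _ _⟩ (fun x hx => by
      by_contra hx0
      obtain ⟨y, hy, hxy⟩ := hW x x.2 (fun e => hx0 (Subtype.ext e))
      exact hxy (hx ⟨y, hy⟩)) hn

include hF hσ in
omit hσ2 [FiniteDimensional F V] in
/-- Every element of the fixed field is a norm. -/
theorem exists_norm {μ : F} (hμ : σ μ = μ) : ∃ c : F, c * σ c = μ := by
  rcases eq_or_ne μ 0 with rfl | hμ0
  · exact ⟨0, zero_mul _⟩
  · have h := CfsgLib.Forms.card_norm_fiber hF μ hμ0 (by rw [← hσ]; exact hμ)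
    obtain ⟨⟨c, hc⟩⟩ := (Nat.card_pos_iff.mp (by rw [h]; exact Nat.succ_pos q)).1
    exact ⟨c, by rw [hσ, ← pow_succ', hc]⟩

include hS hF hσ in
omit hσ2 in
/-- Totally isotropic subspaces of every dimension up to a half. -/
theorem exists_iso_sub {W : Submodule F V} (hW : SepH B W) {a : ℕ} (ha : 2 * a ≤ finrank F W) :
    ∃ X, X ≤ W ∧ IsoH B X ∧ finrank F X = a := by
  obtain ⟨b, hb⟩ := exists_onb hS hF hσ hW rfl
  obtain ⟨c, hc⟩ := exists_norm hF hσ (μ := (-1 : F)) (by rw [map_neg, map_one])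
  let e : Fin a → Fin (finrank F W) := fun l => ⟨2 * l, by omega⟩
  let e' : Fin a → Fin (finrank F W) := fun l => ⟨2 * l + 1, by omega⟩
  let v : Fin a → W := fun l => b (e l) + c • b (e' l)
  have hee : ∀ l m, e l ≠ e' m := fun l m h => by simp [e, e', Fin.ext_iff] at h; omega
  have hei : Function.Injective e := fun l m h => by simp [e, Fin.ext_iff] at h; exact Fin.ext h
  have hei' : Function.Injective e' := fun l m h => by simp [e', Fin.ext_iff] at h; exact Fin.ext h
  have hvv : ∀ l m, B (v l : V) (v m : V) = 0 := fun l m => by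
    simp only [v, Submodule.coe_add, Submodule.coe_smul, map_add, LinearMap.map_smulₛₗ, LinearMap.add_apply,
      LinearMap.smul_apply, map_smul, hb, smul_eq_mul, if_neg (hee _ _), if_neg (hee m l).symm, hei.eq_iff, hei'.eq_iff]
    rcases eq_or_ne l m with rfl | hlm
    · simp only [if_true, mul_zero, add_zero, mul_one, zero_add]
      linear_combination hc
    · simp [if_neg hlm]
  have hli : LinearIndependent F v := by
    rw [Fintype.linearIndependent_iff]
    intro g hg l
    have h := congrArg (fun z : W => b.repr z (e l)) hg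
    simpa [v, Finsupp.single_apply, hei.eq_iff, fun m => (hee l m).symm, Finset.sum_ite_eq'] using h
  refine ⟨(span F (Set.range v)).map W.subtype, Submodule.map_subtype_le _ _, ?_, ?_⟩
  · rintro x ⟨x', hx', rfl⟩ y ⟨y', hy', rfl⟩
    obtain ⟨gx, rfl⟩ := (mem_span_range_iff_exists_fun F).mp hx'
    obtain ⟨gy, rfl⟩ := (mem_span_range_iff_exists_fun F).mp hy'
    simp [hvv]
  · rw [Submodule.finrank_map_subtype_eq, finrank_span_eq_card hli, Fintype.card_fin]

include hS hF hσ in
omit hσ2 in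
/-- Nondegenerate subspaces of every dimension. -/
theorem exists_sep_sub {W : Submodule F V} (hW : SepH B W) {a : ℕ} (ha : a ≤ finrank F W) :
    ∃ X, X ≤ W ∧ SepH B X ∧ finrank F X = a := by
  obtain ⟨b, hb⟩ := exists_onb hS hF hσ hW rfl
  have hli : LinearIndependent F fun l : Fin a => b (Fin.castLE ha l) :=
    b.linearIndependent.comp _ (Fin.castLE_injective ha)
  refine ⟨(span F (Set.range fun l : Fin a => b (Fin.castLE ha l))).map W.subtype,
    Submodule.map_subtype_le _ _, ?_, by rw [Submodule.finrank_map_subtype_eq, finrank_span_eq_card hli, Fintype.card_fin]⟩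
  rintro x ⟨x', hx', rfl⟩ hne
  obtain ⟨g, rfl⟩ := (mem_span_range_iff_exists_fun F).mp hx'
  obtain ⟨l, hl⟩ : ∃ l, g l ≠ 0 := by
    by_contra hall
    push Not at hall
    exact hne (by simp [hall])
  refine ⟨(b (Fin.castLE ha l) : V), ⟨b (Fin.castLE ha l), subset_span ⟨l, rfl⟩, rfl⟩, ?_⟩
  simpa [hb, (Fin.castLE_injective ha).eq_iff] using hl

end Finite

end CfsgLib.UnitaryInv
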