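import Cfsg.Agent.LinearElements.UnitaryCount
import Cfsg.Agent.LinearElements.RModels

/-!
Unitary elements whose `r`-th power is a scalar: removing the scalar, the cases where it is no `r`-th power, and
diagonal and monomial models.
-/

set_option autoImplicit false

namespace CfsgLib.UnitaryInv

open Module Submodule Polynomial CfsgLib.LinearElements CfsgLib.Forms
open scoped Matrix

variable {F : Type*} [Field F] {σ : F →+* F} {n q : ℕ}

/-- Dividing an isometry by a scalar of norm one. -/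
theorem smul_isometry {g : Module.End F (Fin n → F)} (hg : ∀ u v, hermSesq σ n (g u) (g v) = hermSesq σ n u v)
    {c : F} (hc : σ c * c = 1) (u v : Fin n → F) :
    hermSesq σ n ((c • g) u) ((c • g) v) = hermSesq σ n u v := by
  simp only [LinearMap.smul_apply, LinearMap.map_smulₛₗ, RingHom.id_apply, smul_eq_mul, hg]
  linear_combination (hermSesq σ n u v) * hc

theorem inv_norm {c : F} (hc : σ c * c = 1) : σ c⁻¹ * c⁻¹ = 1 := by
  rw [map_inv₀, ← mul_inv, hc, inv_one]

/-- Removing the scalar. -/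
theorem exists_reduced {g : Module.End F (Fin n → F)} (hg : ∀ u v, hermSesq σ n (g u) (g v) = hermSesq σ n u v)
    {r : ℕ} {μ z : F} (hz : g ^ r = z • 1) (hμ : σ μ * μ = 1) (hμz : μ ^ r = z) :
    (μ⁻¹ • g) ^ r = 1 ∧ (∀ u v, hermSesq σ n ((μ⁻¹ • g) u) ((μ⁻¹ • g) v) = hermSesq σ n u v) ∧
      ∀ W : Submodule F (Fin n → F), InvBy (μ⁻¹ • g) W → InvBy g W := by
  have hμ0 : μ ≠ 0 := fun h => by simp [h] at hμ
  refine ⟨?_, smul_isometry hg (inv_norm hμ), fun W hW => (InvBy.smul_iff (inv_ne_zero hμ0)).mp hW⟩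
  rw [_root_.smul_pow, hz, smul_smul, ← hμz, ← mul_pow, inv_mul_cancel₀ hμ0, one_pow, one_smul]

variable [Fintype F] (hF : Fintype.card F = q ^ 2) (hσ : ∀ x, σ x = x ^ q) {r : ℕ} [Fact r.Prime]

include hσ in
omit [Fintype F] in
theorem norm_iff {x : F} : σ x * x = 1 ↔ x ^ (q + 1) = 1 := by rw [hσ, pow_succ]

include hσ in
omit [Fintype F] in
/-- The scalar is an `r`-th power of a norm-one scalar when `r ∤ q + 1`. -/
theorem exists_root_coprime (hr : ¬ r ∣ q + 1) {z : F} (hz : σ z * z = 1) :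
    ∃ μ : F, σ μ * μ = 1 ∧ μ ^ r = z := by
  rw [norm_iff hσ] at hz
  rcases eq_or_ne (q + 1) 1 with h1 | h1
  · exact ⟨1, by rw [map_one, one_mul], by rw [one_pow]; rw [h1, pow_one] at hz; exact hz.symm⟩
  obtain ⟨e, -, he⟩ := Nat.exists_mul_mod_eq_one_of_coprime
    (((Fact.out : r.Prime).coprime_iff_not_dvd).mpr hr) (by omega : 1 < q + 1)
  refine ⟨z ^ e, (norm_iff hσ).mpr ?_, ?_⟩
  · rw [← pow_mul, mul_comm, pow_mul, hz, one_pow]
  · rw [← pow_mul, mul_comm, ← Nat.div_add_mod (r * e) (q + 1), he, pow_add, pow_mul, hz, one_pow, one_mul, pow_one]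

include hσ in
omit [Fintype F] in
/-- An `r`-th root of a norm-one scalar has norm one when `r ∤ q - 1`. -/
theorem norm_root (hr : ¬ r ∣ q - 1) (hF' : ∀ x : F, x ≠ 0 → x ^ ((q - 1) * (q + 1)) = 1) {μ z : F}
    (hz : σ z * z = 1) (hμ : μ ^ r = z) : σ μ * μ = 1 := by
  rw [norm_iff hσ] at hz ⊢
  have hμ0 : μ ≠ 0 := fun h => by
    rw [← hμ, h, zero_pow (Fact.out : r.Prime).ne_zero, zero_pow (by omega)] at hz
    exact zero_ne_one hz
  have h1 : (μ ^ (q + 1)) ^ (q - 1) = 1 := by rw [← pow_mul, mul_comm]; exact hF' μ hμ0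
  have h2 : (μ ^ (q + 1)) ^ r = 1 := by rw [← pow_mul, mul_comm, pow_mul, hμ, hz]
  have h3 := (pow_gcd_eq_one).mpr (And.intro h1 h2)
  rwa [Nat.gcd_comm, Nat.Coprime.gcd_eq_one (((Fact.out : r.Prime).coprime_iff_not_dvd).mpr hr), pow_one] at h3

include hF in
theorem pow_card_eq {x : F} (hx : x ≠ 0) : x ^ ((q - 1) * (q + 1)) = 1 := by
  have h := FiniteField.pow_card_sub_one_eq_one x hx
  rwa [hF, show q ^ 2 - 1 = (q - 1) * (q + 1) by rw [mul_comm, ← Nat.sq_sub_sq, one_pow]] at h

include hF hσ in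
/-- Elements of order `r` with `r ∤ q + 1` are elements of projective order `r`. -/
theorem projU_of_pow (hn : 0 < n) (hr : ¬ r ∣ q + 1) {g : Module.End F (Fin n → F)} (hgr : g ^ r = 1)
    (hg : ∀ u v, hermSesq σ n (g u) (g v) = hermSesq σ n u v) (hne : g ≠ 1) : ProjU σ n r g := by
  have hcop : ∀ x : F, σ x * x = 1 → x ^ r = 1 → x = 1 := fun x h1 h2 => by
    rw [norm_iff hσ] at h1
    have h3 := (pow_gcd_eq_one).mpr (And.intro h1 h2)
    rwa [Nat.gcd_comm, Nat.Coprime.gcd_eq_one (((Fact.out : r.Prime).coprime_iff_not_dvd).mpr hr), pow_one] at h3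
  refine ⟨⟨hcop _ (det_norm hg) (by rw [← map_pow, hgr, map_one]), ⟨1, by rw [hgr, one_smul]⟩, fun c hc => hne ?_⟩, hg⟩
  have hcn : σ c * c = 1 := scalar_norm hn hg (k := 1) (by rw [pow_one, hc])
  have hcr : c ^ r = 1 := by
    have := congrArg (fun f : Module.End F (Fin n → F) => f ^ r) hc
    simp only [hgr, _root_.smul_pow, one_pow] at this
    have h2 := congrArg (fun f : Module.End F (Fin n → F) => f (Pi.single ⟨0, hn⟩ 1) ⟨0, hn⟩) this
    simpa using h2.symm
  rw [hc, hcop c hcn hcr, one_smul]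

/-- A diagonal map. -/
def diagEnd (d : Fin n → F) : Module.End F (Fin n → F) := LinearMap.pi fun i => d i • LinearMap.proj i

omit [Fintype F] in
theorem diagEnd_apply (d : Fin n → F) (v : Fin n → F) (i : Fin n) : diagEnd d v i = d i * v i := rfl

omit [Fintype F] in
theorem det_diagEnd (d : Fin n → F) : LinearMap.det (diagEnd d) = ∏ i, d i := by
  rw [show diagEnd d = Matrix.toLin' (Matrix.diagonal d) from LinearMap.ext fun v => funext fun i => by
    rw [Matrix.toLin'_apply, Matrix.mulVec_diagonal]; rfl]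
  rw [LinearMap.det_toLin', Matrix.det_diagonal]

omit [Fintype F] in
theorem diagEnd_isometry (d : Fin n → F) (hd : ∀ i, σ (d i) * d i = 1) (u v : Fin n → F) :
    hermSesq σ n (diagEnd d u) (diagEnd d v) = hermSesq σ n u v := by
  rw [hermSesq_apply, hermSesq_apply]
  refine Finset.sum_congr rfl fun i _ => ?_
  rw [diagEnd_apply, diagEnd_apply, map_mul]
  linear_combination (σ (u i) * v i) * hd i

omit [Fintype F] in
theorem diagEnd_pow (d : Fin n → F) (k : ℕ) (v : Fin n → F) (i : Fin n) : (diagEnd d ^ k) v i = d i ^ k * v i := by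
  induction k with
  | zero => simp
  | succ k ih => rw [pow_succ', Module.End.mul_apply, diagEnd_apply, ih, pow_succ']; ring

omit [Fintype F] in
theorem aeval_diagEnd (d : Fin n → F) (P : F[X]) (v : Fin n → F) (i : Fin n) :
    aeval (diagEnd d) P v i = P.eval (d i) * v i := by
  induction P using Polynomial.induction_on' with
  | add P R hP hR => simp [hP, hR, add_mul]
  | monomial k a =>
    simp only [aeval_monomial, Module.End.mul_apply, Module.algebraMap_end_apply, Pi.smul_apply, diagEnd_pow,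
      eval_monomial, smul_eq_mul]
    ring

omit [Fintype F] in
/-- A coordinate with its own eigenvalue vanishes on invariant totally isotropic subspaces. -/
theorem diag_iso_bound (hσ2 : ∀ x, σ (σ x) = x) (d : Fin n → F) (T : Finset (Fin n))
    (hd : ∀ i ∉ T, ∀ j, d j = d i → j = i) {W : Submodule F (Fin n → F)} (hW : InvBy (diagEnd d) W)
    (hWi : IsoH (hermSesq σ n) W) : 2 * finrank F W ≤ T.card := by
  classical
  refine iso_support_bound hσ2 hWi T fun w hw i hi => ?_
  set P : F[X] := ∏ x ∈ (Finset.univ.image d).erase (d i), (Polynomial.X - C x)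
  have hPi : P.eval (d i) ≠ 0 := by
    rw [eval_prod, Finset.prod_ne_zero_iff]
    intro x hx
    rw [eval_sub, eval_X, eval_C, sub_ne_zero]
    exact (Finset.ne_of_mem_erase hx).symm
  have hPj : ∀ j, j ≠ i → P.eval (d j) = 0 := fun j hj => by
    rw [eval_prod]
    refine Finset.prod_eq_zero (i := d j) (Finset.mem_erase.mpr ⟨fun e => hj (hd i hi j e), by simp⟩) ?_
    simp
  have hu := invBy_aeval hW P w hw
  have h := hWi _ hu _ hu
  rw [hermSesq_apply, Finset.sum_eq_single i (fun j _ hj => by simp [aeval_diagEnd, hPj j hj]) (by simp),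
    aeval_diagEnd] at h
  rcases mul_eq_zero.mp h with h | h
  · exact (mul_eq_zero.mp ((map_eq_zero σ).mp h)).resolve_left hPi
  · exact (mul_eq_zero.mp h).resolve_left hPi

omit [Fintype F] [Fact r.Prime] in
/-- A monomial isometry with cycles of length `r`. -/
theorem exists_monomial_model {t : ℕ} (hr : 0 < r) (hn : n = t * r) {z : F} (hz : σ z * z = 1) :
    ∃ g : Module.End F (Fin n → F), g ^ r = z • 1 ∧ LinearMap.det g = ((-1) ^ (r - 1) * z) ^ t ∧
      ∀ u v, hermSesq σ n (g u) (g v) = hermSesq σ n u v := by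
  classical
  let ψ : Fin n ≃ Fin t × Fin r := (finCongr hn).trans finProdFinEquiv.symm
  let e : (Fin t × Fin r → F) ≃ₗ[F] (Fin n → F) := LinearEquiv.funCongrLeft F F ψ
  refine ⟨e.conj (Matrix.toLin' (cycleMatrix t r z)), ?_, ?_, fun u v => ?_⟩
  · rw [conj_pow_end, cycleMatrix_pow t r hr, map_smul]
    congr 1
    exact LinearMap.ext fun x => by simp [LinearEquiv.conj_apply_apply]
  · rw [LinearEquiv.conj_apply, LinearMap.comp_assoc, LinearMap.det_conj, LinearMap.det_toLin', det_cycleMatrix t r hr]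
  · have hmul : ∀ w : Fin n → F, ∀ p, (e.conj (Matrix.toLin' (cycleMatrix t r z)) w) (ψ.symm p) =
        (if ((((Equiv.prodCongrRight fun _ : Fin t => finRotate r).symm p).2 : Fin r) : ℕ) + 1 = r then z else 1) *
          w (ψ.symm ((Equiv.prodCongrRight fun _ : Fin t => finRotate r).symm p)) := fun w p => by
      rw [LinearEquiv.conj_apply_apply]
      show (cycleMatrix t r z *ᵥ (e.symm w)) (ψ (ψ.symm p)) = _
      rw [Equiv.apply_symm_apply, cycleMatrix, Matrix.mulVec, dotProduct, Finset.sum_eq_single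
        ((Equiv.prodCongrRight fun _ : Fin t => finRotate r).symm p)]
      · simp [e]
      · intro x _ hx
        rw [Matrix.submatrix_apply, id, Matrix.diagonal_apply_ne _ (Ne.symm hx), zero_mul]
      · simp
    rw [hermSesq_apply, hermSesq_apply, ← ψ.symm.sum_comp, ← ψ.symm.sum_comp (fun i => σ (u i) * v i),
      ← (Equiv.prodCongrRight fun _ : Fin t => finRotate r).symm.sum_comp (fun p => σ (u (ψ.symm p)) * v (ψ.symm p))]
    refine Finset.sum_congr rfl fun p _ => ?_
    rw [hmul, hmul, map_mul]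
    split
    · linear_combination (σ (u (ψ.symm ((Equiv.prodCongrRight fun _ : Fin t => finRotate r).symm p))) *
        v (ψ.symm ((Equiv.prodCongrRight fun _ : Fin t => finRotate r).symm p))) * hz
    · rw [map_one, one_mul, one_mul]

omit [Fintype F] [Fact r.Prime] in
theorem not_scalar_of_nonpower {g : Module.End F (Fin n → F)} {z : F} (hn : 0 < n) (hgr : g ^ r = z • 1)
    (hz : ∀ μ : F, μ ^ r ≠ z) (c : F) : g ≠ c • 1 := by
  intro h
  have h2 := congrArg (fun f : Module.End F (Fin n → F) => f (Pi.single ⟨0, hn⟩ 1) ⟨0, hn⟩) hgr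
  simp [h, _root_.smul_pow] at h2
  exact hz c h2

section Nonpower

variable (hr2 : Odd r) (hrq1 : r ∣ q + 1)

include hr2 hrq1 in
theorem dvd_pow_add_one : r * (q + 1) ∣ q ^ r + 1 := by
  have h := geom_sum_mul (-(q : ℤ)) r
  obtain ⟨S, hS⟩ : (r : ℤ) ∣ ∑ i ∈ Finset.range r, (-(q : ℤ)) ^ i := by
    rw [← ZMod.intCast_zmod_eq_zero_iff_dvd]
    have h1 : (-(q : ZMod r)) = 1 := by
      have := (ZMod.natCast_eq_zero_iff (q + 1) r).mpr hrq1
      push_cast at this
      linear_combination -this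
    push_cast
    simp [h1]
  refine Int.natCast_dvd_natCast.mp ⟨S, ?_⟩
  rw [hS, hr2.neg_pow] at h
  push_cast
  linear_combination h

include hF hσ hr2 hrq1 in
/-- The invariant subspaces when the scalar is no `r`-th power. -/
theorem nonpower_sub (hn : 0 < n) {g : Module.End F (Fin n → F)}
    (hg : ∀ u v, hermSesq σ n (g u) (g v) = hermSesq σ n u v) {z : F} (hz : g ^ r = z • 1) (hnp : ∀ μ : F, μ ^ r ≠ z) :
    r ∣ n ∧ (∀ a, 2 * a * r ≤ n → ∃ W : Submodule F (Fin n → F), InvBy g W ∧ IsoH (hermSesq σ n) W ∧ finrank F W = a * r) ∧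
      ∀ j, j * r ≤ n → ∃ W : Submodule F (Fin n → F), InvBy g W ∧ SepH (hermSesq σ n) W ∧ finrank F W = j * r := by
  have hrP := (Fact.out : r.Prime)
  obtain ⟨p, hp⟩ := CharP.exists F
  obtain ⟨k, hpp, hk⟩ := FiniteField.card F p
  have : Fact p.Prime := ⟨hpp⟩
  obtain ⟨l, -, hl⟩ := (Nat.dvd_prime_pow hpp).mp (show q ∣ p ^ (k : ℕ) by rw [← hk, hF, pow_two]; exact dvd_mul_right q q)
  set P : F[X] := Polynomial.X ^ r - C z with hP
  have hmon : P.Monic := monic_X_pow_sub_C z hrP.ne_zero
  have hdeg : P.natDegree = r := natDegree_X_pow_sub_C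
  have : Fact (Irreducible P) := ⟨X_pow_sub_C_irreducible_of_prime hrP hnp⟩
  have hkill : ∀ w, aeval g P w = 0 := fun w => by
    rw [hP, map_sub, map_pow, aeval_X, aeval_C, hz, LinearMap.sub_apply, LinearMap.smul_apply,
      Module.algebraMap_end_apply, Module.End.one_apply, sub_self]
  have hzn : z ^ (q + 1) = 1 := by rw [← norm_iff hσ]; exact scalar_norm hn hg hz
  have hginv : g ^ (q ^ r + 1) = 1 := by
    obtain ⟨d, hd⟩ := dvd_pow_add_one (q := q) hr2 hrq1
    rw [hd, mul_assoc, pow_mul, hz, _root_.smul_pow, one_pow, pow_mul, hzn, one_pow, one_smul]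
  have hgen : ∀ u v, hermSesq σ n (g u) v = hermSesq σ n u ((g ^ q ^ r) v) := fun u v => by
    conv_lhs => rw [show v = g ((g ^ q ^ r) v) by rw [← Module.End.mul_apply, ← pow_succ', hginv, Module.End.one_apply]]
    rw [hg]
  obtain ⟨r', hr'⟩ := hr2
  have hsc : ∀ a : F, a ^ (q ^ r) = σ a := fun a => by
    rw [hr', pow_succ, pow_mul q 2 r', ← hF, pow_mul, FiniteField.pow_card_pow, hσ]
  have hadj : ∀ (R : F[X]) (u v : Fin n → F),
      hermSesq σ n (aeval g R u) v = hermSesq σ n u (aeval g (R ^ q ^ P.natDegree) v) := by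
    intro R
    rw [hdeg]
    induction R using Polynomial.induction_on' with
    | add A A' hA hA' =>
      intro u v
      have e : (A + A') ^ q ^ r = A ^ q ^ r + A' ^ q ^ r := by rw [hl, ← pow_mul, add_pow_char_pow]
      rw [e, map_add, map_add, LinearMap.add_apply, map_add, LinearMap.add_apply, LinearMap.add_apply, map_add, hA, hA']
    | monomial d a =>
      intro u v
      rw [monomial_pow, aeval_monomial, aeval_monomial, Module.End.mul_apply, Module.End.mul_apply,
        Module.algebraMap_end_apply, Module.algebraMap_end_apply, LinearMap.map_smulₛₗ, LinearMap.smul_apply, map_smul,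
        hsc, mul_comm, pow_mul]
      congr 1
      induction d generalizing u v with
      | zero => rfl
      | succ d ih => rw [pow_succ', Module.End.mul_apply, hgen, ih, pow_succ, Module.End.mul_apply]
  have hz0 : z ≠ 0 := fun e => by rw [e, zero_pow (by omega)] at hzn; exact zero_ne_one hzn
  have hinj : Function.Injective g := by
    intro u v huv
    have h := congrArg (g ^ (r - 1)) huv
    rw [← Module.End.mul_apply, ← Module.End.mul_apply, ← pow_succ, Nat.sub_add_cancel hrP.one_le, hz] at h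
    exact smul_right_injective _ hz0 h
  have horth : ∀ W X Y : Submodule F (Fin n → F), InvBy g W → InvBy g X →
      (∀ y, y ∈ Y ↔ y ∈ W ∧ ∀ x ∈ X, hermSesq σ n x y = 0) → InvBy g Y := by
    intro W X Y hW hX hY y hy
    obtain ⟨hyW, hyX⟩ := (hY y).mp hy
    refine (hY _).mpr ⟨hW y hyW, fun x hx => ?_⟩
    have hsur : Function.Surjective (g.restrict hX) := LinearMap.injective_iff_surjective.mp
      fun a b h => Subtype.ext (hinj (congrArg Subtype.val h))
    obtain ⟨⟨x', hx'⟩, hxx⟩ := hsur ⟨x, hx⟩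
    rw [show x = g x' from (congrArg Subtype.val hxx).symm, hg]
    exact hyX x' hx'
  obtain ⟨hd, hiso, hsep⟩ := component (hermSesq_isSymm (conj_conj hF hσ) n) hF hσ hmon hadj horth
    (W := ⊤) invBy_top sepH_top fun w _ => hkill w
  rw [finrank_top, Module.finrank_fin_fun, hdeg] at hd hiso hsep
  exact ⟨hd, fun a ha => by obtain ⟨X, -, h⟩ := hiso a ha; exact ⟨X, h⟩,
    fun j hj => by obtain ⟨X, -, h⟩ := hsep j hj; exact ⟨X, h⟩⟩

include hF hr2 hrq1 in
theorem not_dvd_sub_one : ¬ r ∣ q - 1 := by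
  intro h
  have h2 := Nat.dvd_sub hrq1 h
  have hq := Forms.two_le_q hF
  rw [show q + 1 - (q - 1) = 2 by omega] at h2
  have := (Nat.prime_dvd_prime_iff_eq Fact.out Nat.prime_two).mp h2
  subst this
  exact absurd hr2 (by decide)

include hF hr2 hrq1 in
theorem padic_card : padicValNat r (Fintype.card F - 1) = padicValNat r (q + 1) := by
  have hq := Forms.two_le_q hF
  rw [hF, show q ^ 2 - 1 = (q - 1) * (q + 1) by rw [mul_comm, ← Nat.sq_sub_sq, one_pow],
    padicValNat.mul (by omega) (by omega), padicValNat.eq_zero_of_not_dvd (not_dvd_sub_one hF hr2 hrq1), zero_add]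

include hF hσ hr2 hrq1 in
/-- The scalar is a power unless the `r`-part of `n` exceeds that of `q + 1`. -/
theorem nonpower_padic (hn : 0 < n) {g : Module.End F (Fin n → F)} (hdet : LinearMap.det g = 1)
    {z : F} (hz : g ^ r = z • 1) (hnp : ∀ μ : F, μ ^ r ≠ z) :
    padicValNat r (q + 1) < padicValNat r n := by
  obtain ⟨t, ht, hd⟩ := det_of_nonpower hnp hz
  rw [Module.finrank_fin_fun] at ht
  have ht0 : t ≠ 0 := fun e => by rw [e, zero_mul] at ht; omega
  rw [hdet, Even.neg_one_pow (by obtain ⟨a, ha⟩ := hr2; exact ⟨a, by omega⟩), one_mul] at hd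
  have h := padicValNat_le_of_nonpower hnp ht0 hd.symm
  rw [padic_card hF hr2 hrq1] at h
  rw [ht, padicValNat.mul ht0 (Fact.out : r.Prime).ne_zero, padicValNat.self (Fact.out : r.Prime).one_lt]
  omega

include hF hσ hr2 hrq1 in
/-- An element of projective order `r` with scalar no `r`-th power. -/
theorem exists_nonpower_counter (hn : 0 < n) (hv : padicValNat r (q + 1) < padicValNat r n) :
    ∃ g, ProjU σ n r g ∧ ∀ W : Submodule F (Fin n → F), InvBy g W → r ∣ finrank F W := by
  have hrP := (Fact.out : r.Prime)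
  have hcard := padic_card (F := F) hF hr2 hrq1
  obtain ⟨z, hnp, hzv⟩ := exists_nonpower (F := F) (r := r) (by
    rw [hF, show q ^ 2 - 1 = (q - 1) * (q + 1) by rw [mul_comm, ← Nat.sq_sub_sq, one_pow]]
    exact hrq1.mul_left _)
  rw [hcard] at hzv
  have hzn : z ^ (q + 1) = 1 := by
    obtain ⟨d, hd⟩ : r ^ padicValNat r (q + 1) ∣ q + 1 := pow_padicValNat_dvd
    rw [hd, pow_mul, hzv, one_pow]
  obtain ⟨t, ht⟩ : r ∣ n := dvd_of_one_le_padicValNat (by omega)
  have hzt : z ^ t = 1 := by
    have h0 : t ≠ 0 := fun e => by rw [e, mul_zero] at ht; omega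
    rw [ht, padicValNat.mul hrP.ne_zero h0, padicValNat.self hrP.one_lt] at hv
    obtain ⟨d, hd⟩ : r ^ padicValNat r (q + 1) ∣ t := (pow_dvd_pow r (by omega)).trans pow_padicValNat_dvd
    rw [hd, pow_mul, hzv, one_pow]
  obtain ⟨g, hgr, hdet, hgi⟩ := exists_monomial_model (σ := σ) (n := n) (t := t) hrP.pos (by rw [ht, mul_comm])
    ((norm_iff hσ).mpr hzn)
  rw [Even.neg_one_pow (by obtain ⟨a, ha⟩ := hr2; exact ⟨a, by omega⟩), one_mul, hzt] at hdet
  exact ⟨g, ⟨⟨hdet, ⟨z, hgr⟩, not_scalar_of_nonpower hn hgr hnp⟩, hgi⟩,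
    fun W hW => dvd_finrank_of_nonpower hnp hgr hW⟩

include hF hσ hr2 hrq1 in
/-- A diagonal element without invariant totally isotropic subspaces of dimension `m`. -/
theorem exists_diag_counter {m : ℕ} (hm : 1 ≤ m) (hmn : 2 * m ≤ n) (ht : n + 2 ≤ r + 2 * m) :
    ∃ g, ProjU σ n r g ∧ ∀ W : Submodule F (Fin n → F), InvBy g W → IsoH (hermSesq σ n) W → finrank F W ≠ m := by
  classical
  have hrP := (Fact.out : r.Prime)
  obtain ⟨ζ, hζ⟩ : ∃ ζ : Fˣ, orderOf ζ = r := exists_prime_orderOf_dvd_card' r (by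
    rw [Nat.card_units, Nat.card_eq_fintype_card, hF, show q ^ 2 - 1 = (q - 1) * (q + 1) by
      rw [mul_comm, ← Nat.sq_sub_sq, one_pow]]
    exact hrq1.mul_left _)
  have hζr : (ζ : F) ^ r = 1 := by rw [← Units.val_pow_eq_pow_val, orderOf_dvd_iff_pow_eq_one.mp hζ.dvd, Units.val_one]
  have hinj : ∀ a b : ZMod r, (ζ : F) ^ a.val = (ζ : F) ^ b.val → a = b := fun a b h => by
    apply ZMod.val_injective
    exact pow_injOn_Iio_orderOf (x := ζ) (by rw [Set.mem_Iio, hζ]; exact ZMod.val_lt a)
      (by rw [Set.mem_Iio, hζ]; exact ZMod.val_lt b) (Units.ext (by simpa using h))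
  set t := n + 2 - 2 * m with htdef
  obtain ⟨a, ha⟩ : ∃ a : ZMod r, (t : ZMod r) * a + ∑ l ∈ Finset.range t, (l : ZMod r) = 0 := by
    rcases (show t ≤ r by omega).lt_or_eq with hlt | heq
    · have hne : (t : ZMod r) ≠ 0 := fun e => by
        have := Nat.le_of_dvd (by omega) ((ZMod.natCast_eq_zero_iff _ _).mp e)
        omega
      exact ⟨-(∑ l ∈ Finset.range t, (l : ZMod r)) * (t : ZMod r)⁻¹, by field_simp; ring⟩
    · refine ⟨0, ?_⟩
      rw [heq, mul_zero, zero_add]
      obtain ⟨a, ha⟩ := hr2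
      have h := Finset.sum_range_id_mul_two r
      have h2 : ((∑ l ∈ Finset.range r, l : ℕ) : ZMod r) * 2 = 0 := by
        rw [← Nat.cast_two, ← Nat.cast_mul, h, Nat.cast_mul, ZMod.natCast_self, zero_mul]
      rw [Nat.cast_sum] at h2
      refine (mul_eq_zero.mp h2).resolve_right fun e => ?_
      have := Nat.le_of_dvd (by norm_num) ((ZMod.natCast_eq_zero_iff 2 r).mp (by exact_mod_cast e))
      have := hrP.two_le
      omega
  let e : Fin n → ZMod r := fun i => if (i : ℕ) < t then a + ((i : ℕ) : ZMod r) else 0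
  have hsum : ∑ i, e i = 0 := by
    rw [Fin.sum_univ_eq_sum_range (fun i => if i < t then a + (i : ZMod r) else 0) n, Finset.sum_ite,
      Finset.sum_const_zero, add_zero, show (Finset.range n).filter (· < t) = Finset.range t by
        ext i; simp; omega, Finset.sum_add_distrib, Finset.sum_const, Finset.card_range, nsmul_eq_mul, ha]
  let d : Fin n → F := fun i => (ζ : F) ^ (e i).val
  have hd1 : ∀ i, σ (d i) * d i = 1 := fun i => by
    rw [norm_iff hσ]
    obtain ⟨c, hc⟩ := hrq1
    rw [hc, pow_mul, ← pow_mul _ _ r, mul_comm, pow_mul, hζr, one_pow, one_pow]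
  refine ⟨diagEnd d, ⟨⟨?_, ⟨1, LinearMap.ext fun v => funext fun i => ?_⟩, fun c hc => ?_⟩,
    diagEnd_isometry d hd1⟩, fun W hW hWi hWd => ?_⟩
  · rw [det_diagEnd, Finset.prod_pow_eq_pow_sum]
    obtain ⟨c, hc⟩ : r ∣ ∑ i, (e i).val := by
      rw [← ZMod.natCast_eq_zero_iff, Nat.cast_sum]
      simp only [ZMod.natCast_zmod_val, hsum]
    rw [hc, pow_mul, hζr, one_pow]
  · rw [diagEnd_pow, ← pow_mul, mul_comm (e i).val r, pow_mul, hζr, one_pow, one_mul, one_smul, Module.End.one_apply]
  · have h : ∀ i : Fin n, d i = c := fun i => by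
      have h0 := congrArg (fun f : Module.End F (Fin n → F) => f (Pi.single i 1) i) hc
      simpa [diagEnd_apply] using h0
    have h01 := hinj _ _ ((h ⟨0, by omega⟩).trans (h ⟨1, by omega⟩).symm)
    simp [e, show (0 : ℕ) < t by omega, show 1 < t by omega] at h01
  · set T : Finset (Fin n) := Finset.univ.filter fun i : Fin n => e i = 0 with hT
    have hb := diag_iso_bound (conj_conj hF hσ) d T (fun i hi j hji => by
      have hij := hinj _ _ hji
      have hi0 : e i ≠ 0 := by simpa [hT] using hi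
      have hit : (i : ℕ) < t := by by_contra h; simp [e, h] at hi0
      have hjt : (j : ℕ) < t := by by_contra h; exact hi0 (by rw [← hij]; simp [e, h])
      simp only [e, hit, hjt, if_true, add_right_inj] at hij
      rw [ZMod.natCast_eq_natCast_iff'] at hij
      rw [Nat.mod_eq_of_lt (by omega), Nat.mod_eq_of_lt (by omega)] at hij
      exact Fin.ext hij) hW hWi
    have hTc : T.card ≤ (n - t) + 1 := by
      have h1 : (T.filter fun i : Fin n => (i : ℕ) < t).card ≤ 1 := Finset.card_le_one.mpr fun i hi j hj => by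
        simp only [hT, Finset.mem_filter, Finset.mem_univ, true_and] at hi hj
        have hij : e i = e j := hi.1.trans hj.1.symm
        simp only [e, hi.2, hj.2, if_true, add_right_inj] at hij
        rw [ZMod.natCast_eq_natCast_iff'] at hij
        rw [Nat.mod_eq_of_lt (by omega), Nat.mod_eq_of_lt (by omega)] at hij
        exact Fin.ext hij
      have h2 : (T.filter fun i : Fin n => ¬ (i : ℕ) < t).card ≤ n - t := by
        refine le_trans (Finset.card_le_card_of_injOn (fun i => (i : ℕ)) (t := Finset.Ico t n) (fun i hi => ?_)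
          (fun a _ b _ h => Fin.ext h)) (Nat.card_Ico _ _).le
        simp only [Finset.coe_filter, Set.mem_setOf_eq] at hi
        simp; omega
      have h3 := Finset.card_filter_add_card_filter_not (s := T) fun i : Fin n => (i : ℕ) < t
      omega
    omega

end Nonpower

end CfsgLib.UnitaryInv
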