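import Cfsg.Agent.LinearElements.UnitarySpecial

/-!
Elements of projective order two of the special unitary group in odd characteristic.
-/

set_option autoImplicit false

namespace CfsgLib.UnitaryInv

open Module Submodule CfsgLib.LinearElements CfsgLib.Forms

variable {F : Type*} [Field F] {σ : F →+* F} {n q : ℕ}

/-- The determinant of a map which is scalar on two complementary subspaces. -/
theorem det_two_scalars {V : Type*} [AddCommGroup V] [Module F V] [FiniteDimensional F V] {g : Module.End F V}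
    {A D : Submodule F V} (hc : IsCompl A D) {a d : F} (ha : ∀ x ∈ A, g x = a • x) (hd : ∀ x ∈ D, g x = d • x) :
    LinearMap.det g = a ^ finrank F A * d ^ finrank F D := by
  set e := Submodule.prodEquivOfIsCompl A D hc
  have h : g = (e : _ →ₗ[F] V) ∘ₗ (((a • (1 : Module.End F A)).prodMap (d • (1 : Module.End F D))) ∘ₗ (e.symm : _ →ₗ[F] _)) := by
    refine LinearMap.ext fun v => ?_
    obtain ⟨p, rfl⟩ := e.surjective v
    simp only [LinearMap.comp_apply, LinearEquiv.coe_coe, LinearEquiv.symm_apply_apply]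
    show g ((p.1 : V) + p.2) = (((a • p.1 : A) : V)) + ((d • p.2 : D) : V)
    rw [map_add, ha _ p.1.2, hd _ p.2.2]
    rfl
  rw [h, LinearMap.det_conj, LinearMap.det_prodMap, LinearMap.det_smul, LinearMap.det_smul, map_one, map_one, mul_one,
    mul_one]

omit σ in
/-- Two incompatible relations on a scalar. -/
theorem two_adic_contra {x : F} (h2 : (-1 : F) ≠ 1) {a b : ℕ} (ha : a ≠ 0) (hb : b ≠ 0) (hxa : x ^ a = 1) (hxb : x ^ b = -1)
    (hv : padicValNat 2 a ≤ padicValNat 2 b) : False := by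
  obtain ⟨c, hc⟩ : 2 ^ padicValNat 2 a ∣ b := (pow_dvd_pow 2 hv).trans pow_padicValNat_dvd
  obtain ⟨a', ha'⟩ : 2 ^ padicValNat 2 a ∣ a := pow_padicValNat_dvd
  have hodd : Odd a' := by
    rcases Nat.even_or_odd a' with ⟨k, hk⟩ | h
    · exfalso
      exact pow_succ_padicValNat_not_dvd (p := 2) ha ⟨k, by
        calc a = 2 ^ padicValNat 2 a * a' := ha'
          _ = _ := by rw [hk, pow_succ]; ring⟩
    · exact h
  refine h2 ?_
  calc (-1 : F) = (x ^ b) ^ a' := by rw [hxb, hodd.neg_one_pow]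
    _ = (x ^ a) ^ c := by
      rw [← pow_mul, ← pow_mul]
      congr 1
      calc b * a' = 2 ^ padicValNat 2 a * c * a' := by rw [← hc]
        _ = 2 ^ padicValNat 2 a * a' * c := by ring
        _ = a * c := by rw [← ha']
    _ = 1 := by rw [hxa, one_pow]

variable [Fintype F] (hF : Fintype.card F = q ^ 2) (hσ : ∀ x, σ x = x ^ q) (hodd : Odd q)

include hF hodd in
theorem two_ne_zero' : (2 : F) ≠ 0 := by
  intro h
  obtain ⟨p, hp⟩ := CharP.exists F
  obtain ⟨k, hpp, hk⟩ := FiniteField.card F p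
  have hp2 : p = 2 := (Nat.prime_dvd_prime_iff_eq hpp Nat.prime_two).mp
    ((CharP.cast_eq_zero_iff F p 2).mp (by exact_mod_cast h))
  have : Even (q ^ 2) := by rw [← hF, hk, hp2, Nat.even_pow]; exact ⟨even_two, k.ne_zero⟩
  exact absurd (Nat.even_pow.mp this).1 (Nat.not_even_iff_odd.mpr hodd)

include hF hodd in
theorem neg_one_ne : (-1 : F) ≠ 1 := by
  intro h
  exact two_ne_zero' hF hodd (by linear_combination -h)

include hF hσ hodd in
/-- A square root of a scalar of norm one. -/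
theorem sq_root {z : F} (hz : σ z * z = 1) : ∃ μ : F, μ ^ 2 = z ∧ (σ μ * μ = 1 ∨ σ μ * μ = -1) := by
  have hz0 : z ≠ 0 := fun h => by simp [h] at hz
  obtain ⟨k, hk⟩ := hodd
  have hsq : IsSquare z := by
    rw [FiniteField.isSquare_iff (fun h => two_ne_zero' hF ⟨k, hk⟩ (by
      have := CharP.cast_eq_zero F (ringChar F)
      rw [h] at this
      exact_mod_cast this)) hz0, hF, show q ^ 2 / 2 = (q + 1) * k by
        rw [hk]; ring_nf; omega, pow_mul, ← norm_iff hσ |>.mp hz]
    rw [(norm_iff hσ).mp hz, one_pow]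
  obtain ⟨μ, hμ⟩ := hsq
  refine ⟨μ, by rw [pow_two, hμ], sq_eq_one_iff.mp ?_⟩
  rw [hμ, map_mul] at hz
  linear_combination hz

section Minus

variable {g : Module.End F (Fin n → F)} (hg : ∀ u v, hermSesq σ n (g u) (g v) = hermSesq σ n u v) {μ : F}
  (hgμ : g ^ 2 = μ ^ 2 • 1) (hμ : σ μ * μ = -1)

include hgμ in
omit [Fintype F] in
theorem sq_apply (v : Fin n → F) : g (g v) = μ ^ 2 • v := by
  have := congrArg (fun f : Module.End F (Fin n → F) => f v) hgμ
  simpa [pow_two, smul_smul] using this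

include hF hσ hodd hg hgμ hμ in
/-- The two eigenspaces are totally isotropic and split the invariant subspaces. -/
theorem minus_split : ∃ E E' : Submodule F (Fin n → F), IsCompl E E' ∧ IsoH (hermSesq σ n) E ∧
    IsoH (hermSesq σ n) E' ∧ (∀ x ∈ E, g x = μ • x) ∧ (∀ x ∈ E', g x = (-μ) • x) ∧
    finrank F E + finrank F E' = n ∧ 2 * finrank F E = n ∧
    ∀ W, InvBy g W → finrank F W = finrank F ↥(W ⊓ E) + finrank F ↥(W ⊓ E') := by
  have h2 := two_ne_zero' hF hodd
  have hμ0 : μ ≠ 0 := fun h => by simp [h] at hμ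
  have hiso : ∀ c : F, σ c * c = -1 → IsoH (hermSesq σ n) (LinearMap.ker (g - c • 1)) := by
    intro c hc u hu v hv
    have hu' : g u = c • u := by simpa [LinearMap.mem_ker, sub_eq_zero] using hu
    have hv' : g v = c • v := by simpa [LinearMap.mem_ker, sub_eq_zero] using hv
    have h := hg u v
    simp only [hu', hv', LinearMap.map_smulₛₗ, LinearMap.smul_apply, RingHom.id_apply, smul_eq_mul] at h
    have h3 : (2 : F) * hermSesq σ n u v = 0 := by linear_combination -h + (hermSesq σ n u v) * hc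
    exact (mul_eq_zero.mp h3).resolve_left h2
  set E := LinearMap.ker (g - μ • 1)
  set E' := LinearMap.ker (g - (-μ) • 1)
  have hEm : ∀ x ∈ E, g x = μ • x := fun x hx => by simpa [E, LinearMap.mem_ker, sub_eq_zero] using hx
  have hEm' : ∀ x ∈ E', g x = (-μ) • x := fun x hx => by
    have h := LinearMap.mem_ker.mp hx
    simp only [LinearMap.sub_apply, LinearMap.smul_apply, Module.End.one_apply, sub_eq_zero] at h
    exact h
  have hsplit : ∀ W, InvBy g W → W = (W ⊓ E) ⊔ (W ⊓ E') := fun W hW => by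
    refine le_antisymm (fun w hw => ?_) (sup_le inf_le_left inf_le_left)
    have hgg := sq_apply hgμ w
    refine Submodule.mem_sup.mpr ⟨(2 * μ)⁻¹ • (μ • w + g w), ⟨W.smul_mem _ (W.add_mem (W.smul_mem _ hw) (hW w hw)),
      LinearMap.mem_ker.mpr ?_⟩, (2 * μ)⁻¹ • (μ • w - g w), ⟨W.smul_mem _ (W.sub_mem (W.smul_mem _ hw) (hW w hw)),
      LinearMap.mem_ker.mpr ?_⟩, ?_⟩
    · simp only [LinearMap.sub_apply, LinearMap.smul_apply, Module.End.one_apply, map_smul, map_add, hgg]
      module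
    · simp only [LinearMap.sub_apply, LinearMap.smul_apply, Module.End.one_apply, map_smul, map_sub, hgg]
      module
    · rw [← smul_add, show μ • w + g w + (μ • w - g w) = (2 * μ) • w by module, smul_smul,
        inv_mul_cancel₀ (mul_ne_zero h2 hμ0), one_smul]
  have hdisj : E ⊓ E' = ⊥ := by
    rw [Submodule.eq_bot_iff]
    rintro x ⟨hx, hx'⟩
    have h := (hEm x hx).symm.trans (hEm' x hx')
    have h4 : (2 * μ) • x = 0 := by rw [mul_smul, two_smul]; nth_rewrite 2 [h]; rw [neg_smul, add_neg_cancel]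
    exact (smul_eq_zero.mp h4).resolve_left (mul_ne_zero h2 hμ0)
  have hdim : ∀ W, InvBy g W → finrank F W = finrank F ↥(W ⊓ E) + finrank F ↥(W ⊓ E') := fun W hW => by
    conv_lhs => rw [hsplit W hW]
    rw [finrank_sup_of_disjoint (le_bot_iff.mp ((inf_le_inf inf_le_right inf_le_right).trans hdisj.le))]
  have hsup : E ⊔ E' = ⊤ := by
    have := (hsplit ⊤ invBy_top).symm
    rwa [top_inf_eq, top_inf_eq] at this
  have hn : finrank F E + finrank F E' = n := by
    rw [← finrank_sup_of_disjoint hdisj, hsup, finrank_top, Module.finrank_fin_fun]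
  have hσ2 := conj_conj hF hσ
  have h1 := two_mul_le_of_iso hσ2 (sepH_top (σ := σ) (n := n)) le_top (hiso μ hμ)
  have h1' := two_mul_le_of_iso hσ2 (sepH_top (σ := σ) (n := n)) le_top (hiso (-μ) (by rw [map_neg, neg_mul_neg, hμ]))
  rw [finrank_top, Module.finrank_fin_fun] at h1 h1'
  refine ⟨E, E', IsCompl.of_eq hdisj hsup, hiso μ hμ, hiso (-μ) (by rw [map_neg, neg_mul_neg, hμ]), hEm, hEm', hn, ?_, hdim⟩
  change 2 * finrank F E ≤ n at h1
  change 2 * finrank F E' ≤ n at h1'
  omega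

omit [Fintype F] in
theorem exists_sub_finrank {V : Type*} [AddCommGroup V] [Module F V] [FiniteDimensional F V] (E : Submodule F V) {m : ℕ}
    (hm : m ≤ finrank F E) : ∃ U ≤ E, finrank F U = m := by
  let b := Module.finBasis F E
  have hli : LinearIndependent F fun l : Fin m => b (Fin.castLE hm l) :=
    b.linearIndependent.comp _ (Fin.castLE_injective hm)
  exact ⟨(span F (Set.range fun l : Fin m => b (Fin.castLE hm l))).map E.subtype, Submodule.map_subtype_le _ _,
    by rw [Submodule.finrank_map_subtype_eq, finrank_span_eq_card hli, Fintype.card_fin]⟩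

include hF hσ hodd hg hgμ hμ in
theorem minus_iso {m : ℕ} (hm : 2 * m ≤ n) :
    ∃ W : Submodule F (Fin n → F), InvBy g W ∧ IsoH (hermSesq σ n) W ∧ finrank F W = m := by
  obtain ⟨E, E', -, hE, -, hEm, -, -, hd, -⟩ := minus_split hF hσ hodd hg hgμ hμ
  obtain ⟨U, hU, hUd⟩ := exists_sub_finrank E (m := m) (by omega)
  exact ⟨U, fun x hx => by rw [hEm x (hU hx)]; exact U.smul_mem _ hx, isoH_mono hE hU, hUd⟩

include hF hσ hodd hg hgμ hμ in
theorem minus_even {W : Submodule F (Fin n → F)} (hW : InvBy g W) (hWs : SepH (hermSesq σ n) W) :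
    Even (finrank F W) := by
  obtain ⟨E, E', -, hE, hE', -, -, -, -, hdim⟩ := minus_split hF hσ hodd hg hgμ hμ
  have h1 := two_mul_le_of_iso (conj_conj hF hσ) hWs inf_le_left (isoH_mono hE (inf_le_right : W ⊓ E ≤ E))
  have h2 := two_mul_le_of_iso (conj_conj hF hσ) hWs inf_le_left (isoH_mono hE' (inf_le_right : W ⊓ E' ≤ E'))
  have h3 := hdim W hW
  exact ⟨finrank F ↥(W ⊓ E), by omega⟩

include hF hσ hodd hg hgμ hμ in
theorem minus_sep {m : ℕ} (hm : Even m) (hmn : m ≤ n) :
    ∃ W : Submodule F (Fin n → F), InvBy g W ∧ SepH (hermSesq σ n) W ∧ finrank F W = m := by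
  obtain ⟨k, rfl⟩ := hm
  obtain ⟨E, E', hc, hE, hE', hEm, hEm', hn, hd, -⟩ := minus_split hF hσ hodd hg hgμ hμ
  have hS := hermSesq_isSymm (conj_conj hF hσ) n
  obtain ⟨U, hU, hUd⟩ := exists_sub_finrank E (m := k) (by omega)
  obtain ⟨Y, -, hY, hYd⟩ := exists_orth (conj_conj hF hσ) (sepH_top (σ := σ) (n := n)) (le_top : U ≤ ⊤)
  rw [finrank_top, Module.finrank_fin_fun, hUd] at hYd
  obtain ⟨K, hK⟩ := Submodule.exists_isCompl (E' ⊓ Y)
  set U' := K ⊓ E'
  have hU'd : finrank F U' ≤ k := by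
    have h1 := Submodule.finrank_sup_add_finrank_inf_eq E' Y
    have h2 : finrank F ↥(E' ⊔ Y) ≤ n := (Submodule.finrank_le _).trans (Module.finrank_fin_fun F).le
    have h3 : finrank F ↥(E' ⊓ Y) + finrank F U' ≤ finrank F E' := by
      rw [← finrank_sup_of_disjoint (A := E' ⊓ Y) (B := U')
        (le_bot_iff.mp ((inf_le_inf le_rfl inf_le_left).trans hK.inf_eq_bot.le))]
      exact Submodule.finrank_mono (sup_le inf_le_left inf_le_right)
    omega
  have hEY : E' ≤ (E' ⊓ Y) ⊔ U' := by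
    intro x hx
    obtain ⟨a, ha, b, hb, rfl⟩ := Submodule.mem_sup.mp (hK.sup_eq_top.ge (Submodule.mem_top : x ∈ ⊤))
    exact Submodule.add_mem_sup ha ⟨hb, by have := E'.sub_mem hx ha.1; rwa [add_sub_cancel_left] at this⟩
  have hsep : SepH (hermSesq σ n) (U ⊔ U') := by
    intro w hw hw0
    obtain ⟨u, hu, u', hu', rfl⟩ := Submodule.mem_sup.mp hw
    by_contra hall
    push Not at hall
    have h1 : u' ∈ Y := (hY u').mpr ⟨trivial, fun x hx => swap_zero hS (by
      have := hall x (Submodule.mem_sup_left hx)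
      rwa [map_add, LinearMap.add_apply, hE u (hU hu) x (hU hx), zero_add] at this)⟩
    have h1' : u' = 0 := by
      have := hK.inf_eq_bot.le (⟨⟨hu'.2, h1⟩, hu'.1⟩ : u' ∈ (E' ⊓ Y) ⊓ K)
      simpa using this
    subst h1'
    rw [add_zero] at hw0 hall
    obtain ⟨v, -, huv⟩ := sepH_top u trivial hw0
    obtain ⟨x, hx, y, hy, rfl⟩ := Submodule.mem_sup.mp (hc.sup_eq_top.ge (Submodule.mem_top : v ∈ ⊤))
    obtain ⟨o, ho, y', hy', rfl⟩ := Submodule.mem_sup.mp (hEY hy)
    exact huv (by rw [map_add, map_add, hE u (hU hu) x hx, ((hY o).mp ho.2).2 u hu,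
      hall y' (Submodule.mem_sup_right hy'), add_zero, add_zero])
  have hdisj : U ⊓ U' = ⊥ := le_bot_iff.mp ((inf_le_inf hU inf_le_right).trans hc.inf_eq_bot.le)
  have hUU := two_mul_le_of_iso (conj_conj hF hσ) hsep le_sup_left (isoH_mono hE hU)
  rw [finrank_sup_of_disjoint hdisj, hUd] at hUU
  refine ⟨U ⊔ U', InvBy.sup (fun x hx => by rw [hEm x (hU hx)]; exact U.smul_mem _ hx)
    (fun x hx => by rw [hEm' x hx.2]; exact U'.smul_mem _ hx), hsep, ?_⟩
  rw [finrank_sup_of_disjoint hdisj, hUd]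
  omega

end Minus

include hF hσ hodd in
/-- An involution fixes a half-dimensional totally isotropic space if both eigenspaces have even dimension. -/
theorem plus_parity {y : Module.End F (Fin n → F)} (hy : y ^ 2 = 1)
    (hyi : ∀ u v, hermSesq σ n (y u) (y v) = hermSesq σ n u v) :
    ∃ J, LinearMap.det y = (-1) ^ J ∧ J ≤ n ∧ (Even J → ∀ m, Even n → 2 * m ≤ n →
      ∃ W : Submodule F (Fin n → F), InvBy y W ∧ IsoH (hermSesq σ n) W ∧ finrank F W = m) := by
  have hS := hermSesq_isSymm (conj_conj hF hσ) n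
  have hq2 : (q : ZMod 2) ≠ 0 := by
    rw [Ne, ZMod.natCast_eq_zero_iff]
    exact fun h => Nat.not_even_iff_odd.mpr hodd (even_iff_two_dvd.mpr h)
  have : Fact (Nat.Prime 2) := ⟨Nat.prime_two⟩
  obtain ⟨M, hM, hMs, hM0, hC, ho, hd, hCi⟩ := exists_split hS sepH_top hF hσ hyi hy hq2
  rw [Module.finrank_fin_fun] at hd
  have hneg : ∀ x ∈ M, y x = (-1 : F) • x := fun x hx => by
    have h : y x + x ∈ fixedIn y M := mem_fixedIn.mpr ⟨M.add_mem (hM x hx) hx, by
      have := congrArg (fun f : Module.End F (Fin n → F) => f x) hy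
      simp only [pow_two, Module.End.mul_apply, Module.End.one_apply] at this
      rw [map_add, this, add_comm]⟩
    rw [hM0, Submodule.mem_bot] at h
    rw [neg_one_smul, eq_neg_iff_add_eq_zero, h]
  have hc : IsCompl (fixedIn y ⊤) M := IsCompl.of_eq (orth_disjoint hS hC ho)
    (Submodule.eq_top_of_finrank_eq (by
      rw [finrank_sup_of_disjoint (orth_disjoint hS hC ho), hd, Module.finrank_fin_fun]))
  refine ⟨finrank F M, ?_, by omega, fun hJ m hn hm => ?_⟩
  · rw [det_two_scalars hc (a := 1) (d := -1) (fun x hx => by rw [one_smul, (mem_fixedIn.mp hx).2]) hneg, one_pow, one_mul]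
  obtain ⟨j, hj⟩ := hJ
  obtain ⟨d, hdn⟩ := hn
  obtain ⟨X, hXM, hXi, hXd⟩ := exists_iso_sub hS hF hσ hMs (a := min j m) (by omega)
  exact combine_iso hS hF hσ hC ho hCi hXM (fun x hx => by rw [hneg x (hXM hx)]; exact X.smul_mem _ hx) hXi
    (w := m - min j m) (by omega) (by omega)

include hF in
omit hodd in
/-- Elements of two-power order in the multiplicative group. -/
theorem exists_two_root {e : ℕ} (he : 2 ^ (e + 1) ∣ q + 1) : ∃ x : F, x ^ (2 ^ e) = -1 ∧ x ^ (q + 1) = 1 := by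
  obtain ⟨u, hu⟩ := IsCyclic.exists_ofOrder_eq_natCard (α := Fˣ)
  rw [Nat.card_units, Nat.card_eq_fintype_card, hF, show q ^ 2 - 1 = (q - 1) * (q + 1) by
    rw [mul_comm, ← Nat.sq_sub_sq, one_pow]] at hu
  obtain ⟨c, hc⟩ := he
  have hq := Forms.two_le_q hF
  have hord : orderOf (u ^ ((q - 1) * c)) = 2 ^ (e + 1) := by
    have hc0 : c ≠ 0 := fun h => by rw [h, mul_zero] at hc; omega
    have hne : (q - 1) * c ≠ 0 := mul_ne_zero (by omega) hc0
    rw [orderOf_pow' u hne, hu, hc, show (q - 1) * (2 ^ (e + 1) * c) = 2 ^ (e + 1) * ((q - 1) * c) by ring,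
      Nat.gcd_eq_right (dvd_mul_left _ _), Nat.mul_div_cancel _ (Nat.pos_of_ne_zero hne)]
  refine ⟨((u ^ ((q - 1) * c) : Fˣ) : F), ?_, ?_⟩
  · have h1 : (((u ^ ((q - 1) * c) : Fˣ) : F) ^ (2 ^ e)) ^ 2 = 1 := by
      rw [← pow_mul, ← pow_succ, ← Units.val_pow_eq_pow_val, orderOf_dvd_iff_pow_eq_one.mp hord.dvd, Units.val_one]
    refine (sq_eq_one_iff.mp h1).resolve_left fun h => ?_
    have h3 : (u ^ ((q - 1) * c)) ^ (2 ^ e) = 1 := Units.ext (by simpa using h)
    have h2 := orderOf_dvd_of_pow_eq_one h3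
    rw [hord] at h2
    have := (Nat.pow_dvd_pow_iff_le_right (by norm_num)).mp h2
    omega
  · rw [hc, pow_mul, ← Units.val_pow_eq_pow_val, orderOf_dvd_iff_pow_eq_one.mp hord.dvd, Units.val_one, one_pow]

include hF hσ hodd in
/-- A counterexample for maximal totally isotropic subspaces. -/
theorem exists_counter_iso {m : ℕ} (hn : 3 ≤ n) (hm : 2 * m = n) (hv : padicValNat 2 n < padicValNat 2 (q + 1)) :
    ∃ g, ProjU σ n 2 g ∧ ∀ W : Submodule F (Fin n → F), InvBy g W → IsoH (hermSesq σ n) W → finrank F W ≠ m := by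
  classical
  have hne := neg_one_ne hF hodd
  obtain ⟨μ, hμe, hμq⟩ := exists_two_root (F := F) hF (e := padicValNat 2 n)
    ((pow_dvd_pow 2 hv).trans pow_padicValNat_dvd)
  obtain ⟨n', hn'⟩ : 2 ^ padicValNat 2 n ∣ n := pow_padicValNat_dvd
  have hn'odd : Odd n' := by
    rcases Nat.even_or_odd n' with ⟨k, hk⟩ | h
    · exfalso
      exact pow_succ_padicValNat_not_dvd (p := 2) (show n ≠ 0 by omega) ⟨k, by
        calc n = 2 ^ padicValNat 2 n * n' := hn'
          _ = _ := by rw [hk, pow_succ]; ring⟩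
    · exact h
  have hμn : μ ^ n = -1 := by
    calc μ ^ n = μ ^ (2 ^ padicValNat 2 n * n') := by rw [← hn']
      _ = -1 := by rw [pow_mul, hμe, hn'odd.neg_one_pow]
  have hμ0 : μ ≠ 0 := fun h => by rw [h, zero_pow (by omega)] at hμq; exact zero_ne_one hμq
  let d : Fin n → F := fun i => if (i : ℕ) = 0 then -μ else μ
  refine ⟨diagEnd d, ⟨⟨?_, ⟨μ ^ 2, LinearMap.ext fun v => funext fun i => ?_⟩, fun c hc => ?_⟩,
    diagEnd_isometry d fun i => ?_⟩, fun W hW hWi hWd => ?_⟩
  · rw [det_diagEnd]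
    obtain ⟨k, hk⟩ : ∃ k, n = k + 1 := ⟨n - 1, by omega⟩
    subst hk
    rw [Fin.prod_univ_succ]
    simp only [d, Fin.val_zero, Fin.val_succ, if_true, Nat.succ_ne_zero, if_false, Finset.prod_const, Finset.card_univ,
      Fintype.card_fin]
    linear_combination -hμn
  · rw [diagEnd_pow]
    simp only [d]
    split <;> simp [neg_sq]
  · have h : ∀ i : Fin n, d i = c := fun i => by
      have h0 := congrArg (fun f : Module.End F (Fin n → F) => f (Pi.single i 1) i) hc
      simpa [diagEnd_apply] using h0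
    have h01 := (h ⟨0, by omega⟩).trans (h ⟨1, by omega⟩).symm
    simp only [d, if_true, Nat.one_ne_zero, if_false] at h01
    have h2 : (2 : F) * μ = 0 := by linear_combination -h01
    exact hμ0 ((mul_eq_zero.mp h2).resolve_left (two_ne_zero' hF hodd))
  · rw [norm_iff hσ]
    simp only [d]
    split
    · obtain ⟨k, hk⟩ := hodd
      rw [Even.neg_pow ⟨k + 1, by omega⟩, hμq]
    · exact hμq
  · have hb := diag_iso_bound (conj_conj hF hσ) d (Finset.univ.filter fun i : Fin n => (i : ℕ) ≠ 0) (fun i hi j hji => by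
      have hi0 : (i : ℕ) = 0 := by simpa using hi
      have hj0 : (j : ℕ) = 0 := by
        by_contra hj0
        simp only [d, hi0, hj0, if_true, if_false] at hji
        have h2 : (2 : F) * μ = 0 := by linear_combination hji
        exact hμ0 ((mul_eq_zero.mp h2).resolve_left (two_ne_zero' hF hodd))
      exact Fin.ext (hj0.trans hi0.symm)) hW hWi
    have hc : (Finset.univ.filter fun i : Fin n => (i : ℕ) ≠ 0).card < n := by
      calc _ < (Finset.univ : Finset (Fin n)).card :=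
            Finset.card_lt_card (Finset.filter_ssubset.mpr ⟨⟨0, by omega⟩, by simp, by simp⟩)
        _ = n := by simp
    omega

include hF hσ hodd in
/-- A counterexample for nondegenerate subspaces of odd dimension. -/
theorem exists_counter_sep {h : ℕ} (hn : n = h * 2) (hn0 : 0 < n)
    (hcase : ¬ (padicValNat 2 n ≤ padicValNat 2 (q + 1) ∧ q % 4 = 3)) :
    ∃ g, ProjU σ n 2 g ∧ ∀ W : Submodule F (Fin n → F), InvBy g W → SepH (hermSesq σ n) W → Even (finrank F W) := by
  have hne := neg_one_ne hF hodd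
  obtain ⟨k, hk⟩ := hodd
  have hodd : Odd q := ⟨k, hk⟩
  -- a scalar `z` of norm one, no square of one, with `(-z) ^ h = 1`
  obtain ⟨z, hz1, hz2, hz3⟩ : ∃ z : F, z ^ (q + 1) = 1 ∧ z ^ (k + 1) = -1 ∧ (-z) ^ h = 1 := by
    rcases Nat.even_or_odd k with he | ho
    · refine ⟨-1, ?_, Odd.neg_one_pow (Even.add_one he), by rw [neg_neg, one_pow]⟩
      exact Even.neg_one_pow ⟨k + 1, by omega⟩
    · have hv : padicValNat 2 (q + 1) < padicValNat 2 n := by
        by_contra hle
        obtain ⟨j, hj⟩ := ho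
        exact hcase ⟨by omega, by omega⟩
      obtain ⟨a, ha⟩ : ∃ a, padicValNat 2 (q + 1) = a + 1 :=
        ⟨padicValNat 2 (q + 1) - 1, by
          have := one_le_padicValNat_of_dvd (p := 2) (n := q + 1) (by omega) ⟨k + 1, by omega⟩
          omega⟩
      have hdq : 2 ^ (a + 1) ∣ q + 1 := ha ▸ pow_padicValNat_dvd
      obtain ⟨w, hwa, hwq⟩ := exists_two_root (F := F) hF hdq
      obtain ⟨b, hb⟩ := hdq
      have hbodd : Odd b := by
        rcases Nat.even_or_odd b with ⟨j, hj⟩ | h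
        · exfalso
          exact pow_succ_padicValNat_not_dvd (p := 2) (show q + 1 ≠ 0 by omega) ⟨j, by
            rw [ha, hb, hj, pow_succ _ (a + 1)]; ring⟩
        · exact h
      have hk1 : k + 1 = 2 ^ a * b := by
        have : 2 * (k + 1) = 2 * (2 ^ a * b) := by rw [show 2 * (k + 1) = q + 1 by omega, hb, pow_succ]; ring
        omega
      refine ⟨-w, by rw [Even.neg_pow ⟨k + 1, by omega⟩, hwq], ?_, ?_⟩
      · obtain ⟨j, hj⟩ := ho
        rw [Even.neg_pow ⟨j + 1, by omega⟩, hk1, pow_mul, hwa, hbodd.neg_one_pow]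
      · rw [neg_neg]
        have hh0 : h ≠ 0 := fun e => by rw [e, zero_mul] at hn; omega
        rw [hn, padicValNat.mul hh0 two_ne_zero, padicValNat.self one_lt_two] at hv
        obtain ⟨c, hc⟩ : 2 ^ (a + 1) ∣ h := (pow_dvd_pow 2 (by omega)).trans pow_padicValNat_dvd
        rw [hc, pow_mul, pow_succ, pow_mul, hwa, neg_one_sq, one_pow]
  obtain ⟨g, hgr, hdet, hgi⟩ := exists_monomial_model (σ := σ) (n := n) (t := h) two_pos hn ((norm_iff hσ).mpr hz1)
  obtain ⟨μ, hμ⟩ : ∃ μ : F, μ ^ 2 = z := (sq_root hF hσ hodd ((norm_iff hσ).mpr hz1)).imp fun _ h => h.1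
  have hnorm : σ μ * μ = -1 := by
    rw [hσ, ← pow_succ, show q + 1 = 2 * (k + 1) by omega, pow_mul, hμ, hz2]
  refine ⟨g, ⟨⟨by rw [hdet, show (2 : ℕ) - 1 = 1 from rfl, pow_one, neg_one_mul, hz3], ⟨z, hgr⟩, fun c hc => ?_⟩, hgi⟩,
    fun W hW hWs => minus_even hF hσ hodd hgi (by rw [hgr, hμ]) hnorm hW hWs⟩
  have hcn : σ c * c = 1 := scalar_norm hn0 hgi (k := 1) (by rw [pow_one, hc])
  have hcz : c ^ 2 = z := by
    have h2 := congrArg (fun f : Module.End F (Fin n → F) => f (Pi.single ⟨0, hn0⟩ 1) ⟨0, hn0⟩) hgr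
    simpa [hc, _root_.smul_pow] using h2
  have h3 : c ^ (q + 1) = -1 := by rw [show q + 1 = 2 * (k + 1) by omega, pow_mul, hcz, hz2]
  rw [norm_iff hσ, h3] at hcn
  exact hne hcn

end CfsgLib.UnitaryInv
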